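import Cfsg.Agent.MinSimple.Choice97
import Cfsg.Agent.ZN.ChoiceBase
import Cfsg.Agent.PLocal.ElemAbSup
import Cfsg.Agent.Lib.ProductSet
import Cfsg.Agent.ZN.ChoiceSit
import Cfsg.Agent.Omega.NatPair.Semi
import Mathlib

section


/-!
# The unique maximal 2-local case (SQ1.1): choice of `T`, `Y`, `s`, without solvability

`G` of characteristic 2 type, `M` a proper subgroup containing every 2-local subgroup over the Sylow
2-subgroup `S`, not strongly embedded.  We choose a 2-subgroup `T` of `M` of maximal order lying in a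
subgroup of 2-local type not contained in `M`, and `Y` minimal with these properties over `T`.  This is
`MinSimple.Choice97` without the hypothesis that the 2-local subgroups are solvable.

* `Config M T Y s`: the chosen configuration.
* `exists_config`: its existence.
-/

set_option autoImplicit false

namespace Cfsg.Agent.Omega.SQ1.Choice

open Subgroup Cfsg Cfsg.Agent.ZN Cfsg.Agent.ZN.ChoiceBase Cfsg.Agent.ZN.ChoiceSit
open Cfsg.Agent.MinSimple.Choice97 (Loc2 Loc2.mono Loc2.of_isTwoLocal loc2_normalizer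
  Loc2.exists_isTwoLocal exists_normalizing isPGroup_sup_zpowers lt_sup_zpowers card_lt_of_lt syl_of_max)

universe u

variable {G : Type u} [Group G]

/-- The configuration of the unique maximal 2-local case. -/
structure Config (M T Y : Subgroup G) (s : G) : Prop where
  two : IsPGroup 2 T
  ne : T ≠ ⊥
  TM : T ≤ M
  syl : Syl T Y
  loc : Loc2 Y
  self_cent : Y ⊓ centralizer ((o2 Y : Subgroup G) : Set G) ≤ o2 Y
  notM : ¬ Y ≤ M
  min : ∀ X, T ≤ X → X < Y → X ≤ M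
  sM : s ∈ M
  sN : s ∈ normalizer (T : Set G)
  sT : s ∉ T
  sq : s * s ∈ T
  core : ∀ K : Subgroup G, IsPGroup 2 K → K ≠ ⊥ → T ≤ normalizer (K : Set G) →
    s ∈ normalizer (K : Set G) → normalizer (K : Set G) ≤ M
  max : ∀ X : Subgroup G, Loc2 X → ¬ X ≤ M → ∀ P : Subgroup G, IsPGroup 2 P → P ≤ X → P ≤ M →
    Nat.card P ≤ Nat.card T
  exists_sylow : ∃ S₁ : Sylow 2 G, (S₁ : Subgroup G) ≤ M ∧ T ≤ S₁ ∧ s ∈ S₁

theorem exists_config [Finite G] (hc : IsCharacteristicTwoType G) (S : Sylow 2 G) (M : Subgroup G)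
    (hM : M ≠ ⊤) (hSM : ∀ N : Subgroup G, IsTwoLocal N → (S : Subgroup G) ≤ N → N ≤ M)
    (hse : ¬ IsStronglyEmbedded M) : ∃ (T Y : Subgroup G) (s : G), Config M T Y s := by
  classical
  have hp : Fact (Nat.Prime 2) := ⟨Nat.prime_two⟩
  -- the Sylow subgroup is nontrivial and lies in `M`
  have hS0 : (S : Subgroup G) ≠ ⊥ := by
    intro h
    have h1 : 2 ∣ Nat.card G := hc.1.two_dvd
    have h2 := S.not_dvd_index
    rw [h, index_bot] at h2
    exact h2 h1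
  have hSM' : (S : Subgroup G) ≤ M :=
    le_normalizer.trans (hSM _ ⟨S, S.isPGroup', hS0, rfl⟩ le_normalizer)
  -- a 2-subgroup whose normalizer is not in `M`
  obtain ⟨X₀, hX₀2, hX₀0, hX₀S, hX₀N⟩ : ∃ X : Subgroup G, IsPGroup 2 X ∧ X ≠ ⊥ ∧ X ≤ S ∧
      ¬ normalizer (X : Set G) ≤ M := by
    by_contra hcon
    push Not at hcon
    apply hse
    have hP0 : ((S.subtype hSM' : Sylow 2 M) : Subgroup M) ≠ ⊥ := by
      intro h
      rw [Sylow.coe_subtype, Subgroup.subgroupOf_eq_bot, disjoint_iff, inf_eq_left.2 hSM'] at h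
      exact hS0 h
    refine (Cfsg.Agent.S0214.result M hM (S.subtype hSM') hP0).2 ?_
    intro X hXS hX0
    refine hcon _ ?_ ?_ ?_
    · exact ((S.subtype hSM').isPGroup'.to_le hXS).map _
    · intro h
      exact hX0 ((Subgroup.map_eq_bot_iff_of_injective _ M.subtype_injective).1 h)
    · rintro _ ⟨x, hx, rfl⟩
      have := hXS hx
      rw [Sylow.coe_subtype] at this
      exact this
  -- the choice of `T`
  obtain ⟨T, ⟨hT2, hTM, X, hX, hTX, hXM⟩, hTmax⟩ := Set.exists_max_image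
    {T : Subgroup G | IsPGroup 2 T ∧ T ≤ M ∧ ∃ X : Subgroup G, Loc2 X ∧ T ≤ X ∧ ¬ X ≤ M}
    (fun T => Nat.card T) (Set.toFinite _)
    ⟨X₀, hX₀2, hX₀S.trans hSM', _, loc2_normalizer hX₀2 hX₀0, le_normalizer, hX₀N⟩
  have hmax : ∀ X : Subgroup G, Loc2 X → ¬ X ≤ M → ∀ P : Subgroup G, IsPGroup 2 P → P ≤ X → P ≤ M →
      Nat.card P ≤ Nat.card T := fun X hX hXM P hP hPX hPM => hTmax P ⟨hP, hPM, X, hX, hPX, hXM⟩
  have hT0 : T ≠ ⊥ := by
    rintro rfl
    have h1 := hmax _ (loc2_normalizer hX₀2 hX₀0) hX₀N X₀ hX₀2 le_normalizer (hX₀S.trans hSM')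
    rw [Subgroup.card_bot] at h1
    exact hX₀0 (Subgroup.card_eq_one.1 (le_antisymm h1 Nat.card_pos))
  -- a Sylow subgroup over `T` in `M`
  obtain ⟨S₁', hS₁', hTS₁'⟩ := exists_syl hT2 hTM
  obtain ⟨x, hxM, hx⟩ := syl_conj (⟨hSM', S.isPGroup', fun Q _ hQ2 hQ => S.is_maximal' hQ2 hQ⟩ :
    Syl (S : Subgroup G) M) hS₁'
  have hS₁e : ((x • S : Sylow 2 G) : Subgroup G) = S₁' := by
    rw [← hx, Sylow.coe_subgroup_smul]
    rfl
  have hS₁M : ((x • S : Sylow 2 G) : Subgroup G) ≤ M := hS₁e.le.trans hS₁'.1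
  have hTS₁ : T ≤ ((x • S : Sylow 2 G) : Subgroup G) := hTS₁'.trans hS₁e.ge
  have hne : T ≠ ((x • S : Sylow 2 G) : Subgroup G) := by
    intro h
    obtain ⟨R, hR2, hR0, hXR⟩ := hX
    apply hXM
    refine hXR.trans ?_
    have h1 : normalizer ((cj x⁻¹ R : Subgroup G) : Set G) ≤ M := by
      refine hSM _ ⟨cj x⁻¹ R, isPGroup_cj _ hR2, ?_, rfl⟩ ?_
      · intro h2
        apply hR0
        have := congrArg (cj x) h2
        rw [cj_cj_inv] at this
        rw [this]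
        exact Subgroup.map_bot _
      · rw [← cj_normalizer]
        have h3 : cj x⁻¹ T ≤ cj x⁻¹ (normalizer (R : Set G)) := cj_mono _ (hTX.trans hXR)
        rw [h, hS₁e, ← hx, cj_inv_cj] at h3
        exact h3
    rw [← cj_normalizer] at h1
    have h2 := cj_mono x h1
    rw [cj_cj_inv] at h2
    refine h2.trans ?_
    rw [cj_eq_of_mem_normalizer (le_normalizer hxM)]
  obtain ⟨s, hsS, hsN, hsT, hsq⟩ := exists_normalizing (x • S : Sylow 2 G).isPGroup'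
    (lt_of_le_of_ne hTS₁ hne)
  have hcore : ∀ K : Subgroup G, IsPGroup 2 K → K ≠ ⊥ → T ≤ normalizer (K : Set G) →
      s ∈ normalizer (K : Set G) → normalizer (K : Set G) ≤ M := by
    intro K hK2 hK0 hTK hsK
    by_contra hKM
    have h1 : Nat.card ↥(T ⊔ zpowers s) ≤ Nat.card T :=
      hmax _ (loc2_normalizer hK2 hK0) hKM _ (isPGroup_sup_zpowers (x • S : Sylow 2 G).isPGroup' hTS₁ hsS)
        (sup_le hTK ((zpowers_le).2 hsK)) (sup_le hTM ((zpowers_le).2 (hS₁M hsS)))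
    exact absurd (card_lt_of_lt (lt_sup_zpowers hsT)) (not_lt.2 h1)
  have hNT : normalizer (T : Set G) ≤ M := hcore T hT2 hT0 le_normalizer hsN
  -- the choice of `Y`
  obtain ⟨Y, ⟨hY, hTY, hYM⟩, hYmin⟩ := Set.exists_min_image
    {Y : Subgroup G | Loc2 Y ∧ T ≤ Y ∧ ¬ Y ≤ M} (fun Y => Nat.card Y) (Set.toFinite _)
    ⟨X, hX, hTX, hXM⟩
  have hsylY : Syl T Y := syl_of_max hT2 hTY hTM hNT hmax hY hYM
  refine ⟨T, Y, s, hT2, hT0, hTM, hsylY, hY, ?_, hYM, ?_, hS₁M hsS, hsN, hsT, hsq, hcore,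
    hmax, x • S, hS₁M, hTS₁, hsS⟩
  · -- characteristic 2
    obtain ⟨N, hN, hYN⟩ := hY.exists_isTwoLocal
    have hNM : ¬ N ≤ M := fun h => hYM (hYN.trans h)
    have hsylN : Syl T N := syl_of_max hT2 (hTY.trans hYN) hTM hNT hmax (Loc2.of_isTwoLocal hN) hNM
    have h1 : o2 N ≤ o2 Y :=
      le_o2 (isPGroup_o2 N) ((o2_le_syl hsylN).trans hTY) (hYN.trans (le_normalizer_o2 N))
    refine le_trans (le_trans ?_ (self_cent hc hN)) h1
    exact inf_le_inf hYN (centralizer_le h1)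
  · intro Z hTZ hZY
    by_contra hZM
    have h1 := hYmin Z ⟨hY.mono hZY.le, hTZ, hZM⟩
    exact absurd (card_lt_of_lt hZY) (not_lt.2 h1)

/-! ### Consequences -/

namespace Config

variable {M T Y : Subgroup G} {s : G}

theorem TY (h : Config M T Y s) : T ≤ Y := h.syl.1

theorem not_dvd [Finite G] (h : Config M T Y s) : ¬ 2 ∣ T.relIndex Y := syl_not_dvd h.syl

/-- `N_G(C) ≤ M` for a nontrivial subgroup `C` of `T` normalized by `N_G(T)`. -/
theorem normalizer_le (h : Config M T Y s) {C : Subgroup G} (hC : IsPGroup 2 C) (hne : C ≠ ⊥)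
    (hn : normalizer (T : Set G) ≤ normalizer (C : Set G)) : normalizer (C : Set G) ≤ M :=
  h.core C hC hne (le_normalizer.trans hn) (hn h.sN)

theorem normalizer_T_le (h : Config M T Y s) : normalizer (T : Set G) ≤ M :=
  h.normalizer_le h.two h.ne le_rfl

/-- No nontrivial subgroup `C` of `T` normalized by `N_G(T)` is normal in `Y`. -/
theorem not_le_normalizer (h : Config M T Y s) {C : Subgroup G} (hC : IsPGroup 2 C) (hne : C ≠ ⊥)
    (hn : normalizer (T : Set G) ≤ normalizer (C : Set G)) : ¬ Y ≤ normalizer (C : Set G) :=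
  fun hY => h.notM (hY.trans (h.normalizer_le hC hne hn))

/-- No nontrivial 2-subgroup is normalized by `Y` and `s`. -/
theorem eq_bot (h : Config M T Y s) {K : Subgroup G} (hK : IsPGroup 2 K)
    (hY : Y ≤ normalizer (K : Set G)) (hs : s ∈ normalizer (K : Set G)) : K = ⊥ := by
  by_contra hne
  exact h.notM (hY.trans (h.core K hK hne (h.TY.trans hY) hs))

/-- `T` is a Sylow 2-subgroup of every local subgroup over `T` not contained in `M`. -/
theorem syl_of_loc [Finite G] (h : Config M T Y s) {X : Subgroup G} (hTX : T ≤ X) (hX : Loc2 X)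
    (hXM : ¬ X ≤ M) : Syl T X := syl_of_max h.two hTX h.TM h.normalizer_T_le h.max hX hXM

end Config

end Cfsg.Agent.Omega.SQ1.Choice

end

section


/-!
# SQ1.3: Baumann blocks (one block, natural `SL₂(q)`-module)

`T` is a Sylow 2-subgroup of `H`, `Q = C_T(V)` is normal in `H`, `V` is an elementary abelian normal
subgroup of `H` such that `V / V0` is a natural `SL₂(q)`-module for `⟨J(T)^H⟩`; `V1 = C_V(J(T))`.
With `Z = Ω₁(Z(J(T)))`, `B = C_T(Z)`, `Y = V Z`, `B ∩ Q = C_T(Y)` the Baumann argument gives: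
`Y` is normal in `H`, `C_Y(b) = Z` for `b ∈ B - Q`, `|Y : Z| = |B : B ∩ Q| = q`, `B ∩ Q` is normal in
`H`, `Y = V (Z ∩ Z^h)` for every `h ∈ H` which moves `V1`.
-/

set_option autoImplicit false

namespace Cfsg.Agent.Omega.SQ1.Bau

open Subgroup Cfsg Cfsg.Agent.PLocal.ThompsonJ Cfsg.Agent.ZN Cfsg.Agent.ZN.ChoiceBase
open Cfsg.Agent.PLocal.ElemAbSup
open scoped Pointwise

universe u

variable {G : Type u} [Group G]

/-- Input of the Baumann argument. -/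
structure In (H T Q V V1 V0 : Subgroup G) (q : ℕ) : Prop where
  TH : T ≤ H
  QT : Q ≤ T
  VQ : V ≤ Q
  Qn : ∀ h ∈ H, ∀ x ∈ Q, h * x * h⁻¹ ∈ Q
  Vn : ∀ h ∈ H, ∀ x ∈ V, h * x * h⁻¹ ∈ V
  Vsq : ∀ v ∈ V, v ^ 2 = 1
  VcQ : ∀ x ∈ Q, ∀ v ∈ V, x * v = v * x
  cT : ∀ t ∈ T, (∀ v ∈ V, t * v = v * t) → t ∈ Q
  V1V : V1 ≤ V
  V01 : V0 ≤ V1
  V0n : ∀ h ∈ H, ∀ x ∈ V0, h * x * h⁻¹ ∈ V0
  cardV : Nat.card V = Nat.card V1 * q
  cardV1 : Nat.card V1 = Nat.card V0 * q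
  one_lt : 1 < q
  JcV1 : ∀ a ∈ jj T, ∀ v ∈ V1, a * v = v * a
  cb : ∀ b ∈ jj T, b ∉ Q → ∀ v ∈ V, b * v = v * b → v ∈ V1
  quad : ∀ b ∈ jj T, ∀ v ∈ V, b * v * b⁻¹ * v⁻¹ ∈ V1
  faith : ∀ b ∈ jj T, b ∉ Q → ∃ v ∈ V, b * v * b⁻¹ * v⁻¹ ∉ V0
  field : ∀ t ∈ T, (∀ v ∈ V1, t * v = v * t) → t ∈ jj T ⊔ Q
  off : ∀ A ∈ AA T, ¬ A ≤ Q → Nat.card A = Nat.card ↥(A ⊓ Q) * q ∧ jj T ≤ A ⊔ Q
  nle : ¬ jj T ≤ Q
  opp : ∀ h ∈ H, (∃ v ∈ V1, h * v * h⁻¹ ∉ V1) →
    ∀ v ∈ V1, h * v * h⁻¹ ∈ V1 → h * v * h⁻¹ ∈ V0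
  ne : ∃ h ∈ H, ∃ v ∈ V1, h * v * h⁻¹ ∉ V1
  max : ∀ X : Subgroup G, T ≤ X → X ≤ H → (∃ x ∈ X, ∃ v ∈ V1, x * v * x⁻¹ ∉ V1) → H ≤ X

/-! ### General lemmas -/

theorem mem_AA_of_comm [Finite G] {T A : Subgroup G} (hA : A ∈ AA T) {x : G} (hxT : x ∈ T)
    (hx2 : x ^ 2 = 1) (hc : ∀ a ∈ A, a * x = x * a) : x ∈ A := by
  have hle : zpowers x ≤ centralizer (A : Set G) := by
    rw [zpowers_le, mem_centralizer_iff]; exact hc
  have h1 := isElementaryAbelian_sup hA.1 (isElementaryAbelian_zpowers hx2) hle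
  have h2 := hA.2.2 _ h1 (sup_le hA.2.1 (by rwa [zpowers_le]))
  have h3 : A = A ⊔ zpowers x := Subgroup.eq_of_le_of_card_ge le_sup_left h2
  rw [h3]
  exact mem_sup_right (mem_zpowers x)

theorem zj_le_AA [Finite G] {T A : Subgroup G} (hA : A ∈ AA T) : zj T ≤ A := by
  intro z hz
  have hz' := mem_zj.1 hz
  exact mem_AA_of_comm hA (jj_le T hz'.1) hz'.2.1 fun a ha => hz'.2.2 a (le_jj hA ha)

theorem elem_comm {A : Subgroup G} (hA : IsElementaryAbelian 2 A) :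
    ∀ a ∈ A, ∀ b ∈ A, a * b = b * a := (isElementaryAbelian_iff.1 hA).1

theorem elem_sq {A : Subgroup G} (hA : IsElementaryAbelian 2 A) : ∀ a ∈ A, a ^ 2 = 1 :=
  (isElementaryAbelian_iff.1 hA).2

/-- The elements of `A ⊔ B` for commuting `A`, `B`. -/
theorem mem_sup_comm {A B : Subgroup G} (h : ∀ a ∈ A, ∀ b ∈ B, a * b = b * a) {x : G}
    (hx : x ∈ A ⊔ B) : ∃ a ∈ A, ∃ b ∈ B, x = a * b := by
  have hle : B ≤ centralizer (A : Set G) := fun b hb =>
    mem_centralizer_iff.2 fun a ha => h a ha b hb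
  have h1 : x ∈ (A : Set G) * (B : Set G) := by
    rw [← coe_sup_of_le_centralizer hle]; exact hx
  obtain ⟨a, ha, b, hb, rfl⟩ := Set.mem_mul.1 h1
  exact ⟨a, ha, b, hb, rfl⟩

theorem card_sup_comm {A B : Subgroup G} (h : ∀ a ∈ A, ∀ b ∈ B, a * b = b * a) :
    Nat.card ↥(A ⊔ B) * Nat.card ↥(A ⊓ B) = Nat.card A * Nat.card B :=
  card_sup_mul_card_inf fun b hb => mem_centralizer_iff.2 fun a ha => h a ha b hb

theorem mem_sup_norm {A B : Subgroup G} (h : A ≤ normalizer (B : Set G)) {x : G}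
    (hx : x ∈ A ⊔ B) : ∃ a ∈ A, ∃ b ∈ B, x = a * b := by
  have h1 : x ∈ (A : Set G) * (B : Set G) := by
    rw [← Subgroup.coe_mul_of_left_le_normalizer_right A B h]; exact hx
  obtain ⟨a, ha, b, hb, rfl⟩ := Set.mem_mul.1 h1
  exact ⟨a, ha, b, hb, rfl⟩

namespace In

variable {H T Q V V1 V0 : Subgroup G} {q : ℕ}

theorem Vcomm (h : In H T Q V V1 V0 q) : ∀ v ∈ V, ∀ w ∈ V, v * w = w * v :=
  fun v hv w hw => h.VcQ v (h.VQ hv) w hw

theorem Velem (h : In H T Q V V1 V0 q) : IsElementaryAbelian 2 V :=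
  isElementaryAbelian_iff.2 ⟨h.Vcomm, h.Vsq⟩

theorem T_norm (h : In H T Q V V1 V0 q) [Finite G] : H ≤ normalizer (Q : Set G) := fun g hg =>
  mem_normalizer_of_cj_le (by
    intro x hx
    rw [mem_cj] at hx
    have := h.Qn g hg _ hx
    have e : g * (g⁻¹ * x * g) * g⁻¹ = x := by group
    rwa [e] at this)

theorem card_V1_pos (h : In H T Q V V1 V0 q) [Finite G] : 0 < Nat.card V1 := Nat.card_pos

/-- An offender outside `Q`. -/
theorem exists_off (h : In H T Q V V1 V0 q) : ∃ A ∈ AA T, ¬ A ≤ Q := by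
  by_contra hc
  push Not at hc
  apply h.nle
  rw [jj_eq]
  exact sSup_le hc

theorem V1_le (h : In H T Q V V1 V0 q) [Finite G] {A : Subgroup G} (hA : A ∈ AA T) : V1 ≤ A :=
  fun v hv => mem_AA_of_comm hA (h.QT (h.VQ (h.V1V hv))) (h.Vsq v (h.V1V hv))
    fun a ha => h.JcV1 a (le_jj hA ha) v hv

theorem inf_V (h : In H T Q V V1 V0 q) [Finite G] {A : Subgroup G} (hA : A ∈ AA T)
    (hAQ : ¬ A ≤ Q) : (A ⊓ Q) ⊓ V = V1 := by
  apply le_antisymm
  · rintro v ⟨⟨hvA, -⟩, hvV⟩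
    obtain ⟨b, hb, hbQ⟩ := SetLike.not_le_iff_exists.1 hAQ
    exact h.cb b (le_jj hA hb) hbQ v hvV (elem_comm hA.1 b hb v hvA)
  · exact fun v hv => ⟨⟨h.V1_le hA hv, h.VQ (h.V1V hv)⟩, h.V1V hv⟩

/-- `(A ∩ Q) V` is again a member of `A(T)`. -/
theorem replace (h : In H T Q V V1 V0 q) [Finite G] {A : Subgroup G} (hA : A ∈ AA T)
    (hAQ : ¬ A ≤ Q) : (A ⊓ Q) ⊔ V ∈ AA T := by
  have hc : ∀ a ∈ A ⊓ Q, ∀ v ∈ V, a * v = v * a := fun a ha v hv => h.VcQ a ha.2 v hv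
  have h1 : IsElementaryAbelian 2 ((A ⊓ Q) ⊔ V : Subgroup G) :=
    isElementaryAbelian_sup (isElementaryAbelian_mono hA.1 inf_le_left) h.Velem
      fun v hv => mem_centralizer_iff.2 fun a ha => hc a ha v hv
  rw [mem_AA_iff]
  refine ⟨h1, sup_le (inf_le_right.trans h.QT) (h.VQ.trans h.QT), ?_⟩
  have h2 := card_sup_comm hc
  rw [h.inf_V hA hAQ, h.cardV] at h2
  have h3 : Nat.card ↥((A ⊓ Q) ⊔ V : Subgroup G) = Nat.card ↥(A ⊓ Q) * q := by
    have hp := h.card_V1_pos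
    have e : Nat.card ↥((A ⊓ Q) ⊔ V : Subgroup G) * Nat.card V1 =
      Nat.card ↥(A ⊓ Q) * q * Nat.card V1 := by rw [h2]; ring
    exact Nat.eq_of_mul_eq_mul_right hp e
  rw [h3, ← (h.off A hA hAQ).1, mm_eq hA]

theorem exists_AQ (h : In H T Q V V1 V0 q) [Finite G] : ∃ A ∈ AA T, A ≤ Q ∧ V ≤ A := by
  obtain ⟨A, hA, hAQ⟩ := h.exists_off
  exact ⟨_, h.replace hA hAQ, sup_le inf_le_right h.VQ, le_sup_right⟩

theorem Z_le_Q (h : In H T Q V V1 V0 q) [Finite G] : zj T ≤ Q := by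
  obtain ⟨A, hA, hAQ, -⟩ := h.exists_AQ
  exact (zj_le_AA hA).trans hAQ

theorem mm_le (h : In H T Q V V1 V0 q) [Finite G] : mm T ≤ mm Q := by
  obtain ⟨A, hA, hAQ, -⟩ := h.exists_AQ
  rw [mm_eq hA]
  exact card_le_mm hA.1 hAQ

theorem AA_of_le (h : In H T Q V V1 V0 q) [Finite G] {A : Subgroup G} (hA : A ∈ AA T)
    (hAQ : A ≤ Q) : A ∈ AA Q :=
  ⟨hA.1, hAQ, fun B hB hBQ => hA.2.2 B hB (hBQ.trans h.QT)⟩

theorem jjQ_le (h : In H T Q V V1 V0 q) [Finite G] : jj Q ≤ jj T := jj_mono h.QT h.mm_le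

theorem Z_le_zjQ (h : In H T Q V V1 V0 q) [Finite G] : zj T ≤ zj Q := by
  intro z hz
  obtain ⟨A, hA, hAQ, -⟩ := h.exists_AQ
  have hz' := mem_zj.1 hz
  exact mem_zj.2 ⟨le_jj (h.AA_of_le hA hAQ) (zj_le_AA hA hz), hz'.2.1,
    fun y hy => hz'.2.2 y (h.jjQ_le hy)⟩

theorem V_le_zjQ (h : In H T Q V V1 V0 q) [Finite G] : V ≤ zj Q := by
  intro v hv
  obtain ⟨A, hA, hAQ, hVA⟩ := h.exists_AQ
  exact mem_zj.2 ⟨le_jj (h.AA_of_le hA hAQ) (hVA hv), h.Vsq v hv,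
    fun y hy => h.VcQ y (jj_le Q hy) v hv⟩

theorem zj_elem (U : Subgroup G) : IsElementaryAbelian 2 (zj U) :=
  isElementaryAbelian_iff.2 ⟨fun a ha b hb => (mem_zj.1 hb).2.2 a (mem_zj.1 ha).1,
    fun a ha => (mem_zj.1 ha).2.1⟩

theorem zj_le (U : Subgroup G) : zj U ≤ U := fun _ hx => jj_le U (mem_zj.1 hx).1

/-- `zj Q = V C_{zj Q}(A)`. -/
theorem split_A (h : In H T Q V V1 V0 q) [Finite G] {A : Subgroup G} (hA : A ∈ AA T)
    (hAQ : ¬ A ≤ Q) {y : G} (hy : y ∈ zj Q) :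
    ∃ v ∈ V, ∃ c ∈ zj Q, (∀ a ∈ A, a * c = c * a) ∧ y = v * c := by
  have hA' := h.replace hA hAQ
  have hA'Q : (A ⊓ Q) ⊔ V ≤ Q := sup_le inf_le_right h.VQ
  have hAj : A ⊓ Q ≤ jj Q := le_sup_left.trans (le_jj (h.AA_of_le hA' hA'Q))
  have hc : ∀ a ∈ A ⊓ Q, ∀ z ∈ zj Q, a * z = z * a := fun a ha z hz =>
    (mem_zj.1 hz).2.2 a (hAj ha)
  have h1 : IsElementaryAbelian 2 ((A ⊓ Q) ⊔ zj Q : Subgroup G) :=
    isElementaryAbelian_sup (isElementaryAbelian_mono hA.1 inf_le_left) (zj_elem Q)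
      fun v hv => mem_centralizer_iff.2 fun a ha => hc a ha v hv
  have h2 := hA.2.2 _ h1 (sup_le (inf_le_right.trans h.QT) ((zj_le Q).trans h.QT))
  have h3 := card_sup_comm hc
  rw [(h.off A hA hAQ).1] at h2
  set C := (A ⊓ Q) ⊓ zj Q with hC
  have h4 : Nat.card (zj Q) ≤ q * Nat.card C := by
    have hp : 0 < Nat.card ↥(A ⊓ Q) := Nat.card_pos
    have e : Nat.card ↥(A ⊓ Q) * Nat.card (zj Q) ≤ Nat.card ↥(A ⊓ Q) * (q * Nat.card C) := by
      rw [← h3]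
      calc _ ≤ Nat.card ↥(A ⊓ Q) * q * Nat.card C := Nat.mul_le_mul_right _ h2
        _ = _ := by ring
    exact Nat.le_of_mul_le_mul_left e hp
  have hVC : ∀ v ∈ V, ∀ c ∈ C, v * c = c * v := fun v hv c hc' => (h.VcQ c hc'.1.2 v hv).symm
  have h5 := card_sup_comm hVC
  have h6 : V ⊓ C = V1 := by
    rw [hC, inf_comm, inf_right_comm, h.inf_V hA hAQ]
    exact inf_eq_left.2 (h.V1V.trans h.V_le_zjQ)
  rw [h6, h.cardV] at h5
  have h7 : Nat.card ↥(V ⊔ C) = q * Nat.card C := by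
    have hp := h.card_V1_pos
    have e : Nat.card ↥(V ⊔ C) * Nat.card V1 = q * Nat.card C * Nat.card V1 := by rw [h5]; ring
    exact Nat.eq_of_mul_eq_mul_right hp e
  have h8 : V ⊔ C = zj Q :=
    Subgroup.eq_of_le_of_card_ge (sup_le h.V_le_zjQ inf_le_right) (by rw [h7]; exact h4)
  rw [← h8] at hy
  obtain ⟨v, hv, c, hc', rfl⟩ := mem_sup_comm hVC hy
  exact ⟨v, hv, c, hc'.2, fun a ha => elem_comm hA.1 a ha c hc'.1.1, rfl⟩

/-- The elements of `H` which act trivially on `zj Q / V`. -/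
def S (H Q V : Subgroup G) : Set G := {g | g ∈ H ∧ ∀ y ∈ zj Q, g * y * g⁻¹ * y⁻¹ ∈ V}

theorem zjQ_norm (h : In H T Q V V1 V0 q) [Finite G] {g : G} (hg : g ∈ H) {y : G}
    (hy : y ∈ zj Q) : g * y * g⁻¹ ∈ zj Q :=
  (mem_normalizer_iff.1 (normalizer_le_of_cj (F := zj) zj_cj Q (h.T_norm hg)) y).1 hy

theorem jj_act (h : In H T Q V V1 V0 q) [Finite G] : ∀ j ∈ jj T, ∀ y ∈ zj Q,
    j * y * j⁻¹ * y⁻¹ ∈ V := by
  let S : Subgroup G :=
    { carrier := {g | g ∈ H ∧ ∀ y ∈ zj Q, g * y * g⁻¹ * y⁻¹ ∈ V}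
      mul_mem' := by
        rintro a b ⟨ha, ha'⟩ ⟨hb, hb'⟩
        refine ⟨mul_mem ha hb, fun y hy => ?_⟩
        have e : a * b * y * (a * b)⁻¹ * y⁻¹ =
          (a * (b * y * b⁻¹ * y⁻¹) * a⁻¹) * (a * y * a⁻¹ * y⁻¹) := by group
        rw [e]
        exact mul_mem (h.Vn a ha _ (hb' y hy)) (ha' y hy)
      one_mem' := ⟨one_mem _, fun y _ => by simp⟩
      inv_mem' := by
        rintro a ⟨ha, ha'⟩
        refine ⟨inv_mem ha, fun y hy => ?_⟩
        have e : a⁻¹ * y * a⁻¹⁻¹ * y⁻¹ = a⁻¹ * (a * y * a⁻¹ * y⁻¹)⁻¹ * a⁻¹⁻¹ := by group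
        rw [e]
        exact h.Vn _ (inv_mem ha) _ (inv_mem (ha' y hy)) }
  have hS : jj T ≤ S := by
    rw [jj_eq]
    refine sSup_le fun A hA => fun a ha => ⟨h.TH (hA.2.1 ha), fun y hy => ?_⟩
    by_cases hAQ : A ≤ Q
    · have h1 : a * y = y * a := (mem_zj.1 hy).2.2 a (le_jj (h.AA_of_le hA hAQ) ha)
      rw [h1]
      simp
    · obtain ⟨v, hv, c, hc, hac, rfl⟩ := h.split_A hA hAQ hy
      have e : a * (v * c) * a⁻¹ * (v * c)⁻¹ = a * v * a⁻¹ * (a * c * a⁻¹) * c⁻¹ * v⁻¹ := by group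
      have e2 : a * c * a⁻¹ = c := by rw [hac a ha]; group
      rw [e, e2]
      have e3 : a * v * a⁻¹ * c * c⁻¹ * v⁻¹ = (a * v * a⁻¹) * v⁻¹ := by group
      rw [e3]
      exact mul_mem (h.Vn a (h.TH (hA.2.1 ha)) v hv) (inv_mem hv)
  exact fun j hj => (hS hj).2

/-! ### Conjugates of `V1` -/

theorem conj_inter (h : In H T Q V V1 V0 q) {g : G} (hg : g ∈ H)
    (hne : ∃ v ∈ V1, g * v * g⁻¹ ∉ V1) : V1 ⊓ cj g V1 = V0 := by
  apply le_antisymm
  · intro v hv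
    obtain ⟨hv1, hv2⟩ := mem_inf.1 hv
    rw [mem_cj] at hv2
    have := h.opp g hg hne (g⁻¹ * v * g) hv2 (by
      have e : g * (g⁻¹ * v * g) * g⁻¹ = v := by group
      rwa [e])
    have e : g * (g⁻¹ * v * g) * g⁻¹ = v := by group
    rwa [e] at this
  · intro v hv
    refine mem_inf.2 ⟨h.V01 hv, ?_⟩
    rw [mem_cj]
    have := h.V0n g⁻¹ (inv_mem hg) v hv
    rw [inv_inv] at this
    exact h.V01 this

theorem cj_le_V (h : In H T Q V V1 V0 q) {g : G} (hg : g ∈ H) : cj g V1 ≤ V := by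
  intro v hv
  rw [mem_cj] at hv
  have := h.Vn g hg _ (h.V1V hv)
  have e : g * (g⁻¹ * v * g) * g⁻¹ = v := by group
  rwa [e] at this

theorem sup_conj (h : In H T Q V V1 V0 q) [Finite G] {g : G} (hg : g ∈ H)
    (hne : ∃ v ∈ V1, g * v * g⁻¹ ∉ V1) : V1 ⊔ cj g V1 = V := by
  have hc : ∀ a ∈ V1, ∀ b ∈ cj g V1, a * b = b * a := fun a ha b hb =>
    h.Vcomm a (h.V1V ha) b (h.cj_le_V hg hb)
  have h1 := card_sup_comm hc
  rw [h.conj_inter hg hne, card_cj] at h1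
  refine Subgroup.eq_of_le_of_card_ge (sup_le h.V1V (h.cj_le_V hg)) ?_
  have hp : 0 < Nat.card V0 := Nat.card_pos
  have e : Nat.card ↥(V1 ⊔ cj g V1) * Nat.card V0 = Nat.card V * Nat.card V0 := by
    rw [h1, h.cardV]
    nth_rw 2 [h.cardV1]
    ring
  exact (Nat.eq_of_mul_eq_mul_right hp e).ge

theorem split_V (h : In H T Q V V1 V0 q) [Finite G] {g : G} (hg : g ∈ H)
    (hne : ∃ v ∈ V1, g * v * g⁻¹ ∉ V1) {v : G} (hv : v ∈ V) :
    ∃ a ∈ V1, ∃ b ∈ V1, v = a * (g * b * g⁻¹) := by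
  rw [← h.sup_conj hg hne] at hv
  obtain ⟨a, ha, b, hb, rfl⟩ := mem_sup_comm (fun a ha b hb =>
    h.Vcomm a (h.V1V ha) b (h.cj_le_V hg hb)) hv
  rw [mem_cj] at hb
  exact ⟨a, ha, _, hb, by group⟩

/-- An element acting like a member of `J(T) - Q` does not normalise another conjugate of `V1`. -/
theorem moves_gen (h : In H T Q V V1 V0 q) [Finite G] {g b : G} (hg : g ∈ H)
    (hne : ∃ v ∈ V1, g * v * g⁻¹ ∉ V1) (hb1 : ∀ v ∈ V, b * v * b⁻¹ * v⁻¹ ∈ V1)
    (hb2 : ∀ v ∈ V1, b * v = v * b) (hb3 : ∃ v ∈ V, b * v * b⁻¹ * v⁻¹ ∉ V0) :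
    ∃ v ∈ V1, (g * b * g⁻¹) * v * (g * b * g⁻¹)⁻¹ ∉ V1 := by
  by_contra hcon
  push Not at hcon
  set x := g * b * g⁻¹ with hx
  have key : ∀ v ∈ V, x * v * x⁻¹ * v⁻¹ = g * (b * (g⁻¹ * v * g) * b⁻¹ * (g⁻¹ * v * g)⁻¹) * g⁻¹ := by
    intro v _
    rw [hx]; group
  have hgV : ∀ v ∈ V, g⁻¹ * v * g ∈ V := fun v hv => by
    have := h.Vn g⁻¹ (inv_mem hg) v hv
    rwa [inv_inv] at this
  have h1 : ∀ v ∈ V1, x * v * x⁻¹ * v⁻¹ ∈ V0 := by
    intro v hv
    have h2 : x * v * x⁻¹ * v⁻¹ ∈ V1 := mul_mem (hcon v hv) (inv_mem hv)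
    rw [key v (h.V1V hv)] at h2 ⊢
    exact h.opp g hg hne _ (hb1 _ (hgV v (h.V1V hv))) h2
  have h3 : ∀ v ∈ V, x * v * x⁻¹ * v⁻¹ ∈ V0 := by
    intro v hv
    obtain ⟨a, ha, c, hc, rfl⟩ := h.split_V hg hne hv
    have e1 : x * (g * c * g⁻¹) * x⁻¹ = g * c * g⁻¹ := by
      have : x * (g * c * g⁻¹) * x⁻¹ = g * (b * c * b⁻¹) * g⁻¹ := by rw [hx]; group
      rw [this, hb2 c hc]; group
    have e2 : x * (a * (g * c * g⁻¹)) * x⁻¹ * (a * (g * c * g⁻¹))⁻¹ =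
        x * a * x⁻¹ * (x * (g * c * g⁻¹) * x⁻¹) * (g * c * g⁻¹)⁻¹ * a⁻¹ := by group
    rw [e2, e1]
    have e3 : x * a * x⁻¹ * (g * c * g⁻¹) * (g * c * g⁻¹)⁻¹ * a⁻¹ = x * a * x⁻¹ * a⁻¹ := by group
    rw [e3]
    exact h1 a ha
  obtain ⟨v, hv, hv0⟩ := hb3
  apply hv0
  have h4 := h3 (g * v * g⁻¹) (h.Vn g hg v hv)
  rw [key _ (h.Vn g hg v hv)] at h4
  have h5 := h.V0n g⁻¹ (inv_mem hg) _ h4
  have e : g⁻¹ * (g * (b * (g⁻¹ * (g * v * g⁻¹) * g) * b⁻¹ * (g⁻¹ * (g * v * g⁻¹) * g)⁻¹) * g⁻¹) *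
      g⁻¹⁻¹ = b * v * b⁻¹ * v⁻¹ := by group
  rwa [e] at h5

theorem moves_jj (h : In H T Q V V1 V0 q) [Finite G] {g b : G} (hg : g ∈ H)
    (hne : ∃ v ∈ V1, g * v * g⁻¹ ∉ V1) (hb : b ∈ jj T) (hbQ : b ∉ Q) :
    ∃ v ∈ V1, (g * b * g⁻¹) * v * (g * b * g⁻¹)⁻¹ ∉ V1 :=
  h.moves_gen hg hne (h.quad b hb) (h.JcV1 b hb) (h.faith b hb hbQ)

/-! ### The group `Y = V Z` -/

/-- `Y = Z V`. -/
def Y (T V : Subgroup G) : Subgroup G := zj T ⊔ V

theorem Z_le_Y (T V : Subgroup G) : zj T ≤ Y T V := le_sup_left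

theorem V_le_Y (T V : Subgroup G) : V ≤ Y T V := le_sup_right

theorem ZcV (h : In H T Q V V1 V0 q) [Finite G] : ∀ z ∈ zj T, ∀ v ∈ V, z * v = v * z :=
  fun z hz v hv => h.VcQ z (h.Z_le_Q hz) v hv

theorem mem_Y (h : In H T Q V V1 V0 q) [Finite G] {y : G} (hy : y ∈ Y T V) :
    ∃ z ∈ zj T, ∃ v ∈ V, y = z * v := mem_sup_comm h.ZcV hy

theorem Y_le_Q (h : In H T Q V V1 V0 q) [Finite G] : Y T V ≤ Q := sup_le h.Z_le_Q h.VQ

theorem Y_elem (h : In H T Q V V1 V0 q) [Finite G] : IsElementaryAbelian 2 (Y T V) :=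
  isElementaryAbelian_sup (zj_elem T) h.Velem
    fun v hv => mem_centralizer_iff.2 fun z hz => h.ZcV z hz v hv

theorem V1_le_Z (h : In H T Q V V1 V0 q) [Finite G] : V1 ≤ zj T := by
  intro v hv
  have hvT : v ∈ T := h.QT (h.VQ (h.V1V hv))
  have hc : ∀ y ∈ jj T, y * v = v * y := fun y hy => h.JcV1 y hy v hv
  exact mem_zj.2 ⟨mem_jj_of_comm hvT (h.Vsq v (h.V1V hv)) hc, h.Vsq v (h.V1V hv), hc⟩

theorem T_norm_Z (T : Subgroup G) {t : G} (ht : t ∈ T) {z : G} (hz : z ∈ zj T) :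
    t * z * t⁻¹ ∈ zj T :=
  (mem_normalizer_iff.1 (normalizer_le_of_cj (F := zj) zj_cj T (le_normalizer ht)) z).1 hz

/-- `Y` is normal in `H`. -/
theorem Y_norm (h : In H T Q V V1 V0 q) [Finite G] : ∀ g ∈ H, ∀ y ∈ Y T V, g * y * g⁻¹ ∈ Y T V := by
  let N : Subgroup G := H ⊓ normalizer ((Y T V : Subgroup G) : Set G)
  have hTN : T ≤ N := by
    intro t ht
    refine ⟨h.TH ht, mem_normalizer_of_cj_le ?_⟩
    rw [cj, Y, Subgroup.map_sup]
    refine sup_le ?_ ?_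
    · rintro _ ⟨z, hz, rfl⟩
      exact Z_le_Y T V (T_norm_Z T ht hz)
    · rintro _ ⟨v, hv, rfl⟩
      exact V_le_Y T V (h.Vn t (h.TH ht) v hv)
  obtain ⟨g, hg, hne⟩ := h.ne
  obtain ⟨j, hj, hjQ⟩ := SetLike.not_le_iff_exists.1 h.nle
  have hjH : j ∈ H := h.TH (jj_le T hj)
  have hx : g * j * g⁻¹ ∈ N := by
    have hxH : g * j * g⁻¹ ∈ H := mul_mem (mul_mem hg hjH) (inv_mem hg)
    refine ⟨hxH, mem_normalizer_of_cj_le ?_⟩
    rw [cj, Y, Subgroup.map_sup]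
    refine sup_le ?_ ?_
    · rintro _ ⟨z, hz, rfl⟩
      simp only [MulEquiv.toMonoidHom_eq_coe, MonoidHom.coe_coe, MulAut.conj_apply]
      have hz1 : g⁻¹ * z * g ∈ zj Q := by
        have := h.zjQ_norm (inv_mem hg) (h.Z_le_zjQ hz)
        rwa [inv_inv] at this
      have h2 := h.Vn g hg _ (h.jj_act j hj _ hz1)
      have e : g * j * g⁻¹ * z * (g * j * g⁻¹)⁻¹ =
        g * (j * (g⁻¹ * z * g) * j⁻¹ * (g⁻¹ * z * g)⁻¹) * g⁻¹ * z := by group
      rw [e]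
      exact mul_mem (V_le_Y T V h2) (Z_le_Y T V hz)
    · rintro _ ⟨v, hv, rfl⟩
      exact V_le_Y T V (h.Vn _ hxH v hv)
  have hH := h.max N hTN inf_le_left ⟨_, hx, h.moves_jj hg hne hj hjQ⟩
  exact fun g hg y hy => (mem_normalizer_iff.1 (hH hg).2 y).1 hy

theorem bau_le_sup (h : In H T Q V V1 V0 q) [Finite G] {b : G} (hb : b ∈ bau T) :
    ∃ j ∈ jj T, ∃ x ∈ Q, b = j * x := by
  have h1 := h.field b (bau_le T hb) fun v hv => ((mem_bau.1 hb).2 v (h.V1_le_Z hv)).symm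
  exact mem_sup_norm (fun j hj => h.T_norm (h.TH (jj_le T hj))) h1

/-- The action of `b ∈ B` on `V` is the action of an element of `J(T)`. -/
theorem bau_act (h : In H T Q V V1 V0 q) [Finite G] {b : G} (hb : b ∈ bau T) :
    ∃ j ∈ jj T, (b ∉ Q → j ∉ Q) ∧ ∀ v ∈ V, b * v * b⁻¹ = j * v * j⁻¹ := by
  obtain ⟨j, hj, x, hx, rfl⟩ := h.bau_le_sup hb
  refine ⟨j, hj, fun h1 h2 => h1 (mul_mem h2 hx), fun v hv => ?_⟩
  have e : j * x * v * (j * x)⁻¹ = j * (x * v * x⁻¹) * j⁻¹ := by group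
  have e2 : x * v * x⁻¹ = v := by rw [h.VcQ x hx v hv]; group
  rw [e, e2]

theorem bau_moves (h : In H T Q V V1 V0 q) [Finite G] {g b : G} (hg : g ∈ H)
    (hne : ∃ v ∈ V1, g * v * g⁻¹ ∉ V1) (hb : b ∈ bau T) (hbQ : b ∉ Q) :
    ∃ v ∈ V1, (g * b * g⁻¹) * v * (g * b * g⁻¹)⁻¹ ∉ V1 := by
  obtain ⟨j, hj, hjQ, hact⟩ := h.bau_act hb
  refine h.moves_gen hg hne (fun v hv => ?_) (fun v hv => ?_) ?_
  · rw [hact v hv]; exact h.quad j hj v hv
  · exact ((mem_bau.1 hb).2 v (h.V1_le_Z hv)).symm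
  · obtain ⟨v, hv, hv0⟩ := h.faith j hj (hjQ hbQ)
    exact ⟨v, hv, by rwa [hact v hv]⟩

/-- `C_Y(b) = Z` for `b ∈ B - Q`. -/
theorem cent_Y (h : In H T Q V V1 V0 q) [Finite G] {b y : G} (hb : b ∈ bau T) (hbQ : b ∉ Q)
    (hy : y ∈ Y T V) (hby : b * y = y * b) : y ∈ zj T := by
  obtain ⟨z, hz, v, hv, rfl⟩ := h.mem_Y hy
  refine mul_mem hz (h.V1_le_Z ?_)
  obtain ⟨j, hj, hjQ, hact⟩ := h.bau_act hb
  have hbz : z * b = b * z := (mem_bau.1 hb).2 z hz
  have h1 : b * v * b⁻¹ = v := by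
    have e : b * (z * v) * b⁻¹ = z * v := by rw [hby]; group
    have e2 : b * (z * v) * b⁻¹ = z * (b * v * b⁻¹) := by
      calc b * (z * v) * b⁻¹ = (b * z) * v * b⁻¹ := by group
        _ = (z * b) * v * b⁻¹ := by rw [hbz]
        _ = _ := by group
    rw [e2] at e
    exact mul_left_cancel e
  rw [hact v hv] at h1
  refine h.cb j hj (hjQ hbQ) v hv ?_
  calc j * v = (j * v * j⁻¹) * j := by group
    _ = v * j := by rw [h1]

theorem Z_inf_V (h : In H T Q V V1 V0 q) [Finite G] : zj T ⊓ V = V1 := by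
  apply le_antisymm
  · rintro z ⟨hz, hv⟩
    obtain ⟨j, hj, hjQ⟩ := SetLike.not_le_iff_exists.1 h.nle
    exact h.cb j hj hjQ z hv ((mem_zj.1 hz).2.2 j hj)
  · exact fun v hv => ⟨h.V1_le_Z hv, h.V1V hv⟩

theorem card_Y (h : In H T Q V V1 V0 q) [Finite G] :
    Nat.card (Y T V) = Nat.card (zj T) * q := by
  have h1 := card_sup_comm h.ZcV
  rw [h.Z_inf_V, h.cardV] at h1
  have hp := h.card_V1_pos
  have e : Nat.card (Y T V) * Nat.card V1 = Nat.card (zj T) * q * Nat.card V1 := by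
    rw [Y, h1]; ring
  exact Nat.eq_of_mul_eq_mul_right hp e

/-! ### `Q* = B ∩ Q = C_T(Y)` -/

theorem mem_star_iff (h : In H T Q V V1 V0 q) [Finite G] {x : G} :
    x ∈ bau T ⊓ Q ↔ x ∈ T ∧ ∀ y ∈ Y T V, x * y = y * x := by
  constructor
  · rintro ⟨h1, h2⟩
    refine ⟨bau_le T h1, fun y hy => ?_⟩
    obtain ⟨z, hz, v, hv, rfl⟩ := h.mem_Y hy
    have e1 : z * x = x * z := (mem_bau.1 h1).2 z hz
    have e2 : x * v = v * x := h.VcQ x h2 v hv
    calc x * (z * v) = (x * z) * v := by group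
      _ = z * (x * v) := by rw [← e1]; group
      _ = z * v * x := by rw [e2]; group
  · rintro ⟨h1, h2⟩
    exact ⟨mem_bau.2 ⟨h1, fun z hz => (h2 z (Z_le_Y T V hz)).symm⟩,
      h.cT x h1 fun v hv => h2 v (V_le_Y T V hv)⟩

/-- `Q* = B ∩ Q` is normal in `H`. -/
theorem star_norm (h : In H T Q V V1 V0 q) [Finite G] :
    ∀ g ∈ H, ∀ x ∈ bau T ⊓ Q, g * x * g⁻¹ ∈ bau T ⊓ Q := by
  intro g hg x hx
  have h1 := h.mem_star_iff.1 hx
  refine h.mem_star_iff.2 ⟨h.QT (h.Qn g hg x hx.2), fun y hy => ?_⟩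
  have hy' : g⁻¹ * y * g ∈ Y T V := by
    have := h.Y_norm g⁻¹ (inv_mem hg) y hy
    rwa [inv_inv] at this
  have h2 := h1.2 _ hy'
  calc g * x * g⁻¹ * y = g * (x * (g⁻¹ * y * g)) * g⁻¹ := by group
    _ = g * (g⁻¹ * y * g * x) * g⁻¹ := by rw [h2]
    _ = y * (g * x * g⁻¹) := by group

/-- `B = A Q*` for every `A ∈ A(T)` outside `Q`. -/
theorem bau_eq (h : In H T Q V V1 V0 q) [Finite G] {A : Subgroup G} (hA : A ∈ AA T)
    (hAQ : ¬ A ≤ Q) {b : G} (hb : b ∈ bau T) : ∃ a ∈ A, ∃ x ∈ bau T ⊓ Q, b = a * x := by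
  have h1 := h.field b (bau_le T hb) fun v hv => ((mem_bau.1 hb).2 v (h.V1_le_Z hv)).symm
  have h2 : b ∈ A ⊔ Q := (sup_le (h.off A hA hAQ).2 le_sup_right : jj T ⊔ Q ≤ A ⊔ Q) h1
  obtain ⟨a, ha, x, hx, rfl⟩ := mem_sup_norm
    (fun a ha => h.T_norm (h.TH (hA.2.1 ha)) : A ≤ normalizer (Q : Set G)) h2
  have haB : a ∈ bau T := jj_le_bau T (le_jj hA ha)
  refine ⟨a, ha, x, ⟨?_, hx⟩, rfl⟩
  have : a⁻¹ * (a * x) ∈ bau T := mul_mem (inv_mem haB) hb
  rwa [inv_mul_cancel_left] at this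

theorem card_bau (h : In H T Q V V1 V0 q) [Finite G] :
    Nat.card (bau T) = Nat.card ↥(bau T ⊓ Q) * q := by
  obtain ⟨A, hA, hAQ⟩ := h.exists_off
  have hAB : A ≤ bau T := (le_jj hA).trans (jj_le_bau T)
  have h1 := Cfsg.Agent.Lib.ProductSet.card_mul_card_inf A (bau T ⊓ Q)
  have h2 : (A : Set G) * ((bau T ⊓ Q : Subgroup G) : Set G) = ((bau T : Subgroup G) : Set G) := by
    ext b
    constructor
    · rintro ⟨a, ha, x, hx, rfl⟩
      exact mul_mem (hAB ha) hx.1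
    · intro hb
      obtain ⟨a, ha, x, hx, rfl⟩ := h.bau_eq hA hAQ hb
      exact ⟨a, ha, x, hx, rfl⟩
  have h3 : A ⊓ (bau T ⊓ Q) = A ⊓ Q := by
    rw [← inf_assoc, inf_eq_left.2 hAB]
  rw [h3, (h.off A hA hAQ).1] at h1
  have hp : 0 < Nat.card ↥(A ⊓ Q) := Nat.card_pos
  have e : Nat.card ((A : Set G) * ((bau T ⊓ Q : Subgroup G) : Set G) : Set G) =
    Nat.card (bau T) := by
    rw [h2]; rfl
  rw [e] at h1
  have e2 : Nat.card (bau T) * Nat.card ↥(A ⊓ Q) =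
      Nat.card ↥(bau T ⊓ Q) * q * Nat.card ↥(A ⊓ Q) := by
    rw [h1]; ring
  exact Nat.eq_of_mul_eq_mul_right hp e2

end In

end Cfsg.Agent.Omega.SQ1.Bau

end

section


/-!
# SQ1, L1: from the output of the FF-theorem (one block) to the Baumann data `Bau.In`

* `MinH H T`: `T` is a Sylow 2-subgroup of `H`, contained in a unique maximal subgroup of `H`, and
  `C_H(O₂(H)) ≤ O₂(H)`;
* `NatSec F H V V0`: the section `V / V0` of `H` is a natural `SL₂(F)`-module;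
* `FF F H T V V0`: moreover each `A ∈ A(T)` acts on `V / V0` trivially or as the full group of
  upper unitriangular matrices;
* `FF.toIn`: `Bau.In H T (O₂(H)) V V1 V0 |F|`.
-/

set_option autoImplicit false
set_option linter.unusedSectionVars false
set_option linter.unusedVariables false

namespace Cfsg.Agent.Omega.SQ1.FFOne

open Subgroup Cfsg Cfsg.Agent.PLocal.ThompsonJ Cfsg.Agent.ZN Cfsg.Agent.ZN.ChoiceBase
open Cfsg.Agent.ZN.ChoiceSit
open Cfsg.Agent.Omega.NatPair Cfsg.Agent.Lib.SL2Mat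
open Cfsg.Agent.PLocal.ElemAbSup
open scoped Pointwise

universe u

variable {G : Type u} [Group G]

/-! ### Groups with a Sylow 2-subgroup in a unique maximal subgroup -/

/-- `T` lies in a unique maximal subgroup of `H`, and `H` has characteristic 2. -/
structure MinH (H T : Subgroup G) : Prop where
  syl : Syl T H
  uniq : ∃ M₀ : Subgroup G, ¬ H ≤ M₀ ∧ ∀ X, T ≤ X → X ≤ H → X ≠ H → X ≤ M₀
  self_cent : H ⊓ centralizer ((o2 H : Subgroup G) : Set G) ≤ o2 H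

theorem mem_norm_of [Finite G] {K : Subgroup G} {g : G} (h : ∀ k ∈ K, g * k * g⁻¹ ∈ K) :
    g ∈ normalizer (K : Set G) := mem_normalizer_of_cj_le (by
  rintro _ ⟨k, hk, rfl⟩
  exact h k hk)

theorem conj_mem_of_norm {K : Subgroup G} {g k : G} (h : g ∈ normalizer (K : Set G)) (hk : k ∈ K) :
    g * k * g⁻¹ ∈ K := (mem_normalizer_iff.1 h k).1 hk

theorem syl_inf [Finite G] {T H N : Subgroup G} (hT : Syl T H) (hN : N ≤ H)
    (hn : ∀ h ∈ H, ∀ n ∈ N, h * n * h⁻¹ ∈ N) : Syl (T ⊓ N) N := by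
  refine ⟨inf_le_right, hT.2.1.to_le inf_le_left, ?_⟩
  intro R hR h2 hTR
  obtain ⟨S, hS, hRS⟩ := exists_syl h2 (hR.trans hN)
  obtain ⟨x, hx, e⟩ := syl_conj hS hT
  have h1 : cj x R ≤ T ⊓ N := by
    rintro _ ⟨r, hr, rfl⟩
    refine ⟨?_, hn x hx r (hR hr)⟩
    rw [← e]
    exact ⟨r, hRS hr, rfl⟩
  have h3 := Subgroup.card_le_of_le h1
  rw [card_cj] at h3
  exact (Subgroup.eq_of_le_of_card_ge hTR h3).symm

/-- A normal subgroup `N` of `H` with `N T ≠ H` has `T ∩ N ≤ O₂(H)`. -/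
theorem MinH.inf_le {H T : Subgroup G} (h : MinH H T) [Finite G] {N : Subgroup G} (hN : N ≤ H)
    (hn : ∀ h ∈ H, ∀ n ∈ N, h * n * h⁻¹ ∈ N) (hne : N ⊔ T ≠ H) : T ⊓ N ≤ o2 H := by
  have hsy := syl_inf h.syl hN hn
  obtain ⟨M₀, hM, huniq⟩ := h.uniq
  have hHn : H ≤ normalizer ((T ⊓ N : Subgroup G) : Set G) := by
    by_contra hc
    apply hM
    have h1 : N ≤ M₀ := le_sup_left.trans
      (huniq (N ⊔ T) le_sup_right (sup_le hN h.syl.1) hne)
    have h2 : H ⊓ normalizer ((T ⊓ N : Subgroup G) : Set G) ≤ M₀ := by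
      refine huniq _ ?_ inf_le_left ?_
      · intro t ht
        refine ⟨h.syl.1 ht, mem_norm_of ?_⟩
        rintro k ⟨hkT, hkN⟩
        exact ⟨T.mul_mem (T.mul_mem ht hkT) (T.inv_mem ht), hn t (h.syl.1 ht) k hkN⟩
      · intro e
        apply hc
        rw [← e]
        exact inf_le_right
    intro x hx
    have h3 : Syl (cj x (T ⊓ N)) N := by
      refine ⟨?_, isPGroup_cj x hsy.2.1, ?_⟩
      · rintro _ ⟨k, hk, rfl⟩
        exact hn x hx k (mem_inf.1 hk).2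
      · intro R hR h2 hle
        have h4 : T ⊓ N ≤ cj x⁻¹ R := cj_le_iff.1 hle
        have h5 : cj x⁻¹ R ≤ N := by
          rintro _ ⟨k, hk, rfl⟩
          exact hn x⁻¹ (inv_mem hx) k (hR hk)
        have h6 := hsy.2.2 _ h5 (isPGroup_cj _ h2) h4
        rw [← h6, cj_cj_inv]
    obtain ⟨n, hnN, e⟩ := syl_conj h3 hsy
    rw [cj_cj] at e
    have h4 : n * x ∈ H ⊓ normalizer ((T ⊓ N : Subgroup G) : Set G) :=
      ⟨mul_mem (hN hnN) hx, mem_normalizer_iff_cj.2 e⟩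
    have h5 := mul_mem (inv_mem (h1 hnN)) (h2 h4)
    rwa [inv_mul_cancel_left] at h5
  exact le_o2 hsy.2.1 (inf_le_right.trans hN) hHn

/-! ### Natural sections -/

/-- `V / V0` is a natural `SL₂(F)`-module for `H`. -/
structure NatSec (F : Type*) [Field F] (H V V0 : Subgroup G) where
  π : G → Fin 2 → F
  map_mul : ∀ v ∈ V, ∀ w ∈ V, π (v * w) = π v + π w
  V0V : V0 ≤ V
  ker : ∀ v ∈ V, π v = 0 ↔ v ∈ V0
  surj : ∀ x, ∃ v ∈ V, π v = x
  Vn : ∀ h ∈ H, ∀ v ∈ V, h * v * h⁻¹ ∈ V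
  V0n : ∀ h ∈ H, ∀ v ∈ V0, h * v * h⁻¹ ∈ V0
  lift : ∀ A : Matrix.SpecialLinearGroup (Fin 2) F, ∃ h ∈ H, ∀ v ∈ V, π (h * v * h⁻¹) = ap A (π v)
  norm : ∀ g ∈ H, ∀ h ∈ H, ∀ A : Matrix.SpecialLinearGroup (Fin 2) F,
    (∀ v ∈ V, π (h * v * h⁻¹) = ap A (π v)) → ∃ B : Matrix.SpecialLinearGroup (Fin 2) F,
      ∀ v ∈ V, π (g * h * g⁻¹ * v * (g * h * g⁻¹)⁻¹) = ap B (π v)

namespace NatSec

variable {F : Type*} [Field F] {H V V0 : Subgroup G} (M : NatSec F H V V0)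

/-- `h` acts on `V/V0` as `A`. -/
def Ind (h : G) (A : Matrix.SpecialLinearGroup (Fin 2) F) : Prop :=
  ∀ v ∈ V, M.π (h * v * h⁻¹) = ap A (M.π v)

theorem map_one : M.π 1 = 0 := (M.ker 1 (one_mem V)).2 (one_mem V0)

theorem map_inv {v : G} (hv : v ∈ V) : M.π v⁻¹ = - M.π v := by
  have := M.map_mul v hv v⁻¹ (inv_mem hv)
  rw [mul_inv_cancel, M.map_one] at this
  exact (neg_eq_of_add_eq_zero_right this.symm).symm

theorem map_div {v w : G} (hv : v ∈ V) (hw : w ∈ V) : M.π (v * w⁻¹) = M.π v - M.π w := by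
  rw [M.map_mul v hv _ (inv_mem hw), M.map_inv hw, sub_eq_add_neg]

theorem eq_iff {v w : G} (hv : v ∈ V) (hw : w ∈ V) : M.π v = M.π w ↔ v * w⁻¹ ∈ V0 := by
  rw [← M.ker _ (mul_mem hv (inv_mem hw)), M.map_div hv hw, sub_eq_zero]

/-- the action of `h ∈ H` on `F²` -/
noncomputable def act (h : G) (x : Fin 2 → F) : Fin 2 → F :=
  M.π (h * (M.surj x).choose * h⁻¹)

theorem act_π {h v : G} (hh : h ∈ H) (hv : v ∈ V) : M.act h (M.π v) = M.π (h * v * h⁻¹) := by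
  obtain ⟨hw, e⟩ := (M.surj (M.π v)).choose_spec
  rw [act, M.eq_iff (M.Vn h hh _ hw) (M.Vn h hh v hv)]
  have h1 := M.V0n h hh _ ((M.eq_iff hw hv).1 e)
  have e2 : h * ((M.surj (M.π v)).choose * v⁻¹) * h⁻¹ =
    h * (M.surj (M.π v)).choose * h⁻¹ * (h * v * h⁻¹)⁻¹ := by group
  rwa [e2] at h1

theorem act_add {h : G} (hh : h ∈ H) (x y : Fin 2 → F) : M.act h (x + y) = M.act h x + M.act h y := by
  obtain ⟨v, hv, rfl⟩ := M.surj x
  obtain ⟨w, hw, rfl⟩ := M.surj y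
  rw [← M.map_mul v hv w hw, M.act_π hh (mul_mem hv hw), M.act_π hh hv, M.act_π hh hw,
    ← M.map_mul _ (M.Vn h hh v hv) _ (M.Vn h hh w hw)]
  congr 1
  group

theorem act_mul {g h : G} (hg : g ∈ H) (hh : h ∈ H) (x : Fin 2 → F) :
    M.act (g * h) x = M.act g (M.act h x) := by
  obtain ⟨v, hv, rfl⟩ := M.surj x
  rw [M.act_π (mul_mem hg hh) hv, M.act_π hh hv, M.act_π hg (M.Vn h hh v hv)]
  congr 1
  group

theorem act_one (x : Fin 2 → F) : M.act 1 x = x := by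
  obtain ⟨v, hv, rfl⟩ := M.surj x
  rw [M.act_π (one_mem H) hv]
  congr 1
  group

theorem act_inv_act {g : G} (hg : g ∈ H) (x : Fin 2 → F) : M.act g⁻¹ (M.act g x) = x := by
  rw [← M.act_mul (inv_mem hg) hg, inv_mul_cancel, M.act_one]

theorem act_act_inv {g : G} (hg : g ∈ H) (x : Fin 2 → F) : M.act g (M.act g⁻¹ x) = x := by
  rw [← M.act_mul hg (inv_mem hg), mul_inv_cancel, M.act_one]

theorem act_zero {g : G} (hg : g ∈ H) : M.act g 0 = 0 := by
  have := M.act_add hg 0 0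
  rw [add_zero] at this
  exact left_eq_add.1 this

theorem ind_iff {h : G} (hh : h ∈ H) {A : Matrix.SpecialLinearGroup (Fin 2) F} :
    M.Ind h A ↔ ∀ x, M.act h x = ap A x := by
  constructor
  · intro hA x
    obtain ⟨v, hv, rfl⟩ := M.surj x
    rw [M.act_π hh hv, hA v hv]
  · intro hA v hv
    rw [← M.act_π hh hv, hA]

theorem ind_mul {g h : G} (hg : g ∈ H) (hh : h ∈ H) {A B : Matrix.SpecialLinearGroup (Fin 2) F}
    (hA : M.Ind g A) (hB : M.Ind h B) : M.Ind (g * h) (A * B) := by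
  rw [M.ind_iff (mul_mem hg hh)]
  intro x
  rw [M.act_mul hg hh, (M.ind_iff hh).1 hB, (M.ind_iff hg).1 hA, ap_mul]

theorem ind_inv {g : G} (hg : g ∈ H) {A : Matrix.SpecialLinearGroup (Fin 2) F}
    (hA : M.Ind g A) : M.Ind g⁻¹ A⁻¹ := by
  rw [M.ind_iff (inv_mem hg)]
  intro x
  have h1 := M.act_inv_act hg (ap A⁻¹ x)
  rw [(M.ind_iff hg).1 hA, ap_ap_inv] at h1
  exact h1

theorem ind_one : M.Ind 1 1 := by
  rw [M.ind_iff (one_mem H)]
  intro x
  rw [M.act_one, ap_one]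

theorem ind_unique {g : G} (hg : g ∈ H) {A B : Matrix.SpecialLinearGroup (Fin 2) F}
    (hA : M.Ind g A) (hB : M.Ind g B) : A = B := by
  apply ap_inj
  intro x
  rw [← (M.ind_iff hg).1 hA, (M.ind_iff hg).1 hB]

/-- the elements of `H` act semilinearly -/
theorem exists_semi [Finite F] {g : G} (hg : g ∈ H) :
    ∃ s : F ≃+* F, ∀ (c : F) x, M.act g (c • x) = s c • M.act g x := by
  obtain ⟨σ, hσ⟩ := NatPair.exists_semi (M.act g) (M.act g⁻¹) (M.act_add hg) (M.act_inv_act hg)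
    (M.act_act_inv hg)
    (by
      intro A
      obtain ⟨h, hh, hA⟩ := M.lift A
      obtain ⟨B, hB⟩ := M.norm g⁻¹ (inv_mem hg) h hh A hA
      refine ⟨B, fun x => ?_⟩
      have h2 : M.Ind (g⁻¹ * h * g⁻¹⁻¹) B := hB
      have h3 : g⁻¹ * h * g⁻¹⁻¹ ∈ H := mul_mem (mul_mem (inv_mem hg) hh) (inv_mem (inv_mem hg))
      rw [← (M.ind_iff h3).1 h2, inv_inv, M.act_mul (mul_mem (inv_mem hg) hh) hg,
        M.act_mul (inv_mem hg) hh, (M.ind_iff hh).1 hA])
  exact exists_ringEquiv (M.act g) (M.act g⁻¹) (M.act_add hg) (M.act_inv_act hg) σ hσ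

/-- the kernel of the action on `V/V0` -/
def kern (M : NatSec F H V V0) : Subgroup G where
  carrier := {g | g ∈ H ∧ ∀ x, M.act g x = x}
  mul_mem' := by
    rintro a b ⟨ha, ha'⟩ ⟨hb, hb'⟩
    exact ⟨mul_mem ha hb, fun x => by rw [M.act_mul ha hb, hb', ha']⟩
  one_mem' := ⟨one_mem H, M.act_one⟩
  inv_mem' := by
    rintro a ⟨ha, ha'⟩
    refine ⟨inv_mem ha, fun x => ?_⟩
    nth_rewrite 1 [← ha' x]
    exact M.act_inv_act ha x

theorem mem_kern {g : G} : g ∈ M.kern ↔ g ∈ H ∧ ∀ x, M.act g x = x := Iff.rfl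

theorem kern_le : M.kern ≤ H := fun _ h => h.1

theorem kern_norm {g k : G} (hg : g ∈ H) (hk : k ∈ M.kern) : g * k * g⁻¹ ∈ M.kern := by
  refine ⟨mul_mem (mul_mem hg hk.1) (inv_mem hg), fun x => ?_⟩
  rw [M.act_mul (mul_mem hg hk.1) (inv_mem hg), M.act_mul hg hk.1, hk.2, M.act_act_inv hg]

theorem mem_kern_iff {g : G} (hg : g ∈ H) : g ∈ M.kern ↔ ∀ v ∈ V, g * v * g⁻¹ * v⁻¹ ∈ V0 := by
  constructor
  · intro h v hv
    rw [← M.eq_iff (M.Vn g hg v hv) hv, ← M.act_π hg hv, h.2]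
  · intro h
    refine ⟨hg, fun x => ?_⟩
    obtain ⟨v, hv, rfl⟩ := M.surj x
    rw [M.act_π hg hv, M.eq_iff (M.Vn g hg v hv) hv]
    exact h v hv

theorem ind_one_iff {g : G} (hg : g ∈ H) : M.Ind g 1 ↔ g ∈ M.kern := by
  rw [M.ind_iff hg, mem_kern]
  constructor
  · intro h
    exact ⟨hg, fun x => by rw [h, ap_one]⟩
  · rintro ⟨-, h⟩ x
    rw [h, ap_one]

theorem kern_of_ind {g h : G} (hg : g ∈ H) (hh : h ∈ H) {A : Matrix.SpecialLinearGroup (Fin 2) F}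
    (hA : M.Ind g A) (hB : M.Ind h A) : g⁻¹ * h ∈ M.kern := by
  rw [← M.ind_one_iff (mul_mem (inv_mem hg) hh), ← inv_mul_cancel A]
  exact M.ind_mul (inv_mem hg) hh (M.ind_inv hg hA) hB

/-- a 2-subgroup does not cover `SL₂(F)`: `C_H(V/V0) T ≠ H` -/
theorem kern_sup_ne [Finite G] [CharP F 2] {T : Subgroup G} (hT : Syl T H) : M.kern ⊔ T ≠ H := by
  intro e
  -- an element acting as a matrix of order three
  have hneg : (-1 : F) = 1 := CharTwo.neg_eq 1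
  set A : Matrix.SpecialLinearGroup (Fin 2) F :=
    Cfsg.Agent.Lib.SL2Mat.mk 0 1 1 1 (by rw [zero_mul, one_mul, zero_sub]; exact hneg) with hA
  have hA3 : A ^ 3 = 1 := by
    have h1 : (1 : F) + 1 = 0 := CharTwo.add_self_eq_zero 1
    rw [pow_succ, pow_two]
    apply ext_ent
    · rw [ent_mul, ent_mul, ent_mul]; simp [hA, h1]
    · rw [ent_mul, ent_mul, ent_mul]; simp [hA, h1]
    · rw [ent_mul, ent_mul, ent_mul]; simp [hA, h1]
    · rw [ent_mul, ent_mul, ent_mul]; simp [hA, h1]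
  have hA1 : A ≠ 1 := by
    intro h
    have h2 : ent A 0 0 = ent (1 : Matrix.SpecialLinearGroup (Fin 2) F) 0 0 := by rw [h]
    rw [ent_one_00, hA, mk_00] at h2
    exact zero_ne_one h2
  obtain ⟨g, hg, hgA⟩ := M.lift A
  have hg' : g ∈ M.kern ⊔ T := by rw [e]; exact hg
  have hle : T ≤ normalizer (M.kern : Set G) := fun t ht => mem_norm_of fun k hk =>
    M.kern_norm (hT.1 ht) hk
  have h1 : g ∈ (M.kern : Set G) * (T : Set G) := by
    rw [← Subgroup.coe_mul_of_right_le_normalizer_left _ _ hle]; exact hg'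
  obtain ⟨k, hk, t, ht, rfl⟩ := Set.mem_mul.1 h1
  have htH := hT.1 ht
  have htA : M.Ind t A := by
    have h2 : M.Ind (k⁻¹ * (k * t)) (1 * A) :=
      M.ind_mul (inv_mem hk.1) hg ((M.ind_one_iff (inv_mem hk.1)).2 (inv_mem hk)) hgA
    rwa [inv_mul_cancel_left, one_mul] at h2
  obtain ⟨n, hn⟩ := hT.2.1 ⟨t, ht⟩
  have hn' : t ^ 2 ^ n = 1 := by simpa using congrArg Subtype.val hn
  have hpow : ∀ m : ℕ, M.Ind (t ^ m) (A ^ m) := by
    intro m
    induction m with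
    | zero => rw [pow_zero, pow_zero]; exact M.ind_one
    | succ m ih => rw [pow_succ, pow_succ]; exact M.ind_mul (pow_mem htH m) htH ih htA
  have h2 := hpow (2 ^ n)
  rw [hn'] at h2
  have h3 : A ^ 2 ^ n = 1 := M.ind_unique (one_mem H) h2 M.ind_one
  have h4 : orderOf A ∣ 2 ^ n := orderOf_dvd_of_pow_eq_one h3
  have h5 : orderOf A ∣ 3 := orderOf_dvd_of_pow_eq_one hA3
  have h6 : Nat.Coprime (2 ^ n) 3 := Nat.Coprime.pow_left _ (by norm_num)
  have h7 : orderOf A = 1 := Nat.eq_one_of_dvd_coprimes h6 h4 h5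
  exact hA1 (orderOf_eq_one_iff.1 h7)

/-- `C_T(V/V0) ≤ O₂(H)` -/
theorem inf_kern_le [Finite G] [CharP F 2] {T : Subgroup G} (hm : MinH H T) :
    T ⊓ M.kern ≤ o2 H :=
  hm.inf_le M.kern_le (fun h hh n hn => M.kern_norm hh hn) (M.kern_sup_ne hm.syl)

end NatSec

end Cfsg.Agent.Omega.SQ1.FFOne

end

section


/-!
# SQ1, L1: the module `V = ⟨Ω₁(Z(T))^H⟩` of the chosen `H`

For the configuration `Config M₀ T H s` of `Choice.lean` and `V = zl T H`:

* `V ≤ O₂(H)` is elementary abelian, normal in `H`, centralised by `O₂(H)`;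
* `J(T) ≰ O₂(H)` (`nle`), `C_T(V) ≤ O₂(H)` (`cT`), `J(T)` does not centralise `V` (`nJ`);
* `O₂(H / C_H(V)) = 1` (`core_quot`), and `V` has a `T`-fixed vector moved by `H` (`nfix`);
* Thompson's inequality `|V : C_V(A)| ≤ |A : C_A(V)|` for `A ∈ A(T)` (`off`).
-/

set_option autoImplicit false
set_option linter.unusedSectionVars false
set_option linter.unusedVariables false
set_option linter.style.haveILetI false

namespace Cfsg.Agent.Omega.SQ1.VOf

open Subgroup Cfsg Cfsg.Agent.PLocal.ThompsonJ Cfsg.Agent.ZN Cfsg.Agent.ZN.ChoiceBase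
open Cfsg.Agent.ZN.ChoiceSit
open Cfsg.Agent.PLocal.ElemAbSup
open Cfsg.Agent.Omega.SQ1.Bau (mem_AA_of_comm zj_le_AA elem_comm elem_sq mem_sup_comm card_sup_comm)
open Cfsg.Agent.Omega.SQ1.FFOne
open Cfsg.Agent.Omega.SQ1.Choice (Config)
open scoped Pointwise

universe u

variable {G : Type u} [Group G] {H T : Subgroup G}

theorem zl_le {K : Subgroup G} (h : ∀ g ∈ H, ∀ z ∈ zc T, g * z * g⁻¹ ∈ K) : zl T H ≤ K := by
  refine iSup_le fun g => ?_
  rintro _ ⟨z, hz, rfl⟩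
  exact h g g.2 z hz

theorem conj_mem_zl {g z : G} (hg : g ∈ H) (hz : z ∈ zc T) : g * z * g⁻¹ ∈ zl T H :=
  (le_iSup (fun g : H => (zc T).map (MulAut.conj (g : G)).toMonoidHom) ⟨g, hg⟩) ⟨z, hz, rfl⟩

theorem zc_le_zl : zc T ≤ zl T H := by
  intro z hz
  have := conj_mem_zl (H := H) (one_mem H) hz
  simpa using this

theorem zc_norm [Finite G] {x z : G} (hx : x ∈ normalizer (T : Set G)) (hz : z ∈ zc T) :
    x * z * x⁻¹ ∈ zc T := by
  rw [mem_zc] at hz ⊢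
  refine ⟨(mem_normalizer_iff.1 hx z).1 hz.1, ?_, fun y hy => ?_⟩
  · have h1 := hz.2.1
    rw [pow_two] at h1 ⊢
    calc x * z * x⁻¹ * (x * z * x⁻¹) = x * (z * z) * x⁻¹ := by group
      _ = 1 := by rw [h1]; group
  · have hy' : x⁻¹ * y * x ∈ T := by
      have := (mem_normalizer_iff.1 (inv_mem hx) y).1 hy
      rwa [inv_inv] at this
    have h1 := hz.2.2 _ hy'
    calc y * (x * z * x⁻¹) = x * ((x⁻¹ * y * x) * z) * x⁻¹ := by group
      _ = x * (z * (x⁻¹ * y * x)) * x⁻¹ := by rw [h1]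
      _ = _ := by group

theorem zl_norm : ∀ g ∈ H, ∀ v ∈ zl T H, g * v * g⁻¹ ∈ zl T H := by
  intro g hg v hv
  have hle : zl T H ≤ (zl T H).comap (MulAut.conj g).toMonoidHom := by
    refine zl_le fun x hx z hz => ?_
    have e : (MulAut.conj g).toMonoidHom (x * z * x⁻¹) = (g * x) * z * (g * x)⁻¹ := by
      simp only [MulEquiv.toMonoidHom_eq_coe, MonoidHom.coe_coe, MulAut.conj_apply]
      group
    rw [mem_comap, e]
    exact conj_mem_zl (mul_mem hg hx) hz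
  exact hle hv

namespace MinH

variable (h : MinH H T)

include h

theorem zc_le_o2 [Finite G] : zc T ≤ o2 H := by
  intro z hz
  have hz' := mem_zc.1 hz
  exact h.self_cent ⟨h.syl.1 hz'.1, mem_centralizer_iff.2 fun y hy => hz'.2.2 y (o2_le_syl h.syl hy)⟩

theorem zl_le_o2 [Finite G] : zl T H ≤ o2 H :=
  zl_le fun g hg z hz => conj_mem_of_norm (le_normalizer_o2 H hg) (zc_le_o2 h hz)

/-- `O₂(H)` centralises `V`. -/
theorem o2_cent [Finite G] : ∀ x ∈ o2 H, ∀ v ∈ zl T H, x * v = v * x := by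
  intro x hx v hv
  have hle : zl T H ≤ centralizer ((o2 H : Subgroup G) : Set G) := by
    refine zl_le fun g hg z hz => mem_centralizer_iff.2 fun y hy => ?_
    have hy' : g⁻¹ * y * g ∈ o2 H := by
      have := conj_mem_of_norm (le_normalizer_o2 H (inv_mem hg)) hy
      rwa [inv_inv] at this
    have h1 := (mem_zc.1 hz).2.2 _ (o2_le_syl h.syl hy')
    calc y * (g * z * g⁻¹) = g * ((g⁻¹ * y * g) * z) * g⁻¹ := by group
      _ = g * (z * (g⁻¹ * y * g)) * g⁻¹ := by rw [h1]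
      _ = _ := by group
  exact mem_centralizer_iff.1 (hle hv) x hx

theorem comm [Finite G] : ∀ v ∈ zl T H, ∀ w ∈ zl T H, v * w = w * v :=
  fun v hv w hw => o2_cent h v (zl_le_o2 h hv) w hw

theorem sq [Finite G] : ∀ v ∈ zl T H, v ^ 2 = 1 := by
  let S : Subgroup G :=
    { carrier := {v | v ∈ zl T H ∧ v ^ 2 = 1}
      mul_mem' := by
        rintro a b ⟨ha, ha2⟩ ⟨hb, hb2⟩
        refine ⟨mul_mem ha hb, ?_⟩
        rw [(show Commute a b from comm h a ha b hb).mul_pow, ha2, hb2, one_mul]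
      one_mem' := ⟨one_mem _, one_pow _⟩
      inv_mem' := by
        rintro a ⟨ha, ha2⟩
        exact ⟨inv_mem ha, by rw [inv_pow, ha2, inv_one]⟩ }
  have hle : zl T H ≤ S := zl_le fun g hg z hz => ⟨conj_mem_zl hg hz, by
    have h1 := (mem_zc.1 hz).2.1
    rw [pow_two] at h1 ⊢
    calc g * z * g⁻¹ * (g * z * g⁻¹) = g * (z * z) * g⁻¹ := by group
      _ = 1 := by rw [h1]; group⟩
  exact fun v hv => (hle hv).2

theorem elem [Finite G] : IsElementaryAbelian 2 (zl T H) :=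
  isElementaryAbelian_iff.2 ⟨comm h, sq h⟩

end MinH

variable {M₀ : Subgroup G} {s : G}

theorem minH (c : Config M₀ T H s) : MinH H T where
  syl := c.syl
  uniq := ⟨M₀, c.notM, fun X hTX hXH hne => c.min X hTX (lt_of_le_of_ne hXH hne)⟩
  self_cent := c.self_cent

/-- `J(T) ≰ O₂(H)` -/
theorem nle (c : Config M₀ T H s) [Finite G] : ¬ jj T ≤ o2 H := by
  intro hle
  have h1 : jj (o2 H) = jj T := jj_eq_of_jj_le hle (o2_le_syl c.syl)
  have hne : jj T ≠ ⊥ := by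
    intro h0
    -- a central involution of `T` lies in `J(T)`
    obtain ⟨A, hA⟩ := AA_nonempty T
    have hTne := c.ne
    have h2 : A = ⊥ := by
      rw [eq_bot_iff, ← h0]
      exact le_jj hA
    obtain ⟨x, hx1, hx2⟩ : ∃ x ∈ T, x ≠ 1 := by
      by_contra hc
      push Not at hc
      exact hTne (eq_bot_iff.2 fun x hx => mem_bot.2 (hc x hx))
    obtain ⟨n, hn⟩ := c.two ⟨x, hx1⟩
    have hn' : x ^ 2 ^ n = 1 := by simpa using congrArg Subtype.val hn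
    -- an involution of `T`
    obtain ⟨y, hyT, hy1, hy2⟩ : ∃ y ∈ T, y ≠ 1 ∧ y ^ 2 = 1 := by
      induction n generalizing x with
      | zero => exact absurd (by simpa using hn') hx2
      | succ n ih =>
        by_cases hxx : x ^ 2 = 1
        · exact ⟨x, hx1, hx2, hxx⟩
        · refine ih (x ^ 2) (pow_mem hx1 2) hxx ?_ ?_
          · apply Subtype.ext
            simp only [SubmonoidClass.mk_pow, OneMemClass.coe_one]
            rw [← pow_mul, ← pow_succ']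
            exact hn'
          · rw [← pow_mul, ← pow_succ']
            exact hn'
    have h3 := hA.2.2 (zpowers y) (isElementaryAbelian_zpowers hy2) (zpowers_le.2 hyT)
    rw [h2, Subgroup.card_bot] at h3
    have h4 : Nat.card (zpowers y) ≠ 1 := by
      rw [Nat.card_zpowers]
      exact fun h => hy1 (orderOf_eq_one_iff.1 h)
    have h5 : 0 < Nat.card (zpowers y) := Nat.card_pos
    omega
  apply hne
  refine c.eq_bot (c.two.to_le (jj_le T)) ?_ ?_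
  · rw [← h1]
    exact (le_normalizer_o2 H).trans (normalizer_le_of_cj (F := fun K => jj K) jj_cj (o2 H))
  · exact normalizer_le_of_cj (F := fun K => jj K) jj_cj T c.sN

theorem zc_ne (c : Config M₀ T H s) [Finite G] : zc T ≠ ⊥ := by
  have : Fact (Nat.Prime 2) := ⟨Nat.prime_two⟩
  haveI : Nontrivial T := (Subgroup.nontrivial_iff_ne_bot T).2 c.ne
  have h1 := c.two.center_nontrivial
  obtain ⟨⟨z, hz⟩, hz1⟩ := exists_ne (1 : center T)
  have hzT := mem_center_iff.1 hz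
  have hz1' : (z : G) ≠ 1 := fun e => hz1 (Subtype.ext (Subtype.ext e))
  have key : ∀ n : ℕ, ∀ x : G, x ∈ T → (∀ y ∈ T, y * x = x * y) → x ≠ 1 → x ^ 2 ^ n = 1 →
      ∃ y, y ∈ zc T ∧ y ≠ 1 := by
    intro n
    induction n with
    | zero => intro x _ _ hx1 hxn; exact absurd (by simpa using hxn) hx1
    | succ n ih =>
      intro x hx hxc hx1 hxn
      by_cases hxx : x ^ 2 = 1
      · exact ⟨x, mem_zc.2 ⟨hx, hxx, hxc⟩, hx1⟩
      · refine ih (x ^ 2) (pow_mem hx 2) (fun y hy => ?_) hxx (by rw [← pow_mul, ← pow_succ']; exact hxn)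
        exact ((show Commute y x from hxc y hy).pow_right 2).eq
  obtain ⟨n, hn⟩ := c.two z
  obtain ⟨y, hy, hy1⟩ := key n z z.2 (fun y hy => by
    have := hzT ⟨y, hy⟩
    exact congrArg Subtype.val this) hz1' (by simpa using congrArg Subtype.val hn)
  intro h0
  rw [h0] at hy
  exact hy1 (mem_bot.1 hy)

/-- `C_H(V) T ≠ H` -/
theorem cent_sup_ne (c : Config M₀ T H s) [Finite G] :
    (H ⊓ centralizer (zl T H : Set G)) ⊔ T ≠ H := by
  intro e
  apply zc_ne c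
  refine c.eq_bot (c.two.to_le fun z hz => (mem_zc.1 hz).1) ?_
    (mem_norm_of fun z hz => zc_norm c.sN hz)
  rw [← e]
  refine sup_le ?_ ?_
  · rintro x ⟨hx, hxc⟩
    refine mem_norm_of fun z hz => ?_
    have := mem_centralizer_iff.1 hxc z (zc_le_zl hz)
    have e : x * z * x⁻¹ = z := by rw [← this]; group
    rwa [e]
  · intro t ht
    refine mem_norm_of fun z hz => ?_
    have e : t * z * t⁻¹ = z := by rw [(mem_zc.1 hz).2.2 t ht]; group
    rwa [e]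

theorem cent_norm : ∀ h ∈ H, ∀ n ∈ H ⊓ centralizer (zl T H : Set G),
    h * n * h⁻¹ ∈ H ⊓ centralizer (zl T H : Set G) := by
  rintro g hg n ⟨hn, hnc⟩
  refine ⟨H.mul_mem (H.mul_mem hg hn) (H.inv_mem hg), mem_centralizer_iff.2 fun v hv => ?_⟩
  have hv' : g⁻¹ * v * g ∈ zl T H := by
    have := zl_norm g⁻¹ (inv_mem hg) v hv
    rwa [inv_inv] at this
  have h1 := mem_centralizer_iff.1 hnc _ hv'
  calc v * (g * n * g⁻¹) = g * ((g⁻¹ * v * g) * n) * g⁻¹ := by group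
    _ = g * (n * (g⁻¹ * v * g)) * g⁻¹ := by rw [h1]
    _ = _ := by group

/-- `C_T(V) ≤ O₂(H)` -/
theorem cT (c : Config M₀ T H s) [Finite G] {t : G} (ht : t ∈ T)
    (hc : ∀ v ∈ zl T H, t * v = v * t) : t ∈ o2 H :=
  (minH c).inf_le inf_le_left cent_norm (cent_sup_ne c)
    ⟨ht, c.TY ht, mem_centralizer_iff.2 fun v hv => (hc v hv).symm⟩

/-- `J(T)` does not centralise `V` -/
theorem nJ (c : Config M₀ T H s) [Finite G] : ∃ j ∈ jj T, ∃ v ∈ zl T H, j * v ≠ v * j := by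
  by_contra hc
  push Not at hc
  exact nle c fun j hj => cT c (jj_le T hj) (hc j hj)

/-- `O₂(H/C_H(V)) = 1` -/
theorem core_quot (c : Config M₀ T H s) [Finite G] {R : Subgroup G} (hR : R ≤ H)
    (hn : ∀ h ∈ H, ∀ r ∈ R, h * r * h⁻¹ ∈ R)
    (h1 : H ⊓ centralizer (zl T H : Set G) ≤ R)
    (h2 : R ≤ (H ⊓ centralizer (zl T H : Set G)) ⊔ T) : R ≤ centralizer (zl T H : Set G) := by
  have hne : R ⊔ T ≠ H := by
    intro e
    exact cent_sup_ne c (le_antisymm (sup_le inf_le_left c.TY)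
      (e.ge.trans (sup_le h2 le_sup_right)))
  have h3 := (minH c).inf_le hR hn hne
  intro r hr
  have hKn : T ≤ normalizer ((H ⊓ centralizer (zl T H : Set G) : Subgroup G) : Set G) :=
    fun t ht => mem_norm_of fun k hk => cent_norm t (c.TY ht) k hk
  have h4 : r ∈ ((H ⊓ centralizer (zl T H : Set G) : Subgroup G) : Set G) * (T : Set G) := by
    rw [← Subgroup.coe_mul_of_right_le_normalizer_left _ _ hKn]
    exact h2 hr
  obtain ⟨k, hk, t, ht, rfl⟩ := Set.mem_mul.1 h4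
  have htR : t ∈ R := by
    have := mul_mem (inv_mem (h1 hk)) hr
    rwa [inv_mul_cancel_left] at this
  have h5 := h3 ⟨ht, htR⟩
  refine mul_mem (mem_inf.1 hk).2 ?_
  exact mem_centralizer_iff.2 fun v hv => (MinH.o2_cent (minH c) t h5 v hv).symm

/-- a `T`-fixed vector of `V` moved by `H` -/
theorem nfix (c : Config M₀ T H s) [Finite G] :
    ∃ v ∈ zl T H, (∀ t ∈ T, t * v = v * t) ∧ ∃ x ∈ H, x * v ≠ v * x := by
  by_contra hcon
  push Not at hcon
  apply cent_sup_ne c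
  apply le_antisymm (sup_le inf_le_left c.TY)
  have hz : ∀ z ∈ zc T, ∀ x ∈ H, x * z = z * x := fun z hz x hx =>
    hcon z (zc_le_zl hz) (mem_zc.1 hz).2.2 x hx
  refine le_trans ?_ le_sup_left
  intro x hx
  refine ⟨hx, mem_centralizer_iff.2 fun v hv => ?_⟩
  have hle : zl T H ≤ centralizer (H : Set G) := zl_le fun g hg z hz' => by
    have e : g * z * g⁻¹ = z := by rw [hz z hz' g hg]; group
    rw [e]
    exact mem_centralizer_iff.2 fun y hy => hz z hz' y hy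
  exact (mem_centralizer_iff.1 (hle hv) x hx).symm

/-- **Thompson's inequality**: `|V| |C_A(V)| ≤ |C_V(A)| |A|` for `A ∈ A(T)`. -/
theorem off (h : MinH H T) [Finite G] {A : Subgroup G} (hA : A ∈ AA T) :
    Nat.card (zl T H) * Nat.card ↥(A ⊓ centralizer (zl T H : Set G)) ≤
      Nat.card ↥(zl T H ⊓ centralizer (A : Set G)) * Nat.card A := by
  set V := zl T H with hV
  set C := A ⊓ centralizer (V : Set G) with hC
  have hVT : V ≤ T := (MinH.zl_le_o2 h).trans (o2_le_syl h.syl)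
  have hc : ∀ a ∈ C, ∀ v ∈ V, a * v = v * a := fun a ha v hv =>
    (mem_centralizer_iff.1 (mem_inf.1 ha).2 v hv).symm
  have h1 : IsElementaryAbelian 2 (C ⊔ V : Subgroup G) :=
    isElementaryAbelian_sup (isElementaryAbelian_mono hA.1 inf_le_left) (MinH.elem h)
      fun v hv => mem_centralizer_iff.2 fun a ha => hc a ha v hv
  have h2 := hA.2.2 _ h1 (sup_le (inf_le_left.trans hA.2.1) hVT)
  have h3 := card_sup_comm hc
  have h4 : Nat.card ↥(C ⊓ V) ≤ Nat.card ↥(V ⊓ centralizer (A : Set G)) := by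
    refine Subgroup.card_le_of_le ?_
    rintro x ⟨hx1, hx2⟩
    exact ⟨hx2, mem_centralizer_iff.2 fun a ha => elem_comm hA.1 a ha x (mem_inf.1 hx1).1⟩
  calc Nat.card V * Nat.card C = Nat.card ↥(C ⊔ V) * Nat.card ↥(C ⊓ V) := by rw [h3]; ring
    _ ≤ Nat.card A * Nat.card ↥(V ⊓ centralizer (A : Set G)) := Nat.mul_le_mul h2 h4
    _ = _ := by ring

end Cfsg.Agent.Omega.SQ1.VOf

end

section


/-!
# SQ1, L1: `FF.toIn`
-/

set_option autoImplicit false
set_option linter.unusedSectionVars false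
set_option linter.unusedVariables false

namespace Cfsg.Agent.Omega.SQ1.FFOne

open Subgroup Cfsg Cfsg.Agent.PLocal.ThompsonJ Cfsg.Agent.ZN Cfsg.Agent.ZN.ChoiceBase
open Cfsg.Agent.ZN.ChoiceSit
open Cfsg.Agent.Omega.NatPair Cfsg.Agent.Lib.SL2Mat
open Cfsg.Agent.PLocal.ElemAbSup
open Cfsg.Agent.Omega.SQ1.Bau
open scoped Pointwise

universe u

variable {G : Type u} [Group G]

/-- `|V| = |K| |F|` if `f : V → F` is additive, onto, with kernel `K`. -/
theorem card_of_map [Finite G] {K V : Subgroup G} {F : Type*} [AddGroup F] (f : G → F)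
    (hm : ∀ v ∈ V, ∀ w ∈ V, f (v * w) = f v + f w) (hKV : K ≤ V)
    (hk : ∀ v ∈ V, f v = 0 ↔ v ∈ K) (hs : ∀ c : F, ∃ v ∈ V, f v = c) :
    Nat.card V = Nat.card K * Nat.card F := by
  let φ : V →* Multiplicative F :=
    MonoidHom.mk' (fun v => Multiplicative.ofAdd (f v)) (fun v w => by
      rw [← ofAdd_add]
      exact congrArg Multiplicative.ofAdd (hm v v.2 w w.2))
  have hφ : Function.Surjective φ := by
    intro c
    obtain ⟨v, hv, e⟩ := hs (Multiplicative.toAdd c)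
    exact ⟨⟨v, hv⟩, by
      change Multiplicative.ofAdd (f v) = c
      rw [e]; rfl⟩
  have hker : φ.ker = K.subgroupOf V := by
    ext v
    rw [MonoidHom.mem_ker, mem_subgroupOf, ← hk v v.2]
    exact ofAdd_eq_one
  have h1 := Subgroup.card_eq_card_quotient_mul_card_subgroup φ.ker
  rw [Nat.card_congr (QuotientGroup.quotientKerEquivOfSurjective φ hφ).toEquiv, hker,
    Nat.card_congr (Subgroup.subgroupOfEquivOfLe hKV).toEquiv] at h1
  rw [h1, mul_comm]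
  rfl

/-- The output of the FF-theorem (one block). -/
structure FF (F : Type*) [Field F] (H T V V0 : Subgroup G) extends NatSec F H V V0 where
  off1 : ∀ A ∈ AA T, ∀ a ∈ A, ∃ c : F, ∀ v ∈ V, π (a * v * a⁻¹) = ap (up c) (π v)
  off2 : ∀ A ∈ AA T, ¬ (∀ a ∈ A, ∀ v ∈ V, π (a * v * a⁻¹) = π v) →
    ∀ c : F, ∃ a ∈ A, ∀ v ∈ V, π (a * v * a⁻¹) = ap (up c) (π v)
  VQ : V ≤ o2 H
  Vsq : ∀ v ∈ V, v ^ 2 = 1
  VcQ : ∀ x ∈ o2 H, ∀ v ∈ V, x * v = v * x
  nle : ¬ jj T ≤ o2 H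

namespace FF

variable {F : Type*} [Field F] {H T V V0 : Subgroup G}

/-- the preimage of the line `F e₁` -/
def V1 (M : FF F H T V V0) : Subgroup G where
  carrier := {v | v ∈ V ∧ M.π v 1 = 0}
  mul_mem' := by
    rintro a b ⟨ha, ha'⟩ ⟨hb, hb'⟩
    refine ⟨mul_mem ha hb, ?_⟩
    rw [M.map_mul a ha b hb, Pi.add_apply, ha', hb', add_zero]
  one_mem' := ⟨one_mem V, by rw [M.map_one]; rfl⟩
  inv_mem' := by
    rintro a ⟨ha, ha'⟩
    refine ⟨inv_mem ha, ?_⟩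
    rw [M.map_inv ha, Pi.neg_apply, ha', neg_zero]

variable (M : FF F H T V V0)

include M

theorem mem_V1 {v : G} : v ∈ M.V1 ↔ v ∈ V ∧ M.π v 1 = 0 := Iff.rfl

theorem V1V : M.V1 ≤ V := fun _ h => h.1

theorem V01 : V0 ≤ M.V1 := fun v hv => ⟨M.V0V hv, by rw [(M.ker v (M.V0V hv)).2 hv]; rfl⟩

theorem cardV [Finite G] : Nat.card V = Nat.card M.V1 * Nat.card F := by
  refine card_of_map (fun v => M.π v 1) ?_ M.V1V ?_ ?_
  · intro v hv w hw
    show M.π (v * w) 1 = _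
    rw [M.map_mul v hv w hw]; rfl
  · intro v hv
    exact ⟨fun h => ⟨hv, h⟩, fun h => h.2⟩
  · intro c
    obtain ⟨v, hv, e⟩ := M.surj ![0, c]
    exact ⟨v, hv, by show M.π v 1 = c; rw [e]; rfl⟩

theorem cardV1 [Finite G] : Nat.card M.V1 = Nat.card V0 * Nat.card F := by
  refine card_of_map (fun v => M.π v 0) ?_ M.V01 ?_ ?_
  · intro v hv w hw
    show M.π (v * w) 0 = _
    rw [M.map_mul v hv.1 w hw.1]; rfl
  · intro v hv
    rw [← M.ker v hv.1]
    constructor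
    · intro h
      exact ext2 h hv.2
    · intro h
      show M.π v 0 = 0
      rw [h]; rfl
  · intro c
    obtain ⟨v, hv, e⟩ := M.surj ![c, 0]
    exact ⟨v, ⟨hv, by rw [e]; rfl⟩, by show M.π v 0 = c; rw [e]; rfl⟩

theorem Velem : IsElementaryAbelian 2 V :=
  isElementaryAbelian_iff.2 ⟨fun v hv w hw => M.VcQ v (M.VQ hv) w hw, M.Vsq⟩

/-- every element of `J(T)` acts as an upper unitriangular matrix -/
theorem jj_up (hm : MinH H T) {j : G} (hj : j ∈ jj T) : ∃ c : F, M.Ind j (up c) := by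
  let S : Subgroup G :=
    { carrier := {g | g ∈ H ∧ ∃ c : F, M.Ind g (up c)}
      mul_mem' := by
        rintro a b ⟨ha, c, hc⟩ ⟨hb, d, hd⟩
        exact ⟨mul_mem ha hb, c + d, by rw [← up_mul]; exact M.ind_mul ha hb hc hd⟩
      one_mem' := ⟨one_mem H, 0, by rw [up_zero]; exact M.ind_one⟩
      inv_mem' := by
        rintro a ⟨ha, c, hc⟩
        exact ⟨inv_mem ha, -c, by rw [← up_inv]; exact M.ind_inv ha hc⟩ }
  have hle : jj T ≤ S := by
    rw [jj_eq]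
    exact sSup_le fun A hA a ha => ⟨hm.syl.1 (hA.2.1 ha), M.off1 A hA a ha⟩
  exact (hle hj).2

theorem Q_kern (hm : MinH H T) {x : G} (hx : x ∈ o2 H) : x ∈ M.kern := by
  rw [M.mem_kern_iff (o2_le H hx)]
  intro v hv
  rw [M.VcQ x hx v hv, mul_inv_cancel_right, mul_inv_cancel]
  exact one_mem _

theorem mem_Q_iff [Finite G] [CharP F 2] (hm : MinH H T) {x : G} (hx : x ∈ T) :
    x ∈ o2 H ↔ x ∈ M.kern :=
  ⟨M.Q_kern hm, fun h => M.inf_kern_le hm ⟨hx, h⟩⟩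

theorem ind_zero_iff [Finite G] [CharP F 2] (hm : MinH H T) {x : G} (hx : x ∈ T) {c : F}
    (hc : M.Ind x (up c)) : x ∈ o2 H ↔ c = 0 := by
  have hxH := hm.syl.1 hx
  rw [M.mem_Q_iff hm hx, ← M.ind_one_iff hxH]
  constructor
  · intro h
    have := M.ind_unique hxH hc h
    rw [← up_zero] at this
    exact up_inj this
  · rintro rfl
    rwa [up_zero] at hc

/-- an `A ∈ A(T)` not in `Q` induces all `up c` -/
theorem off2' [Finite G] [CharP F 2] (hm : MinH H T) {A : Subgroup G} (hA : A ∈ AA T)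
    (hAQ : ¬ A ≤ o2 H) (c : F) : ∃ a ∈ A, M.Ind a (up c) := by
  refine M.off2 A hA ?_ c
  intro hall
  apply hAQ
  intro a ha
  have haH := hm.syl.1 (hA.2.1 ha)
  rw [M.mem_Q_iff hm (hA.2.1 ha), ← M.ind_one_iff haH]
  intro v hv
  rw [hall a ha v hv, ap_one]

theorem card_A [Finite G] [CharP F 2] (hm : MinH H T) {A : Subgroup G} (hA : A ∈ AA T)
    (hAQ : ¬ A ≤ o2 H) : Nat.card A = Nat.card ↥(A ⊓ o2 H) * Nat.card F := by
  classical
  let f : G → F := fun a => if h : ∃ c : F, M.Ind a (up c) then h.choose else 0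
  have hf : ∀ a ∈ A, M.Ind a (up (f a)) := by
    intro a ha
    have h : ∃ c : F, M.Ind a (up c) := M.off1 A hA a ha
    have e : f a = h.choose := dif_pos h
    rw [e]
    exact h.choose_spec
  have hH : ∀ a ∈ A, a ∈ H := fun a ha => hm.syl.1 (hA.2.1 ha)
  have hu : ∀ a ∈ A, ∀ c, M.Ind a (up c) → f a = c := fun a ha c hc =>
    up_inj (M.ind_unique (hH a ha) (hf a ha) hc)
  refine card_of_map f ?_ inf_le_left ?_ ?_
  · intro v hv w hw
    refine hu _ (mul_mem hv hw) _ ?_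
    rw [← up_mul]
    exact M.ind_mul (hH v hv) (hH w hw) (hf v hv) (hf w hw)
  · intro v hv
    rw [mem_inf, M.ind_zero_iff hm (hA.2.1 hv) (hf v hv)]
    exact ⟨fun h => ⟨hv, h⟩, fun h => h.2⟩
  · intro c
    obtain ⟨a, ha, hac⟩ := M.off2' hm hA hAQ c
    exact ⟨a, ha, hu a ha c hac⟩

/-- `C_V(a)` for an element acting nontrivially -/
theorem mem_V1_of_comm [CharP F 2] {a v : G} {c : F} (hc : M.Ind a (up c)) (hc0 : c ≠ 0) (hv : v ∈ V)
    (hav : a * v = v * a) : v ∈ M.V1 := by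
  refine ⟨hv, ?_⟩
  have h1 := hc v hv
  rw [hav, mul_inv_cancel_right] at h1
  have h2 := congrFun h1 0
  rw [ap_zero', up_00, up_01, one_mul] at h2
  have h3 : c * M.π v 1 = 0 := by
    have := h2.symm
    rwa [add_eq_left] at this
  exact (mul_eq_zero.1 h3).resolve_left hc0

/-- `J(T)` centralises `V1`. -/
theorem AcV1 [Finite G] [Finite F] [CharP F 2] (hm : MinH H T) {A : Subgroup G} (hA : A ∈ AA T) :
    ∀ a ∈ A, ∀ v ∈ M.V1, a * v = v * a := by
  by_cases hAQ : A ≤ o2 H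
  · exact fun a ha v hv => M.VcQ a (hAQ ha) v hv.1
  · have hQT : o2 H ≤ T := o2_le_syl hm.syl
    have hc : ∀ a ∈ A ⊓ o2 H, ∀ v ∈ V, a * v = v * a := fun a ha v hv => M.VcQ a ha.2 v hv
    have h1 : IsElementaryAbelian 2 ((A ⊓ o2 H) ⊔ V : Subgroup G) :=
      isElementaryAbelian_sup (isElementaryAbelian_mono hA.1 inf_le_left) M.Velem
        fun v hv => mem_centralizer_iff.2 fun a ha => hc a ha v hv
    have h2 := hA.2.2 _ h1 (sup_le (inf_le_right.trans hQT) (M.VQ.trans hQT))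
    have h3 := card_sup_comm hc
    have h4 : (A ⊓ o2 H) ⊓ V = A ⊓ V := by
      apply le_antisymm
      · exact le_inf (inf_le_left.trans inf_le_left) inf_le_right
      · exact le_inf (le_inf inf_le_left (inf_le_right.trans M.VQ)) inf_le_right
    rw [h4] at h3
    rw [M.card_A hm hA hAQ] at h2
    have hp : 0 < Nat.card ↥(A ⊓ o2 H) := Nat.card_pos
    have h5 : Nat.card V ≤ Nat.card F * Nat.card ↥(A ⊓ V) := by
      have e : Nat.card ↥(A ⊓ o2 H) * Nat.card V ≤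
          Nat.card ↥(A ⊓ o2 H) * (Nat.card F * Nat.card ↥(A ⊓ V)) := by
        rw [← h3]
        calc _ ≤ Nat.card ↥(A ⊓ o2 H) * Nat.card F * Nat.card ↥(A ⊓ V) := Nat.mul_le_mul_right _ h2
          _ = _ := by ring
      exact Nat.le_of_mul_le_mul_left e hp
    rw [M.cardV, mul_comm] at h5
    have hF : 0 < Nat.card F := Nat.card_pos
    have h6 : Nat.card M.V1 ≤ Nat.card ↥(A ⊓ V) := Nat.le_of_mul_le_mul_left h5 hF
    have h7 : A ⊓ V ≤ M.V1 := by
      rintro v ⟨hvA, hvV⟩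
      obtain ⟨a, ha, hac⟩ := M.off2' hm hA hAQ 1
      exact M.mem_V1_of_comm hac one_ne_zero hvV (elem_comm hA.1 a ha v hvA)
    have h8 : A ⊓ V = M.V1 := Subgroup.eq_of_le_of_card_ge h7 h6
    intro a ha v hv
    rw [← h8] at hv
    exact elem_comm hA.1 a ha v (mem_inf.1 hv).1

theorem JcV1 [Finite G] [Finite F] [CharP F 2] (hm : MinH H T) :
    ∀ a ∈ jj T, ∀ v ∈ M.V1, a * v = v * a := by
  have hle : jj T ≤ centralizer (M.V1 : Set G) := by
    rw [jj_eq]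
    exact sSup_le fun A hA a ha => mem_centralizer_iff.2 fun v hv => (M.AcV1 hm hA a ha v hv).symm
  exact fun a ha v hv => (mem_centralizer_iff.1 (hle ha) v hv).symm

theorem exists_off [Finite G] (hm : MinH H T) : ∃ A ∈ AA T, ¬ A ≤ o2 H := by
  by_contra hc
  push Not at hc
  apply M.nle
  rw [jj_eq]
  exact sSup_le hc

theorem exists_j [Finite G] [CharP F 2] (hm : MinH H T) (c : F) : ∃ j ∈ jj T, M.Ind j (up c) := by
  obtain ⟨A, hA, hAQ⟩ := M.exists_off hm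
  obtain ⟨a, ha, hac⟩ := M.off2' hm hA hAQ c
  exact ⟨a, le_jj hA ha, hac⟩

/-- `C_V(J(T)) = V1` -/
theorem mem_V1_iff [Finite G] [Finite F] [CharP F 2] (hm : MinH H T) {v : G} :
    v ∈ M.V1 ↔ v ∈ V ∧ ∀ j ∈ jj T, j * v = v * j := by
  constructor
  · intro h
    exact ⟨h.1, fun j hj => M.JcV1 hm j hj v h⟩
  · rintro ⟨h1, h2⟩
    obtain ⟨j, hj, hc⟩ := M.exists_j hm 1
    exact M.mem_V1_of_comm hc one_ne_zero h1 (h2 j hj)

theorem T_norm [Finite G] [Finite F] [CharP F 2] (hm : MinH H T) {t v : G} (ht : t ∈ T)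
    (hv : v ∈ M.V1) : t * v * t⁻¹ ∈ M.V1 := by
  rw [M.mem_V1_iff hm] at hv ⊢
  refine ⟨M.Vn t (hm.syl.1 ht) v hv.1, fun j hj => ?_⟩
  have h1 : t⁻¹ * j * t ∈ jj T := by
    rw [← mem_cj, cj_eq_of_mem_normalizer
      (normalizer_le_of_cj (F := fun K => jj K) jj_cj T (le_normalizer ht))]
    exact hj
  have h2 := hv.2 _ h1
  calc j * (t * v * t⁻¹) = t * ((t⁻¹ * j * t) * v) * t⁻¹ := by group
    _ = t * (v * (t⁻¹ * j * t)) * t⁻¹ := by rw [h2]
    _ = _ := by group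

omit M in
theorem eq_one_of_pow' [CharP F 2] {γ : F} {k : ℕ} (h : γ ^ 2 ^ k = 1) : γ = 1 := by
  have h1 : (γ - 1) ^ 2 ^ k = 0 := by
    rw [sub_pow_char_pow γ 1, h, one_pow, sub_self]
  exact sub_eq_zero.1 (pow_eq_zero_iff (pow_ne_zero k two_ne_zero) |>.1 h1)

/-- elements of `V1` are multiples of `e₁` -/
theorem π_V1 {v : G} (hv : v ∈ M.V1) : M.π v = M.π v 0 • ![1, 0] := by
  apply ext2
  · simp
  · rw [hv.2]; simp

/-- The image of `V1` under `g ∈ H`. -/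
theorem act_V1 [Finite F] {g : G} (hg : g ∈ H) : ∃ s : F ≃+* F, ∀ v ∈ M.V1,
    M.π (g * v * g⁻¹) = s (M.π v 0) • M.act g ![1, 0] := by
  obtain ⟨s, hs⟩ := M.exists_semi hg
  refine ⟨s, fun v hv => ?_⟩
  rw [← M.act_π hg hv.1, ← hs, ← M.π_V1 hv]

theorem mem_norm_V1 [Finite G] [Finite F] {g : G} (hg : g ∈ H) :
    g ∈ normalizer (M.V1 : Set G) ↔ M.act g ![1, 0] 1 = 0 := by
  obtain ⟨s, hs⟩ := M.act_V1 hg
  constructor
  · intro h
    obtain ⟨v, hv, e⟩ := M.surj ![1, 0]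
    have hv1 : v ∈ M.V1 := ⟨hv, by rw [e]; rfl⟩
    have h1 := (conj_mem_of_norm h hv1).2
    rwa [← M.act_π hg hv, e] at h1
  · intro h
    refine mem_norm_of fun v hv => ⟨M.Vn g hg v hv.1, ?_⟩
    rw [hs v hv, Pi.smul_apply, h, smul_zero]

theorem exists_moves [Finite G] [Finite F] : ∃ h ∈ H, ∃ v ∈ M.V1, h * v * h⁻¹ ∉ M.V1 := by
  obtain ⟨h, hh, hl⟩ := M.lift (lo 1)
  obtain ⟨v, hv, e⟩ := M.surj ![1, 0]
  refine ⟨h, hh, v, ⟨hv, by rw [e]; rfl⟩, fun hc => ?_⟩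
  have h1 := hc.2
  rw [hl v hv, e, ap_one'] at h1
  simp at h1

theorem opp [Finite G] [Finite F] : ∀ h ∈ H, (∃ v ∈ M.V1, h * v * h⁻¹ ∉ M.V1) →
    ∀ v ∈ M.V1, h * v * h⁻¹ ∈ M.V1 → h * v * h⁻¹ ∈ V0 := by
  rintro h hh ⟨v₀, hv₀, hm⟩ v hv hv'
  obtain ⟨s, hs⟩ := M.act_V1 hh
  have h0 : M.act h ![1, 0] 1 ≠ 0 := by
    intro h0
    apply hm
    exact ⟨M.Vn h hh v₀ hv₀.1, by rw [hs v₀ hv₀, Pi.smul_apply, h0, smul_zero]⟩
  rw [← M.ker _ (M.Vn h hh v hv.1), hs v hv]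
  have h1 := hv'.2
  rw [hs v hv, Pi.smul_apply, smul_eq_mul] at h1
  rw [(mul_eq_zero.1 h1).resolve_right h0, zero_smul]

/-- an element of `T` centralising `V1` induces an `up c`. -/
theorem up_of_comm [Finite G] [Finite F] [CharP F 2] (hm : MinH H T) {t : G} (ht : t ∈ T)
    (hc : ∀ v ∈ M.V1, M.π (t * v * t⁻¹) = M.π v) : ∃ c : F, M.Ind t (up c) := by
  have hH := hm.syl.1 ht
  obtain ⟨s, hs⟩ := M.exists_semi hH
  have h1 : ∀ c : F, M.act t (c • ![1, 0]) = c • ![1, 0] := by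
    intro c
    obtain ⟨v, hv, e⟩ := M.surj (c • ![1, 0])
    have hv1 : v ∈ M.V1 := ⟨hv, by rw [e]; simp⟩
    rw [← e, M.act_π hH hv, hc v hv1]
  have h2 : ∀ c : F, s c = c := by
    intro c
    have h3 := hs c ![1, 0]
    have h4 := h1 1
    rw [one_smul] at h4
    rw [h1, h4] at h3
    have h5 := congrFun h3 0
    simp at h5
    exact h5.symm
  have h3 : ∀ (c : F) x, M.act t (c • x) = c • M.act t x := fun c x => by rw [hs, h2]
  set y := M.act t ![0, 1] with hy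
  have h4 : ∀ x, M.act t x = ![x 0 + x 1 * y 0, x 1 * y 1] := by
    intro x
    have hx : x = x 0 • ![1, 0] + x 1 • ![0, 1] := by apply ext2 <;> simp
    have h5 := M.act_add hH (x 0 • ![1, 0]) (x 1 • ![0, 1])
    rw [← hx, h1, h3, ← hy] at h5
    rw [h5]
    apply ext2 <;> simp
  have h5 : ∀ n : ℕ, M.act (t ^ n) ![0, 1] 1 = y 1 ^ n := by
    intro n
    induction n with
    | zero => rw [pow_zero, M.act_one]; simp
    | succ n ih =>
      rw [pow_succ', M.act_mul hH (pow_mem hH n), h4]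
      simp only [Matrix.cons_val_one]
      rw [ih, pow_succ]
      rfl
  obtain ⟨n, hn⟩ := hm.syl.2.1 ⟨t, ht⟩
  have hn' : t ^ 2 ^ n = 1 := by simpa using congrArg Subtype.val hn
  have h6 := h5 (2 ^ n)
  rw [hn', M.act_one] at h6
  have h7 : y 1 = 1 := eq_one_of_pow' (k := n) (by rw [← h6]; rfl)
  refine ⟨y 0, ?_⟩
  rw [M.ind_iff hH]
  intro x
  rw [h4, h7]
  apply ext2
  · rw [ap_zero']; simp [mul_comm]
  · rw [ap_one']; simp

theorem field [Finite G] [Finite F] [CharP F 2] (hm : MinH H T) :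
    ∀ t ∈ T, (∀ v ∈ M.V1, t * v = v * t) → t ∈ jj T ⊔ o2 H := by
  intro t ht hc
  obtain ⟨c, hcc⟩ := M.up_of_comm hm ht fun v hv => by rw [hc v hv, mul_inv_cancel_right]
  obtain ⟨j, hj, hjc⟩ := M.exists_j hm c
  have hjT := jj_le T hj
  have h1 := M.kern_of_ind (hm.syl.1 hjT) (hm.syl.1 ht) hjc hcc
  have h2 : j⁻¹ * t ∈ o2 H := (M.mem_Q_iff hm (mul_mem (inv_mem hjT) ht)).2 h1
  have e : t = j * (j⁻¹ * t) := by group
  rw [e]
  exact mul_mem (mem_sup_left hj) (mem_sup_right h2)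

theorem jj_le_sup [Finite G] [CharP F 2] (hm : MinH H T) {A : Subgroup G} (hA : A ∈ AA T)
    (hAQ : ¬ A ≤ o2 H) : jj T ≤ A ⊔ o2 H := by
  intro j hj
  obtain ⟨c, hc⟩ := M.jj_up hm hj
  obtain ⟨a, ha, hac⟩ := M.off2' hm hA hAQ c
  have haT := hA.2.1 ha
  have h1 := M.kern_of_ind (hm.syl.1 haT) (hm.syl.1 (jj_le T hj)) hac hc
  have h2 : a⁻¹ * j ∈ o2 H := (M.mem_Q_iff hm (mul_mem (inv_mem haT) (jj_le T hj))).2 h1
  have e : j = a * (a⁻¹ * j) := by group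
  rw [e]
  exact mul_mem (mem_sup_left ha) (mem_sup_right h2)

theorem max [Finite G] [Finite F] [CharP F 2] (hm : MinH H T) :
    ∀ X : Subgroup G, T ≤ X → X ≤ H → (∃ x ∈ X, ∃ v ∈ M.V1, x * v * x⁻¹ ∉ M.V1) → H ≤ X := by
  rintro X hTX hXH ⟨x, hx, v, hv, hxv⟩
  by_contra hne
  obtain ⟨M₀, hM, huniq⟩ := hm.uniq
  have h1 : X ≤ M₀ := huniq X hTX hXH fun e => hne e.ge
  set N : Subgroup G := H ⊓ normalizer (M.V1 : Set G) with hN
  have hTN : T ≤ N := fun t ht => ⟨hm.syl.1 ht, mem_norm_of fun v hv => M.T_norm hm ht hv⟩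
  have h2 : N ≤ M₀ := by
    refine huniq N hTN inf_le_left ?_
    intro e
    obtain ⟨h, hh, v, hv, hv'⟩ := M.exists_moves
    rw [← e] at hh
    exact hv' (conj_mem_of_norm hh.2 hv)
  apply hM
  intro h hh
  by_cases hhN : h ∈ normalizer (M.V1 : Set G)
  · exact h2 ⟨hh, hhN⟩
  have hxH := hXH hx
  have hxN : x ∉ normalizer (M.V1 : Set G) := fun hc => hxv (conj_mem_of_norm hc hv)
  rw [M.mem_norm_V1 hh] at hhN
  rw [M.mem_norm_V1 hxH] at hxN
  set p := M.act x ![1, 0] with hp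
  set r := M.act h ![1, 0] with hr
  obtain ⟨j, hj, hjc⟩ := M.exists_j hm (r 0 / r 1 - p 0 / p 1)
  have hjH := hm.syl.1 (jj_le T hj)
  have h3 : M.act (j * x) ![1, 0] = (p 1 / r 1) • r := by
    rw [M.act_mul hjH hxH, (M.ind_iff hjH).1 hjc]
    apply ext2
    · rw [ap_zero', up_00, up_01, Pi.smul_apply, smul_eq_mul]
      field_simp
      ring
    · rw [ap_one', up_10, up_11, Pi.smul_apply, smul_eq_mul]
      field_simp
      ring
  have hgH : h⁻¹ * (j * x) ∈ H := mul_mem (inv_mem hh) (mul_mem hjH hxH)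
  have h4 : h⁻¹ * (j * x) ∈ normalizer (M.V1 : Set G) := by
    rw [M.mem_norm_V1 hgH, M.act_mul (inv_mem hh) (mul_mem hjH hxH), h3]
    obtain ⟨s, hs⟩ := M.exists_semi (inv_mem hh)
    rw [hs, hr, M.act_inv_act hh]
    simp
  have h5 : h⁻¹ * (j * x) ∈ M₀ := h2 ⟨hgH, h4⟩
  have h6 : j * x ∈ M₀ := mul_mem (h2 (hTN (jj_le T hj))) (h1 hx)
  have h7 := mul_mem h6 (inv_mem h5)
  have e : j * x * (h⁻¹ * (j * x))⁻¹ = h := by group
  rwa [e] at h7

/-- **L1 (one block).** The output of the FF-theorem gives the Baumann data. -/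
theorem toIn [Finite G] [Finite F] [CharP F 2] (hm : MinH H T) :
    In H T (o2 H) V M.V1 V0 (Nat.card F) where
  TH := hm.syl.1
  QT := o2_le_syl hm.syl
  VQ := M.VQ
  Qn := fun h hh x hx => conj_mem_of_norm (le_normalizer_o2 H hh) hx
  Vn := M.Vn
  Vsq := M.Vsq
  VcQ := M.VcQ
  cT := by
    intro t ht hc
    rw [M.mem_Q_iff hm ht, M.mem_kern_iff (hm.syl.1 ht)]
    intro v hv
    rw [hc v hv, mul_inv_cancel_right, mul_inv_cancel]
    exact one_mem _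
  V1V := M.V1V
  V01 := M.V01
  V0n := M.V0n
  cardV := M.cardV
  cardV1 := M.cardV1
  one_lt := Finite.one_lt_card
  JcV1 := M.JcV1 hm
  cb := by
    intro b hb hbQ v hv hbv
    obtain ⟨c, hc⟩ := M.jj_up hm hb
    exact M.mem_V1_of_comm hc (fun h0 => hbQ ((M.ind_zero_iff hm (jj_le T hb) hc).2 h0)) hv hbv
  quad := by
    intro b hb v hv
    obtain ⟨c, hc⟩ := M.jj_up hm hb
    have hbH := hm.syl.1 (jj_le T hb)
    refine ⟨mul_mem (M.Vn b hbH v hv) (inv_mem hv), ?_⟩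
    rw [M.map_div (M.Vn b hbH v hv) hv, hc v hv, Pi.sub_apply, ap_one']
    simp
  faith := by
    intro b hb hbQ
    by_contra hcon
    push Not at hcon
    have hbH := hm.syl.1 (jj_le T hb)
    exact hbQ ((M.mem_Q_iff hm (jj_le T hb)).2 ((M.mem_kern_iff hbH).2 hcon))
  field := M.field hm
  off := fun A hA hAQ => ⟨M.card_A hm hA hAQ, M.jj_le_sup hm hA hAQ⟩
  nle := M.nle
  opp := M.opp
  ne := M.exists_moves
  max := M.max hm

end FF

end Cfsg.Agent.Omega.SQ1.FFOne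

end

section


/-!
# SQ1, one block, `b = 1`: the structure of `B` (text 2, (4.1)-(4.3))

`h : In H T Q V V1 V0 q` are the Baumann data of `H`; `s` normalises `T`, `s² ∈ T`, no nontrivial
subgroup of `T` is normal in `H` and normalised by `s`, and `Y = V Z` does not commute with `Y^s`.

Then `B ∩ Q = Y`, `B = Y Y^s`, `Y ∩ Y^s = Z(B) = Z`, the elementary abelian subgroups of `B` lie in `Y`
or `Y^s`, `A(T) = {Y, Y^s}`, `J(T) = B`.
-/

set_option autoImplicit false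
set_option linter.unusedVariables false

namespace Cfsg.Agent.Omega.SQ1.MatchOne

open Subgroup Cfsg Cfsg.Agent.PLocal.ThompsonJ Cfsg.Agent.ZN Cfsg.Agent.ZN.ChoiceBase
open Cfsg.Agent.PLocal.ElemAbSup
open Cfsg.Agent.Omega.SQ1.Bau
open Cfsg.Agent.Omega.SQ1.Bau.In (Y Z_le_Y V_le_Y)
open scoped Pointwise

universe u

variable {G : Type u} [Group G]

/-- Baumann data together with the switching element `s` and `b = 1`. -/
structure Sit (H T Q V V1 V0 : Subgroup G) (q : ℕ) (s : G) : Prop where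
  dd : In H T Q V V1 V0 q
  two : IsPGroup 2 T
  sN : s ∈ normalizer (T : Set G)
  sq : s * s ∈ T
  core : ∀ R ≤ T, (∀ h ∈ H, ∀ r ∈ R, h * r * h⁻¹ ∈ R) → (∀ r ∈ R, s * r * s⁻¹ ∈ R) → R = ⊥
  nc : ∃ y ∈ Y T V, ∃ y' ∈ Y T V, y * (s * y' * s⁻¹) ≠ (s * y' * s⁻¹) * y

namespace Sit

variable {H T Q V V1 V0 : Subgroup G} {q : ℕ} {s : G}

theorem cj_eq_of_norm {g : G} {K : Subgroup G} (hg : g ∈ normalizer (K : Set G)) : cj g K = K := by
  ext x
  rw [mem_cj]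
  have := mem_normalizer_iff.1 (inv_mem hg) x
  rw [inv_inv] at this
  exact this.symm

theorem cj_T (h : Sit H T Q V V1 V0 q s) : cj s T = T := cj_eq_of_norm h.sN

theorem cj_bau (h : Sit H T Q V V1 V0 q s) [Finite G] : cj s (bau T) = bau T :=
  cj_eq_of_norm (normalizer_le_bau T h.sN)

theorem cj_zj (h : Sit H T Q V V1 V0 q s) [Finite G] : cj s (zj T) = zj T :=
  cj_eq_of_norm (normalizer_le_of_cj (F := zj) zj_cj T h.sN)

theorem cj_of_T (h : Sit H T Q V V1 V0 q s) {K : Subgroup G}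
    (hK : ∀ t ∈ T, ∀ k ∈ K, t * k * t⁻¹ ∈ K) {t : G} (ht : t ∈ T) : cj t K = K := by
  apply cj_eq_of_norm
  rw [mem_normalizer_iff]
  intro x
  refine ⟨hK t ht x, fun hx => ?_⟩
  have := hK t⁻¹ (inv_mem ht) _ hx
  have e : t⁻¹ * (t * x * t⁻¹) * t⁻¹⁻¹ = x := by group
  rwa [e] at this

theorem cj_ss (h : Sit H T Q V V1 V0 q s) {K : Subgroup G}
    (hK : ∀ t ∈ T, ∀ k ∈ K, t * k * t⁻¹ ∈ K) : cj s (cj s K) = K := by
  rw [cj_cj]
  exact h.cj_of_T hK h.sq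

theorem Y_T (h : Sit H T Q V V1 V0 q s) [Finite G] : ∀ t ∈ T, ∀ y ∈ Y T V, t * y * t⁻¹ ∈ Y T V :=
  fun t ht => h.dd.Y_norm t (h.dd.TH ht)

theorem star_T (h : Sit H T Q V V1 V0 q s) [Finite G] :
    ∀ t ∈ T, ∀ y ∈ bau T ⊓ Q, t * y * t⁻¹ ∈ bau T ⊓ Q :=
  fun t ht => h.dd.star_norm t (h.dd.TH ht)

theorem Y_le_star (h : Sit H T Q V V1 V0 q s) [Finite G] : Y T V ≤ bau T ⊓ Q := by
  intro y hy
  exact h.dd.mem_star_iff.2 ⟨h.dd.QT (h.dd.Y_le_Q hy), fun y' hy' => elem_comm h.dd.Y_elem y hy y' hy'⟩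

theorem Y_le_B (h : Sit H T Q V V1 V0 q s) [Finite G] : Y T V ≤ bau T :=
  h.Y_le_star.trans inf_le_left

theorem Ys_le_B (h : Sit H T Q V V1 V0 q s) [Finite G] : cj s (Y T V) ≤ bau T := by
  rw [← h.cj_bau]
  exact cj_mono s h.Y_le_B

theorem Z_le_Ys (h : Sit H T Q V V1 V0 q s) [Finite G] : zj T ≤ cj s (Y T V) := by
  rw [← h.cj_zj]
  exact cj_mono s (Z_le_Y T V)

/-- `Y` does not commute with `Y^s`, elementwise. -/
theorem exists_u (h : Sit H T Q V V1 V0 q s) [Finite G] : ∃ u ∈ cj s (Y T V), u ∉ Q := by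
  by_contra hc
  push Not at hc
  obtain ⟨y, hy, y', hy', hne⟩ := h.nc
  have hu : s * y' * s⁻¹ ∈ cj s (Y T V) := ⟨y', hy', rfl⟩
  exact hne ((h.dd.mem_star_iff.1 ⟨h.Ys_le_B hu, hc _ hu⟩).2 y hy).symm

theorem Y_cent (h : Sit H T Q V V1 V0 q s) [Finite G] {y : G} (hy : y ∈ Y T V)
    (hc : ∀ u ∈ cj s (Y T V), u * y = y * u) : y ∈ zj T := by
  obtain ⟨u, hu, huQ⟩ := h.exists_u
  exact h.dd.cent_Y (h.Ys_le_B hu) huQ hy (hc u hu)

theorem Ys_cent (h : Sit H T Q V V1 V0 q s) [Finite G] {x : G} (hx : x ∈ cj s (Y T V))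
    (hc : ∀ y ∈ Y T V, x * y = y * x) : x ∈ zj T := by
  obtain ⟨y, hy, rfl⟩ := hx
  have h1 : y ∈ zj T := by
    refine h.Y_cent hy fun u hu => ?_
    have h2 : s * u * s⁻¹ ∈ Y T V := by
      have : s * u * s⁻¹ ∈ cj s (cj s (Y T V)) := ⟨u, hu, rfl⟩
      rwa [h.cj_ss h.Y_T] at this
    have h3 := hc _ h2
    simp only [MulEquiv.toMonoidHom_eq_coe, MonoidHom.coe_coe, MulAut.conj_apply] at h3
    have e1 : s * y * s⁻¹ * (s * u * s⁻¹) = s * (y * u) * s⁻¹ := by group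
    have e2 : s * u * s⁻¹ * (s * y * s⁻¹) = s * (u * y) * s⁻¹ := by group
    rw [e1, e2] at h3
    exact (mul_left_cancel (mul_right_cancel h3)).symm
  have h2 : s * y * s⁻¹ ∈ cj s (zj T) := ⟨y, h1, rfl⟩
  rw [h.cj_zj] at h2
  exact h2

theorem Ys_inf_star (h : Sit H T Q V V1 V0 q s) [Finite G] :
    cj s (Y T V) ⊓ (bau T ⊓ Q) = zj T := by
  apply le_antisymm
  · rintro x ⟨hx1, hx2⟩
    exact h.Ys_cent hx1 (h.dd.mem_star_iff.1 hx2).2
  · exact le_inf h.Z_le_Ys ((Z_le_Y T V).trans h.Y_le_star)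

theorem split1 (h : Sit H T Q V V1 V0 q s) [Finite G] {b : G} (hb : b ∈ bau T) :
    ∃ u ∈ cj s (Y T V), ∃ x ∈ bau T ⊓ Q, b = u * x := by
  have h1 := Cfsg.Agent.Lib.ProductSet.card_mul_card_inf (cj s (Y T V)) (bau T ⊓ Q)
  rw [h.Ys_inf_star, card_cj, h.dd.card_Y] at h1
  have hsub : (cj s (Y T V) : Set G) * ((bau T ⊓ Q : Subgroup G) : Set G) ⊆
      ((bau T : Subgroup G) : Set G) := by
    rintro _ ⟨u, hu, x, hx, rfl⟩
    exact mul_mem (h.Ys_le_B hu) (mem_inf.1 hx).1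
  have hp : 0 < Nat.card (zj T) := Nat.card_pos
  have h2 : Nat.card ((cj s (Y T V) : Set G) * ((bau T ⊓ Q : Subgroup G) : Set G) : Set G) =
      Nat.card (bau T) := by
    rw [h.dd.card_bau]
    apply Nat.eq_of_mul_eq_mul_right hp
    rw [h1]; ring
  have h3 : (cj s (Y T V) : Set G) * ((bau T ⊓ Q : Subgroup G) : Set G) =
      ((bau T : Subgroup G) : Set G) := by
    apply Set.eq_of_subset_of_ncard_le hsub
    rw [← Nat.card_coe_set_eq, ← Nat.card_coe_set_eq, h2]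
    exact le_rfl
  have hb' : b ∈ (cj s (Y T V) : Set G) * ((bau T ⊓ Q : Subgroup G) : Set G) := by
    rw [h3]; exact hb
  obtain ⟨u, hu, x, hx, rfl⟩ := Set.mem_mul.1 hb'
  exact ⟨u, hu, x, hx, rfl⟩

theorem split2 (h : Sit H T Q V V1 V0 q s) [Finite G] {b : G} (hb : b ∈ bau T) :
    ∃ y ∈ Y T V, ∃ x ∈ cj s (bau T ⊓ Q), b = y * x := by
  rw [← h.cj_bau] at hb
  obtain ⟨b', hb', rfl⟩ := hb
  obtain ⟨u, hu, x, hx, rfl⟩ := h.split1 hb'
  refine ⟨s * u * s⁻¹, ?_, s * x * s⁻¹, ⟨x, hx, rfl⟩, ?_⟩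
  · have : s * u * s⁻¹ ∈ cj s (cj s (Y T V)) := ⟨u, hu, rfl⟩
    rwa [h.cj_ss h.Y_T] at this
  · simp only [MulEquiv.toMonoidHom_eq_coe, MonoidHom.coe_coe, MulAut.conj_apply]
    group

/-- `B ∩ Q = Y (B ∩ Q ∩ (B ∩ Q)^s)`. -/
theorem split3 (h : Sit H T Q V V1 V0 q s) [Finite G] {b : G} (hb : b ∈ bau T ⊓ Q) :
    ∃ y ∈ Y T V, ∃ x ∈ cj s (bau T ⊓ Q), x ∈ bau T ⊓ Q ∧ b = y * x := by
  obtain ⟨y, hy, x, hx, e⟩ := h.split2 (mem_inf.1 hb).1
  refine ⟨y, hy, x, hx, ?_, e⟩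
  have : x = y⁻¹ * b := by rw [e]; group
  rw [this]
  exact mul_mem (inv_mem (h.Y_le_star hy)) hb

theorem Ysq (h : Sit H T Q V V1 V0 q s) [Finite G] {y : G} (hy : y ∈ Y T V) : y * y = 1 := by
  have := elem_sq h.dd.Y_elem y hy
  rwa [pow_two] at this

/-- squares of elements of `B ∩ Q` are squares of elements of `(B ∩ Q)^s` -/
theorem sq_star (h : Sit H T Q V V1 V0 q s) [Finite G] {b : G} (hb : b ∈ bau T ⊓ Q) :
    ∃ x ∈ cj s (bau T ⊓ Q), b * b = x * x := by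
  obtain ⟨y, hy, x, hx, hx', rfl⟩ := h.split3 hb
  refine ⟨x, hx, ?_⟩
  have h1 := (h.dd.mem_star_iff.1 hx').2 y hy
  calc y * x * (y * x) = y * (x * y) * x := by group
    _ = y * (y * x) * x := by rw [h1]
    _ = (y * y) * (x * x) := by group
    _ = x * x := by rw [h.Ysq hy, one_mul]

theorem sq_star' (h : Sit H T Q V V1 V0 q s) [Finite G] {b : G}
    (hb : b ∈ cj s (bau T ⊓ Q)) :
    ∃ x ∈ bau T ⊓ Q, b * b = x * x := by
  obtain ⟨b', hb', rfl⟩ := hb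
  obtain ⟨x, hx, e⟩ := h.sq_star hb'
  refine ⟨s * x * s⁻¹, ?_, ?_⟩
  · have : s * x * s⁻¹ ∈ cj s (cj s (bau T ⊓ Q)) := ⟨x, hx, rfl⟩
    rwa [h.cj_ss h.star_T] at this
  · simp only [MulEquiv.toMonoidHom_eq_coe, MonoidHom.coe_coe, MulAut.conj_apply]
    calc s * b' * s⁻¹ * (s * b' * s⁻¹) = s * (b' * b') * s⁻¹ := by group
      _ = s * (x * x) * s⁻¹ := by rw [e]
      _ = _ := by group

/-- `B ∩ Q` has exponent two. -/
theorem star_sq (h : Sit H T Q V V1 V0 q s) [Finite G] {b : G} (hb : b ∈ bau T ⊓ Q) :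
    b * b = 1 := by
  set R : Subgroup G := closure {x | ∃ c ∈ bau T ⊓ Q, x = c * c} with hR
  have hRT : R ≤ T := by
    rw [hR, closure_le]
    rintro _ ⟨c, hc, rfl⟩
    exact mul_mem (bau_le T (mem_inf.1 hc).1) (bau_le T (mem_inf.1 hc).1)
  have hR1 : R = ⊥ := by
    refine h.core R hRT ?_ ?_
    · intro g hg r hr
      have hle : R ≤ R.comap (MulAut.conj g).toMonoidHom := by
        nth_rewrite 1 [hR]
        rw [closure_le]
        rintro _ ⟨c, hc, rfl⟩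
        refine subset_closure ⟨g * c * g⁻¹, h.dd.star_norm g hg c hc, ?_⟩
        simp only [MulEquiv.toMonoidHom_eq_coe, MonoidHom.coe_coe, MulAut.conj_apply]
        group
      exact hle hr
    · intro r hr
      have hle : R ≤ R.comap (MulAut.conj s).toMonoidHom := by
        nth_rewrite 1 [hR]
        rw [closure_le]
        rintro _ ⟨c, hc, rfl⟩
        obtain ⟨x, hx, e⟩ := h.sq_star' (b := s * c * s⁻¹) ⟨c, hc, rfl⟩
        refine subset_closure ⟨x, hx, ?_⟩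
        rw [← e]
        simp only [MulEquiv.toMonoidHom_eq_coe, MonoidHom.coe_coe, MulAut.conj_apply]
        group
      exact hle hr
  have h1 : b * b ∈ R := subset_closure ⟨b, hb, rfl⟩
  rw [hR1] at h1
  exact mem_bot.1 h1

theorem star_comm (h : Sit H T Q V V1 V0 q s) [Finite G] {a b : G}
    (ha : a ∈ bau T ⊓ Q) (hb : b ∈ bau T ⊓ Q) : a * b = b * a := by
  have h1 := h.star_sq ha
  have h2 := h.star_sq hb
  have h3 := h.star_sq (mul_mem ha hb)
  calc a * b = a * 1 * b := by group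
    _ = a * (a * b * (a * b)) * b := by rw [h3]
    _ = (a * a) * (b * a) * (b * b) := by group
    _ = b * a := by rw [h1, h2]; group

/-- `B ∩ Q ∩ (B ∩ Q)^s ≤ Z`. -/
theorem E_le (h : Sit H T Q V V1 V0 q s) [Finite G] {e : G} (he : e ∈ bau T ⊓ Q)
    (he' : e ∈ cj s (bau T ⊓ Q)) : e ∈ zj T := by
  have hcB : ∀ b ∈ bau T, b * e = e * b := by
    intro b hb
    obtain ⟨u, hu, x, hx, rfl⟩ := h.split1 hb
    have h1 : x * e = e * x := h.star_comm hx he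
    have h2 : u * e = e * u := by
      obtain ⟨e', he2, rfl⟩ := he'
      obtain ⟨u', hu2, rfl⟩ := hu
      have h3 := h.star_comm (h.Y_le_star hu2) he2
      simp only [MulEquiv.toMonoidHom_eq_coe, MonoidHom.coe_coe, MulAut.conj_apply]
      calc s * u' * s⁻¹ * (s * e' * s⁻¹) = s * (u' * e') * s⁻¹ := by group
        _ = s * (e' * u') * s⁻¹ := by rw [h3]
        _ = _ := by group
    calc u * x * e = u * (x * e) := by group
      _ = (u * e) * x := by rw [h1]; group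
      _ = e * (u * x) := by rw [h2]; group
  have h2 : e ^ 2 = 1 := by rw [pow_two]; exact h.star_sq he
  have hc : ∀ y ∈ jj T, y * e = e * y := fun y hy => hcB y (jj_le_bau T hy)
  exact mem_zj.2 ⟨mem_jj_of_comm (bau_le T (mem_inf.1 he).1) h2 hc, h2, hc⟩

/-- **(4.2)** `B ∩ Q = Y`. -/
theorem star_eq (h : Sit H T Q V V1 V0 q s) [Finite G] : bau T ⊓ Q = Y T V := by
  apply le_antisymm _ h.Y_le_star
  intro b hb
  obtain ⟨y, hy, x, hx, hx', rfl⟩ := h.split3 hb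
  exact mul_mem hy (Z_le_Y T V (h.E_le hx' hx))

/-- `B = Y^s Y` -/
theorem split (h : Sit H T Q V V1 V0 q s) [Finite G] {b : G} (hb : b ∈ bau T) :
    ∃ u ∈ cj s (Y T V), ∃ y ∈ Y T V, b = u * y := by
  obtain ⟨u, hu, x, hx, rfl⟩ := h.split1 hb
  rw [h.star_eq] at hx
  exact ⟨u, hu, x, hx, rfl⟩

theorem split' (h : Sit H T Q V V1 V0 q s) [Finite G] {b : G} (hb : b ∈ bau T) :
    ∃ y ∈ Y T V, ∃ u ∈ cj s (Y T V), b = y * u := by
  obtain ⟨y, hy, x, hx, rfl⟩ := h.split2 hb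
  rw [h.star_eq] at hx
  exact ⟨y, hy, x, hx, rfl⟩

theorem inf_eq (h : Sit H T Q V V1 V0 q s) [Finite G] : Y T V ⊓ cj s (Y T V) = zj T := by
  have := h.Ys_inf_star
  rw [h.star_eq, inf_comm] at this
  exact this

theorem B_cent_Z (h : Sit H T Q V V1 V0 q s) {b z : G} (hb : b ∈ bau T)
    (hz : z ∈ zj T) : b * z = z * b := ((mem_bau.1 hb).2 z hz).symm

/-- `Z(B) = Z`. -/
theorem center (h : Sit H T Q V V1 V0 q s) [Finite G] {x : G} (hx : x ∈ bau T)
    (hc : ∀ b ∈ bau T, x * b = b * x) : x ∈ zj T := by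
  have h1 : x ∈ bau T ⊓ Q :=
    h.dd.mem_star_iff.2 ⟨bau_le T hx, fun y hy => hc y (h.Y_le_B hy)⟩
  rw [h.star_eq] at h1
  exact h.Y_cent h1 fun u hu => (hc u (h.Ys_le_B hu)).symm

/-! ### Involutions and elementary abelian subgroups of `B` -/

theorem Ys_elem (h : Sit H T Q V V1 V0 q s) [Finite G] : IsElementaryAbelian 2 (cj s (Y T V)) :=
  isElementaryAbelian_map h.dd.Y_elem _

theorem Yss (h : Sit H T Q V V1 V0 q s) [Finite G] : cj s (cj s (Y T V)) = Y T V := h.cj_ss h.Y_T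

/-- An element of `B` not in `Y` has centraliser `Z` on `Y`. -/
theorem cent_Y' (h : Sit H T Q V V1 V0 q s) [Finite G] {b y : G} (hb : b ∈ bau T) (hbY : b ∉ Y T V)
    (hy : y ∈ Y T V) (hby : b * y = y * b) : y ∈ zj T := by
  refine h.dd.cent_Y hb (fun hQ => hbY ?_) hy hby
  rw [← h.star_eq]
  exact ⟨hb, hQ⟩

theorem cent_Ys' (h : Sit H T Q V V1 V0 q s) [Finite G] {b y : G} (hb : b ∈ bau T)
    (hbY : b ∉ cj s (Y T V)) (hy : y ∈ cj s (Y T V)) (hby : b * y = y * b) : y ∈ zj T := by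
  have h1 : s⁻¹ * b * s ∈ bau T := by
    rw [← mem_cj, h.cj_bau]; exact hb
  have h2 : s⁻¹ * b * s ∉ Y T V := fun hc => hbY (mem_cj.2 hc)
  have h3 := h.cent_Y' h1 h2 (mem_cj.1 hy) (by
    calc s⁻¹ * b * s * (s⁻¹ * y * s) = s⁻¹ * (b * y) * s := by group
      _ = s⁻¹ * (y * b) * s := by rw [hby]
      _ = _ := by group)
  rw [← mem_cj, h.cj_zj] at h3
  exact h3

/-- (4.3): elements of order `≤ 2` of `B` lie in `Y` or in `Y^s`. -/
theorem inv_mem_or (h : Sit H T Q V V1 V0 q s) [Finite G] {b : G} (hb : b ∈ bau T)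
    (hb2 : b * b = 1) : b ∈ Y T V ∨ b ∈ cj s (Y T V) := by
  obtain ⟨u, hu, y, hy, rfl⟩ := h.split hb
  have hu2 : u * u = 1 := by
    have := elem_sq h.Ys_elem u hu
    rwa [pow_two] at this
  have hy2 := h.Ysq hy
  have hcomm : u * y = y * u := by
    calc u * y = u * (u * y * (u * y)) * y := by rw [hb2]; group
      _ = (u * u) * (y * u) * (y * y) := by group
      _ = y * u := by rw [hu2, hy2]; group
  by_cases hyZ : y ∈ zj T
  · right
    exact mul_mem hu (h.Z_le_Ys hyZ)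
  · left
    refine mul_mem ?_ hy
    by_contra huY
    exact hyZ (h.cent_Y' (h.Ys_le_B hu) huY hy hcomm)

/-- a group is not the union of two proper subgroups -/
theorem le_or_le_of_union {E A C : Subgroup G} (hE : ∀ e ∈ E, e ∈ A ∨ e ∈ C) : E ≤ A ∨ E ≤ C := by
  by_contra hc
  push Not at hc
  obtain ⟨a, ha, haA⟩ := SetLike.not_le_iff_exists.1 hc.1
  obtain ⟨c, hc', hcC⟩ := SetLike.not_le_iff_exists.1 hc.2
  have haC := (hE a ha).resolve_left haA
  have hcA := (hE c hc').resolve_right hcC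
  rcases hE (a * c) (mul_mem ha hc') with h1 | h1
  · apply haA
    have := mul_mem h1 (inv_mem hcA)
    rwa [mul_inv_cancel_right] at this
  · apply hcC
    have := mul_mem (inv_mem haC) h1
    rwa [inv_mul_cancel_left] at this

/-- (4.3): elementary abelian subgroups of `B` lie in `Y` or in `Y^s`. -/
theorem elem_le (h : Sit H T Q V V1 V0 q s) [Finite G] {E : Subgroup G}
    (hE : IsElementaryAbelian 2 E) (hEB : E ≤ bau T) : E ≤ Y T V ∨ E ≤ cj s (Y T V) :=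
  le_or_le_of_union fun e he => h.inv_mem_or (hEB he) (by
    have := elem_sq hE e he
    rwa [pow_two] at this)

/-- `A(T) = {Y, Y^s}`. -/
theorem mem_AA (h : Sit H T Q V V1 V0 q s) [Finite G] {A : Subgroup G} :
    A ∈ AA T ↔ A = Y T V ∨ A = cj s (Y T V) := by
  have hcard : Nat.card (cj s (Y T V)) = Nat.card (Y T V) := card_cj s _
  have hYT : Y T V ≤ T := h.Y_le_B.trans (bau_le T)
  have hYsT : cj s (Y T V) ≤ T := h.Ys_le_B.trans (bau_le T)
  have key : ∀ A ∈ AA T, A = Y T V ∨ A = cj s (Y T V) := by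
    intro A hA
    rcases h.elem_le hA.1 ((le_jj hA).trans (jj_le_bau T)) with h1 | h1
    · left
      exact Subgroup.eq_of_le_of_card_ge h1 (hA.2.2 _ h.dd.Y_elem hYT)
    · right
      exact Subgroup.eq_of_le_of_card_ge h1 (hA.2.2 _ h.Ys_elem hYsT)
  refine ⟨key A, ?_⟩
  have hm : mm T = Nat.card (Y T V) := by
    obtain ⟨A, hA⟩ := AA_nonempty T
    rw [mm_eq hA]
    rcases key A hA with rfl | rfl
    · rfl
    · exact hcard
  rintro (rfl | rfl)
  · exact mem_AA_iff.2 ⟨h.dd.Y_elem, hYT, hm.le⟩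
  · exact mem_AA_iff.2 ⟨h.Ys_elem, hYsT, by rw [hcard, hm]⟩

theorem Y_mem_AA (h : Sit H T Q V V1 V0 q s) [Finite G] : Y T V ∈ AA T := h.mem_AA.2 (Or.inl rfl)

theorem Ys_mem_AA (h : Sit H T Q V V1 V0 q s) [Finite G] : cj s (Y T V) ∈ AA T :=
  h.mem_AA.2 (Or.inr rfl)

/-- `J(T) = B`. -/
theorem jj_eq_bau (h : Sit H T Q V V1 V0 q s) [Finite G] : jj T = bau T := by
  apply le_antisymm (jj_le_bau T)
  intro b hb
  obtain ⟨u, hu, y, hy, rfl⟩ := h.split hb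
  exact mul_mem (le_jj h.Ys_mem_AA hu) (le_jj h.Y_mem_AA hy)

theorem Y_ne_Ys (h : Sit H T Q V V1 V0 q s) [Finite G] : Y T V ≠ cj s (Y T V) := by
  intro e
  obtain ⟨u, hu, huQ⟩ := h.exists_u
  rw [← e] at hu
  exact huQ (h.dd.Y_le_Q hu)

/-! ### Commutators and squares -/

/-- all commutators `[y, b]`, `y ∈ Y`, lie in `D = [V, B] ≤ V1` -/
theorem comm_mem (h : Sit H T Q V V1 V0 q s) [Finite G] {b y : G} (hb : b ∈ bau T)
    (hy : y ∈ Y T V) : b * y * b⁻¹ * y⁻¹ ∈ V1 := by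
  obtain ⟨z, hz, v, hv, rfl⟩ := h.dd.mem_Y hy
  obtain ⟨j, hj, -, hact⟩ := h.dd.bau_act hb
  have h1 : b * v * b⁻¹ * v⁻¹ ∈ V1 := by
    rw [hact v hv]; exact h.dd.quad j hj v hv
  have h2 : b * z = z * b := h.B_cent_Z hb hz
  have e : b * (z * v) * b⁻¹ * (z * v)⁻¹ = z * (b * v * b⁻¹ * v⁻¹) * z⁻¹ := by
    calc b * (z * v) * b⁻¹ * (z * v)⁻¹ = (b * z) * v * b⁻¹ * v⁻¹ * z⁻¹ := by group
      _ = (z * b) * v * b⁻¹ * v⁻¹ * z⁻¹ := by rw [h2]
      _ = _ := by group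
  rw [e]
  have h3 : z * (b * v * b⁻¹ * v⁻¹) = (b * v * b⁻¹ * v⁻¹) * z :=
    (h.B_cent_Z (h.Y_le_B (V_le_Y T V (h.dd.V1V h1))) hz).symm
  rw [h3, mul_inv_cancel_right]
  exact h1

/-- the commutators of elements of `B` lie in `Z` -/
theorem comm_Z (h : Sit H T Q V V1 V0 q s) [Finite G] {a b : G} (ha : a ∈ bau T)
    (hb : b ∈ bau T) : a * b * a⁻¹ * b⁻¹ ∈ zj T := by
  have h1 : ∀ {a y : G}, a ∈ bau T → y ∈ Y T V → a * y * a⁻¹ * y⁻¹ ∈ zj T :=
    fun ha hy => h.dd.V1_le_Z (h.comm_mem ha hy)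
  have h2 : ∀ {a y : G}, a ∈ bau T → y ∈ cj s (Y T V) → a * y * a⁻¹ * y⁻¹ ∈ zj T := by
    intro a y ha hy
    have h3 : s⁻¹ * a * s ∈ bau T := by
      rw [← mem_cj, h.cj_bau]; exact ha
    have h4 := h1 h3 (mem_cj.1 hy)
    have e : s⁻¹ * a * s * (s⁻¹ * y * s) * (s⁻¹ * a * s)⁻¹ * (s⁻¹ * y * s)⁻¹ =
      s⁻¹ * (a * y * a⁻¹ * y⁻¹) * s := by group
    rw [e, ← mem_cj, h.cj_zj] at h4
    exact h4
  obtain ⟨u, hu, y, hy, rfl⟩ := h.split hb
  have e : a * (u * y) * a⁻¹ * (u * y)⁻¹ = (a * u * a⁻¹ * u⁻¹) * (u * (a * y * a⁻¹ * y⁻¹) * u⁻¹) := by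
    group
  rw [e]
  refine mul_mem (h2 ha hu) ?_
  have h3 := h1 ha hy
  rw [h.B_cent_Z (h.Ys_le_B hu) h3, mul_inv_cancel_right]
  exact h3

/-- squares of elements of `B` lie in `V1` -/
theorem sq_mem (h : Sit H T Q V V1 V0 q s) [Finite G] {b : G} (hb : b ∈ bau T) : b * b ∈ V1 := by
  obtain ⟨u, hu, y, hy, rfl⟩ := h.split hb
  have hu2 : u * u = 1 := by
    have := elem_sq h.Ys_elem u hu
    rwa [pow_two] at this
  have hy2 := h.Ysq hy
  have h1 := h.comm_mem (h.Ys_le_B hu) hy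
  have eu : u⁻¹ = u := inv_eq_of_mul_eq_one_left hu2
  have ey : y⁻¹ = y := inv_eq_of_mul_eq_one_left hy2
  rw [eu, ey] at h1
  have e : u * y * (u * y) = u * y * u * y := by group
  rw [e]
  exact h1

theorem comm_elem (h : Sit H T Q V V1 V0 q s) [Finite G] {a b : G} (ha : a ∈ bau T)
    (hb : b ∈ bau T) {z : G} (hz : z ∈ zj T) : a * b * z = z * (a * b) :=
  h.B_cent_Z (mul_mem ha hb) hz

end Sit

end Cfsg.Agent.Omega.SQ1.MatchOne

end

section


namespace Cfsg.Agent.Omega.SQ1.Kill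

open Subgroup
open scoped Pointwise

variable {G : Type*} [Group G]

/-- criterion for membership in a normaliser -/
theorem mem_norm {A : Subgroup G} {x : G} (h1 : ∀ a ∈ A, x * a * x⁻¹ ∈ A)
    (h2 : ∀ a ∈ A, x⁻¹ * a * x ∈ A) : x ∈ normalizer (A : Set G) := by
  rw [mem_normalizer_iff]
  intro a
  refine ⟨h1 a, fun h => ?_⟩
  have := h2 _ h
  simpa [mul_assoc] using this

theorem norm_conj {A : Subgroup G} {x a : G} (h : x ∈ normalizer (A : Set G)) (ha : a ∈ A) :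
    x * a * x⁻¹ ∈ A := (mem_normalizer_iff.1 h a).1 ha

theorem norm_conj' {A : Subgroup G} {x a : G} (h : x ∈ normalizer (A : Set G)) (ha : a ∈ A) :
    x⁻¹ * a * x ∈ A := by
  have := norm_conj (inv_mem h) ha
  simpa using this

theorem norm_inf {A B : Subgroup G} {x : G} (h : x ∈ normalizer (A : Set G))
    (h' : x ∈ normalizer (B : Set G)) : x ∈ normalizer ((A ⊓ B : Subgroup G) : Set G) :=
  mem_norm (fun _ ha => ⟨norm_conj h ha.1, norm_conj h' ha.2⟩)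
    (fun _ ha => ⟨norm_conj' h ha.1, norm_conj' h' ha.2⟩)

theorem norm_self {A : Subgroup G} {x : G} (h : x ∈ normalizer (A : Set G)) :
    x ∈ normalizer ((normalizer (A : Set G) : Subgroup G) : Set G) := le_normalizer h

theorem mem_sup_norm {A B : Subgroup G} (h : B ≤ normalizer (A : Set G)) {g : G}
    (hg : g ∈ A ⊔ B) : ∃ r ∈ A, ∃ b ∈ B, g = r * b := by
  have h1 : g ∈ (A : Set G) * (B : Set G) := by
    rw [← coe_mul_of_right_le_normalizer_left A B h]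
    exact hg
  obtain ⟨r, hr, b, hb, rfl⟩ := Set.mem_mul.1 h1
  exact ⟨r, hr, b, hb, rfl⟩

/-- an element of odd order which centralises `[r, x]` centralises `r`. -/
theorem comm_of_odd {x r : G} {n : ℕ} (hxn : x ^ n = 1) (hn : Odd n)
    {R : Subgroup G} (hR : IsPGroup 2 R) (hc : x * r * x⁻¹ * r⁻¹ ∈ R)
    (hcx : x * (x * r * x⁻¹ * r⁻¹) = (x * r * x⁻¹ * r⁻¹) * x) : x * r = r * x := by
  set c : G := x * r * x⁻¹ * r⁻¹ with hcdef
  have h1 : x * r * x⁻¹ = c * r := by rw [hcdef]; group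
  have hcx' : ∀ k : ℕ, x * c ^ k = c ^ k * x := fun k =>
    ((show Commute x c from hcx).pow_right k).eq
  have key : ∀ k : ℕ, x ^ k * r * (x ^ k)⁻¹ = c ^ k * r := by
    intro k
    induction k with
    | zero => simp
    | succ k ih =>
      have : x ^ (k + 1) * r * (x ^ (k + 1))⁻¹ = x * (x ^ k * r * (x ^ k)⁻¹) * x⁻¹ := by
        rw [pow_succ']; group
      rw [this, ih]
      calc x * (c ^ k * r) * x⁻¹ = (x * c ^ k) * r * x⁻¹ := by group
        _ = c ^ k * (x * r * x⁻¹) := by rw [hcx' k]; group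
        _ = c ^ (k + 1) * r := by rw [h1, pow_succ]; group
  have h2 : c ^ n = 1 := by
    have := key n
    rw [hxn] at this
    simpa using this.symm
  have h3 : orderOf c ∣ n := orderOf_dvd_of_pow_eq_one h2
  obtain ⟨k, hk⟩ := hR ⟨c, hc⟩
  have h4 : orderOf c ∣ 2 ^ k := by
    apply orderOf_dvd_of_pow_eq_one
    simpa using congrArg Subtype.val hk
  have h5 : Nat.Coprime (2 ^ k) n := Nat.Coprime.pow_left _ (Nat.coprime_two_left.2 hn)
  have h6 : orderOf c = 1 := Nat.eq_one_of_dvd_coprimes h5 h4 h3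
  have h7 : c = 1 := orderOf_eq_one_iff.1 h6
  rw [h7, one_mul] at h1
  rw [mul_inv_eq_iff_eq_mul] at h1
  exact h1


/-- the subgroup of `B` commuting with all blocks `X i`. -/
def bh {ι : Type*} (B : Subgroup G) (X : ι → Subgroup G) : Subgroup G :=
  B ⊓ ⨅ i, centralizer (X i : Set G)

theorem mem_bh {ι : Type*} {B : Subgroup G} {X : ι → Subgroup G} {b : G} :
    b ∈ bh B X ↔ b ∈ B ∧ ∀ i, ∀ x ∈ X i, x * b = b * x := by
  unfold bh
  rw [mem_inf, mem_iInf]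
  simp only [mem_centralizer_iff, SetLike.mem_coe]

/-- Data of the killing lemma. -/
structure Data {ι : Type*} (B R : Subgroup G) (Q V X : ι → Subgroup G) : Prop where
  /-- `B` is a 2-group -/
  two : IsPGroup 2 B
  /-- `B` normalises the `Q i` -/
  BQ : ∀ i, B ≤ normalizer (Q i : Set G)
  /-- the block acts on `Q i` -/
  XQ : ∀ i, X i ≤ normalizer (Q i : Set G)
  /-- `B` normalises `Bh` -/
  BBh : B ≤ normalizer (bh B X : Set G)
  /-- `R = O_2(N_G(Bh))` -/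
  Rtwo : IsPGroup 2 R
  RBh : R ≤ normalizer (bh B X : Set G)
  norm : normalizer (bh B X : Set G) ≤ normalizer (R : Set G)
  BhR : bh B X ≤ R
  /-- characteristic 2 -/
  char2 : centralizer (R : Set G) ≤ R
  /-- the local structure of `N_G(Q i)` -/
  loc : ∀ i, ∀ F : Subgroup G, IsPGroup 2 F → F ≤ normalizer (Q i : Set G) →
    X i ≤ normalizer (F : Set G) → B ≤ normalizer (F : Set G) →
    (∀ x ∈ X i, ∀ f ∈ F, x * f = f * x) ∨ V i ≤ F
  /-- `R` contains no `V i` -/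
  kick : ∀ i, ¬ V i ≤ R
  /-- `B = J(P)` -/
  grow : ∀ P : Subgroup G, IsPGroup 2 P → B ≤ P → P ≤ normalizer (B : Set G) →
    (∀ i, P ≤ normalizer (Q i : Set G)) → normalizer (P : Set G) ≤ normalizer (B : Set G)
  /-- splitting of `B` over `Bh` -/
  tw : ∀ x ∈ normalizer (B : Set G), (∀ c ∈ bh B X, x * c = c * x) →
    (∀ b ∈ B, x * b * x⁻¹ * b⁻¹ ∈ bh B X) → ∀ i, x ∈ normalizer (Q i : Set G)

/-- **THE KILLING LEMMA**: every block is generated by elements of odd order, hence trivial. -/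
theorem Data.false [Finite G] {ι : Type*} {B R : Subgroup G} {Q V X : ι → Subgroup G}
    (D : Data B R Q V X) (i : ι) {x : G} (hx : x ∈ X i) {n : ℕ} (hxn : x ^ n = 1) (hn : Odd n)
    (hx1 : x ≠ 1) : False := by
  set Bh := bh B X with hBh
  have XBh : ∀ j, X j ≤ normalizer (Bh : Set G) := by
    intro j y hy
    rw [mem_normalizer_iff]
    have hle : ∀ c ∈ Bh, y * c * y⁻¹ = c := by
      intro c hc
      have := (mem_bh.1 hc).2 j y hy
      rw [this]; group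
    intro c
    refine ⟨fun hc => ?_, fun hc => ?_⟩
    · rw [hle c hc]; exact hc
    · have h1 := (mem_bh.1 hc).2 j y hy
      have h2 : y * c = c * y := by
        have : y * (y * c * y⁻¹) * y⁻¹ = y * c * y⁻¹ := by rw [h1]; group
        have h3 : y * c * y⁻¹ = c := by
          have h4 := congrArg (fun t => y⁻¹ * t * y) this
          simpa [mul_assoc] using h4
        calc y * c = (y * c * y⁻¹) * y := by group
          _ = c * y := by rw [h3]
      have h3 : y * c * y⁻¹ = c := by rw [h2]; group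
      rw [h3] at hc; exact hc
  -- conjugation lemmas
  have hXR : ∀ j, X j ≤ normalizer (R : Set G) := fun j => (XBh j).trans D.norm
  have hBR : B ≤ normalizer (R : Set G) := D.BBh.trans D.norm
  -- 1. `N_R(Q j)` is centralised by `X j`
  have step1 : ∀ j, ∀ y ∈ X j, ∀ f ∈ R ⊓ normalizer (Q j : Set G), y * f = f * y := by
    intro j
    have h := D.loc j (R ⊓ normalizer (Q j : Set G)) (D.Rtwo.to_le inf_le_left) inf_le_right ?_ ?_
    · rcases h with h | h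
      · exact h
      · exact absurd (h.trans inf_le_left) (D.kick j)
    · intro y hy
      exact norm_inf (hXR j hy) (norm_self (D.XQ j hy))
    · intro y hy
      exact norm_inf (hBR hy) (norm_self (D.BQ j hy))
  -- 2. `R ∩ B = Bh`
  have step2 : ∀ r ∈ R, r ∈ B → r ∈ Bh := by
    intro r hr hrB
    refine mem_bh.2 ⟨hrB, fun j y hy => ?_⟩
    exact step1 j y hy r ⟨hr, D.BQ j hrB⟩
  -- 3. `C_0 = C_R(Bh) ∩ N(B)` is centralised by the `X j`
  have step3n : ∀ r ∈ R, (∀ c ∈ Bh, r * c = c * r) → r ∈ normalizer (B : Set G) →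
      ∀ j, r ∈ normalizer (Q j : Set G) := by
    intro r hr hrc hrB
    refine D.tw r hrB hrc fun b hb => ?_
    refine step2 _ ?_ ?_
    · have h1 := (mem_normalizer_iff.1 (hBR hb)) r⁻¹
      have h2 : b * r⁻¹ * b⁻¹ ∈ R := h1.1 (inv_mem hr)
      have : r * b * r⁻¹ * b⁻¹ = r * (b * r⁻¹ * b⁻¹) := by group
      rw [this]; exact mul_mem hr h2
    · have h1 : r * b * r⁻¹ ∈ B := (mem_normalizer_iff.1 hrB b).1 hb
      exact mul_mem h1 (inv_mem hb)
  -- the subgroup `R_0`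
  set R₀ : Subgroup G := R ⊓ centralizer (Bh : Set G) with hR₀
  have memR₀ : ∀ r, r ∈ R₀ ↔ r ∈ R ∧ ∀ c ∈ Bh, r * c = c * r := by
    intro r
    rw [hR₀, mem_inf, mem_centralizer_iff]
    refine and_congr Iff.rfl ?_
    constructor
    · intro h c hc; exact (h c hc).symm
    · intro h c hc; exact (h c hc).symm
  have BR₀ : B ≤ normalizer (R₀ : Set G) := by
    intro b hb
    have h1 := hBR hb
    have h2 := D.BBh hb
    have key : ∀ r, r ∈ R₀ → b * r * b⁻¹ ∈ R₀ := by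
      intro r hr
      obtain ⟨hr1, hr2⟩ := (memR₀ r).1 hr
      refine (memR₀ _).2 ⟨(mem_normalizer_iff.1 h1 r).1 hr1, fun c hc => ?_⟩
      have h3 : b⁻¹ * c * b ∈ Bh := by
        have := (mem_normalizer_iff.1 h2 (b⁻¹ * c * b)).2
        apply this
        have e : b * (b⁻¹ * c * b) * b⁻¹ = c := by group
        rw [e]; exact hc
      have h4 := hr2 _ h3
      calc b * r * b⁻¹ * c = b * (r * (b⁻¹ * c * b)) * b⁻¹ := by group
        _ = b * ((b⁻¹ * c * b) * r) * b⁻¹ := by rw [h4]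
        _ = c * (b * r * b⁻¹) := by group
    have key' : ∀ r, r ∈ R₀ → b⁻¹ * r * b ∈ R₀ := by
      intro r hr
      obtain ⟨hr1, hr2⟩ := (memR₀ r).1 hr
      have hb' : b⁻¹ ∈ B := inv_mem hb
      have h1' := hBR hb'
      refine (memR₀ _).2 ⟨by simpa using (mem_normalizer_iff.1 h1' r).1 hr1, fun c hc => ?_⟩
      have h3 : b * c * b⁻¹ ∈ Bh := (mem_normalizer_iff.1 h2 c).1 hc
      have h4 := hr2 _ h3
      calc b⁻¹ * r * b * c = b⁻¹ * (r * (b * c * b⁻¹)) * b := by group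
        _ = b⁻¹ * ((b * c * b⁻¹) * r) * b := by rw [h4]
        _ = c * (b⁻¹ * r * b) := by group
    rw [mem_normalizer_iff]
    intro r
    refine ⟨key r, fun h => ?_⟩
    have := key' _ h
    simpa [mul_assoc] using this
  -- 4. `R_0` normalises `B`
  have step4 : R₀ ≤ normalizer (B : Set G) := by
    set C₀ : Subgroup G := R₀ ⊓ normalizer (B : Set G) with hC₀
    set P : Subgroup G := C₀ ⊔ B with hP
    have hBC₀ : B ≤ normalizer (C₀ : Set G) := by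
      intro b hb
      exact norm_inf (BR₀ hb) (norm_self (le_normalizer hb))
    have hR₀two : IsPGroup 2 R₀ := D.Rtwo.to_le inf_le_left
    have hPtwo : IsPGroup 2 P := by
      rw [hP]
      exact IsPGroup.to_sup_of_normal_left' (hR₀two.to_le inf_le_left) D.two hBC₀
    have hPB : P ≤ normalizer (B : Set G) := sup_le inf_le_right le_normalizer
    have hPQ : ∀ j, P ≤ normalizer (Q j : Set G) := by
      intro j
      refine sup_le ?_ (D.BQ j)
      intro r hr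
      obtain ⟨hr1, hr2⟩ := mem_inf.1 hr
      obtain ⟨hr3, hr4⟩ := (memR₀ r).1 hr1
      exact step3n r hr3 hr4 hr2 j
    have hgrow := D.grow P hPtwo le_sup_right hPB hPQ
    set P₁ : Subgroup G := R₀ ⊔ B with hP₁
    have hP₁two : IsPGroup 2 P₁ := IsPGroup.to_sup_of_normal_left' hR₀two D.two BR₀
    have hPP₁ : P ≤ P₁ := sup_le_sup_right inf_le_left B
    have hmem₁ : ∀ g ∈ P₁, ∃ r ∈ R₀, ∃ b ∈ B, g = r * b := by
      intro g hg
      exact mem_sup_norm BR₀ hg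
    have hnorm : ∀ g ∈ P₁, g ∈ normalizer (P : Set G) → g ∈ P := by
      intro g hg hgN
      obtain ⟨r, hr, b, hb, rfl⟩ := hmem₁ g hg
      have hb' : b ∈ P := le_sup_right (a := C₀) hb
      have h1 : r ∈ normalizer (P : Set G) := by
        have := mul_mem hgN (inv_mem (le_normalizer hb'))
        simpa [mul_assoc] using this
      have h2 : r ∈ C₀ := ⟨hr, hgrow h1⟩
      exact mul_mem (le_sup_left (b := B) h2) hb'
    have heq : P₁ ≤ P := by
      have : Group.IsNilpotent P₁ := hP₁two.isNilpotent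
      have hnc := Group.normalizerCondition_of_isNilpotent (G := P₁)
      by_contra hne
      have hlt : P.subgroupOf P₁ < ⊤ := by
        rw [lt_top_iff_ne_top, Ne, subgroupOf_eq_top]
        exact hne
      have hlt2 := hnc _ hlt
      obtain ⟨g, hg1, hg2⟩ := SetLike.exists_of_lt hlt2
      apply hg2
      rw [mem_subgroupOf]
      refine hnorm g g.2 ?_
      rw [mem_normalizer_iff] at hg1 ⊢
      intro y
      constructor
      · intro hy
        have := (hg1 ⟨y, hPP₁ hy⟩).1 (mem_subgroupOf.2 hy)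
        simpa [mem_subgroupOf] using this
      · intro hy
        have hy1 : y ∈ P₁ := by
          have h3 := mul_mem (mul_mem (inv_mem g.2) (hPP₁ hy)) g.2
          simpa [mul_assoc] using h3
        have := (hg1 ⟨y, hy1⟩).2 (mem_subgroupOf.2 (by simpa using hy))
        simpa [mem_subgroupOf] using this
    exact (le_sup_left.trans heq).trans hPB
  -- 5.
  have step5 : ∀ r ∈ R₀, ∀ j, ∀ y ∈ X j, y * r = r * y := by
    intro r hr j y hy
    obtain ⟨hr1, hr2⟩ := (memR₀ r).1 hr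
    exact step1 j y hy r ⟨hr1, step3n r hr1 hr2 (step4 hr) j⟩
  -- 6. `x` centralises `R`
  have step6 : x ∈ centralizer (R : Set G) := by
    rw [mem_centralizer_iff]
    intro r hr
    have hxR := hXR i hx
    have hc : x * r * x⁻¹ * r⁻¹ ∈ R := mul_mem ((mem_normalizer_iff.1 hxR r).1 hr) (inv_mem hr)
    have hc0 : x * r * x⁻¹ * r⁻¹ ∈ R₀ := by
      refine (memR₀ _).2 ⟨hc, fun c hcB => ?_⟩
      have hcx : x * c = c * x := (mem_bh.1 hcB).2 i x hx
      have hrN := D.RBh hr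
      have h3 : r⁻¹ * c * r ∈ Bh := by
        have := (mem_normalizer_iff.1 hrN (r⁻¹ * c * r)).2
        apply this
        have e : r * (r⁻¹ * c * r) * r⁻¹ = c := by group
        rw [e]; exact hcB
      have h4 : x * (r⁻¹ * c * r) = (r⁻¹ * c * r) * x := (mem_bh.1 h3).2 i x hx
      have hcx' : x⁻¹ * c = c * x⁻¹ := by
        rw [inv_mul_eq_iff_eq_mul, ← mul_assoc, hcx, mul_assoc, mul_inv_cancel, mul_one]
      calc x * r * x⁻¹ * r⁻¹ * c = x * r * x⁻¹ * (r⁻¹ * c * r) * r⁻¹ := by group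
        _ = x * r * (x⁻¹ * ((r⁻¹ * c * r) * x)) * x⁻¹ * r⁻¹ := by group
        _ = x * r * (x⁻¹ * (x * (r⁻¹ * c * r))) * x⁻¹ * r⁻¹ := by rw [h4]
        _ = (x * c) * r * x⁻¹ * r⁻¹ := by group
        _ = c * (x * r * x⁻¹ * r⁻¹) := by rw [hcx]; group
    exact (comm_of_odd hxn hn D.Rtwo hc (step5 _ hc0 i x hx)).symm
  have hxR : x ∈ R := D.char2 step6
  obtain ⟨k, hk⟩ := D.Rtwo ⟨x, hxR⟩
  have h4 : orderOf x ∣ 2 ^ k := by
    apply orderOf_dvd_of_pow_eq_one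
    simpa using congrArg Subtype.val hk
  have h5 : Nat.Coprime (2 ^ k) n := Nat.Coprime.pow_left _ (Nat.coprime_two_left.2 hn)
  exact hx1 (orderOf_eq_one_iff.1 (Nat.eq_one_of_dvd_coprimes h5 h4 (orderOf_dvd_of_pow_eq_one hxn)))

end Cfsg.Agent.Omega.SQ1.Kill

end

section


/-!
# SQ1, one block, `b = 1`, `q ≥ 4`: the 2-group `T` acts semilinearly (text 2, (4.5))

`Mid F H T B Y Z C L s`: `L / Y = SL₂(F)`, `Y / C` is a natural module, `B / Y` is the group of upper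
unitriangular matrices, `Z / C` its fixed line, `s` normalises `T`, `B = Y Y^s`, `Y ∩ Y^s = Z`,
`C ∩ C^s = 1`, `C_T(Z) = B`.

* `Mid.exists_tw`: `t ∈ T` acts on `Z/C`, `Y/Z`, `B/Y` by `x ↦ a σ(x)`, `x ↦ d σ(x)`,
  `x ↦ (a/d) σ(x)`;
* `Mid.mem_B`: `σ = 1` if and only if `t ∈ B`;
* `Mid.uniq`, `Mid.free_*`: the fields of `End.Base`.
-/

set_option autoImplicit false
set_option linter.unusedSectionVars false
set_option linter.unusedVariables false

namespace Cfsg.Agent.Omega.SQ1.MidOne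

open Subgroup Cfsg Cfsg.Agent.ZN Cfsg.Agent.ZN.ChoiceBase
open Cfsg.Agent.Omega.NatPair Cfsg.Agent.Lib.SL2Mat
open Cfsg.Agent.Omega.SQ1.FFOne
open scoped Pointwise

universe u

variable {G : Type u} [Group G]

/-- One block `L` with its natural module `Y / C`, and the switching element `s`. -/
structure Mid (F : Type*) [Field F] (H T B Y Z C L : Subgroup G) (s : G) extends
    NatSec F H Y C where
  TH : T ≤ H
  LH : L ≤ H
  BT : B ≤ T
  BL : B ≤ L
  YB : Y ≤ B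
  ZY : Z ≤ Y
  two : IsPGroup 2 T
  TL : ∀ t ∈ T, ∀ l ∈ L, t * l * t⁻¹ ∈ L
  TB : ∀ t ∈ T, ∀ b ∈ B, t * b * t⁻¹ ∈ B
  TZ : ∀ t ∈ T, ∀ z ∈ Z, t * z * t⁻¹ ∈ Z
  ind : ∀ l ∈ L, ∃ A : Matrix.SpecialLinearGroup (Fin 2) F, ∀ v ∈ Y, π (l * v * l⁻¹) = ap A (π v)
  liftL : ∀ A : Matrix.SpecialLinearGroup (Fin 2) F, ∃ l ∈ L, ∀ v ∈ Y, π (l * v * l⁻¹) = ap A (π v)
  kerL : ∀ l ∈ L, (∀ v ∈ Y, π (l * v * l⁻¹) = π v) → l ∈ Y
  upB : ∀ b ∈ B, ∃ c : F, ∀ v ∈ Y, π (b * v * b⁻¹) = ap (up c) (π v)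
  cup : ∀ c : F, ∃ b ∈ B, ∀ v ∈ Y, π (b * v * b⁻¹) = ap (up c) (π v)
  Zpi : ∀ y ∈ Y, y ∈ Z ↔ π y 1 = 0
  cC : ∀ c, c ∈ C ↔ c ∈ Y ∧ ∀ l ∈ L, l * c = c * l
  Ycomm : ∀ x ∈ Y, ∀ y ∈ Y, x * y = y * x
  Ysq : ∀ y ∈ Y, y * y = 1
  BcZ : ∀ b ∈ B, ∀ z ∈ Z, b * z = z * b
  cent : ∀ t ∈ T, (∀ z ∈ Z, t * z = z * t) → t ∈ B
  sT : ∀ t ∈ T, s * t * s⁻¹ ∈ T
  ss : s * s ∈ T
  sB : ∀ b ∈ B, s * b * s⁻¹ ∈ B
  sZ : ∀ z ∈ Z, s * z * s⁻¹ ∈ Z
  prod : ∀ b ∈ B, ∃ y ∈ Y, ∃ y' ∈ Y, b = y * (s * y' * s⁻¹)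
  inf : ∀ y ∈ Y, s * y * s⁻¹ ∈ Y → y ∈ Z
  CC : ∀ c ∈ C, s * c * s⁻¹ ∈ C → c = 1

namespace Mid

variable {F : Type*} [Field F] {H T B Y Z C L : Subgroup G} {s : G}

section

variable (M : Mid F H T B Y Z C L s)

include M

theorem TY {t y : G} (ht : t ∈ T) (hy : y ∈ Y) : t * y * t⁻¹ ∈ Y := M.Vn t (M.TH ht) y hy

theorem LY {l y : G} (hl : l ∈ L) (hy : y ∈ Y) : l * y * l⁻¹ ∈ Y := M.Vn l (M.LH hl) y hy

theorem YT : Y ≤ T := M.YB.trans M.BT

theorem YL : Y ≤ L := M.YB.trans M.BL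

theorem CY : C ≤ Y := M.V0V

theorem CZ : C ≤ Z := fun c hc => (M.Zpi c (M.CY hc)).2 (by
  rw [(M.ker c (M.CY hc)).2 hc]; rfl)

theorem inv_sq {y : G} (hy : y ∈ Y) : y⁻¹ = y := inv_eq_of_mul_eq_one_right (M.Ysq y hy)

theorem piY {y : G} (hy : y ∈ Y) (v : G) (hv : v ∈ Y) : M.π (y * v * y⁻¹) = M.π v := by
  rw [M.Ycomm y hy v hv, mul_inv_cancel_right]

/-- the parameter of `b ∈ B` -/
noncomputable def β (b : G) : F :=
  by classical exact if h : b ∈ B then (M.upB b h).choose else 0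

theorem β_spec {b : G} (hb : b ∈ B) {v : G} (hv : v ∈ Y) :
    M.π (b * v * b⁻¹) = ap (up (M.β b)) (M.π v) := by
  have h := (M.upB b hb).choose_spec v hv
  have e : M.β b = (M.upB b hb).choose := by rw [β, dif_pos hb]
  rw [e]; exact h

theorem ind_β {b : G} (hb : b ∈ B) : M.Ind b (up (M.β b)) := fun _ hv => M.β_spec hb hv

theorem ap_up_one (c : F) (x : Fin 2 → F) : ap (up c) x 1 = x 1 := by
  rw [ap_one', up_10, up_11]; ring

theorem ap_up_zero (c : F) (x : Fin 2 → F) : ap (up c) x 0 = x 0 + c * x 1 := by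
  rw [ap_zero', up_00, up_01]; ring

theorem β_eq {b : G} (hb : b ∈ B) {c : F} (hc : M.Ind b (up c)) : M.β b = c :=
  up_inj (M.ind_unique (M.LH (M.BL hb)) (M.ind_β hb) hc)

theorem β_mul {b b' : G} (hb : b ∈ B) (hb' : b' ∈ B) : M.β (b * b') = M.β b + M.β b' := by
  apply M.β_eq (mul_mem hb hb')
  have h := M.ind_mul (M.LH (M.BL hb)) (M.LH (M.BL hb')) (M.ind_β hb) (M.ind_β hb')
  rwa [up_mul] at h

theorem β_inv {b : G} (hb : b ∈ B) : M.β b⁻¹ = - M.β b := by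
  apply M.β_eq (inv_mem hb)
  have h := M.ind_inv (M.LH (M.BL hb)) (M.ind_β hb)
  rwa [up_inv] at h

theorem β_zero_iff {b : G} (hb : b ∈ B) : M.β b = 0 ↔ b ∈ Y := by
  constructor
  · intro h
    apply M.kerL b (M.BL hb)
    intro v hv
    rw [M.β_spec hb hv, h, up_zero, ap_one]
  · intro h
    apply M.β_eq hb
    intro v hv
    rw [M.piY h v hv, up_zero, ap_one]

theorem β_surj (c : F) : ∃ b ∈ B, M.β b = c := by
  obtain ⟨b, hb, h⟩ := M.cup c
  exact ⟨b, hb, M.β_eq hb h⟩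

theorem tY_iff {t y : G} (ht : t ∈ T) : t * y * t⁻¹ ∈ Y ↔ y ∈ Y := by
  constructor
  · intro h
    have h1 := M.TY (inv_mem ht) h
    have e : t⁻¹ * (t * y * t⁻¹) * t⁻¹⁻¹ = y := by group
    rwa [e] at h1
  · exact M.TY ht

end

/-- `t` acts as `x ↦ a σ(x)` on `Z/C`, as `x ↦ d σ(x)` on `Y/Z`. -/
structure Tw (M : Mid F H T B Y Z C L s) (t : G) (σ : F ≃+* F) (a d : F) : Prop where
  a0 : a ≠ 0
  d0 : d ≠ 0
  one : ∀ v ∈ Y, M.π (t * v * t⁻¹) 1 = d * σ (M.π v 1)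
  zero : ∀ z ∈ Z, M.π (t * z * t⁻¹) 0 = a * σ (M.π z 0)
  bet : ∀ b ∈ B, d * M.β (t * b * t⁻¹) = a * σ (M.β b)

section

variable (M : Mid F H T B Y Z C L s)

theorem exists_tw [Finite F] {t : G} (ht : t ∈ T) : ∃ σ a d, M.Tw t σ a d := by
  have htH := M.TH ht
  obtain ⟨σ, hσ⟩ := M.exists_semi htH
  obtain ⟨z₁, hz₁, e₁⟩ := M.surj ![1, 0]
  obtain ⟨y₂, hy₂, e₂⟩ := M.surj ![0, 1]
  have hz₁Z : z₁ ∈ Z := (M.Zpi z₁ hz₁).2 (by rw [e₁]; rfl)
  set w₁ := M.act t ![1, 0] with hw₁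
  set w₂ := M.act t ![0, 1] with hw₂
  have hw₁1 : w₁ 1 = 0 := by
    rw [hw₁, ← e₁, M.act_π htH hz₁]
    exact (M.Zpi _ (M.TY ht hz₁)).1 (M.TZ t ht z₁ hz₁Z)
  have hact : ∀ x : Fin 2 → F, M.act t x = σ (x 0) • w₁ + σ (x 1) • w₂ := by
    intro x
    have e : x = x 0 • ![1, 0] + x 1 • ![0, 1] := by
      apply ext2
      · simp
      · simp
    conv_lhs => rw [e]
    rw [M.act_add htH, hσ, hσ]
  have hone : ∀ x : Fin 2 → F, M.act t x 1 = w₂ 1 * σ (x 1) := by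
    intro x
    rw [hact, Pi.add_apply, Pi.smul_apply, Pi.smul_apply, hw₁1, smul_eq_mul, smul_eq_mul]; ring
  have hzero : ∀ x : Fin 2 → F, x 1 = 0 → M.act t x 0 = w₁ 0 * σ (x 0) := by
    intro x hx
    rw [hact, hx, map_zero, zero_smul, add_zero, Pi.smul_apply, smul_eq_mul]; ring
  have ha0 : w₁ 0 ≠ 0 := by
    intro h0
    have h1 : w₁ = 0 := ext2 h0 hw₁1
    have h2 := M.act_inv_act htH ![1, 0]
    rw [← hw₁, h1, M.act_zero (inv_mem htH)] at h2
    have h3 := congrFun h2 0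
    simp at h3
  have hd0 : w₂ 1 ≠ 0 := by
    intro h0
    have h1 := M.act_act_inv htH ![0, 1]
    have h2 := hone (M.act t⁻¹ ![0, 1])
    rw [h1, h0, zero_mul] at h2
    simp at h2
  refine ⟨σ, w₁ 0, w₂ 1, ha0, hd0, ?_, ?_, ?_⟩
  · intro v hv
    rw [← M.act_π htH hv, hone]
  · intro z hz
    have hzY := M.ZY hz
    rw [← M.act_π htH hzY, hzero _ ((M.Zpi z hzY).1 hz)]
  · intro b hb
    have hb' := M.TB t ht b hb
    have h1 := M.β_spec hb' (M.TY ht hy₂)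
    have e3 : t * b * t⁻¹ * (t * y₂ * t⁻¹) * (t * b * t⁻¹)⁻¹ = t * (b * y₂ * b⁻¹) * t⁻¹ := by group
    have hb2 := M.LY (M.BL hb) hy₂
    rw [e3, ← M.act_π htH hb2, ← M.act_π htH hy₂, M.β_spec hb hy₂, e₂] at h1
    have h2 := congrFun h1 0
    rw [M.ap_up_zero, hone, hact, hact, Pi.add_apply, Pi.add_apply] at h2
    simp only [Pi.smul_apply, smul_eq_mul, M.ap_up_zero, M.ap_up_one] at h2
    simp at h2
    linear_combination -h2

variable {M}

theorem Tw.mul {t t' : G} {σ σ' : F ≃+* F} {a a' d d' : F} (h : M.Tw t σ a d)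
    (h' : M.Tw t' σ' a' d') (ht : t ∈ T) (ht' : t' ∈ T) :
    M.Tw (t * t') (σ'.trans σ) (a * σ a') (d * σ d') where
  a0 := mul_ne_zero h.a0 (by simpa using h'.a0)
  d0 := mul_ne_zero h.d0 (by simpa using h'.d0)
  one := by
    intro v hv
    have e : t * t' * v * (t * t')⁻¹ = t * (t' * v * t'⁻¹) * t⁻¹ := by group
    rw [e, h.one _ (M.TY ht' hv), h'.one v hv, map_mul, RingEquiv.trans_apply, mul_assoc]
  zero := by
    intro z hz
    have e : t * t' * z * (t * t')⁻¹ = t * (t' * z * t'⁻¹) * t⁻¹ := by group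
    rw [e, h.zero _ (M.TZ t' ht' z hz), h'.zero z hz, map_mul, RingEquiv.trans_apply, mul_assoc]
  bet := by
    intro b hb
    have e : t * t' * b * (t * t')⁻¹ = t * (t' * b * t'⁻¹) * t⁻¹ := by group
    have h1 := h.bet _ (M.TB t' ht' b hb)
    have h2 := congrArg σ (h'.bet b hb)
    rw [map_mul, map_mul] at h2
    rw [e, RingEquiv.trans_apply]
    calc d * σ d' * M.β (t * (t' * b * t'⁻¹) * t⁻¹) = σ d' * (d * M.β (t * (t' * b * t'⁻¹) * t⁻¹)) := by
          ring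
      _ = a * (σ d' * σ (M.β (t' * b * t'⁻¹))) := by rw [h1]; ring
      _ = a * σ a' * σ (σ' (M.β b)) := by rw [h2]; ring

variable (M)

theorem B_comm_mem {b v : G} (hb : b ∈ B) (hv : v ∈ Y) : M.π (b * v * b⁻¹) 1 = M.π v 1 := by
  rw [M.β_spec hb hv, M.ap_up_one]

theorem tw_B {b : G} (hb : b ∈ B) : M.Tw b (RingEquiv.refl F) 1 1 where
  a0 := one_ne_zero
  d0 := one_ne_zero
  one := by
    intro v hv
    rw [M.B_comm_mem hb hv, one_mul]; rfl
  zero := by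
    intro z hz
    rw [M.BcZ b hb z hz, mul_inv_cancel_right, one_mul]; rfl
  bet := by
    intro x hx
    rw [M.β_mul (mul_mem hb hx) (inv_mem hb), M.β_mul hb hx, M.β_inv hb, one_mul, one_mul]
    show M.β b + M.β x + -M.β b = M.β x
    ring

variable {M}

theorem Tw.unique {t : G} {σ σ' : F ≃+* F} {a a' d d' : F} (h : M.Tw t σ a d)
    (h' : M.Tw t σ' a' d') : σ = σ' ∧ a = a' ∧ d = d' := by
  have h1 : ∀ x, a * σ x = a' * σ' x := by
    intro x
    obtain ⟨z, hz, e⟩ := M.surj ![x, 0]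
    have hzZ : z ∈ Z := (M.Zpi z hz).2 (by rw [e]; rfl)
    have h2 := h.zero z hzZ
    rw [h'.zero z hzZ, e] at h2
    exact h2.symm
  have h2 := h1 1
  rw [map_one, map_one, mul_one, mul_one] at h2
  have h3 : ∀ x, d * σ x = d' * σ' x := by
    intro x
    obtain ⟨z, hz, e⟩ := M.surj ![0, x]
    have h2 := h.one z hz
    rw [h'.one z hz, e] at h2
    exact h2.symm
  have h4 := h3 1
  rw [map_one, map_one, mul_one, mul_one] at h4
  refine ⟨?_, h2, h4⟩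
  ext x
  have h5 := h1 x
  rw [← h2] at h5
  exact mul_left_cancel₀ h.a0 h5

theorem Tw.pow {t : G} {a d : F} (h : M.Tw t (RingEquiv.refl F) a d) (ht : t ∈ T) (n : ℕ) :
    M.Tw (t ^ n) (RingEquiv.refl F) (a ^ n) (d ^ n) := by
  induction n with
  | zero =>
    simp only [pow_zero]
    exact M.tw_B (one_mem B)
  | succ n ih =>
    have h1 := ih.mul h (pow_mem ht n) ht
    rw [pow_succ, pow_succ, pow_succ]
    exact h1

/-- Linear elements of `T` act trivially. -/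
theorem Tw.eq_one [Finite G] [CharP F 2] {t : G} {a d : F} (h : M.Tw t (RingEquiv.refl F) a d)
    (ht : t ∈ T) : a = 1 ∧ d = 1 := by
  obtain ⟨k, hk⟩ := M.two ⟨t, ht⟩
  have hk' : t ^ 2 ^ k = 1 := by simpa using congrArg Subtype.val hk
  have h1 := h.pow ht (2 ^ k)
  rw [hk'] at h1
  obtain ⟨-, h2, h3⟩ := h1.unique (M.tw_B (one_mem B))
  exact ⟨FF.eq_one_of_pow' h2, FF.eq_one_of_pow' h3⟩

end

section

variable (M : Mid F H T B Y Z C L s)

include M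

theorem sC_inv {X : Subgroup G} [Finite G] (h : ∀ x ∈ X, s * x * s⁻¹ ∈ X) :
    ∀ x ∈ X, s⁻¹ * x * s ∈ X := by
  have h1 : cj s X = X := by
    apply Subgroup.eq_of_le_of_card_ge
    · rintro _ ⟨x, hx, rfl⟩
      exact h x hx
    · rw [card_cj]
  intro x hx
  rw [← mem_cj, h1]
  exact hx

/-- `t ∈ T` with `σ_t = 1` lies in `B`. -/
theorem mem_B [Finite G] [Finite F] [CharP F 2] {t : G} (ht : t ∈ T) {a d : F}
    (h : M.Tw t (RingEquiv.refl F) a d) : t ∈ B := by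
  obtain ⟨ha, hd⟩ := h.eq_one ht
  subst ha hd
  -- the switched element
  have ht' := M.sT t ht
  obtain ⟨σ', a', d', h'⟩ := M.exists_tw ht'
  -- `t` acts trivially on `Y/Z`, so `s t s⁻¹` acts trivially on `B/Y`
  have key : ∀ c : F, a' * σ' c = d' * c := by
    intro c
    obtain ⟨b, hb, rfl⟩ := M.β_surj c
    obtain ⟨y, hy, y', hy', rfl⟩ := M.prod b hb
    have hsy : s * y' * s⁻¹ ∈ B := M.sB _ (M.YB hy')
    have hβ : M.β (y * (s * y' * s⁻¹)) = M.β (s * y' * s⁻¹) := by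
      rw [M.β_mul (M.YB hy) hsy, (M.β_zero_iff (M.YB hy)).2 hy, zero_add]
    have h1 := h'.bet _ hsy
    have h2 : t * y' * t⁻¹ * y'⁻¹ ∈ Z := by
      have h3 : t * y' * t⁻¹ * y'⁻¹ ∈ Y := mul_mem (M.TY ht hy') (inv_mem hy')
      rw [M.Zpi _ h3, M.map_mul _ (M.TY ht hy') _ (inv_mem hy'), M.map_inv hy', Pi.add_apply,
        Pi.neg_apply, h.one y' hy', one_mul]
      exact add_neg_cancel _
    have h3 := M.sZ _ h2
    have e : s * t * s⁻¹ * (s * y' * s⁻¹) * (s * t * s⁻¹)⁻¹ =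
      s * (t * y' * t⁻¹ * y'⁻¹) * s⁻¹ * (s * y' * s⁻¹) := by group
    rw [e, M.β_mul (M.YB (M.ZY h3)) hsy, (M.β_zero_iff (M.YB (M.ZY h3))).2 (M.ZY h3), zero_add] at h1
    rw [hβ]
    exact h1.symm
  have h1 := key 1
  rw [map_one, mul_one, mul_one] at h1
  have hσ : σ' = RingEquiv.refl F := by
    ext c
    have h2 := key c
    rw [h1] at h2
    exact mul_left_cancel₀ h'.d0 h2
  subst hσ
  obtain ⟨ha', hd'⟩ := h'.eq_one ht'
  subst ha' hd'
  apply M.cent t ht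
  intro z hz
  have hZ1 : ∀ {u : G}, u ∈ T → M.Tw u (RingEquiv.refl F) 1 1 → ∀ z ∈ Z, u * z * u⁻¹ * z⁻¹ ∈ C := by
    intro u hu hw z hz
    have hzY := M.ZY hz
    have h3 : u * z * u⁻¹ * z⁻¹ ∈ Y := mul_mem (M.TY hu hzY) (inv_mem hzY)
    rw [← M.ker _ h3, M.map_mul _ (M.TY hu hzY) _ (inv_mem hzY), M.map_inv hzY]
    apply NatPair.ext2
    · rw [Pi.add_apply, Pi.neg_apply, hw.zero z hz, one_mul]
      exact add_neg_cancel _
    · rw [Pi.add_apply, Pi.neg_apply, hw.one z hzY, one_mul]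
      exact add_neg_cancel _
  have h3 := hZ1 ht h z hz
  have h4 := hZ1 ht' h' _ (M.sZ z hz)
  have e : s * t * s⁻¹ * (s * z * s⁻¹) * (s * t * s⁻¹)⁻¹ * (s * z * s⁻¹)⁻¹ =
    s * (t * z * t⁻¹ * z⁻¹) * s⁻¹ := by group
  rw [e] at h4
  have h5 := M.CC _ h3 h4
  exact mul_inv_eq_iff_eq_mul.1 (mul_inv_eq_one.1 h5)

end

end Mid

end Cfsg.Agent.Omega.SQ1.MidOne

end

section


/-!
# SQ1: Baumann blocks for the types `S₃ × ⋯ × S₃` and `S_{2^m+1} × ⋯ × S_{2^m+1}` (`q = 2`)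

`T` is a Sylow 2-subgroup of `H`, `Q = C_T(V)` is normal in `H`, `V` is an elementary abelian normal
subgroup of `H`.  The image of `J(T)` in `Aut(V)` is generated by commuting transvections `t i`
(`[V, t i] = ⟨d i⟩`), and `r i` acts on `V` with order three, `[V, r i] = N i` of order four, `t i`
inverts `r i` and `t j` commutes with `r i` for `j ≠ i` (as automorphisms of `V`).

This covers `S₃ ≀`, `S₅ ≀`, `S_{2^m+1} ≀`, with `C_H(V)` of odd order modulo `Q`.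
(Text: bb OMEGA 12030 of helper525, see also #6862.)
-/

set_option autoImplicit false

namespace Cfsg.Agent.Omega.SQ1.BauS

open Subgroup Cfsg Cfsg.Agent.PLocal.ThompsonJ Cfsg.Agent.ZN Cfsg.Agent.ZN.ChoiceBase
open Cfsg.Agent.PLocal.ElemAbSup
open Cfsg.Agent.Omega.SQ1.Bau (mem_AA_of_comm zj_le_AA elem_comm elem_sq mem_sup_comm card_sup_comm
  mem_sup_norm)
open scoped Pointwise

universe u w

variable {G : Type u} [Group G]

/-- `x` and `y` act in the same way on `V`. -/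
def Sim (V : Subgroup G) (x y : G) : Prop := ∀ v ∈ V, x * v * x⁻¹ = y * v * y⁻¹

namespace Sim

variable {V : Subgroup G} {x y z x' y' : G}

theorem rfl' : Sim V x x := fun _ _ => rfl

theorem symm (h : Sim V x y) : Sim V y x := fun v hv => (h v hv).symm

theorem trans (h : Sim V x y) (h' : Sim V y z) : Sim V x z := fun v hv => (h v hv).trans (h' v hv)

theorem mul_left (z : G) (h : Sim V x y) : Sim V (z * x) (z * y) := fun v hv => by
  have e1 : z * x * v * (z * x)⁻¹ = z * (x * v * x⁻¹) * z⁻¹ := by group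
  have e2 : z * y * v * (z * y)⁻¹ = z * (y * v * y⁻¹) * z⁻¹ := by group
  rw [e1, e2, h v hv]

theorem mul_right (hz : ∀ v ∈ V, z * v * z⁻¹ ∈ V) (h : Sim V x y) : Sim V (x * z) (y * z) :=
  fun v hv => by
  have e1 : x * z * v * (x * z)⁻¹ = x * (z * v * z⁻¹) * x⁻¹ := by group
  have e2 : y * z * v * (y * z)⁻¹ = y * (z * v * z⁻¹) * y⁻¹ := by group
  rw [e1, e2, h _ (hz v hv)]

theorem mul (hy : ∀ v ∈ V, y * v * y⁻¹ ∈ V) (h : Sim V x x') (h' : Sim V y y') :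
    Sim V (x * y) (x' * y') := (h.mul_right hy).trans (h'.mul_left x')

theorem inv (hx : ∀ v ∈ V, x⁻¹ * v * x ∈ V) (h : Sim V x y) : Sim V x⁻¹ y⁻¹ := fun v hv => by
  have h1 := h _ (hx v hv)
  have e1 : x * (x⁻¹ * v * x) * x⁻¹ = v := by group
  rw [e1] at h1
  rw [inv_inv, inv_inv]
  calc x⁻¹ * v * x = y⁻¹ * (y * (x⁻¹ * v * x) * y⁻¹) * y := by group
    _ = _ := by rw [← h1]

end Sim

/-- Input of the Baumann argument for `q = 2`. -/
structure In (H T Q V : Subgroup G) {ι : Type w} (N : ι → Subgroup G) (d t r : ι → G) : Prop where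
  TH : T ≤ H
  QT : Q ≤ T
  VQ : V ≤ Q
  Tp : IsPGroup 2 T
  Qn : ∀ h ∈ H, ∀ x ∈ Q, h * x * h⁻¹ ∈ Q
  Vn : ∀ h ∈ H, ∀ x ∈ V, h * x * h⁻¹ ∈ V
  Vsq : ∀ v ∈ V, v ^ 2 = 1
  VcQ : ∀ x ∈ Q, ∀ v ∈ V, x * v = v * x
  two : ∀ x ∈ H, (∀ v ∈ V, x * v = v * x) → (∃ n : ℕ, x ^ 2 ^ n = 1) → x ∈ Q
  tJ : ∀ i, t i ∈ jj T
  rH : ∀ i, r i ∈ H
  Jt : jj T ≤ closure (Set.range t) ⊔ Q
  tsq : ∀ i, Sim V (t i * t i) 1
  tt : ∀ i j, Sim V (t i * t j) (t j * t i)
  tr : ∀ i, Sim V (t i * r i) ((r i)⁻¹ * t i)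
  tr' : ∀ i j, i ≠ j → Sim V (t j * r i) (r i * t j)
  r3 : ∀ i, Sim V (r i * r i * r i) 1
  dN : ∀ i, d i ∈ N i
  d1 : ∀ i, d i ≠ 1
  NV : ∀ i, N i ≤ V
  cardN : ∀ i, Nat.card (N i) = 4
  t_comm : ∀ i, ∀ v ∈ V, t i * v * (t i)⁻¹ = v ∨ t i * v * (t i)⁻¹ = d i * v
  r_comm : ∀ i, ∀ v ∈ V, r i * v * (r i)⁻¹ * v⁻¹ ∈ N i
  r_fix : ∀ i, ∀ v ∈ N i, r i * v * (r i)⁻¹ = v → v = 1
  perm : ∀ x ∈ T, ∀ i, ∃ j, x * d i * x⁻¹ = d j ∧ ∀ v ∈ N i, x * v * x⁻¹ ∈ N j
  field : ∀ x ∈ T, (∀ v ∈ V, (∀ y ∈ jj T, y * v = v * y) → x * v = v * x) →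
    x ∈ closure (Set.range t) ⊔ Q
  off : ∀ A ∈ AA T, Nat.card A * Nat.card ↥(V ⊓ centralizer (A : Set G)) ≤
    Nat.card ↥(A ⊓ Q) * Nat.card V
  max : ∀ X : Subgroup G, T ≤ X → X ≤ H → ∀ i, (∃ x ∈ X, Sim V x (r i)) → H ≤ X

namespace In

variable {H T Q V : Subgroup G} {ι : Type w} {N : ι → Subgroup G} {d t r : ι → G}

theorem Vcomm (h : In H T Q V N d t r) : ∀ v ∈ V, ∀ w ∈ V, v * w = w * v :=
  fun v hv w hw => h.VcQ v (h.VQ hv) w hw

theorem Velem (h : In H T Q V N d t r) : IsElementaryAbelian 2 V :=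
  isElementaryAbelian_iff.2 ⟨h.Vcomm, h.Vsq⟩

theorem H_norm_Q (h : In H T Q V N d t r) [Finite G] : H ≤ normalizer (Q : Set G) := fun g hg =>
  mem_normalizer_of_cj_le (by
    intro x hx
    rw [mem_cj] at hx
    have := h.Qn g hg _ hx
    have e : g * (g⁻¹ * x * g) * g⁻¹ = x := by group
    rwa [e] at this)

theorem Vn' (h : In H T Q V N d t r) {g : G} (hg : g ∈ H) : ∀ v ∈ V, g⁻¹ * v * g ∈ V := by
  intro v hv
  have := h.Vn g⁻¹ (inv_mem hg) v hv
  rwa [inv_inv] at this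

theorem mulself (h : In H T Q V N d t r) {v : G} (hv : v ∈ V) : v * v = 1 := by
  rw [← pow_two]; exact h.Vsq v hv

theorem inv_eq (h : In H T Q V N d t r) {v : G} (hv : v ∈ V) : v⁻¹ = v :=
  inv_eq_of_mul_eq_one_left (h.mulself hv)

theorem dV (h : In H T Q V N d t r) (i : ι) : d i ∈ V := h.NV i (h.dN i)

theorem tT (h : In H T Q V N d t r) (i : ι) : t i ∈ T := jj_le T (h.tJ i)

theorem tH (h : In H T Q V N d t r) (i : ι) : t i ∈ H := h.TH (h.tT i)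

theorem cT (h : In H T Q V N d t r) {x : G} (hx : x ∈ T) (hc : ∀ v ∈ V, x * v = v * x) :
    x ∈ Q := by
  obtain ⟨n, hn⟩ := h.Tp ⟨x, hx⟩
  exact h.two x (h.TH hx) hc ⟨n, by simpa using congrArg Subtype.val hn⟩

/-! ### The action of `t i`, `r i` on `N j` -/

theorem r_N (h : In H T Q V N d t r) (i : ι) {v : G} (hv : v ∈ N i) : r i * v * (r i)⁻¹ ∈ N i := by
  have h1 := mul_mem (h.r_comm i v (h.NV i hv)) hv
  have e : r i * v * (r i)⁻¹ * v⁻¹ * v = r i * v * (r i)⁻¹ := by group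
  rwa [e] at h1

theorem t_d (h : In H T Q V N d t r) (i : ι) : t i * d i * (t i)⁻¹ = d i := by
  rcases h.t_comm i (d i) (h.dV i) with h1 | h1
  · exact h1
  · exfalso
    rw [h.mulself (h.dV i)] at h1
    apply h.d1 i
    have : d i = (t i)⁻¹ * (t i * d i * (t i)⁻¹) * t i := by group
    rw [this, h1]; group

/-- the third element -/
theorem r_d_ne (h : In H T Q V N d t r) (i : ι) : r i * d i * (r i)⁻¹ ≠ d i :=
  fun h1 => h.d1 i (h.r_fix i _ (h.dN i) h1)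

theorem r_d_ne_one (h : In H T Q V N d t r) (i : ι) : r i * d i * (r i)⁻¹ ≠ 1 := fun h1 => by
  apply h.d1 i
  have : d i = (r i)⁻¹ * (r i * d i * (r i)⁻¹) * r i := by group
  rw [this, h1]; group

theorem r3' (h : In H T Q V N d t r) (i : ι) {v : G} (hv : v ∈ V) :
    r i * (r i * (r i * v * (r i)⁻¹) * (r i)⁻¹) * (r i)⁻¹ = v := by
  have h1 := h.r3 i v hv
  have e : r i * (r i * (r i * v * (r i)⁻¹) * (r i)⁻¹) * (r i)⁻¹ =
    r i * r i * r i * v * (r i * r i * r i)⁻¹ := by group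
  rw [e, h1]; group

/-- `v v^r v^{r^2} = 1` for `v ∈ N i`. -/
theorem r_prod (h : In H T Q V N d t r) (i : ι) {v : G} (hv : v ∈ N i) :
    v * (r i * v * (r i)⁻¹) * (r i * (r i * v * (r i)⁻¹) * (r i)⁻¹) = 1 := by
  have h1 := h.r_N i hv
  have h2 := h.r_N i h1
  refine h.r_fix i _ (mul_mem (mul_mem hv h1) h2) ?_
  have e : r i * (v * (r i * v * (r i)⁻¹) * (r i * (r i * v * (r i)⁻¹) * (r i)⁻¹)) * (r i)⁻¹ =
    (r i * v * (r i)⁻¹) * (r i * (r i * v * (r i)⁻¹) * (r i)⁻¹) *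
      (r i * (r i * (r i * v * (r i)⁻¹) * (r i)⁻¹) * (r i)⁻¹) := by group
  rw [e, h.r3' i (h.NV i hv)]
  rw [h.Vcomm _ (mul_mem (h.NV i h1) (h.NV i h2)) _ (h.NV i hv)]
  group

/-- The elements of `N i`. -/
theorem mem_N (h : In H T Q V N d t r) [Finite G] (i : ι) {v : G} (hv : v ∈ N i) :
    v = 1 ∨ v = d i ∨ v = r i * d i * (r i)⁻¹ ∨ v = d i * (r i * d i * (r i)⁻¹) := by
  classical
  by_contra hc
  push Not at hc
  obtain ⟨h1, h2, h3, h4⟩ := hc
  set m := r i * d i * (r i)⁻¹ with hm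
  have hmN : m ∈ N i := h.r_N i (h.dN i)
  have hmV := h.NV i hmN
  have hm1 : m ≠ 1 := h.r_d_ne_one i
  have hmd : m ≠ d i := h.r_d_ne i
  let f : Fin 5 → N i := ![1, ⟨d i, h.dN i⟩, ⟨m, hmN⟩, ⟨d i * m, mul_mem (h.dN i) hmN⟩, ⟨v, hv⟩]
  have hdm1 : d i * m ≠ 1 := fun e => hmd (by
    rw [← h.inv_eq (h.dV i)]; exact (eq_inv_of_mul_eq_one_right e))
  have hf : Function.Injective f := by
    intro a b hab
    have hab' : ((f a : N i) : G) = f b := congrArg Subtype.val hab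
    fin_cases a <;> fin_cases b <;> simp [f] at hab' ⊢
    · exact h.d1 i hab'.symm
    · exact hm1 hab'.symm
    · exact hdm1 hab'.symm
    · exact h1 hab'.symm
    · exact h.d1 i hab'
    · exact hmd hab'.symm
    · exact hm1 hab'
    · exact h2 hab'.symm
    · exact hm1 hab'
    · exact hmd hab'
    · exact h.d1 i hab'
    · exact h3 hab'.symm
    · exact hdm1 hab'
    · exact hm1 hab'
    · exact h.d1 i hab'
    · exact h4 hab'.symm
    · exact h1 hab'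
    · exact h2 hab'
    · exact h3 hab'
    · exact h4 hab'
  have h5 := Nat.card_le_card_of_injective f hf
  rw [h.cardN, Nat.card_fin] at h5
  omega

/-- `t i` moves the elements of `N i` outside `⟨d i⟩`. -/
theorem t_m (h : In H T Q V N d t r) (i : ι) :
    t i * (r i * d i * (r i)⁻¹) * (t i)⁻¹ = d i * (r i * d i * (r i)⁻¹) := by
  set m := r i * d i * (r i)⁻¹ with hm
  have hmV : m ∈ V := h.NV i (h.r_N i (h.dN i))
  rcases h.t_comm i m hmV with h1 | h1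
  · exfalso
    have h2 := h.tr i (d i) (h.dV i)
    have e1 : t i * r i * d i * (t i * r i)⁻¹ = t i * m * (t i)⁻¹ := by rw [hm]; group
    have e2 : (r i)⁻¹ * t i * d i * ((r i)⁻¹ * t i)⁻¹ = (r i)⁻¹ * (t i * d i * (t i)⁻¹) * r i := by
      group
    rw [e1, e2, h1, h.t_d] at h2
    -- `m = r⁻¹ d r`
    have h3 : r i * m * (r i)⁻¹ = d i := by rw [h2]; group
    have h4 := h.r3' i (h.dV i)
    rw [← hm, h3, ← hm] at h4
    exact h.r_d_ne i h4
  · exact h1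

theorem t_ne (h : In H T Q V N d t r) [Finite G] (i : ι) {v : G} (hv : v ∈ N i)
    (hfix : t i * v * (t i)⁻¹ = v) : v = 1 ∨ v = d i := by
  have hd0 := h.d1 i
  have hm := h.t_m i
  rcases h.mem_N i hv with h1 | h1 | h1 | h1
  · exact Or.inl h1
  · exact Or.inr h1
  · exfalso
    rw [h1, hm] at hfix
    exact hd0 (by simpa using hfix)
  · exfalso
    rw [h1] at hfix
    have e : t i * (d i * (r i * d i * (r i)⁻¹)) * (t i)⁻¹ =
      (t i * d i * (t i)⁻¹) * (t i * (r i * d i * (r i)⁻¹) * (t i)⁻¹) := by group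
    rw [e, hm, h.t_d] at hfix
    exact hd0 (by simpa using hfix)

theorem t_N (h : In H T Q V N d t r) (i : ι) {v : G} (hv : v ∈ N i) : t i * v * (t i)⁻¹ ∈ N i := by
  rcases h.t_comm i v (h.NV i hv) with h1 | h1
  · rw [h1]; exact hv
  · rw [h1]; exact mul_mem (h.dN i) hv

/-- `r i` centralises `d j` for `j ≠ i`. -/
theorem r_d' (h : In H T Q V N d t r) {i j : ι} (hij : i ≠ j) : r i * d j * (r i)⁻¹ = d j := by
  set m := r j * d j * (r j)⁻¹ with hm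
  have hmV : m ∈ V := h.NV j (h.r_N j (h.dN j))
  have h1 := h.tr' i j hij m hmV
  have e1 : r i * t j * m * (r i * t j)⁻¹ = r i * (t j * m * (t j)⁻¹) * (r i)⁻¹ := by group
  have e2 : t j * r i * m * (t j * r i)⁻¹ = t j * (r i * m * (r i)⁻¹) * (t j)⁻¹ := by group
  rw [e1, e2, h.t_m j, ← hm] at h1
  have e3 : r i * (d j * m) * (r i)⁻¹ = (r i * d j * (r i)⁻¹) * (r i * m * (r i)⁻¹) := by group
  rw [e3] at h1
  rcases h.t_comm j _ (h.Vn _ (h.rH i) m hmV) with h2 | h2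
  · exfalso
    rw [h2] at h1
    have h3 : r i * d j * (r i)⁻¹ = 1 := by simpa using h1.symm
    apply h.d1 j
    have : d j = (r i)⁻¹ * (r i * d j * (r i)⁻¹) * r i := by group
    rw [this, h3]; group
  · rw [h2] at h1
    exact (mul_right_cancel h1).symm

/-- `t j` centralises `N i` for `j ≠ i`. -/
theorem t_N' (h : In H T Q V N d t r) {i j : ι} (hij : i ≠ j) {v : G} (hv : v ∈ N i) :
    t j * v * (t j)⁻¹ = v := by
  have hvV := h.NV i hv
  have h1 := h.r_N i hv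
  have h2 := h.r_N i h1
  have step : ∀ w ∈ N i, t j * w * (t j)⁻¹ = d j * w →
      t j * (r i * w * (r i)⁻¹) * (t j)⁻¹ = d j * (r i * w * (r i)⁻¹) := by
    intro w hw hw'
    have h3 := h.tr' i j hij w (h.NV i hw)
    have e1 : r i * t j * w * (r i * t j)⁻¹ = r i * (t j * w * (t j)⁻¹) * (r i)⁻¹ := by group
    have e2 : t j * r i * w * (t j * r i)⁻¹ = t j * (r i * w * (r i)⁻¹) * (t j)⁻¹ := by group
    rw [e1, e2, hw'] at h3
    rw [h3]
    have e3 : r i * (d j * w) * (r i)⁻¹ = (r i * d j * (r i)⁻¹) * (r i * w * (r i)⁻¹) := by group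
    rw [e3, h.r_d' hij]
  rcases h.t_comm j v hvV with h3 | h3
  · exact h3
  · exfalso
    have h4 := step v hv h3
    have h5 := step _ h1 h4
    have h6 := h.r_prod i hv
    have h7 : t j * (v * (r i * v * (r i)⁻¹) * (r i * (r i * v * (r i)⁻¹) * (r i)⁻¹)) * (t j)⁻¹ =
        1 := by rw [h6]; group
    have e : t j * (v * (r i * v * (r i)⁻¹) * (r i * (r i * v * (r i)⁻¹) * (r i)⁻¹)) * (t j)⁻¹ =
      (t j * v * (t j)⁻¹) * (t j * (r i * v * (r i)⁻¹) * (t j)⁻¹) *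
        (t j * (r i * (r i * v * (r i)⁻¹) * (r i)⁻¹) * (t j)⁻¹) := by group
    rw [e, h3, h4, h5] at h7
    have hd := h.dV j
    have c1 := h.Vcomm v hvV _ hd
    have c2 := h.Vcomm _ (h.NV i h1) _ hd
    set a := r i * v * (r i)⁻¹
    set b := r i * a * (r i)⁻¹
    have e2 : d j * v * (d j * a) * (d j * b) = (d j * d j) * (v * a * b) * d j := by
      have c3 := h.Vcomm _ (h.NV i h2) _ hd
      calc d j * v * (d j * a) * (d j * b) = d j * (v * d j) * (a * d j) * b := by group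
        _ = d j * (d j * v) * (d j * a) * b := by rw [c1, c2]
        _ = d j * d j * (v * d j) * a * b := by group
        _ = d j * d j * (d j * v) * a * b := by rw [c1]
        _ = d j * d j * (d j * (v * a * b)) := by group
        _ = d j * d j * ((v * a * b) * d j) := by
          rw [h.Vcomm _ hd _ (mul_mem (mul_mem hvV (h.NV i h1)) (h.NV i h2))]
        _ = _ := by group
    rw [e2, h6, h.mulself hd] at h7
    exact h.d1 j (by simpa using h7)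

theorem t_d' (h : In H T Q V N d t r) (i j : ι) : t j * d i * (t j)⁻¹ = d i := by
  by_cases hij : i = j
  · subst hij; exact h.t_d i
  · exact h.t_N' hij (h.dN i)

theorem d_inj (h : In H T Q V N d t r) {i j : ι} (hij : d i = d j) : i = j := by
  by_contra hne
  have h1 := h.r_d' hne
  rw [← hij] at h1
  exact h.r_d_ne i h1

/-! ### Elements acting as products of the `t i` -/

/-- `x` centralises all `d j`, normalises every `N j` and acts on it like `t j` or trivially, has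
commutators in `⟨d j⟩`, its square centralises `V`, and it centralises or inverts every `r j`. -/
structure Good (V : Subgroup G) (N : ι → Subgroup G) (d t r : ι → G) (x : G) : Prop where
  fixd : ∀ j, x * d j * x⁻¹ = d j
  actN : ∀ j, (∀ v ∈ N j, x * v * x⁻¹ = v) ∨ ∀ v ∈ N j, x * v * x⁻¹ = t j * v * (t j)⁻¹
  comm : ∀ v ∈ V, x * v * x⁻¹ * v⁻¹ ∈ Subgroup.closure (Set.range d)
  actr : ∀ j, Sim V (x * r j) (r j * x) ∨ Sim V (x * r j) ((r j)⁻¹ * x)

theorem D_le_V (h : In H T Q V N d t r) : closure (Set.range d) ≤ V := by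
  rw [closure_le]
  rintro _ ⟨j, rfl⟩
  exact h.dV j

/-- The subgroup of elements acting as products of the `t i`. -/
def EE (t : ι → G) (Q : Subgroup G) : Subgroup G := closure (Set.range t) ⊔ Q

theorem t_EE (i : ι) : t i ∈ EE t Q := mem_sup_left (subset_closure ⟨i, rfl⟩)

theorem EE_le_T (h : In H T Q V N d t r) : EE t Q ≤ T :=
  sup_le (by rw [closure_le]; rintro _ ⟨i, rfl⟩; exact h.tT i) h.QT

theorem EE_le_H (h : In H T Q V N d t r) : EE t Q ≤ H := h.EE_le_T.trans h.TH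

theorem Q_sim (h : In H T Q V N d t r) {x : G} (hx : x ∈ Q) : Sim V x 1 := fun v hv => by
  rw [h.VcQ x hx v hv]; group

/-- The action of an element of `EE` on `V`, as a product of `t i`. -/
theorem EE_induction (h : In H T Q V N d t r) {P : G → Prop} (h1 : P 1)
    (ht : ∀ i x, x ∈ EE t Q → P x → P (t i * x))
    (hs : ∀ x y, x ∈ EE t Q → y ∈ EE t Q → Sim V x y → P x → P y) {x : G} (hx : x ∈ EE t Q) :
    P x := by
  obtain ⟨a, ha, b, hb, rfl⟩ := mem_sup_norm (B := Q) (A := closure (Set.range t)) (by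
    intro y hy
    have hyH : y ∈ H := h.EE_le_H (mem_sup_left hy)
    rw [mem_normalizer_iff]
    intro z
    refine ⟨fun hz => h.Qn y hyH z hz, fun hz => ?_⟩
    have := h.Qn y⁻¹ (inv_mem hyH) _ hz
    have e : y⁻¹ * (y * z * y⁻¹) * y⁻¹⁻¹ = z := by group
    rwa [e] at this) hx
  have hQV : Sim V (a * b) a := by
    have h2 := (h.Q_sim hb).mul_left a
    rwa [mul_one] at h2
  have haE : a ∈ EE t Q := mem_sup_left ha
  refine hs a _ haE hx hQV.symm ?_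
  clear hQV hx
  induction ha using closure_induction_left with
  | one => exact h1
  | mul_left x hx y hy ih =>
    obtain ⟨i, rfl⟩ := hx
    exact ht i y (mem_sup_left hy) (ih (mem_sup_left hy))
  | inv_mul_cancel x hx y hy ih =>
    obtain ⟨i, rfl⟩ := hx
    have hyE : y ∈ EE t Q := mem_sup_left hy
    have h3 : Sim V (t i * y) ((t i)⁻¹ * y) := by
      have h4 : Sim V (t i * t i * y) (1 * y) :=
        (h.tsq i).mul_right (h.Vn y (h.EE_le_H hyE))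
      have h5 := h4.mul_left (t i)⁻¹
      have e1 : (t i)⁻¹ * (t i * t i * y) = t i * y := by group
      rwa [e1, one_mul] at h5
    exact hs _ _ (mul_mem (t_EE i) hyE) (mul_mem (inv_mem (t_EE i)) hyE) h3 (ht i y hyE (ih hyE))

theorem EE_good (h : In H T Q V N d t r) {x : G} (hx : x ∈ EE t Q) : Good V N d t r x := by
  refine h.EE_induction (P := Good V N d t r) ?_ ?_ ?_ hx
  · exact ⟨fun j => by group, fun j => Or.inl fun v _ => by group, fun v _ => by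
      have e : (1 : G) * v * 1⁻¹ * v⁻¹ = 1 := by group
      rw [e]; exact one_mem _, fun j => Or.inl (by rw [one_mul, mul_one]; exact Sim.rfl')⟩
  · intro i x hxE hx
    have hxH := h.EE_le_H hxE
    refine ⟨fun j => ?_, fun j => ?_, fun v hv => ?_, fun j => ?_⟩
    · have e : t i * x * d j * (t i * x)⁻¹ = t i * (x * d j * x⁻¹) * (t i)⁻¹ := by group
      rw [e, hx.fixd j, h.t_d' j i]
    · by_cases hij : j = i
      · subst hij
        rcases hx.actN j with h1 | h1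
        · refine Or.inr fun v hv => ?_
          have e : t j * x * v * (t j * x)⁻¹ = t j * (x * v * x⁻¹) * (t j)⁻¹ := by group
          rw [e, h1 v hv]
        · refine Or.inl fun v hv => ?_
          have e : t j * x * v * (t j * x)⁻¹ = t j * (x * v * x⁻¹) * (t j)⁻¹ := by group
          rw [e, h1 v hv]
          have e2 : t j * (t j * v * (t j)⁻¹) * (t j)⁻¹ = t j * t j * v * (t j * t j)⁻¹ := by group
          rw [e2, h.tsq j v (h.NV j hv)]; group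
      · rcases hx.actN j with h1 | h1
        · refine Or.inl fun v hv => ?_
          have e : t i * x * v * (t i * x)⁻¹ = t i * (x * v * x⁻¹) * (t i)⁻¹ := by group
          rw [e, h1 v hv, h.t_N' hij hv]
        · refine Or.inr fun v hv => ?_
          have e : t i * x * v * (t i * x)⁻¹ = t i * (x * v * x⁻¹) * (t i)⁻¹ := by group
          rw [e, h1 v hv, h.t_N' hij (h.t_N j hv)]
    · have h1 := hx.comm v hv
      have hw : x * v * x⁻¹ ∈ V := h.Vn x hxH v hv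
      have e : t i * x * v * (t i * x)⁻¹ * v⁻¹ =
        (t i * (x * v * x⁻¹) * (t i)⁻¹ * (x * v * x⁻¹)⁻¹) * (x * v * x⁻¹ * v⁻¹) := by group
      rw [e]
      refine mul_mem ?_ h1
      rcases h.t_comm i _ hw with h2 | h2
      · rw [h2, mul_inv_cancel]; exact one_mem _
      · rw [h2, mul_inv_cancel_right]; exact subset_closure ⟨i, rfl⟩
    · have hrN := h.Vn _ (h.rH j)
      -- `t i * (x * r j)`
      rcases hx.actr j with h1 | h1
      · have h2 : Sim V (t i * x * r j) (t i * r j * x) := by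
          have := h1.mul_left (t i)
          rwa [← mul_assoc, ← mul_assoc] at this
        by_cases hij : j = i
        · subst hij
          refine Or.inr (h2.trans ?_)
          have := (h.tr j).mul_right (h.Vn x hxH)
          rwa [mul_assoc ((r j)⁻¹)] at this
        · refine Or.inl (h2.trans ?_)
          have := (h.tr' j i hij).mul_right (h.Vn x hxH)
          rwa [mul_assoc (r j)] at this
      · have h2 : Sim V (t i * x * r j) (t i * (r j)⁻¹ * x) := by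
          have := h1.mul_left (t i)
          rwa [← mul_assoc, ← mul_assoc] at this
        have hriV := h.Vn _ (inv_mem (h.rH j))
        by_cases hij : j = i
        · subst hij
          refine Or.inl (h2.trans ?_)
          -- `t r⁻¹ ~ r t`
          have h3 : Sim V (t j * (r j)⁻¹) (r j * t j) := by
            have h4 := ((h.tr j).mul_left (r j)).mul_right hriV
            have e1 : r j * (t j * r j) * (r j)⁻¹ = r j * t j := by group
            have e2 : r j * ((r j)⁻¹ * t j) * (r j)⁻¹ = t j * (r j)⁻¹ := by group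
            rw [e1, e2] at h4
            exact h4.symm
          have := h3.mul_right (h.Vn x hxH)
          rwa [mul_assoc (r j)] at this
        · refine Or.inr (h2.trans ?_)
          have h3 : Sim V (t i * (r j)⁻¹) ((r j)⁻¹ * t i) := by
            have h4 := ((h.tr' j i hij).mul_left (r j)⁻¹).mul_right hriV
            have e1 : (r j)⁻¹ * (t i * r j) * (r j)⁻¹ = (r j)⁻¹ * t i := by group
            have e2 : (r j)⁻¹ * (r j * t i) * (r j)⁻¹ = t i * (r j)⁻¹ := by group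
            rw [e1, e2] at h4
            exact h4.symm
          have := h3.mul_right (h.Vn x hxH)
          rwa [mul_assoc ((r j)⁻¹)] at this
  · intro x y hxE hyE hxy hx
    have hxH := h.EE_le_H hxE
    refine ⟨fun j => ?_, fun j => ?_, fun v hv => ?_, fun j => ?_⟩
    · rw [← hxy _ (h.dV j), hx.fixd j]
    · rcases hx.actN j with h1 | h1
      · exact Or.inl fun v hv => by rw [← hxy _ (h.NV j hv), h1 v hv]
      · exact Or.inr fun v hv => by rw [← hxy _ (h.NV j hv), h1 v hv]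
    · rw [← hxy v hv]; exact hx.comm v hv
    · have hrN := h.Vn _ (h.rH j)
      rcases hx.actr j with h1 | h1
      · exact Or.inl (((hxy.mul_right hrN).symm.trans h1).trans (hxy.mul_left _))
      · exact Or.inr (((hxy.mul_right hrN).symm.trans h1).trans (hxy.mul_left _))

theorem EE_sq (h : In H T Q V N d t r) {x : G} (hx : x ∈ EE t Q) {v : G} (hv : v ∈ V) :
    x * x * v * (x * x)⁻¹ = v := by
  have hg := h.EE_good hx
  have h1 := hg.comm v hv
  have h2 : ∀ y ∈ closure (Set.range d), x * y * x⁻¹ = y := by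
    intro y hy
    induction hy using closure_induction with
    | mem y hy => obtain ⟨j, rfl⟩ := hy; exact hg.fixd j
    | one => group
    | mul a b _ _ ha hb =>
      have e : x * (a * b) * x⁻¹ = (x * a * x⁻¹) * (x * b * x⁻¹) := by group
      rw [e, ha, hb]
    | inv a _ ha =>
      have e : x * a⁻¹ * x⁻¹ = (x * a * x⁻¹)⁻¹ := by group
      rw [e, ha]
  have h3 := h2 _ h1
  have hcV : x * v * x⁻¹ * v⁻¹ ∈ V := h.D_le_V h1
  have e1 : x * x * v * (x * x)⁻¹ = x * (x * v * x⁻¹ * v⁻¹) * x⁻¹ * (x * v * x⁻¹ * v⁻¹) * v := by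
    group
  rw [e1, h3, h.mulself hcV, one_mul]

/-! ### The Baumann argument -/

theorem cA_le (_h : In H T Q V N d t r) [Finite G] {A : Subgroup G} (hA : A ∈ AA T) :
    V ⊓ centralizer (A : Set G) ≤ A := by
  rintro v ⟨hv, hvc⟩
  exact mem_AA_of_comm hA (_h.QT (_h.VQ hv)) (_h.Vsq v hv) fun a ha => mem_centralizer_iff.1 hvc a ha

/-- `(A ∩ Q) V` is again a member of `A(T)`. -/
theorem replace (h : In H T Q V N d t r) [Finite G] {A : Subgroup G} (hA : A ∈ AA T) :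
    (A ⊓ Q) ⊔ V ∈ AA T := by
  have hc : ∀ a ∈ A ⊓ Q, ∀ v ∈ V, a * v = v * a := fun a ha v hv => h.VcQ a ha.2 v hv
  have h1 : IsElementaryAbelian 2 ((A ⊓ Q) ⊔ V : Subgroup G) :=
    isElementaryAbelian_sup (isElementaryAbelian_mono hA.1 inf_le_left) h.Velem
      fun v hv => mem_centralizer_iff.2 fun a ha => hc a ha v hv
  rw [mem_AA_iff]
  refine ⟨h1, sup_le (inf_le_right.trans h.QT) (h.VQ.trans h.QT), ?_⟩
  have h2 := card_sup_comm hc
  have h3 := h.off A hA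
  have h4 : Nat.card ↥((A ⊓ Q) ⊓ V) ≤ Nat.card ↥(V ⊓ centralizer (A : Set G)) :=
    Subgroup.card_le_of_le fun v hv => ⟨hv.2, mem_centralizer_iff.2 fun a ha =>
      elem_comm hA.1 a ha v hv.1.1⟩
  rw [← h2] at h3
  rw [mm_eq hA]
  have hp : 0 < Nat.card ↥((A ⊓ Q) ⊓ V) := Nat.card_pos
  exact Nat.le_of_mul_le_mul_right ((Nat.mul_le_mul_left _ h4).trans h3) hp

theorem exists_AQ (h : In H T Q V N d t r) [Finite G] : ∃ A ∈ AA T, A ≤ Q ∧ V ≤ A := by
  obtain ⟨A, hA⟩ := AA_nonempty T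
  exact ⟨_, h.replace hA, sup_le inf_le_right h.VQ, le_sup_right⟩

theorem Z_le_Q (h : In H T Q V N d t r) [Finite G] : zj T ≤ Q := by
  obtain ⟨A, hA, hAQ, -⟩ := h.exists_AQ
  exact (zj_le_AA hA).trans hAQ

theorem mm_le (h : In H T Q V N d t r) [Finite G] : mm T ≤ mm Q := by
  obtain ⟨A, hA, hAQ, -⟩ := h.exists_AQ
  rw [mm_eq hA]
  exact card_le_mm hA.1 hAQ

theorem AA_of_le (h : In H T Q V N d t r) {A : Subgroup G} (hA : A ∈ AA T)
    (hAQ : A ≤ Q) : A ∈ AA Q :=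
  ⟨hA.1, hAQ, fun B hB hBQ => hA.2.2 B hB (hBQ.trans h.QT)⟩

theorem jjQ_le (h : In H T Q V N d t r) [Finite G] : jj Q ≤ jj T := jj_mono h.QT h.mm_le

theorem Z_le_zjQ (h : In H T Q V N d t r) [Finite G] : zj T ≤ zj Q := by
  intro z hz
  obtain ⟨A, hA, hAQ, -⟩ := h.exists_AQ
  have hz' := mem_zj.1 hz
  exact mem_zj.2 ⟨le_jj (h.AA_of_le hA hAQ) (zj_le_AA hA hz), hz'.2.1,
    fun y hy => hz'.2.2 y (h.jjQ_le hy)⟩

theorem V_le_zjQ (h : In H T Q V N d t r) [Finite G] : V ≤ zj Q := by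
  intro v hv
  obtain ⟨A, hA, hAQ, hVA⟩ := h.exists_AQ
  exact mem_zj.2 ⟨le_jj (h.AA_of_le hA hAQ) (hVA hv), h.Vsq v hv,
    fun y hy => h.VcQ y (jj_le Q hy) v hv⟩

/-- `zj Q = V C_{zj Q}(A)`. -/
theorem split_A (h : In H T Q V N d t r) [Finite G] {A : Subgroup G} (hA : A ∈ AA T)
    {y : G} (hy : y ∈ zj Q) :
    ∃ v ∈ V, ∃ c ∈ zj Q, (∀ a ∈ A, a * c = c * a) ∧ y = v * c := by
  have hA' := h.replace hA
  have hA'Q : (A ⊓ Q) ⊔ V ≤ Q := sup_le inf_le_right h.VQ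
  have hAj : A ⊓ Q ≤ jj Q := le_sup_left.trans (le_jj (h.AA_of_le hA' hA'Q))
  have hc : ∀ a ∈ A ⊓ Q, ∀ z ∈ zj Q, a * z = z * a := fun a ha z hz =>
    (mem_zj.1 hz).2.2 a (hAj ha)
  have h1 : IsElementaryAbelian 2 ((A ⊓ Q) ⊔ zj Q : Subgroup G) :=
    isElementaryAbelian_sup (isElementaryAbelian_mono hA.1 inf_le_left) (Bau.In.zj_elem Q)
      fun v hv => mem_centralizer_iff.2 fun a ha => hc a ha v hv
  have h2 := hA.2.2 _ h1 (sup_le (inf_le_right.trans h.QT) ((Bau.In.zj_le Q).trans h.QT))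
  have h3 := card_sup_comm hc
  set C := (A ⊓ Q) ⊓ zj Q with hC
  have hVC : ∀ v ∈ V, ∀ c ∈ C, v * c = c * v := fun v hv c hc' => (h.VcQ c hc'.1.2 v hv).symm
  have h5 := card_sup_comm hVC
  have h6 : Nat.card ↥(V ⊓ C) ≤ Nat.card ↥(V ⊓ centralizer (A : Set G)) :=
    Subgroup.card_le_of_le fun v hv => ⟨hv.1, mem_centralizer_iff.2 fun a ha =>
      elem_comm hA.1 a ha v hv.2.1.1⟩
  have h7 := h.off A hA
  set c := Nat.card ↥(V ⊓ centralizer (A : Set G)) with hcdef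
  have hcp : 0 < c := Nat.card_pos
  have hAp : 0 < Nat.card ↥(A ⊓ Q) := Nat.card_pos
  have h8 : Nat.card (zj Q) ≤ Nat.card ↥(V ⊔ C) := by
    have e1 : (Nat.card ↥(A ⊓ Q) * c) * Nat.card (zj Q) ≤
        (Nat.card ↥(A ⊓ Q) * c) * Nat.card ↥(V ⊔ C) := by
      calc (Nat.card ↥(A ⊓ Q) * c) * Nat.card (zj Q)
          = (Nat.card ↥(A ⊓ Q) * Nat.card (zj Q)) * c := by ring
        _ = Nat.card ↥((A ⊓ Q) ⊔ zj Q : Subgroup G) * Nat.card C * c := by rw [← h3]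
        _ ≤ Nat.card A * Nat.card C * c :=
            Nat.mul_le_mul_right _ (Nat.mul_le_mul_right _ h2)
        _ = (Nat.card A * c) * Nat.card C := by ring
        _ ≤ (Nat.card ↥(A ⊓ Q) * Nat.card V) * Nat.card C := Nat.mul_le_mul_right _ h7
        _ = Nat.card ↥(A ⊓ Q) * (Nat.card V * Nat.card C) := by ring
        _ = Nat.card ↥(A ⊓ Q) * (Nat.card ↥(V ⊔ C) * Nat.card ↥(V ⊓ C)) := by rw [h5]
        _ ≤ Nat.card ↥(A ⊓ Q) * (Nat.card ↥(V ⊔ C) * c) :=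
            Nat.mul_le_mul_left _ (Nat.mul_le_mul_left _ h6)
        _ = _ := by ring
    exact Nat.le_of_mul_le_mul_left e1 (Nat.mul_pos hAp hcp)
  have h9 : V ⊔ C = zj Q :=
    Subgroup.eq_of_le_of_card_ge (sup_le h.V_le_zjQ inf_le_right) h8
  rw [← h9] at hy
  obtain ⟨v, hv, c, hc', rfl⟩ := mem_sup_comm hVC hy
  exact ⟨v, hv, c, hc'.2, fun a ha => elem_comm hA.1 a ha c hc'.1.1, rfl⟩

theorem zjQ_norm (h : In H T Q V N d t r) [Finite G] {g : G} (hg : g ∈ H) {y : G}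
    (hy : y ∈ zj Q) : g * y * g⁻¹ ∈ zj Q :=
  (mem_normalizer_iff.1 (normalizer_le_of_cj (F := zj) zj_cj Q (h.H_norm_Q hg)) y).1 hy

theorem jj_act (h : In H T Q V N d t r) [Finite G] : ∀ j ∈ jj T, ∀ y ∈ zj Q,
    j * y * j⁻¹ * y⁻¹ ∈ V := by
  let S : Subgroup G :=
    { carrier := {g | g ∈ H ∧ ∀ y ∈ zj Q, g * y * g⁻¹ * y⁻¹ ∈ V}
      mul_mem' := by
        rintro a b ⟨ha, ha'⟩ ⟨hb, hb'⟩
        refine ⟨mul_mem ha hb, fun y hy => ?_⟩
        have e : a * b * y * (a * b)⁻¹ * y⁻¹ =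
          (a * (b * y * b⁻¹ * y⁻¹) * a⁻¹) * (a * y * a⁻¹ * y⁻¹) := by group
        rw [e]
        exact mul_mem (h.Vn a ha _ (hb' y hy)) (ha' y hy)
      one_mem' := ⟨one_mem _, fun y _ => by simp⟩
      inv_mem' := by
        rintro a ⟨ha, ha'⟩
        refine ⟨inv_mem ha, fun y hy => ?_⟩
        have e : a⁻¹ * y * a⁻¹⁻¹ * y⁻¹ = a⁻¹ * (a * y * a⁻¹ * y⁻¹)⁻¹ * a⁻¹⁻¹ := by group
        rw [e]
        exact h.Vn _ (inv_mem ha) _ (inv_mem (ha' y hy)) }
  have hS : jj T ≤ S := by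
    rw [jj_eq]
    refine sSup_le fun A hA => fun a ha => ⟨h.TH (hA.2.1 ha), fun y hy => ?_⟩
    obtain ⟨v, hv, c, hc, hac, rfl⟩ := h.split_A hA hy
    have e : a * (v * c) * a⁻¹ * (v * c)⁻¹ = a * v * a⁻¹ * (a * c * a⁻¹) * c⁻¹ * v⁻¹ := by group
    have e2 : a * c * a⁻¹ = c := by rw [hac a ha]; group
    rw [e, e2]
    have e3 : a * v * a⁻¹ * c * c⁻¹ * v⁻¹ = (a * v * a⁻¹) * v⁻¹ := by group
    rw [e3]
    exact mul_mem (h.Vn a (h.TH (hA.2.1 ha)) v hv) (inv_mem hv)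
  exact fun j hj => (hS hj).2

/-! ### The group `Y = V Z` -/

theorem ZcV (h : In H T Q V N d t r) [Finite G] : ∀ z ∈ zj T, ∀ v ∈ V, z * v = v * z :=
  fun z hz v hv => h.VcQ z (h.Z_le_Q hz) v hv

/-- `Y = Z V`. -/
def Y (T V : Subgroup G) : Subgroup G := zj T ⊔ V

theorem mem_Y (h : In H T Q V N d t r) [Finite G] {y : G} (hy : y ∈ Y T V) :
    ∃ z ∈ zj T, ∃ v ∈ V, y = z * v := mem_sup_comm h.ZcV hy

theorem Z_le_Y (T V : Subgroup G) : zj T ≤ Y T V := le_sup_left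

theorem V_le_Y (T V : Subgroup G) : V ≤ Y T V := le_sup_right

theorem Y_le_Q (h : In H T Q V N d t r) [Finite G] : Y T V ≤ Q := sup_le h.Z_le_Q h.VQ

theorem Y_elem (h : In H T Q V N d t r) [Finite G] : IsElementaryAbelian 2 (Y T V) :=
  isElementaryAbelian_sup (Bau.In.zj_elem T) h.Velem
    fun v hv => mem_centralizer_iff.2 fun z hz => h.ZcV z hz v hv

/-- A conjugate of `J(T)` and `T` generate `H`. -/
theorem max' (h : In H T Q V N d t r) (i : ι) {X : Subgroup G} (hT : T ≤ X) (hX : X ≤ H)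
    (hx : r i * t i * (r i)⁻¹ ∈ X) : H ≤ X := by
  refine h.max X hT hX i ⟨(r i * t i * (r i)⁻¹ * (t i)⁻¹) * (r i * t i * (r i)⁻¹ * (t i)⁻¹),
    mul_mem (mul_mem hx (inv_mem (hT (h.tT i)))) (mul_mem hx (inv_mem (hT (h.tT i)))), ?_⟩
  have hrV := h.Vn _ (h.rH i)
  have hriV := h.Vn _ (inv_mem (h.rH i))
  have htV := h.Vn _ (h.tH i)
  have htiV := h.Vn _ (inv_mem (h.tH i))
  -- `t r⁻¹ ~ r t`
  have h3 : Sim V (t i * (r i)⁻¹) (r i * t i) := by
    have h4 := ((h.tr i).mul_left (r i)).mul_right hriV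
    have e1 : r i * (t i * r i) * (r i)⁻¹ = r i * t i := by group
    have e2 : r i * ((r i)⁻¹ * t i) * (r i)⁻¹ = t i * (r i)⁻¹ := by group
    rw [e1, e2] at h4
    exact h4.symm
  have h4 : Sim V (r i * t i * (r i)⁻¹ * (t i)⁻¹) (r i * r i) := by
    have h5 := (h3.mul_left (r i)).mul_right htiV
    have e1 : r i * (t i * (r i)⁻¹) * (t i)⁻¹ = r i * t i * (r i)⁻¹ * (t i)⁻¹ := by group
    have e2 : r i * (r i * t i) * (t i)⁻¹ = r i * r i := by group
    rwa [e1, e2] at h5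
  have h5 : Sim V ((r i * t i * (r i)⁻¹ * (t i)⁻¹) * (r i * t i * (r i)⁻¹ * (t i)⁻¹))
      (r i * r i * (r i * r i)) := h4.mul (fun v hv => h.Vn _ (mul_mem (mul_mem (mul_mem (h.rH i)
        (h.tH i)) (inv_mem (h.rH i))) (inv_mem (h.tH i))) v hv) h4
  refine h5.trans ?_
  have h6 := (h.r3 i).mul_right hrV
  rw [one_mul] at h6
  have e : r i * r i * (r i * r i) = r i * r i * r i * r i := by group
  rwa [e]

/-- `Y` is normal in `H`. -/
theorem Y_norm (h : In H T Q V N d t r) [Finite G] (i : ι) :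
    ∀ g ∈ H, ∀ y ∈ Y T V, g * y * g⁻¹ ∈ Y T V := by
  let M : Subgroup G := H ⊓ normalizer ((Y T V : Subgroup G) : Set G)
  have hTN : T ≤ M := by
    intro t ht
    refine ⟨h.TH ht, mem_normalizer_of_cj_le ?_⟩
    rw [cj, Y, Subgroup.map_sup]
    refine sup_le ?_ ?_
    · rintro _ ⟨z, hz, rfl⟩
      exact Z_le_Y T V (Bau.In.T_norm_Z T ht hz)
    · rintro _ ⟨v, hv, rfl⟩
      exact V_le_Y T V (h.Vn t (h.TH ht) v hv)
  have hx : r i * t i * (r i)⁻¹ ∈ M := by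
    have hg := h.rH i
    have hj := h.tJ i
    have hxH : r i * t i * (r i)⁻¹ ∈ H := mul_mem (mul_mem hg (h.tH i)) (inv_mem hg)
    refine ⟨hxH, mem_normalizer_of_cj_le ?_⟩
    rw [cj, Y, Subgroup.map_sup]
    refine sup_le ?_ ?_
    · rintro _ ⟨z, hz, rfl⟩
      simp only [MulEquiv.toMonoidHom_eq_coe, MonoidHom.coe_coe, MulAut.conj_apply]
      have hz1 : (r i)⁻¹ * z * r i ∈ zj Q := by
        have := h.zjQ_norm (inv_mem hg) (h.Z_le_zjQ hz)
        rwa [inv_inv] at this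
      have h2 := h.Vn _ hg _ (h.jj_act _ hj _ hz1)
      have e : r i * t i * (r i)⁻¹ * z * (r i * t i * (r i)⁻¹)⁻¹ =
        r i * (t i * ((r i)⁻¹ * z * r i) * (t i)⁻¹ * ((r i)⁻¹ * z * r i)⁻¹) * (r i)⁻¹ * z := by group
      rw [e]
      exact mul_mem (V_le_Y T V h2) (Z_le_Y T V hz)
    · rintro _ ⟨v, hv, rfl⟩
      exact V_le_Y T V (h.Vn _ hxH v hv)
  have hH := h.max' i hTN inf_le_left hx
  exact fun g hg y hy => (mem_normalizer_iff.1 (hH hg).2 y).1 hy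

theorem d_mem_Z (h : In H T Q V N d t r) [Finite G] (i : ι) : d i ∈ zj T := by
  have hc : ∀ y ∈ jj T, y * d i = d i * y := fun y hy => by
    have h1 := (h.EE_good (h.Jt hy)).fixd i
    calc y * d i = (y * d i * y⁻¹) * y := by group
      _ = _ := by rw [h1]
  exact mem_zj.2 ⟨mem_jj_of_comm (h.QT (h.VQ (h.dV i))) (h.Vsq _ (h.dV i)) hc, h.Vsq _ (h.dV i), hc⟩

theorem D_le_Z (h : In H T Q V N d t r) [Finite G] : closure (Set.range d) ≤ zj T := by
  rw [closure_le]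
  rintro _ ⟨j, rfl⟩
  exact h.d_mem_Z j

theorem t_bau (h : In H T Q V N d t r) (i : ι) : t i ∈ bau T := jj_le_bau T (h.tJ i)

theorem bau_EE (h : In H T Q V N d t r) [Finite G] : bau T ≤ EE t Q := fun b hb =>
  h.field b (bau_le T hb) fun v hv hc => ((mem_bau.1 hb).2 v
    (mem_zj.2 ⟨mem_jj_of_comm (h.QT (h.VQ hv)) (h.Vsq v hv) hc, h.Vsq v hv, hc⟩)).symm

theorem bau_H (h : In H T Q V N d t r) : bau T ≤ H := (bau_le T).trans h.TH

/-- `Q* = B ∩ Q = C_T(Y)`. -/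
theorem mem_star_iff (h : In H T Q V N d t r) [Finite G] {x : G} :
    x ∈ bau T ⊓ Q ↔ x ∈ T ∧ ∀ y ∈ Y T V, x * y = y * x := by
  constructor
  · rintro ⟨h1, h2⟩
    refine ⟨bau_le T h1, fun y hy => ?_⟩
    obtain ⟨z, hz, v, hv, rfl⟩ := h.mem_Y hy
    have e1 : z * x = x * z := (mem_bau.1 h1).2 z hz
    have e2 : x * v = v * x := h.VcQ x h2 v hv
    calc x * (z * v) = (x * z) * v := by group
      _ = z * (x * v) := by rw [← e1]; group
      _ = z * v * x := by rw [e2]; group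
  · rintro ⟨h1, h2⟩
    exact ⟨mem_bau.2 ⟨h1, fun z hz => (h2 z (Z_le_Y T V hz)).symm⟩,
      h.cT h1 fun v hv => h2 v (V_le_Y T V hv)⟩

/-- `Q* = B ∩ Q` is normal in `H`. -/
theorem star_norm (h : In H T Q V N d t r) [Finite G] (i : ι) :
    ∀ g ∈ H, ∀ x ∈ bau T ⊓ Q, g * x * g⁻¹ ∈ bau T ⊓ Q := by
  intro g hg x hx
  have h1 := h.mem_star_iff.1 hx
  refine h.mem_star_iff.2 ⟨h.QT (h.Qn g hg x hx.2), fun y hy => ?_⟩
  have hy' : g⁻¹ * y * g ∈ Y T V := by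
    have := h.Y_norm i g⁻¹ (inv_mem hg) y hy
    rwa [inv_inv] at this
  have h2 := h1.2 _ hy'
  calc g * x * g⁻¹ * y = g * (x * (g⁻¹ * y * g)) * g⁻¹ := by group
    _ = g * ((g⁻¹ * y * g) * x) * g⁻¹ := by rw [h2]
    _ = y * (g * x * g⁻¹) := by group

end In

end Cfsg.Agent.Omega.SQ1.BauS

end
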