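import Cfsg.Agent.Mrg.Omega.SQ1.BauDat
import Cfsg.Agent.Omega.SQ1.Match
import Cfsg.Agent.Mrg.Omega.SQ1.Choice

section


/-!
# SQ1.3: the blocks `L_i` are canonical; input of the matching

`T` is transitive on the summands.  If `C_H(V) = Q` then the minimal block over `B` acting on `N i`
is unique, so `T` permutes the blocks.  Main result:
`InK.min_in : ∃ L, (∀ i, BlkK H T V N i (L i)) ∧ Match.MIn ..`.
-/

set_option autoImplicit false

namespace Cfsg.Agent.Omega.SQ1.BauK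

open Subgroup Cfsg Cfsg.Agent.PLocal.ThompsonJ Cfsg.Agent.ZN Cfsg.Agent.ZN.ChoiceBase
open Cfsg.Agent.PLocal.ElemAbSup
open Cfsg.Agent.Omega.SQ1.Bau (mem_AA_of_comm zj_le_AA elem_comm elem_sq mem_sup_comm card_sup_comm
  mem_sup_norm Mv not_mv_iff mv_inv exists_min)
open scoped Pointwise commutatorElement

universe u

variable {G : Type u} [Group G]

/-! ### Covering for planes -/

namespace Pl

variable {P W W1 W0 B C : Subgroup G} {q : ℕ}

/-- Every element of `W - W1` lies in a `B`-conjugate of `W1^g`. -/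
theorem cover (h : Pl P W W1 W0 q) [Finite G] (hBP : B ≤ P) (hCB : C ≤ B)
    (hcard : Nat.card B = Nat.card C * q) (hBc : ∀ b ∈ B, ∀ v ∈ W1, b * v = v * b)
    (hmv : ∀ g ∈ P, Mv W1 g → ∀ b ∈ B, b ∉ C → Mv W1 (g * b * g⁻¹)) {g : G} (hg : g ∈ P)
    (hm : Mv W1 g) {v : G} (hv : v ∈ W) (hv1 : v ∉ W1) :
    ∃ b ∈ B, ∃ w ∈ W1, v = b * (g * w * g⁻¹) * b⁻¹ := by
  classical
  let U : Subgroup G := cj g W1
  have hUV : U ≤ W := h.cj_le hg
  have hUV1 : W1 ⊓ U = W0 := h.inter hg hm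
  have hV0U : W0 ≤ U := by rw [← hUV1]; exact inf_le_right
  have key : ∀ b ∈ B, ∀ w ∈ U, ∀ w' ∈ U, b * w * b⁻¹ = w' → w ∉ W0 → b ∈ C := by
    intro b hb w hw w' hw' e hw0
    by_contra hbQ
    have hm1 : Mv W1 (g⁻¹ * b * g) := by
      have := hmv g⁻¹ (inv_mem hg) (mv_inv.2 hm) b hb hbQ
      rwa [inv_inv] at this
    have hH : g⁻¹ * b * g ∈ P := mul_mem (mul_mem (inv_mem hg) (hBP hb)) hg
    have h1 := h.opp _ hH hm1 (g⁻¹ * w * g) (mem_cj.1 hw) (by
      have e1 : g⁻¹ * b * g * (g⁻¹ * w * g) * (g⁻¹ * b * g)⁻¹ = g⁻¹ * (b * w * b⁻¹) * g := by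
        group
      rw [e1, e]; exact mem_cj.1 hw')
    have e1 : g⁻¹ * b * g * (g⁻¹ * w * g) * (g⁻¹ * b * g)⁻¹ = g⁻¹ * (b * w * b⁻¹) * g := by group
    rw [e1] at h1
    have h2 := h.W0n g hg _ h1
    have e2 : g * (g⁻¹ * (b * w * b⁻¹) * g) * g⁻¹ = b * w * b⁻¹ := by group
    rw [e2] at h2
    have h3 := h.W0n b⁻¹ (inv_mem (hBP hb)) _ h2
    have e3 : b⁻¹ * (b * w * b⁻¹) * b⁻¹⁻¹ = w := by group
    rw [e3] at h3
    exact hw0 h3
  let Qs : Subgroup ↥B := C.subgroupOf B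
  let F : (↥B ⧸ Qs) × {w : G // w ∈ U ∧ w ∉ W0} → {v : G // v ∈ W ∧ v ∉ W1} :=
    fun p => ⟨(p.1.out : G) * p.2.1 * (p.1.out : G)⁻¹, by
      refine ⟨h.Wn _ (hBP p.1.out.2) _ (hUV p.2.2.1), fun h1 => p.2.2.2 ?_⟩
      have h2 := hBc _ p.1.out.2 _ h1
      have h3 : p.2.1 = (p.1.out : G) * p.2.1 * (p.1.out : G)⁻¹ := by
        have : (p.1.out : G)⁻¹ * ((p.1.out : G) * p.2.1 * (p.1.out : G)⁻¹) * (p.1.out : G) =
          (p.1.out : G) * p.2.1 * (p.1.out : G)⁻¹ := by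
          rw [mul_assoc, ← h2]; group
        rw [← this]; group
      rw [← h3] at h1
      exact hUV1.le (mem_inf.2 ⟨h1, p.2.2.1⟩)⟩
  have hF : Function.Injective F := by
    rintro ⟨c, w⟩ ⟨c', w'⟩ hcc
    have h1 : (c.out : G) * w.1 * (c.out : G)⁻¹ = (c'.out : G) * w'.1 * (c'.out : G)⁻¹ :=
      congrArg Subtype.val hcc
    have h2 : ((c'.out : G)⁻¹ * (c.out : G)) * w.1 * ((c'.out : G)⁻¹ * (c.out : G))⁻¹ = w'.1 := by
      have : ((c'.out : G)⁻¹ * (c.out : G)) * w.1 * ((c'.out : G)⁻¹ * (c.out : G))⁻¹ =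
        (c'.out : G)⁻¹ * ((c.out : G) * w.1 * (c.out : G)⁻¹) * (c'.out : G) := by group
      rw [this, h1]; group
    have hB : (c'.out : G)⁻¹ * (c.out : G) ∈ B := mul_mem (inv_mem c'.out.2) c.out.2
    have h3 := key _ hB w.1 w.2.1 w'.1 w'.2.1 h2 w.2.2
    have h4 : c = c' := by
      rw [← c.out_eq, ← c'.out_eq, eq_comm]
      refine QuotientGroup.eq.2 ?_
      exact mem_subgroupOf.2 h3
    subst h4
    have h5 : w = w' := by
      apply Subtype.ext
      rw [← h2]; group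
    rw [h5]
  have c1 : Nat.card (↥B ⧸ Qs) = q := by
    have e1 : Nat.card (↥B ⧸ Qs) * Nat.card Qs = Nat.card B :=
      (Subgroup.card_eq_card_quotient_mul_card_subgroup Qs).symm
    have e2 : Nat.card Qs = Nat.card C :=
      Nat.card_congr (Subgroup.subgroupOfEquivOfLe hCB).toEquiv
    rw [e2, hcard, Nat.mul_comm (Nat.card C) q] at e1
    exact Nat.eq_of_mul_eq_mul_right Nat.card_pos e1
  have diff : ∀ X U : Subgroup G, U ≤ X →
      Nat.card {x : G // x ∈ X ∧ x ∉ U} + Nat.card U = Nat.card X := by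
    intro X U hUX
    have hf : (X : Set G).Finite := Set.toFinite _
    have e1 : Nat.card {x : G // x ∈ X ∧ x ∉ U} = ((X : Set G) \ (U : Set G)).ncard := rfl
    have e2 : Nat.card U = (U : Set G).ncard := rfl
    have e3 : Nat.card X = (X : Set G).ncard := rfl
    rw [e1, e2, e3]
    exact Set.ncard_sdiff_add_ncard_of_subset hUX
  have c2 := diff U W0 hV0U
  have c3 := diff W W1 h.W1W
  have c4 : Nat.card U = Nat.card W1 := card_cj g W1
  rw [c4, h.card1] at c2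
  rw [h.card, h.card1] at c3
  have c5 : Nat.card ((↥B ⧸ Qs) × {w : G // w ∈ U ∧ w ∉ W0}) =
      Nat.card {v : G // v ∈ W ∧ v ∉ W1} := by
    rw [Nat.card_prod, c1]
    have e : q * Nat.card {w : G // w ∈ U ∧ w ∉ W0} + Nat.card W0 * q =
      Nat.card {v : G // v ∈ W ∧ v ∉ W1} + Nat.card W0 * q := by
      rw [c3]
      calc _ = q * (Nat.card {w : G // w ∈ U ∧ w ∉ W0} + Nat.card W0) := by ring
        _ = _ := by rw [c2]; ring
    omega
  have hsur : Function.Surjective F := ((Nat.bijective_iff_injective_and_card F).2 ⟨hF, c5⟩).2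
  obtain ⟨⟨c, w⟩, hcw⟩ := hsur ⟨v, hv, hv1⟩
  refine ⟨c.out, c.out.2, g⁻¹ * w.1 * g, mem_cj.1 w.2.1, ?_⟩
  have h6 : (c.out : G) * w.1 * (c.out : G)⁻¹ = v := congrArg Subtype.val hcw
  rw [← h6]
  group

/-- `B` is transitive on the conjugates of `W1` different from `W1`. -/
theorem line_conj (h : Pl P W W1 W0 q) [Finite G] (hq : 1 < q) (hBP : B ≤ P) (hCB : C ≤ B)
    (hcard : Nat.card B = Nat.card C * q) (hBc : ∀ b ∈ B, ∀ v ∈ W1, b * v = v * b)
    (hmv : ∀ g ∈ P, Mv W1 g → ∀ b ∈ B, b ∉ C → Mv W1 (g * b * g⁻¹)) {g g' : G} (hg : g ∈ P)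
    (hm : Mv W1 g) (hg' : g' ∈ P) (hm' : Mv W1 g') : ∃ b ∈ B, cj (b * g) W1 = cj g' W1 := by
  obtain ⟨w, hw, hw0⟩ : ∃ w ∈ W1, w ∉ W0 := by
    by_contra hc
    push Not at hc
    have h1 : Nat.card W1 ≤ Nat.card W0 := Subgroup.card_le_of_le (fun x hx => hc x hx)
    rw [h.card1] at h1
    have hp : 0 < Nat.card W0 := Nat.card_pos
    have h2 : Nat.card W0 * 2 ≤ Nat.card W0 * q := Nat.mul_le_mul_left _ hq
    omega
  have hv : g' * w * g'⁻¹ ∈ W := h.Wn g' hg' w (h.W1W hw)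
  have hv0 : g' * w * g'⁻¹ ∉ W0 := by
    intro h1
    apply hw0
    have := h.W0n g'⁻¹ (inv_mem hg') _ h1
    have e : g'⁻¹ * (g' * w * g'⁻¹) * g'⁻¹⁻¹ = w := by group
    rwa [e] at this
  have hv1 : g' * w * g'⁻¹ ∉ W1 := fun h1 => hv0 (h.opp g' hg' hm' w hw h1)
  obtain ⟨b, hb, u, hu, e⟩ := h.cover hBP hCB hcard hBc hmv hg hm hv hv1
  refine ⟨b, hb, ?_⟩
  by_contra hne
  have hbg : b * g ∈ P := mul_mem (hBP hb) hg
  have hm2 : Mv W1 ((b * g)⁻¹ * g') := by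
    by_contra hc
    rw [not_mv_iff] at hc
    apply hne
    have := cj_eq_of_mem_normalizer hc
    have e2 : cj g' W1 = cj (b * g) (cj ((b * g)⁻¹ * g') W1) := by
      rw [cj_cj, mul_inv_cancel_left]
    rw [e2, this]
  have h3 := h.opp _ (mul_mem (inv_mem hbg) hg') hm2 w hw (by
    have e3 : (b * g)⁻¹ * g' * w * ((b * g)⁻¹ * g')⁻¹ = (b * g)⁻¹ * (g' * w * g'⁻¹) * (b * g) := by
      group
    rw [e3, e]
    have e4 : (b * g)⁻¹ * (b * (g * u * g⁻¹) * b⁻¹) * (b * g) = u := by group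
    rw [e4]; exact hu)
  apply hv0
  have h4 := h.W0n _ hbg _ h3
  have e5 : b * g * ((b * g)⁻¹ * g' * w * ((b * g)⁻¹ * g')⁻¹) * (b * g)⁻¹ = g' * w * g'⁻¹ := by
    group
  rwa [e5] at h4

end Pl

namespace InK

variable {H T Q V V0 : Subgroup G} {ι : Type} {N A : ι → Subgroup G} {q : ℕ}

theorem N_inj (h : InK H T Q V V0 N A q) [Finite G] {i j : ι} (e : N i = N j) : i = j := by
  by_contra hne
  apply h.V0_lt i
  have := h.Ninf i j hne
  rwa [← e, inf_idem] at this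

theorem Y_elem (h : InK H T Q V V0 N A q) [Finite G] :
    IsElementaryAbelian 2 (zj T ⊔ V : Subgroup G) :=
  isElementaryAbelian_sup (Bau.In.zj_elem T) h.Velem
    fun v hv => mem_centralizer_iff.2 fun z hz => h.ZcV z hz v hv

theorem bau_le_St (h : InK H T Q V V0 N A q) [Finite G] (i : ι) : bau T ≤ St H (N i) :=
  fun _ hb => ⟨h.TH (bau_le T hb), h.bau_norm_N i hb⟩

theorem line_conj (h : InK H T Q V V0 N A q) [Finite G] {i : ι} {g g' : G}
    (hg : g ∈ St H (N i)) (hm : Mv (V1 T V ⊓ N i) g) (hg' : g' ∈ St H (N i))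
    (hm' : Mv (V1 T V ⊓ N i) g') :
    ∃ b ∈ bau T, cj (b * g) (V1 T V ⊓ N i) = cj g' (V1 T V ⊓ N i) :=
  (h.pl i).line_conj (C := QL T (N i)) h.one_lt (h.bau_le_St i) inf_le_left (h.card_bau i)
    (fun _ hb _ hv => h.bau_V1 hb hv.1) (fun _ hg hm _ hb hbC => h.bau_moves hg hm hb hbC)
    hg hm hg' hm'

/-! ### The stability group of `1 ≤ V1 ≤ V` -/

/-- `{s ∈ H : [V1, s] = 1, [V, s] ≤ V1}`. -/
def SS (H T V : Subgroup G) (hn : ∀ h ∈ H, ∀ x ∈ V, h * x * h⁻¹ ∈ V) : Subgroup G where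
  carrier := {s | s ∈ H ∧ (∀ v ∈ V1 T V, s * v = v * s) ∧ ∀ v ∈ V, s * v * s⁻¹ * v⁻¹ ∈ V1 T V}
  mul_mem' := by
    rintro a b ⟨ha1, ha2, ha3⟩ ⟨hb1, hb2, hb3⟩
    refine ⟨mul_mem ha1 hb1, fun v hv => ?_, fun v hv => ?_⟩
    · rw [mul_assoc, hb2 v hv, ← mul_assoc, ha2 v hv, mul_assoc]
    · have e : a * b * v * (a * b)⁻¹ * v⁻¹ =
        a * (b * v * b⁻¹) * a⁻¹ * (b * v * b⁻¹)⁻¹ * (b * v * b⁻¹ * v⁻¹) := by group
      rw [e]
      exact mul_mem (ha3 _ (hn b hb1 v hv)) (hb3 v hv)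
  one_mem' := ⟨one_mem _, fun _ _ => by simp, fun v _ => by simp⟩
  inv_mem' := by
    rintro a ⟨ha1, ha2, ha3⟩
    refine ⟨inv_mem ha1, fun v hv => ?_, fun v hv => ?_⟩
    · exact ((show Commute a v from ha2 v hv).inv_left).eq
    · have h1 := inv_mem (ha3 _ (hn a⁻¹ (inv_mem ha1) v hv))
      have e : (a * (a⁻¹ * v * a⁻¹⁻¹) * a⁻¹ * (a⁻¹ * v * a⁻¹⁻¹)⁻¹)⁻¹ =
        a⁻¹ * v * a⁻¹⁻¹ * v⁻¹ := by group
      rwa [e] at h1

/-- `V = N_i N_i'`, where `N_i'` is the product of the other summands. -/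
theorem V_split (h : InK H T Q V V0 N A q) [Finite G] (i : ι) {v : G} (hv : v ∈ V) :
    ∃ n ∈ N i, ∃ m ∈ V, (∀ g, (∀ j, i ≠ j → ∀ w ∈ N j, g * w = w * g) → g * m = m * g) ∧
      v = n * m := by
  classical
  let M : Subgroup G := ⨆ j : {j // i ≠ j}, N j
  have hMV : M ≤ V := iSup_le fun j => h.NV j
  have h1 : V ≤ N i ⊔ M := by
    refine h.Nsup.trans (iSup_le fun j => ?_)
    by_cases hij : i = j
    · subst hij; exact le_sup_left
    · exact (le_iSup (fun j : {j // i ≠ j} => N j) ⟨j, hij⟩).trans le_sup_right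
  obtain ⟨n, hn, m, hm, rfl⟩ := mem_sup_comm (fun a ha b hb =>
    h.Vcomm a (h.NV i ha) b (hMV hb)) (h1 hv)
  refine ⟨n, hn, m, hMV hm, fun g hg => ?_, rfl⟩
  have h2 : M ≤ centralizer ({g} : Set G) := by
    refine iSup_le fun j w hw => mem_centralizer_iff.2 fun x hx => ?_
    rw [show x = g from hx]
    exact hg j j.2 w hw
  exact mem_centralizer_iff.1 (h2 hm) g rfl

theorem jj_quad (h : InK H T Q V V0 N A q) [Finite G] {b v : G} (hb : b ∈ jj T) (hv : v ∈ V) :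
    b * v * b⁻¹ * v⁻¹ ∈ V1 T V := by
  have hbH : b ∈ H := h.TH (jj_le T hb)
  let S : Subgroup G :=
    { carrier := {w | w ∈ V ∧ b * w * b⁻¹ * w⁻¹ ∈ V1 T V}
      mul_mem' := by
        rintro x y ⟨hx, hx'⟩ ⟨hy, hy'⟩
        refine ⟨mul_mem hx hy, ?_⟩
        have hyV : b * y * b⁻¹ * y⁻¹ ∈ V := mul_mem (h.Vn b hbH y hy) (inv_mem hy)
        have e : b * (x * y) * b⁻¹ * (x * y)⁻¹ =
          (b * x * b⁻¹) * ((b * y * b⁻¹ * y⁻¹) * x⁻¹) := by group
        rw [e, h.Vcomm _ hyV _ (inv_mem hx), ← mul_assoc]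
        exact mul_mem hx' hy'
      one_mem' := ⟨one_mem _, by simp⟩
      inv_mem' := by
        rintro x ⟨hx, hx'⟩
        refine ⟨inv_mem hx, ?_⟩
        have hxV : b * x * b⁻¹ ∈ V := h.Vn b hbH x hx
        have e : b * x⁻¹ * b⁻¹ * x⁻¹⁻¹ = (b * x * b⁻¹)⁻¹ * x := by group
        rw [e, h.Vcomm _ (inv_mem hxV) _ hx]
        have e2 : x * (b * x * b⁻¹)⁻¹ = (b * x * b⁻¹ * x⁻¹)⁻¹ := by group
        rw [e2]
        exact inv_mem hx' }
  have hS : (⨆ j, N j) ≤ S := iSup_le fun j w hw => ⟨h.NV j hw, h.quad j b hb w hw⟩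
  exact (hS (h.Nsup hv)).2

theorem bau_le_SS (h : InK H T Q V V0 N A q) [Finite G] : bau T ≤ SS H T V h.Vn := by
  intro b hb
  refine ⟨h.TH (bau_le T hb), fun v hv => h.bau_V1 hb hv, fun v hv => ?_⟩
  obtain ⟨j, hj, e⟩ := h.bau_act hb
  rw [e v hv]
  exact h.jj_quad hj hv

theorem SS_sq (h : InK H T Q V V0 N A q) [Finite G]
    (hH : ∀ x ∈ H, (∀ v ∈ V, x * v = v * x) → x ∈ Q) {s : G} (hs : s ∈ SS H T V h.Vn) :
    s ^ 2 ∈ Q := by
  obtain ⟨h1, h2, h3⟩ := hs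
  refine hH _ (pow_mem h1 2) fun v hv => ?_
  set w := s * v * s⁻¹ * v⁻¹ with hw
  have hwV := h3 v hv
  rw [← hw] at hwV
  have e1 : s * v * s⁻¹ = w * v := by rw [hw]; group
  have e2 : s * w * s⁻¹ = w := comm_iff.1 (h2 w hwV)
  have hww : w * w = 1 := by
    have := h.Vsq w (V1V hwV); rwa [pow_two] at this
  rw [comm_iff]
  have e3 : s ^ 2 * v * (s ^ 2)⁻¹ = s * (s * v * s⁻¹) * s⁻¹ := by
    simp only [pow_two, mul_inv_rev, mul_assoc]
  rw [e3, e1]
  have e4 : s * (w * v) * s⁻¹ = (s * w * s⁻¹) * (s * v * s⁻¹) := by group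
  rw [e4, e1, e2, ← mul_assoc, hww, one_mul]

theorem SS_pgroup (h : InK H T Q V V0 N A q) [Finite G]
    (hH : ∀ x ∈ H, (∀ v ∈ V, x * v = v * x) → x ∈ Q) :
    IsPGroup 2 (SS H T V h.Vn) := by
  intro s
  have h1 := h.SS_sq hH s.2
  obtain ⟨n, hn⟩ := h.syl.2.1 ⟨_, h.QT h1⟩
  refine ⟨n + 1, ?_⟩
  have h3 : ((s : G) ^ 2) ^ 2 ^ n = 1 := by
    have := congrArg Subtype.val hn
    simpa using this
  apply Subtype.ext
  rw [SubmonoidClass.coe_pow, OneMemClass.coe_one, pow_succ, Nat.mul_comm, pow_mul, h3]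

theorem SS_norm (h : InK H T Q V V0 N A q) [Finite G] {x : G} (hx : x ∈ H)
    (hn : x ∈ normalizer (V1 T V : Set G)) : x ∈ normalizer (SS H T V h.Vn : Set G) := by
  refine norm_of_conj ?_
  rintro s ⟨h1, h2, h3⟩
  refine ⟨mul_mem (mul_mem hx h1) (inv_mem hx), fun v hv => ?_, fun v hv => ?_⟩
  · have hv' : x⁻¹ * v * x ∈ V1 T V := by
      have := (mem_normalizer_iff.1 (inv_mem hn) v).1 hv
      rwa [inv_inv] at this
    have h5 := h2 _ hv'
    calc x * s * x⁻¹ * v = x * (s * (x⁻¹ * v * x)) * x⁻¹ := by group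
      _ = x * (x⁻¹ * v * x * s) * x⁻¹ := by rw [h5]
      _ = v * (x * s * x⁻¹) := by group
  · have hv' : x⁻¹ * v * x ∈ V := by
      have := h.Vn x⁻¹ (inv_mem hx) v hv
      rwa [inv_inv] at this
    have h5 := (mem_normalizer_iff.1 hn _).1 (h3 _ hv')
    have e : x * (s * (x⁻¹ * v * x) * s⁻¹ * (x⁻¹ * v * x)⁻¹) * x⁻¹ =
      x * s * x⁻¹ * v * (x * s * x⁻¹)⁻¹ * v⁻¹ := by group
    rwa [e] at h5

theorem T_norm_V1 (h : InK H T Q V V0 N A q) [Finite G] : T ≤ normalizer (V1 T V : Set G) :=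
  fun t ht => norm_of_conj fun v hv => by
    have h1 : t * v * t⁻¹ ∈ zj T ⊓ V :=
      ⟨Bau.In.T_norm_Z T ht (h.V1_le_Z hv), h.Vn t (h.TH ht) v (V1V hv)⟩
    rw [h.Z_inf_V] at h1
    exact h1

/-- `N_H(V1) ≤ N_H(B)`. -/
theorem norm_bau (h : InK H T Q V V0 N A q) [Finite G]
    (hH : ∀ x ∈ H, (∀ v ∈ V, x * v = v * x) → x ∈ Q) {x : G} (hx : x ∈ H)
    (hn : x ∈ normalizer (V1 T V : Set G)) : x ∈ normalizer (bau T : Set G) := by
  have hle : SS H T V h.Vn ≤ T := by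
    have h3 : IsPGroup 2 (T ⊔ SS H T V h.Vn : Subgroup G) :=
      IsPGroup.to_sup_of_normal_right' h.syl.2.1 (h.SS_pgroup hH)
        (fun t ht => h.SS_norm (h.TH ht) (h.T_norm_V1 ht))
    have h4 : SS H T V h.Vn ≤ H := fun s hs => hs.1
    exact le_sup_right.trans (h.syl.2.2 _ (sup_le h.TH h4) h3 le_sup_left).le
  have hJ : jj (SS H T V h.Vn) = jj T := jj_eq_of_jj_le ((jj_le_bau T).trans h.bau_le_SS) hle
  have hB : bau (SS H T V h.Vn) = bau T := by
    apply le_antisymm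
    · intro b hb
      obtain ⟨h3, h4⟩ := mem_bau.1 hb
      exact mem_bau.2 ⟨hle h3, by rwa [zj_congr hJ] at h4⟩
    · intro b hb
      exact mem_bau.2 ⟨h.bau_le_SS hb, by rw [zj_congr hJ]; exact (mem_bau.1 hb).2⟩
  have h3 := normalizer_le_bau (SS H T V h.Vn) (h.SS_norm hx hn)
  rwa [hB] at h3

/-- An element of `P_i` which fixes the line of `N i` normalises `B`. -/
theorem PP_norm_bau (h : InK H T Q V V0 N A q) [Finite G]
    (hH : ∀ x ∈ H, (∀ v ∈ V, x * v = v * x) → x ∈ Q) {i : ι} {x : G}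
    (hx : x ∈ PP H T V N i) (hn : ¬ Mv (V1 T V ⊓ N i) x) : x ∈ normalizer (bau T : Set G) := by
  refine h.norm_bau hH (h.PP_le_St i hx).1 (norm_of_conj fun v hv => ?_)
  obtain ⟨r, hr, b, hb, rfl⟩ := h.mem_PP hx
  obtain ⟨h3, h4, h5, h6⟩ := mem_RR.1 hr
  obtain ⟨n, hn1, m, hm, hmc, rfl⟩ := h.V_split i (V1V hv)
  -- `n ∈ V1`
  have hn2 : n ∈ V1 T V := by
    obtain ⟨a, ha, -, haN⟩ := h.A_exists i
    have haJ : a ∈ jj T := le_jj (h.AT i) ha
    refine h.cb i a haJ haN n hn1 ?_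
    have e1 := (mem_V1.1 hv).2 a haJ
    have e2 := hmc a fun j hj w hw => h.Acent i j hj a ha w hw
    have e3 : a * n * m = n * a * m := by
      calc a * n * m = a * (n * m) := by group
        _ = (n * m) * a := e1
        _ = n * (m * a) := by group
        _ = n * (a * m) := by rw [e2]
        _ = n * a * m := by group
    exact mul_right_cancel e3
  have hm1 : m ∈ V1 T V := by
    have := mul_mem (inv_mem hn2) hv
    rwa [inv_mul_cancel_left] at this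
  have e1 : r * b * (n * m) * (r * b)⁻¹ =
    ((r * b) * n * (r * b)⁻¹) * (r * (b * m * b⁻¹) * r⁻¹) := by group
  rw [e1, comm_iff.1 (h.bau_V1 hb hm1), comm_iff.1 (hmc r h5)]
  refine mul_mem ?_ hm1
  unfold Mv at hn
  push Not at hn
  exact (hn n ⟨hn2, hn1⟩).1

/-! ### `Q* = B ∩ Q` -/

theorem mem_star_iff (h : InK H T Q V V0 N A q) [Finite G] {x : G} :
    x ∈ bau T ⊓ Q ↔ x ∈ T ∧ ∀ y ∈ zj T ⊔ V, x * y = y * x := by
  constructor
  · rintro ⟨h1, h2⟩
    refine ⟨bau_le T h1, fun y hy => ?_⟩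
    obtain ⟨z, hz, v, hv, rfl⟩ := mem_sup_comm h.ZcV hy
    have e1 : z * x = x * z := (mem_bau.1 h1).2 z hz
    have e2 : x * v = v * x := h.VcQ x h2 v hv
    calc x * (z * v) = (x * z) * v := by group
      _ = z * (x * v) := by rw [← e1]; group
      _ = z * v * x := by rw [e2]; group
  · rintro ⟨h1, h2⟩
    exact ⟨mem_bau.2 ⟨h1, fun z hz => (h2 z (mem_sup_left hz)).symm⟩,
      h.cT x h1 fun v hv => h2 v (mem_sup_right hv)⟩

/-- `Q* = B ∩ Q` is normal in `H`. -/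
theorem star_norm (h : InK H T Q V V0 N A q) [Finite G] [Nonempty ι] :
    ∀ g ∈ H, ∀ x ∈ bau T ⊓ Q, g * x * g⁻¹ ∈ bau T ⊓ Q := by
  intro g hg x hx
  have h1 := h.mem_star_iff.1 hx
  refine h.mem_star_iff.2 ⟨h.QT (h.Qn g hg x hx.2), fun y hy => ?_⟩
  have hy' : g⁻¹ * y * g ∈ zj T ⊔ V := by
    have := h.Y_norm g⁻¹ (inv_mem hg) y hy
    rwa [inv_inv] at this
  have h2 := h1.2 _ hy'
  calc g * x * g⁻¹ * y = g * (x * (g⁻¹ * y * g)) * g⁻¹ := by group
    _ = g * (g⁻¹ * y * g * x) * g⁻¹ := by rw [h2]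
    _ = y * (g * x * g⁻¹) := by group

theorem mem_star_QL (h : InK H T Q V V0 N A q) [Finite G] (x : G) :
    x ∈ bau T ⊓ Q ↔ x ∈ bau T ∧ ∀ i, x ∈ QL T (N i) := by
  constructor
  · rintro ⟨h1, h2⟩
    exact ⟨h1, fun i => mem_QL.2 ⟨h1, fun v hv => h.VcQ x h2 v (h.NV i hv)⟩⟩
  · rintro ⟨h1, h2⟩
    refine ⟨h1, h.cT x (bau_le T h1) fun v hv => ?_⟩
    have h4 : (⨆ j, N j) ≤ centralizer ({x} : Set G) := by
      refine iSup_le fun j w hw => mem_centralizer_iff.2 fun u hu => ?_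
      rw [show u = x from hu]
      exact (mem_QL.1 (h2 j)).2 w hw
    exact mem_centralizer_iff.1 (h4 (h.Nsup hv)) x rfl

end InK

namespace BlkK

open InK (St VL QL mem_QL mem_St comm_iff not_QL V1V norm_of_conj)

variable {H T Q V V0 L L' : Subgroup G} {ι : Type} {N E : ι → Subgroup G} {q : ℕ} {i j : ι}

/-- `L` contains all `P_i`-conjugates of `B`. -/
theorem bau_conj (k : BlkK H T V N i L) (h : InK H T Q V V0 N E q) [Finite G]
    (hH : ∀ x ∈ H, (∀ v ∈ V, x * v = v * x) → x ∈ Q) {p : G}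
    (hp : p ∈ PP H T V N i) : cj p (bau T) ≤ L := by
  by_cases hm : Mv (V1 T V ⊓ N i) p
  · obtain ⟨l, hl, hml⟩ := k.mv
    obtain ⟨b, hb, e⟩ := h.line_conj (k.LS h hl) hml (h.PP_le_St i hp) hm
    have hbl : b * l ∈ L := mul_mem (k.BL hb) hl
    have hx : (b * l)⁻¹ * p ∈ PP H T V N i := mul_mem (inv_mem (k.LP hbl)) hp
    have hxn : ¬ Mv (V1 T V ⊓ N i) ((b * l)⁻¹ * p) := by
      rw [not_mv_iff, mem_normalizer_iff_cj, ← cj_cj, ← e, cj_cj, inv_mul_cancel, cj_one]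
    have h3 := cj_eq_of_mem_normalizer (h.PP_norm_bau hH hx hxn)
    have e2 : cj p (bau T) = cj (b * l) (cj ((b * l)⁻¹ * p) (bau T)) := by
      rw [cj_cj, mul_inv_cancel_left]
    rw [e2, h3]
    rintro _ ⟨c, hc, rfl⟩
    exact mul_mem (mul_mem hbl (k.BL hc)) (inv_mem hbl)
  · rw [cj_eq_of_mem_normalizer (h.PP_norm_bau hH hp hm)]
    exact k.BL

/-- Uniqueness of the block. -/
theorem unique (k : BlkK H T V N i L) (k' : BlkK H T V N i L') (h : InK H T Q V V0 N E q)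
    [Finite G] (hH : ∀ x ∈ H, (∀ v ∈ V, x * v = v * x) → x ∈ Q) : L' ≤ L := by
  obtain ⟨l, hl, hm⟩ := k'.mv
  exact k'.gen h hl hm k.BL fun c hc => k.bau_conj h hH (k'.LP hl) ⟨c, hc, rfl⟩

theorem cj_V1 (h : InK H T Q V V0 N E q) [Finite G] {t : G} (ht : t ∈ T) :
    cj t (V1 T V) = V1 T V := cj_eq_of_mem_normalizer (h.T_norm_V1 ht)

theorem cj_line (h : InK H T Q V V0 N E q) [Finite G] {t : G} (ht : t ∈ T)
    (hj : cj t (N i) = N j) : cj t (V1 T V ⊓ N i) = V1 T V ⊓ N j := by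
  rw [cj_inf, cj_V1 h ht, hj]

theorem mv_conj {X Y : Subgroup G} {t l : G} (e : cj t X = Y) (hm : Mv X l) :
    Mv Y (t * l * t⁻¹) := by
  obtain ⟨v, hv, hv'⟩ := hm
  refine ⟨t * v * t⁻¹, by rw [← e]; exact ⟨v, hv, rfl⟩, fun h1 => hv' ?_⟩
  rw [← e, mem_cj] at h1
  have e2 : t⁻¹ * (t * l * t⁻¹ * (t * v * t⁻¹) * (t * l * t⁻¹)⁻¹) * t = l * v * l⁻¹ := by group
  rwa [e2] at h1

theorem RR_conj (h : InK H T Q V V0 N E q) [Finite G] {t r : G} (ht : t ∈ T)
    (hj : cj t (N i) = N j) (hr : r ∈ RR H T V N i) : t * r * t⁻¹ ∈ RR H T V N j := by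
  obtain ⟨h1, h2, h3, h4⟩ := mem_RR.1 hr
  have htH := h.TH ht
  refine mem_RR.2 ⟨mul_mem (mul_mem htH h1) (inv_mem htH), ?_, fun j' hj' v hv => ?_,
    fun y hy => ?_⟩
  · refine norm_of_conj fun v hv => ?_
    rw [← hj, mem_cj] at hv ⊢
    have := (mem_normalizer_iff.1 h2 _).1 hv
    have e : t⁻¹ * (t * r * t⁻¹ * v * (t * r * t⁻¹)⁻¹) * t = r * (t⁻¹ * v * t) * r⁻¹ := by group
    rwa [e]
  · obtain ⟨i', hi'⟩ := h.Nperm t⁻¹ (inv_mem htH) j'
    have hne : i ≠ i' := by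
      rintro rfl
      apply hj'
      apply h.N_inj
      rw [← hj, ← hi', cj_cj_inv]
    have hv' : t⁻¹ * v * t ∈ N i' := by
      rw [← hi', mem_cj, inv_inv]
      have e : t * (t⁻¹ * v * t) * t⁻¹ = v := by group
      rwa [e]
    have h5 := h3 i' hne _ hv'
    calc t * r * t⁻¹ * v = t * (r * (t⁻¹ * v * t)) * t⁻¹ := by group
      _ = t * (t⁻¹ * v * t * r) * t⁻¹ := by rw [h5]
      _ = v * (t * r * t⁻¹) := by group
  · have hy' : t⁻¹ * y * t ∈ zj T ⊔ V := by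
      have := h.T_norm_Y (inv_mem ht) hy
      rwa [inv_inv] at this
    rw [← hj, mem_cj]
    have h5 := h4 _ hy'
    have e : t⁻¹ * (t * r * t⁻¹ * y * (t * r * t⁻¹)⁻¹ * y⁻¹) * t =
      r * (t⁻¹ * y * t) * r⁻¹ * (t⁻¹ * y * t)⁻¹ := by group
    rwa [e]

theorem PP_conj (h : InK H T Q V V0 N E q) [Finite G] {t : G} (ht : t ∈ T)
    (hj : cj t (N i) = N j) : cj t (PP H T V N i) ≤ PP H T V N j := by
  rintro _ ⟨p, hp, rfl⟩
  obtain ⟨r, hr, b, hb, rfl⟩ := h.mem_PP hp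
  have h1 : t * r * t⁻¹ ∈ PP H T V N j := mem_sup_left (RR_conj h ht hj hr)
  have h2 : t * b * t⁻¹ ∈ PP H T V N j := mem_sup_right (T_norm_bau ht hb)
  have e : (MulAut.conj t).toMonoidHom (r * b) = (t * r * t⁻¹) * (t * b * t⁻¹) := by
    simp only [MulEquiv.toMonoidHom_eq_coe, MonoidHom.coe_coe, MulAut.conj_apply]
    group
  rw [e]
  exact mul_mem h1 h2

/-- `T` permutes the blocks. -/
theorem conj (k : BlkK H T V N i L) (h : InK H T Q V V0 N E q) [Finite G] {t : G} (ht : t ∈ T)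
    (hj : cj t (N i) = N j) : BlkK H T V N j (cj t L) where
  BL b hb := by
    rw [mem_cj]
    have := T_norm_bau (inv_mem ht) hb
    rw [inv_inv] at this
    exact k.BL this
  LP := (cj_mono t k.LP).trans (PP_conj h ht hj)
  mv := by
    obtain ⟨l, hl, hm⟩ := k.mv
    exact ⟨t * l * t⁻¹, ⟨l, hl, rfl⟩, mv_conj (cj_line h ht hj) hm⟩
  min X hX hB hmx := by
    have hj' : cj t⁻¹ (N j) = N i := by rw [← hj, cj_inv_cj]
    have h1 : L ≤ cj t⁻¹ X := by
      refine k.min _ ?_ ?_ ?_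
      · have := cj_mono t⁻¹ hX
        rwa [cj_inv_cj] at this
      · intro b hb
        rw [mem_cj, inv_inv]
        exact hB (T_norm_bau ht hb)
      · obtain ⟨x, hx, hm⟩ := hmx
        exact ⟨t⁻¹ * x * t⁻¹⁻¹, ⟨x, hx, rfl⟩, mv_conj (cj_line h (inv_mem ht) hj') hm⟩
    have := cj_mono t h1
    rwa [cj_cj_inv] at this

/-- `L_i` acts on `N j` (`j ≠ i`) as a subgroup of `B`. -/
theorem act_other (k : BlkK H T V N i L) (h : InK H T Q V V0 N E q) [Finite G] {l : G}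
    (hl : l ∈ L) (hij : i ≠ j) : ∃ b ∈ bau T, ∀ v ∈ N j, l * v * l⁻¹ = b * v * b⁻¹ := by
  obtain ⟨r, hr, b, hb, rfl⟩ := h.mem_PP (k.LP hl)
  refine ⟨b, hb, fun v hv => ?_⟩
  have e : r * b * v * (r * b)⁻¹ = r * (b * v * b⁻¹) * r⁻¹ := by group
  rw [e, comm_iff.1 ((mem_RR.1 hr).2.2.1 j hij _ (h.bau_N hb hv))]

/-- `T` is transitive on the summands. -/
theorem trans (h : InK H T Q V V0 N E q) [Finite G] (i j : ι) : ∃ t ∈ T, cj t (N i) = N j := by
  classical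
  obtain ⟨L, k⟩ := h.exists_blk i
  by_contra hcon
  let O : Set ι := {j | ∃ t ∈ T, cj t (N i) = N j}
  have hjO : j ∉ O := hcon
  have hiO : i ∈ O := ⟨1, one_mem _, cj_one _⟩
  let F : G → Prop := fun g => ∀ j, j ∉ O → ∃ j', j' ∉ O ∧ cj g (N j) = N j' ∧
    cj g (V1 T V ⊓ N j) = V1 T V ⊓ N j'
  have Fmul : ∀ a b, F a → F b → F (a * b) := by
    intro a b ha hb j hj
    obtain ⟨j1, h1, h2, h3⟩ := hb j hj
    obtain ⟨j2, h4, h5, h6⟩ := ha j1 h1
    exact ⟨j2, h4, by rw [← cj_cj, h2, h5], by rw [← cj_cj, h3, h6]⟩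
  let X : Subgroup G :=
    { carrier := {g | F g ∧ F g⁻¹}
      mul_mem' := by
        rintro a b ⟨ha, ha'⟩ ⟨hb, hb'⟩
        exact ⟨Fmul a b ha hb, by rw [mul_inv_rev]; exact Fmul _ _ hb' ha'⟩
      one_mem' := by
        have : F 1 := fun j hj => ⟨j, hj, cj_one _, cj_one _⟩
        exact ⟨this, by rw [inv_one]; exact this⟩
      inv_mem' := by
        rintro a ⟨ha, ha'⟩
        exact ⟨ha', by rw [inv_inv]; exact ha⟩ }
  have FT : ∀ t ∈ T, F t := by
    intro t ht j hj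
    obtain ⟨j', hj'⟩ := h.Nperm t (h.TH ht) j
    refine ⟨j', fun ⟨u, hu, e⟩ => hj ⟨t⁻¹ * u, mul_mem (inv_mem ht) hu, ?_⟩, hj', cj_line h ht hj'⟩
    rw [← cj_cj, e, ← hj', cj_inv_cj]
  have FL : ∀ l ∈ L, F l := by
    intro l hl j hj
    have hij : i ≠ j := by rintro rfl; exact hj hiO
    obtain ⟨b, hb, e⟩ := k.act_other h hl hij
    have e1 : ∀ U : Subgroup G, U ≤ N j → cj l U = cj b U := by
      intro U hU
      ext x
      constructor
      · rintro ⟨v, hv, rfl⟩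
        exact ⟨v, hv, (e v (hU hv)).symm⟩
      · rintro ⟨v, hv, rfl⟩
        exact ⟨v, hv, e v (hU hv)⟩
    refine ⟨j, hj, ?_, ?_⟩
    · rw [e1 _ le_rfl, cj_eq_of_mem_normalizer (h.bau_norm_N j hb)]
    · rw [e1 _ inf_le_right, cj_inf, cj_eq_of_mem_normalizer (h.bau_norm_N j hb),
        cj_V1 h (bau_le T hb)]
  have hH : H ≤ X := k.sup_T h (fun t ht => ⟨FT t ht, FT _ (inv_mem ht)⟩)
    fun l hl => ⟨FL l hl, FL _ (inv_mem hl)⟩
  obtain ⟨g, hg, hgN, hm⟩ := h.ne j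
  obtain ⟨j', -, h2, h3⟩ := (hH hg).1 j hjO
  have hjj : j = j' := h.N_inj (by rw [← hgN, h2])
  subst hjj
  exact not_mv_iff.2 (mem_normalizer_iff_cj.2 h3) hm

end BlkK

open InK (St VL QL mem_QL mem_St comm_iff not_QL V1V norm_of_conj)
open BlkK (DK)

variable {H T Q V V0 : Subgroup G} {ι : Type} {N E : ι → Subgroup G} {q : ℕ}

/-- If `C_H(V) = Q`, then `T` permutes the blocks. -/
theorem BlkK.cj_eq {L : ι → Subgroup G} (hL : ∀ i, BlkK H T V N i (L i))
    (h : InK H T Q V V0 N E q) [Finite G] (hH : ∀ x ∈ H, (∀ v ∈ V, x * v = v * x) → x ∈ Q)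
    {t : G} (ht : t ∈ T) {i j : ι} (hj : cj t (N i) = N j) : cj t (L i) = L j :=
  le_antisymm ((hL j).unique ((hL i).conj h ht hj) h hH)
    (((hL i).conj h ht hj).unique (hL j) h hH)

/-- Input of the matching. -/
theorem BlkK.min_in {L : ι → Subgroup G} (hL : ∀ i, BlkK H T V N i (L i))
    (h : InK H T Q V V0 N E q) [Finite G] {A : Subgroup G}
    (hTA : T ≤ A) (hAT : A ≤ normalizer (T : Set G))
    (idx : ∀ a ∈ A, ∀ b ∈ A, a ∉ T → b ∉ T → a⁻¹ * b ∈ T)
    (hcore : ∀ R : Subgroup G, R ≤ T → (∀ x ∈ H, ∀ r ∈ R, x * r * x⁻¹ ∈ R) →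
      (∀ a ∈ A, ∀ r ∈ R, a * r * a⁻¹ ∈ R) → R = ⊥)
    {s : G} (hs : s ∈ A) (hsT : s ∉ T) :
    Match.MIn A T (bau T) (zj T) (bau T ⊓ Q) s L (fun i => QL T (N i)) (fun i => VL T (N i))
      (fun i => DK T (N i)) := by
  have hZ : ∀ t ∈ T, cj t (zj T) = zj T := fun t ht => cj_eq_of_mem_normalizer
    (normalizer_le_of_cj (F := zj) zj_cj T (le_normalizer ht))
  exact {
    dat := fun i => (hL i).dat h hTA hAT idx hcore
    sA := hs
    sT := hsT
    Pmem := h.mem_star_QL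
    comm := fun i j v hv w hw => elem_comm h.Y_elem v
      (sup_le le_sup_left ((h.NV i).trans le_sup_right) hv) w
      (sup_le le_sup_left ((h.NV j).trans le_sup_right) hw)
    perm := by
      intro t ht i
      obtain ⟨j, hj⟩ := h.Nperm t (h.TH ht) i
      refine ⟨j, fun v hv => ?_, fun d hd => ?_⟩
      · have e : cj t (VL T (N i)) = VL T (N j) := by
          have e1 := hZ t ht
          rw [cj] at e1 hj
          rw [cj, VL, Subgroup.map_sup, e1, hj, VL]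
        rw [← e]; exact ⟨v, hv, rfl⟩
      · rw [← BlkK.cj_D ht hj]; exact ⟨d, hd, rfl⟩
    trans := by
      intro i j
      obtain ⟨t, ht, hj⟩ := BlkK.trans h i j
      exact ⟨t, ht, fun d hd => by rw [← BlkK.cj_D ht hj]; exact ⟨d, hd, rfl⟩⟩
    Dinj := by
      intro i j hij
      by_contra hne
      apply BlkK.D_not_le h i
      intro d hd
      exact h.Ninf i j hne ⟨(BlkK.D_le h i hd).2, (BlkK.D_le h j (hij hd)).2⟩
    LP := fun i l hl x hx => by
      have : Nonempty ι := ⟨i⟩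
      exact h.star_norm l ((hL i).LH h hl) x hx
    cross := by
      intro i j hij l hl d hd
      have hd' := BlkK.D_le h i hd
      obtain ⟨r, hr, b, hb, rfl⟩ := h.mem_PP ((hL j).LP hl)
      have e1 := h.bau_V1 hb hd'.1
      have e2 := (mem_RR.1 hr).2.2.1 i (Ne.symm hij) d hd'.2
      calc r * b * d = r * (b * d) := by group
        _ = (r * d) * b := by rw [e1]; group
        _ = d * (r * b) := by rw [e2]; group }

/-- Input of the matching. -/
theorem InK.min_in (h : InK H T Q V V0 N E q) [Finite G] {A : Subgroup G}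
    (hTA : T ≤ A) (hAT : A ≤ normalizer (T : Set G))
    (idx : ∀ a ∈ A, ∀ b ∈ A, a ∉ T → b ∉ T → a⁻¹ * b ∈ T)
    (hcore : ∀ R : Subgroup G, R ≤ T → (∀ x ∈ H, ∀ r ∈ R, x * r * x⁻¹ ∈ R) →
      (∀ a ∈ A, ∀ r ∈ R, a * r * a⁻¹ ∈ R) → R = ⊥)
    {s : G} (hs : s ∈ A) (hsT : s ∉ T) :
    ∃ L : ι → Subgroup G, (∀ i, BlkK H T V N i (L i)) ∧
      Match.MIn A T (bau T) (zj T) (bau T ⊓ Q) s L (fun i => QL T (N i)) (fun i => VL T (N i))
        (fun i => DK T (N i)) := by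
  choose L hL using fun i => h.exists_blk i
  exact ⟨L, hL, BlkK.min_in hL h hTA hAT idx hcore hs hsT⟩

end Cfsg.Agent.Omega.SQ1.BauK

end

section


/-!
# SQ1, L1 for `k` blocks: the output of the FF-theorem, basic facts

`FFK ι F H T V V0`: `V / V0` is the direct sum of natural `SL₂(F)`-modules (index set `ι`), permuted
by `H`, transitively by `T`; each `A ∈ A(T)` acts as a product of full root groups.
-/

set_option autoImplicit false
set_option linter.unusedSectionVars false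
set_option linter.unusedVariables false

namespace Cfsg.Agent.Omega.SQ1.FFOne

open Subgroup Cfsg Cfsg.Agent.PLocal.ThompsonJ Cfsg.Agent.ZN Cfsg.Agent.ZN.ChoiceBase
open Cfsg.Agent.ZN.ChoiceSit
open Cfsg.Agent.Omega.NatPair Cfsg.Agent.Lib.SL2Mat
open Cfsg.Agent.PLocal.ElemAbSup
open Cfsg.Agent.Omega.SQ1.Bau (mem_AA_of_comm zj_le_AA elem_comm elem_sq mem_sup_comm card_sup_comm
  mem_sup_norm Mv not_mv_iff mv_inv)
open scoped Pointwise

universe u

variable {G : Type u} [Group G]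

/-! ### More on natural sections -/

namespace NatSec

variable {F : Type*} [Field F] {H V V0 : Subgroup G} (M : NatSec F H V V0)

/-- The image of the line under `g ∈ H`. -/
theorem act_line [Finite F] {g : G} (hg : g ∈ H) : ∃ s : F ≃+* F, ∀ v ∈ V, M.π v 1 = 0 →
    M.π (g * v * g⁻¹) = s (M.π v 0) • M.act g ![1, 0] := by
  obtain ⟨s, hs⟩ := M.exists_semi hg
  refine ⟨s, fun v hv h1 => ?_⟩
  have e : M.π v = M.π v 0 • ![1, 0] := by
    apply ext2
    · simp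
    · rw [h1]; simp
  rw [← M.act_π hg hv, ← hs, ← e]

/-- `g` moves the line `F e₁` iff ... -/
theorem opp' [Finite F] {g : G} (hg : g ∈ H) (hm : ∃ v ∈ V, M.π v 1 = 0 ∧ M.π (g * v * g⁻¹) 1 ≠ 0)
    {v : G} (hv : v ∈ V) (hv1 : M.π v 1 = 0) (hv2 : M.π (g * v * g⁻¹) 1 = 0) :
    M.π (g * v * g⁻¹) = 0 := by
  obtain ⟨s, hs⟩ := M.act_line hg
  obtain ⟨w, hw, hw1, hw2⟩ := hm
  have h0 : M.act g ![1, 0] 1 ≠ 0 := by
    intro h0
    apply hw2
    rw [hs w hw hw1, Pi.smul_apply, h0, smul_zero]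
  rw [hs v hv hv1, Pi.smul_apply, smul_eq_mul] at hv2
  rw [hs v hv hv1, (mul_eq_zero.1 hv2).resolve_right h0, zero_smul]

/-- a 2-element acting trivially on the line induces an `up c`. -/
theorem up_of_line [Finite G] [Finite F] [CharP F 2] {t : G} (hH : t ∈ H) {n : ℕ}
    (hn' : t ^ 2 ^ n = 1)
    (hc : ∀ v ∈ V, M.π v 1 = 0 → M.π (t * v * t⁻¹) = M.π v) : ∃ c : F, M.Ind t (up c) := by
  obtain ⟨s, hs⟩ := M.exists_semi hH
  have h1 : ∀ c : F, M.act t (c • ![1, 0]) = c • ![1, 0] := by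
    intro c
    obtain ⟨v, hv, e⟩ := M.surj (c • ![1, 0])
    rw [← e, M.act_π hH hv, hc v hv (by rw [e]; simp)]
  have h2 : ∀ c : F, s c = c := by
    intro c
    have h3 := hs c ![1, 0]
    have h4 := h1 1
    rw [one_smul] at h4
    rw [h1, h4] at h3
    have h5 := congrFun h3 0
    simp at h5
    exact h5.symm
  have h3 : ∀ (c : F) x, M.act t (c • x) = c • M.act t x := fun c x => by rw [hs, h2]
  set y := M.act t ![0, 1] with hy
  have h4 : ∀ x, M.act t x = ![x 0 + x 1 * y 0, x 1 * y 1] := by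
    intro x
    have hx : x = x 0 • ![1, 0] + x 1 • ![0, 1] := by apply ext2 <;> simp
    have h5 := M.act_add hH (x 0 • ![1, 0]) (x 1 • ![0, 1])
    rw [← hx, h1, h3, ← hy] at h5
    rw [h5]
    apply ext2 <;> simp
  have h5 : ∀ n : ℕ, M.act (t ^ n) ![0, 1] 1 = y 1 ^ n := by
    intro n
    induction n with
    | zero => rw [pow_zero, M.act_one]; simp
    | succ n ih =>
      rw [pow_succ', M.act_mul hH (pow_mem hH n), h4]
      simp only [Matrix.cons_val_one]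
      rw [ih, pow_succ]
      rfl
  have h6 := h5 (2 ^ n)
  rw [hn', M.act_one] at h6
  have h7 : y 1 = 1 := FF.eq_one_of_pow' (k := n) (by rw [← h6]; rfl)
  refine ⟨y 0, ?_⟩
  rw [M.ind_iff hH]
  intro x
  rw [h4, h7]
  apply ext2
  · rw [ap_zero']; simp [mul_comm]
  · rw [ap_one']; simp

end NatSec

/-! ### The output of the FF-theorem, `k` blocks -/

/-- `h` acts as `A` on the `i`-th coordinate, trivially on the others and centralises `ker π i`. -/
structure Act1 {ι : Type} {F : Type*} [Field F] (π : ι → G → Fin 2 → F) (V : Subgroup G) (i : ι)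
    (h : G) (A : Matrix.SpecialLinearGroup (Fin 2) F) : Prop where
  act : ∀ v ∈ V, π i (h * v * h⁻¹) = ap A (π i v)
  oth : ∀ j, j ≠ i → ∀ v ∈ V, π j (h * v * h⁻¹) = π j v
  cent : ∀ v ∈ V, π i v = 0 → h * v = v * h

/-- The output of the FF-theorem: `V / V0` is the direct sum of natural `SL₂(F)`-modules. -/
structure FFK (ι : Type) (F : Type*) [Field F] (H T V V0 : Subgroup G) where
  π : ι → G → Fin 2 → F
  map_mul : ∀ i, ∀ v ∈ V, ∀ w ∈ V, π i (v * w) = π i v + π i w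
  V0V : V0 ≤ V
  ker : ∀ v ∈ V, (∀ i, π i v = 0) ↔ v ∈ V0
  surj : ∀ i, ∀ x : Fin 2 → F, ∃ v ∈ V, π i v = x ∧ ∀ j, j ≠ i → π j v = 0
  Vn : ∀ h ∈ H, ∀ v ∈ V, h * v * h⁻¹ ∈ V
  perm : ∀ h ∈ H, ∀ i, ∃ j, ∀ v ∈ V, π i v = 0 → π j (h * v * h⁻¹) = 0
  lift : ∀ i, ∀ A : Matrix.SpecialLinearGroup (Fin 2) F, ∃ h ∈ H, Act1 π V i h A
  norm : ∀ i, ∀ g ∈ H, (∀ v ∈ V, π i v = 0 → π i (g * v * g⁻¹) = 0) → ∀ h ∈ H,
    ∀ A : Matrix.SpecialLinearGroup (Fin 2) F, Act1 π V i h A →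
    ∃ B : Matrix.SpecialLinearGroup (Fin 2) F,
      ∀ v ∈ V, π i (g * h * g⁻¹ * v * (g * h * g⁻¹)⁻¹) = ap B (π i v)
  off1 : ∀ A ∈ AA T, ∀ a ∈ A, ∀ i, ∃ c : F, ∀ v ∈ V, π i (a * v * a⁻¹) = ap (up c) (π i v)
  off2 : ∀ A ∈ AA T, ∀ i, ¬ (∀ a ∈ A, ∀ v ∈ V, π i (a * v * a⁻¹) = π i v) → ∀ c : F, ∃ a ∈ A,
    Act1 π V i a (up c)
  trans : ∀ i j, ∃ t ∈ T, ∀ v ∈ V, π i v = 0 → π j (t * v * t⁻¹) = 0
  VQ : V ≤ o2 H
  Vsq : ∀ v ∈ V, v ^ 2 = 1
  VcQ : ∀ x ∈ o2 H, ∀ v ∈ V, x * v = v * x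
  nle : ¬ jj T ≤ o2 H

namespace FFK

variable {ι : Type} {F : Type*} [Field F] {H T V V0 : Subgroup G} (M : FFK ι F H T V V0)

theorem map_one (i : ι) : M.π i 1 = 0 := by
  have := M.map_mul i 1 (one_mem V) 1 (one_mem V)
  rw [one_mul] at this
  exact left_eq_add.1 this

theorem map_inv (i : ι) {v : G} (hv : v ∈ V) : M.π i v⁻¹ = - M.π i v := by
  have := M.map_mul i v hv v⁻¹ (inv_mem hv)
  rw [mul_inv_cancel, M.map_one] at this
  exact (neg_eq_of_add_eq_zero_right this.symm).symm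

theorem map_div (i : ι) {v w : G} (hv : v ∈ V) (hw : w ∈ V) :
    M.π i (v * w⁻¹) = M.π i v - M.π i w := by
  rw [M.map_mul i v hv _ (inv_mem hw), M.map_inv i hw, sub_eq_add_neg]

/-- the kernel of `π i` -/
def W (i : ι) : Subgroup G where
  carrier := {v | v ∈ V ∧ M.π i v = 0}
  mul_mem' := by
    rintro a b ⟨ha, ha'⟩ ⟨hb, hb'⟩
    exact ⟨mul_mem ha hb, by rw [M.map_mul i a ha b hb, ha', hb', add_zero]⟩
  one_mem' := ⟨one_mem V, M.map_one i⟩
  inv_mem' := by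
    rintro a ⟨ha, ha'⟩
    exact ⟨inv_mem ha, by rw [M.map_inv i ha, ha', neg_zero]⟩

/-- the preimage of the `i`-th summand -/
def N (i : ι) : Subgroup G where
  carrier := {v | v ∈ V ∧ ∀ j, j ≠ i → M.π j v = 0}
  mul_mem' := by
    rintro a b ⟨ha, ha'⟩ ⟨hb, hb'⟩
    exact ⟨mul_mem ha hb, fun j hj => by rw [M.map_mul j a ha b hb, ha' j hj, hb' j hj, add_zero]⟩
  one_mem' := ⟨one_mem V, fun j _ => M.map_one j⟩
  inv_mem' := by
    rintro a ⟨ha, ha'⟩
    exact ⟨inv_mem ha, fun j hj => by rw [M.map_inv j ha, ha' j hj, neg_zero]⟩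

theorem mem_W {i : ι} {v : G} : v ∈ M.W i ↔ v ∈ V ∧ M.π i v = 0 := Iff.rfl

theorem mem_N {i : ι} {v : G} : v ∈ M.N i ↔ v ∈ V ∧ ∀ j, j ≠ i → M.π j v = 0 := Iff.rfl

theorem NV (i : ι) : M.N i ≤ V := fun _ h => h.1

theorem WV (i : ι) : M.W i ≤ V := fun _ h => h.1

theorem N_le_W {i j : ι} (h : j ≠ i) : M.N i ≤ M.W j := fun _ hv => ⟨hv.1, hv.2 j h⟩

theorem V0_le_W (i : ι) : V0 ≤ M.W i := fun v hv => ⟨M.V0V hv, (M.ker v (M.V0V hv)).2 hv i⟩

theorem V0_le_N (i : ι) : V0 ≤ M.N i := fun v hv => ⟨M.V0V hv, fun j _ =>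
  (M.ker v (M.V0V hv)).2 hv j⟩

/-- decomposition `V = N_i W_i` -/
theorem split (i : ι) {v : G} (hv : v ∈ V) :
    ∃ n ∈ M.N i, ∃ w ∈ M.W i, v = n * w ∧ M.π i n = M.π i v := by
  obtain ⟨n, hn, e, hj⟩ := M.surj i (M.π i v)
  refine ⟨n, ⟨hn, hj⟩, n⁻¹ * v, ⟨mul_mem (inv_mem hn) hv, ?_⟩, by group, e⟩
  rw [M.map_mul i _ (inv_mem hn) v hv, M.map_inv i hn, e, neg_add_cancel]

theorem W_inj {i j : ι} (h : M.W i ≤ M.W j) : i = j := by
  by_contra hne
  obtain ⟨v, hv, e, hj⟩ := M.surj j ![1, 0]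
  have h1 := (h ⟨hv, hj i hne⟩).2
  rw [e] at h1
  have := congrFun h1 0
  simp at this

theorem N_inj {i j : ι} (h : M.N i ≤ M.N j) : i = j := by
  by_contra hne
  obtain ⟨v, hv, e, hj⟩ := M.surj i ![1, 0]
  have h1 := (h ⟨hv, hj⟩).2 i hne
  rw [e] at h1
  have := congrFun h1 0
  simp at this

theorem card_W [Finite G] (i : ι) : Nat.card V = Nat.card (M.W i) * Nat.card (Fin 2 → F) := by
  refine card_of_map (M.π i) (M.map_mul i) (M.WV i) ?_ ?_
  · intro v hv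
    exact ⟨fun h => ⟨hv, h⟩, fun h => h.2⟩
  · intro c
    obtain ⟨v, hv, e, -⟩ := M.surj i c
    exact ⟨v, hv, e⟩

theorem card_W_eq [Finite G] [Finite F] (i j : ι) : Nat.card (M.W i) = Nat.card (M.W j) := by
  have h1 := M.card_W i
  rw [M.card_W j] at h1
  exact (Nat.eq_of_mul_eq_mul_right Nat.card_pos h1).symm

theorem W_cj [Finite G] [Finite F] {h : G} (hh : h ∈ H) (i : ι) : ∃ j, cj h (M.W i) = M.W j := by
  obtain ⟨j, hj⟩ := M.perm h hh i
  refine ⟨j, Subgroup.eq_of_le_of_card_ge ?_ ?_⟩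
  · rintro _ ⟨v, hv, rfl⟩
    exact ⟨M.Vn h hh v hv.1, hj v hv.1 hv.2⟩
  · rw [card_cj]; exact (M.card_W_eq j i).le

theorem W_trans [Finite G] [Finite F] (hTH : T ≤ H) (i j : ι) : ∃ t ∈ T, cj t (M.W i) = M.W j := by
  obtain ⟨t, ht, hj⟩ := M.trans i j
  refine ⟨t, ht, Subgroup.eq_of_le_of_card_ge ?_ ?_⟩
  · rintro _ ⟨v, hv, rfl⟩
    exact ⟨M.Vn t (hTH ht) v hv.1, hj v hv.1 hv.2⟩
  · rw [card_cj]; exact (M.card_W_eq j i).le

include M in
theorem cj_V {h : G} (hh : h ∈ H) : cj h V = V := by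
  ext v
  rw [mem_cj]
  constructor
  · intro hv
    have := M.Vn h hh _ hv
    have e : h * (h⁻¹ * v * h) * h⁻¹ = v := by group
    rwa [e] at this
  · intro hv
    have := M.Vn h⁻¹ (inv_mem hh) v hv
    rwa [inv_inv] at this

theorem N_cj [Finite G] [Finite F] {h : G} (hh : h ∈ H) {i j : ι} (e : cj h (M.W i) = M.W j) :
    cj h (M.N i) = M.N j := by
  have key : ∀ h ∈ H, ∀ i j, cj h (M.W i) = M.W j → cj h (M.N i) ≤ M.N j := by
    intro h hh i j e
    rintro _ ⟨v, hv, rfl⟩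
    refine ⟨M.Vn h hh v hv.1, fun k hk => ?_⟩
    obtain ⟨k', hk'⟩ := M.W_cj (inv_mem hh) k
    have hne : k' ≠ i := by
      rintro rfl
      apply hk
      apply M.W_inj
      rw [← e, ← hk', cj_cj_inv]
    have h1 : v ∈ M.W k' := M.N_le_W hne hv
    rw [← hk', mem_cj, inv_inv] at h1
    exact h1.2
  apply le_antisymm (key h hh i j e)
  have h1 := key h⁻¹ (inv_mem hh) j i (by rw [← e, cj_inv_cj])
  have h2 := cj_mono h h1
  rwa [cj_cj_inv] at h2

theorem W_cj_of_N [Finite G] [Finite F] {h : G} (hh : h ∈ H) {i : ι}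
    (e : cj h (M.N i) = M.N i) : cj h (M.W i) = M.W i := by
  obtain ⟨j, hj⟩ := M.W_cj hh i
  have h1 := M.N_cj hh hj
  rw [e] at h1
  rw [hj, M.N_inj h1.le]

include M in
theorem V0n [Finite G] [Finite F] : ∀ h ∈ H, ∀ v ∈ V0, h * v * h⁻¹ ∈ V0 := by
  intro h hh v hv
  rw [← M.ker _ (M.Vn h hh v (M.V0V hv))]
  intro i
  obtain ⟨j, hj⟩ := M.W_cj (inv_mem hh) i
  have h1 := M.V0_le_W j hv
  rw [← hj, mem_cj, inv_inv] at h1
  exact h1.2

/-- The stabiliser of the summand `i`. -/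
def St (M : FFK ι F H T V V0) (i : ι) : Subgroup G := H ⊓ normalizer (M.W i : Set G)

theorem mem_St {i : ι} {h : G} : h ∈ M.St i ↔ h ∈ H ∧ cj h (M.W i) = M.W i := by
  rw [St, mem_inf, mem_normalizer_iff_cj]

theorem act1_mem_St {i : ι} {h : G} [Finite G] {A : Matrix.SpecialLinearGroup (Fin 2) F}
    (hA : Act1 M.π V i h A) (hh : h ∈ H) : h ∈ M.St i := by
  refine ⟨hh, mem_norm_of fun v hv => ?_⟩
  rw [hA.cent v hv.1 hv.2, mul_inv_cancel_right]
  exact hv

/-- The natural section `V / W i`. -/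
def sec [Finite G] (i : ι) : NatSec F (M.St i) V (M.W i) where
  π := M.π i
  map_mul := M.map_mul i
  V0V := M.WV i
  ker v hv := ⟨fun h => ⟨hv, h⟩, fun h => h.2⟩
  surj x := by
    obtain ⟨v, hv, e, -⟩ := M.surj i x
    exact ⟨v, hv, e⟩
  Vn h hh v hv := M.Vn h hh.1 v hv
  V0n h hh v hv := conj_mem_of_norm hh.2 hv
  lift A := by
    obtain ⟨h, hh, h1⟩ := M.lift i A
    exact ⟨h, M.act1_mem_St h1 hh, h1.act⟩
  norm := by
    intro g hg h hh A hA
    obtain ⟨x, hx, h1⟩ := M.lift i A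
    obtain ⟨B, hB⟩ := M.norm i g hg.1
      (fun v hv hv0 => (conj_mem_of_norm hg.2 (show v ∈ M.W i from ⟨hv, hv0⟩)).2) x hx A h1
    refine ⟨B, fun v hv => ?_⟩
    rw [← hB v hv]
    -- `h` and `x` act in the same way on `V / W i`
    have hv' : g⁻¹ * v * g ∈ V := by
      have := M.Vn g⁻¹ (inv_mem hg.1) v hv
      rwa [inv_inv] at this
    set w := g⁻¹ * v * g with hw
    have e1 : g * h * g⁻¹ * v * (g * h * g⁻¹)⁻¹ = g * (h * w * h⁻¹) * g⁻¹ := by rw [hw]; group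
    have e2 : g * x * g⁻¹ * v * (g * x * g⁻¹)⁻¹ = g * (x * w * x⁻¹) * g⁻¹ := by rw [hw]; group
    have hhV := M.Vn h hh.1 w hv'
    have hxV := M.Vn x hx w hv'
    have h3 : (h * w * h⁻¹) * (x * w * x⁻¹)⁻¹ ∈ M.W i := by
      refine ⟨mul_mem hhV (inv_mem hxV), ?_⟩
      rw [M.map_div i hhV hxV, hA w hv', h1.act w hv', sub_self]
    have h4 := (conj_mem_of_norm hg.2 h3).2
    have e3 : g * (h * w * h⁻¹ * (x * w * x⁻¹)⁻¹) * g⁻¹ =
      (g * (h * w * h⁻¹) * g⁻¹) * (g * (x * w * x⁻¹) * g⁻¹)⁻¹ := by group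
    rw [e3, M.map_div i (M.Vn g hg.1 _ hhV) (M.Vn g hg.1 _ hxV), sub_eq_zero] at h4
    rw [e1, e2, h4]

/-! ### The kernel of the action on `V / V0` -/

/-- the kernel of the action on `V / V0` -/
def kern [Finite G] [Finite F] (M : FFK ι F H T V V0) : Subgroup G where
  carrier := {g | g ∈ H ∧ ∀ v ∈ V, ∀ i, M.π i (g * v * g⁻¹) = M.π i v}
  mul_mem' := by
    rintro a b ⟨ha, ha'⟩ ⟨hb, hb'⟩
    refine ⟨mul_mem ha hb, fun v hv i => ?_⟩
    have e : a * b * v * (a * b)⁻¹ = a * (b * v * b⁻¹) * a⁻¹ := by group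
    rw [e, ha' _ (M.Vn b hb v hv), hb' v hv]
  one_mem' := ⟨one_mem H, fun v _ i => by rw [one_mul, inv_one, mul_one]⟩
  inv_mem' := by
    rintro a ⟨ha, ha'⟩
    refine ⟨inv_mem ha, fun v hv i => ?_⟩
    rw [← ha' _ (M.Vn a⁻¹ (inv_mem ha) v hv)]
    congr 1
    group

theorem mem_kern [Finite G] [Finite F] {g : G} :
    g ∈ M.kern ↔ g ∈ H ∧ ∀ v ∈ V, ∀ i, M.π i (g * v * g⁻¹) = M.π i v := Iff.rfl

theorem kern_norm [Finite G] [Finite F] {g k : G} (hg : g ∈ H) (hk : k ∈ M.kern) :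
    g * k * g⁻¹ ∈ M.kern := by
  refine ⟨mul_mem (mul_mem hg hk.1) (inv_mem hg), fun v hv i => ?_⟩
  have hv' : g⁻¹ * v * g ∈ V := by
    have := M.Vn g⁻¹ (inv_mem hg) v hv
    rwa [inv_inv] at this
  set w := g⁻¹ * v * g with hw
  have h1 : (k * w * k⁻¹) * w⁻¹ ∈ V0 := by
    rw [← M.ker _ (mul_mem (M.Vn k hk.1 w hv') (inv_mem hv'))]
    intro j
    rw [M.map_div j (M.Vn k hk.1 w hv') hv', hk.2 w hv', sub_self]
  have h2 := (M.ker _ (M.V0V (M.V0n g hg _ h1))).2 (M.V0n g hg _ h1) i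
  have e1 : g * (k * w * k⁻¹ * w⁻¹) * g⁻¹ = (g * k * g⁻¹ * v * (g * k * g⁻¹)⁻¹) * v⁻¹ := by
    rw [hw]; group
  have h3 : g * k * g⁻¹ * v * (g * k * g⁻¹)⁻¹ ∈ V :=
    M.Vn _ (mul_mem (mul_mem hg hk.1) (inv_mem hg)) v hv
  rw [e1, M.map_div i h3 hv, sub_eq_zero] at h2
  exact h2

theorem kern_sup_ne [Finite G] [Finite F] [CharP F 2] [Nonempty ι] (hT : Syl T H) :
    M.kern ⊔ T ≠ H := by
  intro e
  obtain ⟨i⟩ := ‹Nonempty ι›
  have hle : T ≤ normalizer (M.kern : Set G) := fun t ht => mem_norm_of fun k hk =>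
    M.kern_norm (hT.1 ht) hk
  have hkS : M.kern ≤ M.St i := by
    intro k hk
    refine ⟨hk.1, mem_norm_of fun v hv => ⟨M.Vn k hk.1 v hv.1, ?_⟩⟩
    rw [hk.2 v hv.1, hv.2]
  have hkk : M.kern ≤ (M.sec i).kern := by
    intro k hk
    rw [← (M.sec i).ind_one_iff (hkS hk)]
    intro v hv
    rw [ap_one]
    exact hk.2 v hv i
  obtain ⟨T', hT', hle'⟩ := exists_syl (hT.2.1.to_le (inf_le_left : T ⊓ M.St i ≤ T))
    (inf_le_right : T ⊓ M.St i ≤ M.St i)
  apply (M.sec i).kern_sup_ne hT'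
  apply le_antisymm (sup_le (M.sec i).kern_le hT'.1)
  intro h hh
  have hh' : h ∈ M.kern ⊔ T := by rw [e]; exact hh.1
  have h1 : h ∈ (M.kern : Set G) * (T : Set G) := by
    rw [← Subgroup.coe_mul_of_right_le_normalizer_left _ _ hle]; exact hh'
  obtain ⟨k, hk, t, ht, rfl⟩ := Set.mem_mul.1 h1
  have ht' : t ∈ M.St i := by
    have := mul_mem (inv_mem (hkS hk)) hh
    rwa [inv_mul_cancel_left] at this
  exact mul_mem (mem_sup_left (hkk hk)) (mem_sup_right (hle' ⟨ht, ht'⟩))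

theorem inf_kern_le [Finite G] [Finite F] [CharP F 2] [Nonempty ι] (hm : MinH H T) :
    T ⊓ M.kern ≤ o2 H :=
  hm.inf_le (fun _ h => h.1) (fun h hh n hn => M.kern_norm hh hn) (M.kern_sup_ne hm.syl)

theorem Q_kern [Finite G] [Finite F] {x : G} (hx : x ∈ o2 H) : x ∈ M.kern :=
  ⟨o2_le H hx, fun v hv i => by rw [M.VcQ x hx v hv, mul_inv_cancel_right]⟩

theorem mem_Q_iff [Finite G] [Finite F] [CharP F 2] [Nonempty ι] (hm : MinH H T) {x : G}
    (hx : x ∈ T) : x ∈ o2 H ↔ ∀ v ∈ V, ∀ i, M.π i (x * v * x⁻¹) = M.π i v :=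
  ⟨fun h => (M.Q_kern h).2, fun h => M.inf_kern_le hm ⟨hx, hm.syl.1 hx, h⟩⟩

end FFK

end Cfsg.Agent.Omega.SQ1.FFOne

end

section


/-!
# SQ1, L1 for `k` blocks: offenders in `T`

* `FFK.inf_V`: `A ∩ V = {v ∈ V : (π i v) 1 = 0 for all i on which A acts}` for `A ∈ A(T)`;
* `FFK.exists_E`: for each `i` there is a member of `A(T)` acting only on the `i`-th summand;
* `FFK.mem_V1`: `C_V(J(T)) = {v ∈ V : (π i v) 1 = 0 for all i}`;
* `FFK.lemC`: elements of `T` acting as upper unitriangular matrices.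
-/

set_option autoImplicit false
set_option linter.unusedSectionVars false
set_option linter.unusedVariables false

namespace Cfsg.Agent.Omega.SQ1.FFOne

open Subgroup Cfsg Cfsg.Agent.PLocal.ThompsonJ Cfsg.Agent.ZN Cfsg.Agent.ZN.ChoiceBase
open Cfsg.Agent.ZN.ChoiceSit
open Cfsg.Agent.Omega.NatPair Cfsg.Agent.Lib.SL2Mat
open Cfsg.Agent.PLocal.ElemAbSup
open Cfsg.Agent.Omega.SQ1.Bau (mem_AA_of_comm zj_le_AA elem_comm elem_sq mem_sup_comm card_sup_comm
  mem_sup_norm Mv not_mv_iff mv_inv)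
open Cfsg.Agent.Omega.SQ1.BauK (V1 mem_V1)
open scoped Pointwise

universe u

variable {G : Type u} [Group G]

namespace FFK

variable {ι : Type} {F : Type*} [Field F] {H T V V0 : Subgroup G} (M : FFK ι F H T V V0)

include M in
theorem Velem : IsElementaryAbelian 2 V :=
  isElementaryAbelian_iff.2 ⟨fun v hv w hw => M.VcQ v (M.VQ hv) w hw, M.Vsq⟩

include M in
theorem Vcomm {v w : G} (hv : v ∈ V) (hw : w ∈ V) : v * w = w * v := M.VcQ v (M.VQ hv) w hw

/-- `h` acts as upper unitriangular matrices on all coordinates. -/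
def Up (M : FFK ι F H T V V0) (h : G) (c : ι → F) : Prop :=
  ∀ i, ∀ v ∈ V, M.π i (h * v * h⁻¹) = ap (up (c i)) (M.π i v)

theorem Up.mul {a b : G} {c d : ι → F} (hb' : b ∈ H) (ha : M.Up a c) (hb : M.Up b d) :
    M.Up (a * b) (c + d) := by
  intro i v hv
  have e : a * b * v * (a * b)⁻¹ = a * (b * v * b⁻¹) * a⁻¹ := by group
  rw [e, ha i _ (M.Vn b hb' v hv), hb i v hv, ← ap_mul, up_mul]
  rfl

theorem Up.inv {a : G} {c : ι → F} (ha' : a ∈ H) (ha : M.Up a c) : M.Up a⁻¹ (-c) := by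
  intro i v hv
  have hv' := M.Vn a⁻¹ (inv_mem ha') v hv
  have h1 := ha i _ hv'
  have e : a * (a⁻¹ * v * a⁻¹⁻¹) * a⁻¹ = v := by group
  rw [e] at h1
  rw [h1, ← ap_mul, up_mul]
  have e2 : (-c) i + c i = 0 := by simp
  rw [e2, up_zero, ap_one]

theorem Up.one : M.Up 1 0 := by
  intro i v hv
  rw [one_mul, inv_one, mul_one]
  show _ = ap (up 0) _
  rw [up_zero, ap_one]

theorem up_val {a v : G} {c : ι → F} (ha : M.Up a c) (hv : v ∈ V) (i : ι) :
    M.π i (a * v * a⁻¹) 0 = M.π i v 0 + c i * M.π i v 1 := by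
  rw [ha i v hv, ap_zero', up_00, up_01, one_mul]

theorem up_val1 {a v : G} {c : ι → F} (ha : M.Up a c) (hv : v ∈ V) (i : ι) :
    M.π i (a * v * a⁻¹) 1 = M.π i v 1 := by
  rw [ha i v hv, ap_one', up_10, up_11, zero_mul, zero_add, one_mul]

theorem exists_up {A : Subgroup G} (hA : A ∈ AA T) {a : G} (ha : a ∈ A) : ∃ c, M.Up a c := by
  choose c hc using M.off1 A hA a ha
  exact ⟨c, hc⟩

theorem up_unique {a : G} {c d : ι → F} (hc : M.Up a c) (hd : M.Up a d) : c = d := by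
  funext i
  obtain ⟨v, hv, e, -⟩ := M.surj i ![0, 1]
  have h1 := M.up_val hc hv i
  have h2 := M.up_val hd hv i
  rw [h1, e] at h2
  simpa using h2

theorem jj_up [Finite G] (hm : MinH H T) {j : G} (hj : j ∈ jj T) : ∃ c, M.Up j c := by
  let S : Subgroup G :=
    { carrier := {g | g ∈ H ∧ ∃ c, M.Up g c}
      mul_mem' := by
        rintro a b ⟨ha, c, hc⟩ ⟨hb, d, hd⟩
        exact ⟨mul_mem ha hb, c + d, Up.mul M hb hc hd⟩
      one_mem' := ⟨one_mem H, 0, Up.one M⟩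
      inv_mem' := by
        rintro a ⟨ha, c, hc⟩
        exact ⟨inv_mem ha, -c, Up.inv M ha hc⟩ }
  have hle : jj T ≤ S := by
    rw [jj_eq]
    exact sSup_le fun A hA a ha => ⟨hm.syl.1 (hA.2.1 ha), M.exists_up hA ha⟩
  exact (hle hj).2

/-- `Act1` elements which are upper unitriangular. -/
theorem up_of_act1 [DecidableEq ι] {a : G} {i : ι} {c : F} (ha : Act1 M.π V i a (up c)) :
    M.Up a (Pi.single i c) := by
  intro j v hv
  by_cases hij : j = i
  · subst hij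
    rw [Pi.single_eq_same, ha.act v hv]
  · rw [Pi.single_eq_of_ne hij, up_zero, ap_one, ha.oth j hij v hv]

theorem mem_Q_of_up_zero [Finite G] [Finite F] [CharP F 2] [Nonempty ι] (hm : MinH H T) {x : G}
    (hx : x ∈ T) (h : M.Up x 0) : x ∈ o2 H := by
  rw [M.mem_Q_iff hm hx]
  intro v hv i
  rw [h i v hv]
  show ap (up 0) _ = _
  rw [up_zero, ap_one]

theorem up_zero_of_mem_Q [Finite G] [Finite F] {x : G} (hx : x ∈ o2 H) : M.Up x 0 := by
  intro i v hv
  show _ = ap (up 0) _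
  rw [up_zero, ap_one]
  exact (M.Q_kern hx).2 v hv i

/-! ### Members of `A(T)` -/

/-- the indices on which `A` acts -/
def Sup (M : FFK ι F H T V V0) (A : Subgroup G) : Set ι :=
  {i | ¬ ∀ a ∈ A, ∀ v ∈ V, M.π i (a * v * a⁻¹) = M.π i v}

/-- `{v ∈ V : (π i v) 1 = 0 for all i ∈ S}` -/
def VS (M : FFK ι F H T V V0) (S : Set ι) : Subgroup G where
  carrier := {v | v ∈ V ∧ ∀ i ∈ S, M.π i v 1 = 0}
  mul_mem' := by
    rintro a b ⟨ha, ha'⟩ ⟨hb, hb'⟩
    refine ⟨mul_mem ha hb, fun i hi => ?_⟩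
    rw [M.map_mul i a ha b hb, Pi.add_apply, ha' i hi, hb' i hi, add_zero]
  one_mem' := ⟨one_mem V, fun i _ => by rw [M.map_one]; rfl⟩
  inv_mem' := by
    rintro a ⟨ha, ha'⟩
    refine ⟨inv_mem ha, fun i hi => ?_⟩
    rw [M.map_inv i ha, Pi.neg_apply, ha' i hi, neg_zero]

theorem mem_VS {S : Set ι} {v : G} : v ∈ M.VS S ↔ v ∈ V ∧ ∀ i ∈ S, M.π i v 1 = 0 := Iff.rfl

theorem VS_le (S : Set ι) : M.VS S ≤ V := fun _ h => h.1

theorem Sup_zero {A : Subgroup G} {a : G} (ha : a ∈ A) {c : ι → F} (hc : M.Up a c) {i : ι}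
    (hi : i ∉ M.Sup A) : c i = 0 := by
  have h1 : ∀ a ∈ A, ∀ v ∈ V, M.π i (a * v * a⁻¹) = M.π i v := by
    by_contra hcon
    exact hi hcon
  obtain ⟨v, hv, e, -⟩ := M.surj i ![0, 1]
  have h2 := M.up_val hc hv i
  rw [h1 a ha v hv, e] at h2
  simpa using h2.symm

/-- surjectivity onto a product from the coordinate directions -/
theorem pi_surj {S : Set ι} [Finite S] {K : Subgroup G} (f : G → S → F)
    (hm : ∀ v ∈ K, ∀ w ∈ K, f (v * w) = f v + f w)
    (hs : ∀ i : S, ∀ c : F, ∃ v ∈ K, f v i = c ∧ ∀ j, j ≠ i → f v j = 0) (x : S → F) :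
    ∃ v ∈ K, f v = x := by
  classical
  have := Fintype.ofFinite S
  have h0 : f 1 = 0 := by
    have := hm 1 (one_mem K) 1 (one_mem K)
    rw [one_mul] at this
    exact left_eq_add.1 this
  have key : ∀ s : Finset S, ∃ v ∈ K, f v = fun j => if j ∈ s then x j else 0 := by
    intro s
    induction s using Finset.induction_on with
    | empty => exact ⟨1, one_mem K, by rw [h0]; funext j; simp⟩
    | insert i s hi ih =>
      obtain ⟨v, hv, e⟩ := ih
      obtain ⟨w, hw, e', e''⟩ := hs i (x i)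
      refine ⟨v * w, mul_mem hv hw, ?_⟩
      rw [hm v hv w hw, e]
      funext j
      rw [Pi.add_apply]
      by_cases hj : j = i
      · subst hj
        simp [hi, e']
      · simp [hj, e'' j hj, Finset.mem_insert]
  obtain ⟨v, hv, e⟩ := key Finset.univ
  exact ⟨v, hv, by rw [e]; funext j; simp⟩

/-- `|V| = |VS| |F|^S` -/
theorem card_VS [Finite G] [Finite ι] (S : Set ι) :
    Nat.card V = Nat.card (M.VS S) * Nat.card (S → F) := by
  classical
  have hm : ∀ v ∈ V, ∀ w ∈ V, (fun (v : G) (j : S) => M.π j v 1) (v * w) =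
      (fun (v : G) (j : S) => M.π j v 1) v + (fun (v : G) (j : S) => M.π j v 1) w := by
    intro v hv w hw
    funext j
    show M.π j (v * w) 1 = M.π j v 1 + M.π j w 1
    rw [M.map_mul j v hv w hw]; rfl
  refine card_of_map (fun (v : G) (j : S) => M.π j v 1) hm (M.VS_le S) ?_ ?_
  · intro v hv
    constructor
    · intro h
      exact ⟨hv, fun i hi => congrFun h ⟨i, hi⟩⟩
    · rintro ⟨-, h⟩
      funext j
      exact h j j.2
  · refine pi_surj _ hm ?_
    intro i c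
    obtain ⟨v, hv, e, hj⟩ := M.surj i ![0, c]
    refine ⟨v, hv, ?_, fun j hji => ?_⟩
    · show M.π i v 1 = _
      rw [e]; simp
    · show M.π j v 1 = _
      rw [hj j fun h => hji (Subtype.ext h)]; rfl

/-- `|A| = |A ∩ Q| |F|^S` -/
theorem card_A [Finite G] [Finite F] [CharP F 2] [Finite ι] [Nonempty ι] (hm : MinH H T)
    {A : Subgroup G} (hA : A ∈ AA T) :
    Nat.card A = Nat.card ↥(A ⊓ o2 H) * Nat.card (M.Sup A → F) := by
  classical
  let f : G → ι → F := fun a => if h : ∃ c, M.Up a c then h.choose else 0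
  have hf : ∀ a ∈ A, M.Up a (f a) := by
    intro a ha
    have h := M.exists_up hA ha
    have e : f a = h.choose := dif_pos h
    rw [e]
    exact h.choose_spec
  have hH : ∀ a ∈ A, a ∈ H := fun a ha => hm.syl.1 (hA.2.1 ha)
  have hmul : ∀ v ∈ A, ∀ w ∈ A, (fun (a : G) (j : M.Sup A) => f a j) (v * w) =
      (fun (a : G) (j : M.Sup A) => f a j) v + (fun (a : G) (j : M.Sup A) => f a j) w := by
    intro v hv w hw
    have := M.up_unique (hf _ (mul_mem hv hw)) (Up.mul M (hH w hw) (hf v hv) (hf w hw))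
    funext j
    show f (v * w) j = f v j + f w j
    rw [this]; rfl
  refine card_of_map (fun (a : G) (j : M.Sup A) => f a j) hmul inf_le_left ?_ ?_
  · intro a ha
    constructor
    · intro h
      refine ⟨ha, M.mem_Q_of_up_zero hm (hA.2.1 ha) ?_⟩
      have : f a = 0 := by
        funext i
        by_cases hi : i ∈ M.Sup A
        · exact congrFun h ⟨i, hi⟩
        · exact M.Sup_zero ha (hf a ha) hi
      rw [← this]
      exact hf a ha
    · rintro ⟨-, h⟩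
      have := M.up_unique (hf a ha) (M.up_zero_of_mem_Q h)
      show (fun j : M.Sup A => f a j) = 0
      rw [this]; rfl
  · refine pi_surj _ hmul ?_
    intro i c
    obtain ⟨a, ha, hac⟩ := M.off2 A hA i i.2 c
    have h1 := M.up_unique (hf a ha) (M.up_of_act1 hac)
    refine ⟨a, ha, ?_, fun j hji => ?_⟩
    · show f a i = _
      rw [h1, Pi.single_eq_same]
    · show f a j = _
      rw [h1, Pi.single_eq_of_ne fun h => hji (Subtype.ext h)]

theorem VT [Finite G] (hm : MinH H T) (M : FFK ι F H T V V0) : V ≤ T := M.VQ.trans (o2_le_syl hm.syl)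

/-- `A ∩ V = VS (Sup A)` -/
theorem inf_V [Finite G] [Finite F] [CharP F 2] [Finite ι] [Nonempty ι] (hm : MinH H T)
    {A : Subgroup G} (hA : A ∈ AA T) : A ⊓ V = M.VS (M.Sup A) := by
  have hQT : o2 H ≤ T := o2_le_syl hm.syl
  have hc : ∀ a ∈ A ⊓ o2 H, ∀ v ∈ V, a * v = v * a := fun a ha v hv => M.VcQ a ha.2 v hv
  have h1 : IsElementaryAbelian 2 ((A ⊓ o2 H) ⊔ V : Subgroup G) :=
    isElementaryAbelian_sup (isElementaryAbelian_mono hA.1 inf_le_left) M.Velem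
      fun v hv => mem_centralizer_iff.2 fun a ha => hc a ha v hv
  have h2 := hA.2.2 _ h1 (sup_le (inf_le_right.trans hQT) (M.VQ.trans hQT))
  have h3 := card_sup_comm hc
  have h4 : (A ⊓ o2 H) ⊓ V = A ⊓ V := by
    apply le_antisymm
    · exact le_inf (inf_le_left.trans inf_le_left) inf_le_right
    · exact le_inf (le_inf inf_le_left (inf_le_right.trans M.VQ)) inf_le_right
  rw [h4] at h3
  rw [M.card_A hm hA] at h2
  have h5 : Nat.card V ≤ Nat.card (M.Sup A → F) * Nat.card ↥(A ⊓ V) := by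
    have e : Nat.card ↥(A ⊓ o2 H) * Nat.card V ≤
        Nat.card ↥(A ⊓ o2 H) * (Nat.card (M.Sup A → F) * Nat.card ↥(A ⊓ V)) := by
      rw [← h3]
      calc _ ≤ Nat.card ↥(A ⊓ o2 H) * Nat.card (M.Sup A → F) * Nat.card ↥(A ⊓ V) :=
            Nat.mul_le_mul_right _ h2
        _ = _ := by ring
    exact Nat.le_of_mul_le_mul_left e Nat.card_pos
  rw [M.card_VS (M.Sup A), mul_comm] at h5
  have h6 : Nat.card (M.VS (M.Sup A)) ≤ Nat.card ↥(A ⊓ V) :=
    Nat.le_of_mul_le_mul_left h5 Nat.card_pos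
  refine Subgroup.eq_of_le_of_card_ge ?_ h6
  rintro v ⟨hvA, hvV⟩
  refine ⟨hvV, fun i hi => ?_⟩
  classical
  obtain ⟨a, ha, hac⟩ := M.off2 A hA i hi 1
  have h7 := M.up_val (M.up_of_act1 hac) hvV i
  rw [elem_comm hA.1 a ha v hvA, mul_inv_cancel_right, Pi.single_eq_same, one_mul] at h7
  exact left_eq_add.1 h7

/-- `A` centralises `VS (Sup A)`. -/
theorem A_cent [Finite G] [Finite F] [CharP F 2] [Finite ι] [Nonempty ι] (hm : MinH H T)
    {A : Subgroup G} (hA : A ∈ AA T) {a v : G} (ha : a ∈ A) (hv : v ∈ M.VS (M.Sup A)) :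
    a * v = v * a := by
  rw [← M.inf_V hm hA] at hv
  exact elem_comm hA.1 a ha v hv.1

theorem cent_A [Finite G] [Finite F] [CharP F 2] [Finite ι] [Nonempty ι] (hm : MinH H T)
    {A : Subgroup G} (hA : A ∈ AA T) : V ⊓ centralizer (A : Set G) = M.VS (M.Sup A) := by
  rw [← M.inf_V hm hA]
  apply le_antisymm
  · rintro v ⟨hv, hc⟩
    exact ⟨mem_AA_of_comm hA (VT hm M hv) (M.Vsq v hv)
      fun a ha => mem_centralizer_iff.1 hc a ha, hv⟩
  · rintro v ⟨hv, hc⟩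
    exact ⟨hc, mem_centralizer_iff.2 fun a ha => elem_comm hA.1 a ha v hv⟩

include M in
theorem off [Finite G] [Finite F] [CharP F 2] [Finite ι] [Nonempty ι] (hm : MinH H T)
    {A : Subgroup G} (hA : A ∈ AA T) :
    Nat.card A * Nat.card ↥(V ⊓ centralizer (A : Set G)) = Nat.card ↥(A ⊓ o2 H) * Nat.card V := by
  rw [M.cent_A hm hA, M.card_VS (M.Sup A), M.card_A hm hA]
  ring

/-- elements of `A(T)`-members acting on the `i`-th summand -/
theorem exists_off [Finite G] [Finite F] [CharP F 2] [Finite ι] [Nonempty ι] (hm : MinH H T)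
    (i : ι) : ∃ A ∈ AA T, i ∈ M.Sup A := by
  obtain ⟨A, hA, hAQ⟩ : ∃ A ∈ AA T, ¬ A ≤ o2 H := by
    by_contra hc
    push Not at hc
    apply M.nle
    rw [jj_eq]
    exact sSup_le hc
  obtain ⟨a, ha, haQ⟩ := SetLike.not_le_iff_exists.1 hAQ
  obtain ⟨j, hj⟩ : ∃ j, j ∈ M.Sup A := by
    by_contra hc
    push Not at hc
    obtain ⟨c, hcu⟩ := M.exists_up hA ha
    have : c = 0 := by
      funext i
      exact M.Sup_zero ha hcu (hc i)
    rw [this] at hcu
    exact haQ (M.mem_Q_of_up_zero hm (hA.2.1 ha) hcu)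
  obtain ⟨t, ht, e⟩ := M.W_trans hm.syl.1 j i
  have htH := hm.syl.1 ht
  refine ⟨cj t A, ?_, ?_⟩
  · have := cj_mem_AA t hA
    rwa [cj_eq_of_mem_normalizer (le_normalizer ht)] at this
  · intro hall
    apply hj
    intro b hb v hv
    -- `t b t⁻¹` acts trivially on `V / W i`
    have h1 := hall (t * b * t⁻¹) ⟨b, hb, rfl⟩ (t * v * t⁻¹) (M.Vn t htH v hv)
    have hbH := hm.syl.1 (hA.2.1 hb)
    have hbv := M.Vn b hbH v hv
    have e1 : t * b * t⁻¹ * (t * v * t⁻¹) * (t * b * t⁻¹)⁻¹ = t * (b * v * b⁻¹) * t⁻¹ := by group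
    rw [e1, ← sub_eq_zero, ← M.map_div i (M.Vn t htH _ hbv) (M.Vn t htH v hv)] at h1
    have e2 : t * (b * v * b⁻¹) * t⁻¹ * (t * v * t⁻¹)⁻¹ = t * (b * v * b⁻¹ * v⁻¹) * t⁻¹ := by group
    rw [e2] at h1
    have h2 : t * (b * v * b⁻¹ * v⁻¹) * t⁻¹ ∈ M.W i :=
      ⟨M.Vn t htH _ (mul_mem hbv (inv_mem hv)), h1⟩
    rw [← e, mem_cj] at h2
    have e3 : t⁻¹ * (t * (b * v * b⁻¹ * v⁻¹) * t⁻¹) * t = b * v * b⁻¹ * v⁻¹ := by group
    rw [e3] at h2
    have h3 := h2.2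
    rwa [M.map_div j hbv hv, sub_eq_zero] at h3

/-- For each `i` there is a member of `A(T)` which acts only on the `i`-th summand. -/
theorem exists_E [Finite G] [Finite F] [CharP F 2] [Finite ι] [Nonempty ι] (hm : MinH H T)
    (i : ι) : ∃ E ∈ AA T, (∀ a ∈ E, ∀ v ∈ M.W i, a * v = v * a) ∧
      ∀ c : F, ∃ a ∈ E, Act1 M.π V i a (up c) := by
  classical
  obtain ⟨A, hA, hi⟩ := M.exists_off hm i
  have hQT : o2 H ≤ T := o2_le_syl hm.syl
  let A' : Subgroup G := A ⊓ centralizer (M.W i : Set G)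
  let X : Subgroup G := M.VS {i}
  have hA'W : ∀ a ∈ A', ∀ v ∈ M.W i, a * v = v * a := fun a ha v hv =>
    (mem_centralizer_iff.1 ha.2 v hv).symm
  -- `A'` centralises `X`
  have hAX : ∀ a ∈ A', ∀ v ∈ X, a * v = v * a := by
    intro a ha v hv
    obtain ⟨n, hn, w, hw, rfl, e⟩ := M.split i hv.1
    have h1 : n ∈ M.VS (M.Sup A) := by
      refine ⟨hn.1, fun j _ => ?_⟩
      by_cases hji : j = i
      · subst hji
        rw [e]; exact hv.2 j rfl
      · rw [hn.2 j hji]; rfl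
    have e1 : Commute a n := M.A_cent hm hA ha.1 h1
    have e2 : Commute a w := hA'W a ha w hw
    exact (e1.mul_right e2).eq
  have hXT : X ≤ T := (M.VS_le _).trans (VT hm M)
  have hel : IsElementaryAbelian 2 (A' ⊔ X : Subgroup G) :=
    isElementaryAbelian_sup (isElementaryAbelian_mono hA.1 inf_le_left)
      (isElementaryAbelian_mono M.Velem (M.VS_le _))
      fun v hv => mem_centralizer_iff.2 fun a ha => hAX a ha v hv
  have hT : A' ⊔ X ≤ T := sup_le (inf_le_left.trans hA.2.1) hXT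
  -- cardinalities
  have c1 := card_sup_comm hAX
  have hAQ : A' ⊓ o2 H = A ⊓ o2 H := by
    apply le_antisymm (inf_le_inf_right _ inf_le_left)
    rintro a ⟨ha, haQ⟩
    exact ⟨⟨ha, mem_centralizer_iff.2 fun v hv => (M.VcQ a haQ v hv.1).symm⟩, haQ⟩
  have hAV : A' ⊓ X = A ⊓ V := by
    apply le_antisymm (inf_le_inf inf_le_left (M.VS_le _))
    intro v hv
    have hv' := hv
    rw [M.inf_V hm hA] at hv'
    refine ⟨⟨hv.1, mem_centralizer_iff.2 fun w hw => M.Vcomm hw.1 hv.2⟩, hv.2, fun j hj => ?_⟩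
    rw [Set.mem_singleton_iff.1 hj]
    exact hv'.2 i hi
  have c2 : Nat.card A' = Nat.card ↥(A' ⊓ o2 H) * Nat.card F := by
    let f : G → F := fun a => if h : ∃ c, M.Up a c then h.choose i else 0
    have hf : ∀ a ∈ A, ∀ c, M.Up a c → f a = c i := by
      intro a ha c hc
      have h : ∃ c, M.Up a c := ⟨c, hc⟩
      have e : f a = h.choose i := dif_pos h
      rw [e, M.up_unique h.choose_spec hc]
    have hH : ∀ a ∈ A, a ∈ H := fun a ha => hm.syl.1 (hA.2.1 ha)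
    refine card_of_map f ?_ inf_le_left ?_ ?_
    · intro a ha b hb
      obtain ⟨c, hc⟩ := M.exists_up hA ha.1
      obtain ⟨d, hd⟩ := M.exists_up hA hb.1
      rw [hf a ha.1 c hc, hf b hb.1 d hd,
        hf _ (mul_mem ha.1 hb.1) _ (Up.mul M (hH b hb.1) hc hd)]
      rfl
    · intro a ha
      obtain ⟨c, hc⟩ := M.exists_up hA ha.1
      rw [hf a ha.1 c hc]
      constructor
      · intro h0
        refine ⟨ha, M.mem_Q_of_up_zero hm (hA.2.1 ha.1) ?_⟩
        have : c = 0 := by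
          funext j
          by_cases hji : j = i
          · subst hji; exact h0
          · obtain ⟨v, hv, e, hj⟩ := M.surj j ![0, 1]
            have h1 := hA'W a ha v ⟨hv, hj i fun h => hji h.symm⟩
            have h2 := M.up_val hc hv j
            rw [h1, mul_inv_cancel_right, e] at h2
            simpa using h2.symm
        rwa [this] at hc
      · rintro ⟨-, haQ⟩
        rw [M.up_unique hc (M.up_zero_of_mem_Q haQ)]
        rfl
    · intro c
      obtain ⟨a, ha, hac⟩ := M.off2 A hA i hi c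
      refine ⟨a, ⟨ha, mem_centralizer_iff.2 fun v hv => (hac.cent v hv.1 hv.2).symm⟩, ?_⟩
      rw [hf a ha _ (M.up_of_act1 hac), Pi.single_eq_same]
  have c3 : Nat.card V = Nat.card X * Nat.card F := by
    refine card_of_map (fun v => M.π i v 1) ?_ (M.VS_le _) ?_ ?_
    · intro v hv w hw
      show M.π i (v * w) 1 = _
      rw [M.map_mul i v hv w hw]; rfl
    · intro v hv
      exact ⟨fun h => ⟨hv, fun j hj => by rw [Set.mem_singleton_iff.1 hj]; exact h⟩,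
        fun h => h.2 i rfl⟩
    · intro c
      obtain ⟨v, hv, e, -⟩ := M.surj i ![0, c]
      exact ⟨v, hv, by show M.π i v 1 = c; rw [e]; rfl⟩
  have c4 := M.card_VS (M.Sup A)
  have c5 := M.card_A hm hA
  rw [← M.inf_V hm hA] at c4
  have c6 : Nat.card ↥(A' ⊔ X) = Nat.card A := by
    have hp : 0 < Nat.card ↥(A ⊓ V) := Nat.card_pos
    refine Nat.eq_of_mul_eq_mul_right hp ?_
    rw [← hAV, c1, c2, hAQ, hAV, c5]
    calc Nat.card ↥(A ⊓ o2 H) * Nat.card F * Nat.card X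
        = Nat.card ↥(A ⊓ o2 H) * (Nat.card X * Nat.card F) := by ring
      _ = Nat.card ↥(A ⊓ o2 H) * (Nat.card ↥(A ⊓ V) * Nat.card (M.Sup A → F)) := by
          rw [← c3, c4]
      _ = _ := by ring
  refine ⟨A' ⊔ X, mem_AA_iff.2 ⟨hel, hT, by rw [c6, mm_eq hA]⟩, ?_, ?_⟩
  · intro a ha v hv
    obtain ⟨b, hb, x, hx, rfl⟩ := mem_sup_comm hAX ha
    have e1 : Commute b v := hA'W b hb v hv
    have e2 : Commute x v := M.Vcomm (M.VS_le _ hx) hv.1
    exact (e1.mul_left e2).eq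
  · intro c
    obtain ⟨a, ha, hac⟩ := M.off2 A hA i hi c
    exact ⟨a, mem_sup_left ⟨ha, mem_centralizer_iff.2 fun v hv => (hac.cent v hv.1 hv.2).symm⟩,
      hac⟩

/-- `C_V(J(T))` -/
theorem mem_V1_iff [Finite G] [Finite F] [CharP F 2] [Finite ι] [Nonempty ι] (hm : MinH H T)
    {v : G} : v ∈ V1 T V ↔ v ∈ V ∧ ∀ i, M.π i v 1 = 0 := by
  classical
  constructor
  · intro hv
    obtain ⟨h1, h2⟩ := mem_V1.1 hv
    refine ⟨h1, fun i => ?_⟩
    obtain ⟨E, hE, -, hc⟩ := M.exists_E hm i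
    obtain ⟨a, ha, hac⟩ := hc 1
    have h7 := M.up_val (M.up_of_act1 hac) h1 i
    rw [h2 a (le_jj hE ha), mul_inv_cancel_right, Pi.single_eq_same, one_mul] at h7
    exact left_eq_add.1 h7
  · rintro ⟨h1, h2⟩
    refine mem_V1.2 ⟨h1, ?_⟩
    have hle : jj T ≤ centralizer ({v} : Set G) := by
      rw [jj_eq]
      refine sSup_le fun A hA a ha => mem_centralizer_iff.2 fun x hx => ?_
      rw [show x = v from hx]
      exact (M.A_cent hm hA ha ⟨h1, fun i _ => h2 i⟩).symm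
    exact fun j hj => (mem_centralizer_iff.1 (hle hj) v rfl).symm

/-- Elements of `T` acting as upper unitriangular matrices, supported on `s`. -/
theorem lemC [Finite G] [Finite F] [CharP F 2] [Finite ι] [Nonempty ι] (hm : MinH H T)
    (s : Finset ι) : ∀ x ∈ T, ∀ c, M.Up x c → (∀ j, j ∉ s → c j = 0) →
      x ∈ jj T ⊔ o2 H ∧ ∀ i, i ∉ s → ∀ v ∈ M.N i, x * v = v * x := by
  classical
  induction s using Finset.induction_on with
  | empty =>
    intro x hx c hc h0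
    have : c = 0 := by funext j; exact h0 j (by simp)
    rw [this] at hc
    have hxQ := M.mem_Q_of_up_zero hm hx hc
    exact ⟨mem_sup_right hxQ, fun i _ v hv => M.VcQ x hxQ v hv.1⟩
  | insert j s hj ih =>
    intro x hx c hc h0
    obtain ⟨E, hE, hEW, hEc⟩ := M.exists_E hm j
    obtain ⟨a, ha, hac⟩ := hEc (c j)
    have haT := hE.2.1 ha
    have hup := Up.mul M (hm.syl.1 hx) (Up.inv M (hm.syl.1 haT) (M.up_of_act1 hac)) hc
    obtain ⟨h1, h2⟩ := ih (a⁻¹ * x) (mul_mem (inv_mem haT) hx) _ hup (by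
      intro k hk
      by_cases hkj : k = j
      · subst hkj; simp
      · have h3 : c k = 0 := h0 k (by simp [hkj, hk])
        simp [h3, Pi.single_eq_of_ne hkj])
    have e : x = a * (a⁻¹ * x) := by group
    refine ⟨?_, fun i hi v hv => ?_⟩
    · rw [e]
      exact mul_mem (mem_sup_left (le_jj hE ha)) h1
    · have hij : i ≠ j := by rintro rfl; simp at hi
      have his : i ∉ s := fun h => hi (by simp [h])
      have e1 : Commute a v := hEW a ha v (M.N_le_W hij.symm hv)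
      have e2 : Commute (a⁻¹ * x) v := h2 i his v hv
      rw [e]
      exact (e1.mul_left e2).eq

/-- An element of `T` acting as upper unitriangular matrices and trivially on the `i`-th summand
centralises `N i`. -/
theorem cent_N [Finite G] [Finite F] [CharP F 2] [Finite ι] [Nonempty ι] (hm : MinH H T)
    {x : G} (hx : x ∈ T) {c : ι → F} (hc : M.Up x c) {i : ι} (h0 : c i = 0) {v : G}
    (hv : v ∈ M.N i) : x * v = v * x := by
  classical
  have := Fintype.ofFinite ι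
  exact (M.lemC hm (Finset.univ.erase i) x hx c hc (by
    intro j hj
    by_cases hji : j = i
    · subst hji; exact h0
    · exact absurd (Finset.mem_erase.2 ⟨hji, Finset.mem_univ j⟩) hj)).2 i (by simp) v hv

theorem mem_sup_of_up [Finite G] [Finite F] [CharP F 2] [Finite ι] [Nonempty ι] (hm : MinH H T)
    {x : G} (hx : x ∈ T) {c : ι → F} (hc : M.Up x c) : x ∈ jj T ⊔ o2 H := by
  classical
  have := Fintype.ofFinite ι
  exact (M.lemC hm Finset.univ x hx c hc (by intro j hj; simp at hj)).1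

end FFK

end Cfsg.Agent.Omega.SQ1.FFOne

end

section


/-!
# SQ1, L1 for `k` blocks: `FFK.toInK`

The output of the FF-theorem gives the Baumann data `BauK.InK` for `k` blocks.
-/

set_option autoImplicit false
set_option linter.unusedSectionVars false
set_option linter.unusedVariables false

namespace Cfsg.Agent.Omega.SQ1.FFOne

open Subgroup Cfsg Cfsg.Agent.PLocal.ThompsonJ Cfsg.Agent.ZN Cfsg.Agent.ZN.ChoiceBase
open Cfsg.Agent.ZN.ChoiceSit
open Cfsg.Agent.Omega.NatPair Cfsg.Agent.Lib.SL2Mat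
open Cfsg.Agent.PLocal.ElemAbSup
open Cfsg.Agent.Omega.SQ1.Bau (mem_AA_of_comm zj_le_AA elem_comm elem_sq mem_sup_comm card_sup_comm
  mem_sup_norm Mv not_mv_iff mv_inv)
open Cfsg.Agent.Omega.SQ1.BauK (V1 mem_V1 InK)
open scoped Pointwise

universe u

variable {G : Type u} [Group G]

namespace FFK

variable {ι : Type} {F : Type*} [Field F] {H T V V0 : Subgroup G} (M : FFK ι F H T V V0)

/-- `T` normalises `C_V(J(T))`. -/
theorem T_V1 (hm : MinH H T) (M : FFK ι F H T V V0) {t v : G} (ht : t ∈ T) (hv : v ∈ V1 T V) :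
    t * v * t⁻¹ ∈ V1 T V := by
  rw [mem_V1] at hv ⊢
  refine ⟨M.Vn t (hm.syl.1 ht) v hv.1, fun j hj => ?_⟩
  have h1 : t⁻¹ * j * t ∈ jj T := by
    rw [← mem_cj, cj_eq_of_mem_normalizer
      (normalizer_le_of_cj (F := fun K => jj K) jj_cj T (le_normalizer ht))]
    exact hj
  have h2 := hv.2 _ h1
  calc j * (t * v * t⁻¹) = t * ((t⁻¹ * j * t) * v) * t⁻¹ := by group
    _ = t * (v * (t⁻¹ * j * t)) * t⁻¹ := by rw [h2]
    _ = _ := by group

/-- `T` permutes the preimages of the lines. -/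
theorem T_line [Finite G] [Finite F] [CharP F 2] [Finite ι] [Nonempty ι] (hm : MinH H T)
    {t : G} (ht : t ∈ T) {i j : ι} (e : cj t (M.W i) = M.W j) {v : G} (hv : v ∈ V)
    (h0 : M.π i v 1 = 0) : M.π j (t * v * t⁻¹) 1 = 0 := by
  have htH := hm.syl.1 ht
  obtain ⟨n, hn, w, hw, rfl, en⟩ := M.split i hv
  have h1 : n ∈ V1 T V := by
    rw [M.mem_V1_iff hm]
    refine ⟨hn.1, fun k => ?_⟩
    by_cases hk : k = i
    · subst hk; rw [en]; exact h0
    · rw [hn.2 k hk]; rfl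
  have h2 := ((M.mem_V1_iff hm).1 (T_V1 hm M ht h1)).2 j
  have h3 : t * w * t⁻¹ ∈ M.W j := by rw [← e]; exact ⟨w, hw, rfl⟩
  have e2 : t * (n * w) * t⁻¹ = (t * n * t⁻¹) * (t * w * t⁻¹) := by group
  rw [e2, M.map_mul j _ (M.Vn t htH n hn.1) _ h3.1, h3.2, add_zero, h2]

/-- an element centralising `W j` acts trivially on the other summands -/
theorem cent_act [Finite G] [Finite F] {u : G} (hu : u ∈ H) {j : ι}
    (hc : ∀ w ∈ M.W j, u * w = w * u) {m : ι} (hmj : m ≠ j) {v : G} (hv : v ∈ V) :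
    M.π m (u * v * u⁻¹) = M.π m v := by
  obtain ⟨n, hn, w, hw, rfl, -⟩ := M.split j hv
  have hW : cj u (M.W j) = M.W j := by
    rw [← mem_normalizer_iff_cj]
    refine mem_norm_of fun w hw => ?_
    rw [hc w hw, mul_inv_cancel_right]
    exact hw
  have h1 : u * n * u⁻¹ ∈ M.N j := by
    rw [← M.N_cj hu hW]; exact ⟨n, hn, rfl⟩
  have e : u * (n * w) * u⁻¹ = (u * n * u⁻¹) * (u * w * u⁻¹) := by group
  rw [e, hc w hw, mul_inv_cancel_right, M.map_mul m _ h1.1 w hw.1, M.map_mul m n hn.1 w hw.1,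
    h1.2 m hmj, hn.2 m hmj]

theorem field [Finite G] [Finite F] [CharP F 2] [Finite ι] [Nonempty ι] (hm : MinH H T)
    (M : FFK ι F H T V V0) {t : G} (ht : t ∈ T) (hc : ∀ v ∈ V1 T V, t * v = v * t) :
    t ∈ jj T ⊔ o2 H := by
  have htH := hm.syl.1 ht
  -- `t` fixes the summands
  have hW : ∀ i, cj t (M.W i) = M.W i := by
    intro i
    obtain ⟨j, hj⟩ := M.W_cj htH i
    by_cases hji : j = i
    · rw [hj, hji]
    exfalso
    obtain ⟨v, hv, e, hk⟩ := M.surj i ![1, 0]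
    have h1 : v ∈ V1 T V := by
      rw [M.mem_V1_iff hm]
      refine ⟨hv, fun k => ?_⟩
      by_cases hk' : k = i
      · subst hk'; rw [e]; rfl
      · rw [hk k hk']; rfl
    have h2 : v ∈ M.W j := ⟨hv, hk j hji⟩
    rw [← hj, mem_cj, mul_assoc, ← hc v h1, inv_mul_cancel_left] at h2
    have h3 := h2.2
    rw [e] at h3
    have := congrFun h3 0
    simp at this
  obtain ⟨n, hn⟩ := hm.syl.2.1 ⟨t, ht⟩
  have hn' : t ^ 2 ^ n = 1 := by simpa using congrArg Subtype.val hn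
  have hup : ∀ i, ∃ c : F, ∀ v ∈ V, M.π i (t * v * t⁻¹) = ap (up c) (M.π i v) := by
    intro i
    have htS : t ∈ M.St i := M.mem_St.2 ⟨htH, hW i⟩
    obtain ⟨c, hcc⟩ := (M.sec i).up_of_line htS hn' (by
      intro v hv h0
      show M.π i (t * v * t⁻¹) = M.π i v
      obtain ⟨n, hn, w, hw, rfl, en⟩ := M.split i hv
      have h1 : n ∈ V1 T V := by
        rw [M.mem_V1_iff hm]
        refine ⟨hn.1, fun k => ?_⟩
        by_cases hk : k = i
        · subst hk; rw [en]; exact h0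
        · rw [hn.2 k hk]; rfl
      have h3 : t * w * t⁻¹ ∈ M.W i := by
        have : t * w * t⁻¹ ∈ cj t (M.W i) := ⟨w, hw, rfl⟩
        rwa [hW i] at this
      have e2 : t * (n * w) * t⁻¹ = (t * n * t⁻¹) * (t * w * t⁻¹) := by group
      rw [e2, hc n h1, mul_inv_cancel_right, M.map_mul i n hn.1 _ h3.1,
        M.map_mul i n hn.1 w hw.1, h3.2, hw.2])
    exact ⟨c, hcc⟩
  choose c hcc using hup
  exact M.mem_sup_of_up hm ht (c := c) hcc

theorem mem_V1N [Finite G] [Finite F] [CharP F 2] [Finite ι] [Nonempty ι] (hm : MinH H T)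
    {i : ι} {v : G} : v ∈ V1 T V ⊓ M.N i ↔ v ∈ M.N i ∧ M.π i v 1 = 0 := by
  rw [mem_inf, M.mem_V1_iff hm]
  constructor
  · rintro ⟨h1, h2⟩; exact ⟨h2, h1.2 i⟩
  · rintro ⟨h1, h2⟩
    refine ⟨⟨h1.1, fun j => ?_⟩, h1⟩
    by_cases hj : j = i
    · subst hj; exact h2
    · rw [h1.2 j hj]; rfl

theorem V0_of_N {i : ι} {v : G} (hv : v ∈ M.N i) (h : M.π i v = 0) : v ∈ V0 := by
  rw [← M.ker v hv.1]
  intro j
  by_cases hj : j = i
  · subst hj; exact h
  · exact hv.2 j hj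

theorem opp [Finite G] [Finite F] [CharP F 2] [Finite ι] [Nonempty ι] (hm : MinH H T) (i : ι) :
    ∀ h ∈ H, cj h (M.N i) = M.N i → Mv (V1 T V ⊓ M.N i) h →
      ∀ v ∈ V1 T V ⊓ M.N i, h * v * h⁻¹ ∈ V1 T V ⊓ M.N i → h * v * h⁻¹ ∈ V0 := by
  rintro h hh hN ⟨v₀, hv₀, hmv⟩ v hv hv'
  have hS : h ∈ M.St i := M.mem_St.2 ⟨hh, M.W_cj_of_N hh hN⟩
  rw [M.mem_V1N hm] at hv₀ hmv hv hv'
  have hN0 : h * v₀ * h⁻¹ ∈ M.N i := by
    have : h * v₀ * h⁻¹ ∈ cj h (M.N i) := ⟨v₀, hv₀.1, rfl⟩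
    rwa [hN] at this
  exact M.V0_of_N hv'.1 ((M.sec i).opp' hS ⟨v₀, hv₀.1.1, hv₀.2, fun h0 => hmv ⟨hN0, h0⟩⟩
    hv.1.1 hv.2 hv'.2)

theorem ne [Finite G] [Finite F] [CharP F 2] [Finite ι] [Nonempty ι] (hm : MinH H T) (i : ι) :
    ∃ h ∈ H, cj h (M.N i) = M.N i ∧ Mv (V1 T V ⊓ M.N i) h := by
  obtain ⟨h, hh, hA⟩ := M.lift i (lo 1)
  have hS := M.act1_mem_St hA hh
  obtain ⟨v, hv, e, hj⟩ := M.surj i ![1, 0]
  refine ⟨h, hh, M.N_cj hh (M.mem_St.1 hS).2, v, ?_, fun hc => ?_⟩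
  · rw [M.mem_V1N hm]
    exact ⟨⟨hv, hj⟩, by rw [e]; rfl⟩
  · have h1 := ((M.mem_V1N hm).1 hc).2
    rw [hA.act v hv, e, ap_one'] at h1
    simp at h1

theorem Nsup [Finite ι] [Nonempty ι] : V ≤ ⨆ i, M.N i := by
  classical
  have := Fintype.ofFinite ι
  have key : ∀ s : Finset ι, ∀ v ∈ V, (∀ j, j ∉ s → M.π j v = 0) → v ∈ ⨆ i, M.N i := by
    intro s
    induction s using Finset.induction_on with
    | empty =>
      intro v hv h0
      obtain ⟨i⟩ := ‹Nonempty ι›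
      exact mem_iSup_of_mem i ⟨hv, fun j _ => h0 j (by simp)⟩
    | insert i s hi ih =>
      intro v hv h0
      obtain ⟨n, hn, w, hw, rfl, en⟩ := M.split i hv
      refine mul_mem (mem_iSup_of_mem i hn) (ih w hw.1 fun j hj => ?_)
      by_cases hji : j = i
      · subst hji; exact hw.2
      · have h1 := h0 j (by simp [hji, hj])
        rw [M.map_mul j n hn.1 w hw.1, hn.2 j hji, zero_add] at h1
        exact h1
  exact fun v hv => key Finset.univ v hv (by simp)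

/-- the condition that `h` respects the `j`-th line -/
def Good (M : FFK ι F H T V V0) (h : G) (j : ι) : Prop :=
  ∀ k, cj h (M.W j) = M.W k → ∀ v ∈ V, M.π j v 1 = 0 → M.π k (h * v * h⁻¹) 1 = 0

theorem max [Finite G] [Finite F] [CharP F 2] [Finite ι] [Nonempty ι] (hm : MinH H T)
    (M : FFK ι F H T V V0) :
    ∀ X : Subgroup G, T ≤ X → X ≤ H → (∃ x ∈ X, Mv (V1 T V) x) → H ≤ X := by
  classical
  rintro X hTX hXH ⟨x, hx, v₁, hv₁, hxv⟩
  by_contra hne
  obtain ⟨M₀, hM, huniq⟩ := hm.uniq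
  have hX0 : X ≤ M₀ := huniq X hTX hXH fun e => hne e.ge
  set Nn : Subgroup G := H ⊓ normalizer (V1 T V : Set G) with hNn
  have hTN : T ≤ Nn := fun t ht => ⟨hm.syl.1 ht, mem_norm_of fun v hv => T_V1 hm M ht hv⟩
  have hN0 : Nn ≤ M₀ := by
    refine huniq Nn hTN inf_le_left ?_
    intro e
    obtain ⟨i⟩ := ‹Nonempty ι›
    obtain ⟨h, hh, hN, v, hv, hv'⟩ := M.ne hm i
    rw [← e] at hh
    refine hv' ⟨conj_mem_of_norm hh.2 hv.1, ?_⟩
    have : h * v * h⁻¹ ∈ cj h (M.N i) := ⟨v, hv.2, rfl⟩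
    rwa [hN] at this
  have hT0 : T ≤ M₀ := hTN.trans hN0
  have hxH := hXH hx
  -- elements moving the `j`-th line
  have hmove : ∀ j, ∃ y ∈ M₀, y ∈ M.St j ∧ ∃ v ∈ V, M.π j v 1 = 0 ∧
      M.π j (y * v * y⁻¹) 1 ≠ 0 := by
    intro j
    have hv1 := (M.mem_V1_iff hm).1 hv₁
    have hxV := M.Vn x hxH v₁ hv1.1
    obtain ⟨k, hk⟩ : ∃ k, M.π k (x * v₁ * x⁻¹) 1 ≠ 0 := by
      by_contra hc
      push Not at hc
      exact hxv ((M.mem_V1_iff hm).2 ⟨hxV, hc⟩)
    obtain ⟨i, hi⟩ := M.W_cj (inv_mem hxH) k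
    have hi' : cj x (M.W i) = M.W k := by rw [← hi, cj_cj_inv]
    obtain ⟨t1, ht1, e1⟩ := M.W_trans hm.syl.1 j i
    obtain ⟨t2, ht2, e2⟩ := M.W_trans hm.syl.1 k j
    have hyX : t2 * x * t1 ∈ X := mul_mem (mul_mem (hTX ht2) hx) (hTX ht1)
    have hyW : cj (t2 * x * t1) (M.W j) = M.W j := by
      rw [← cj_cj, ← cj_cj, e1, hi', e2]
    refine ⟨t2 * x * t1, hX0 hyX, M.mem_St.2 ⟨hXH hyX, hyW⟩, t1⁻¹ * v₁ * t1⁻¹⁻¹, ?_, ?_, ?_⟩
    · exact M.Vn _ (inv_mem (hm.syl.1 ht1)) v₁ hv1.1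
    · exact ((M.mem_V1_iff hm).1 (T_V1 hm M (inv_mem ht1) hv₁)).2 j
    · intro h0
      apply hk
      have e3 : t2 * x * t1 * (t1⁻¹ * v₁ * t1⁻¹⁻¹) * (t2 * x * t1)⁻¹ =
        t2 * (x * v₁ * x⁻¹) * t2⁻¹ := by group
      rw [e3] at h0
      have h1 := M.T_line hm (inv_mem ht2) (i := j) (j := k) (by rw [← e2, cj_inv_cj])
        (M.Vn t2 (hm.syl.1 ht2) _ hxV) h0
      have e4 : t2⁻¹ * (t2 * (x * v₁ * x⁻¹) * t2⁻¹) * t2⁻¹⁻¹ = x * v₁ * x⁻¹ := by group
      rwa [e4] at h1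
  -- for all `h ∈ St j`: an element of `M₀` with the same image of the line
  have hline : ∀ j, ∀ h ∈ M.St j, (M.sec j).act h ![1, 0] 1 ≠ 0 → ∃ u ∈ M₀, u ∈ M.St j ∧
      (∀ w ∈ M.W j, u * w = w * u) ∧
      ∃ c : F, (M.sec j).act h ![1, 0] = c • (M.sec j).act u ![1, 0] := by
    intro j h hh hp
    set S := M.sec j with hS
    set p := S.act h ![1, 0] with hpdef
    obtain ⟨y, hy0, hyS, v, hv, hv0, hvy⟩ := hmove j
    set r := S.act y ![1, 0] with hr
    have hr1 : r 1 ≠ 0 := by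
      intro h0
      obtain ⟨s, hs⟩ := S.act_line hyS
      apply hvy
      have h1 : M.π j (y * v * y⁻¹) = s (M.π j v 0) • r := hs v hv hv0
      rw [h1, Pi.smul_apply, h0, smul_zero]
    obtain ⟨E, hE, hEW, hEc⟩ := M.exists_E hm j
    obtain ⟨a, ha, hac⟩ := hEc 1
    have haT := hE.2.1 ha
    have haS : a ∈ M.St j := M.act1_mem_St hac (hm.syl.1 haT)
    have hzS : y * a * y⁻¹ ∈ M.St j := mul_mem (mul_mem hyS haS) (inv_mem hyS)
    have hzW : ∀ w ∈ M.W j, (y * a * y⁻¹) * w = w * (y * a * y⁻¹) := by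
      intro w hw
      have hw' : y⁻¹ * w * y ∈ M.W j := by
        have := conj_mem_of_norm (inv_mem hyS.2) hw
        rwa [inv_inv] at this
      have h1 := hEW a ha _ hw'
      calc y * a * y⁻¹ * w = y * (a * (y⁻¹ * w * y)) * y⁻¹ := by group
        _ = y * (y⁻¹ * w * y * a) * y⁻¹ := by rw [h1]
        _ = w * (y * a * y⁻¹) := by group
    obtain ⟨s, hs⟩ := S.exists_semi hyS
    set e := S.act y⁻¹ ![1, 0] with he
    have hye : S.act y e = ![1, 0] := S.act_act_inv hyS _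
    have he1 : e 1 ≠ 0 := by
      intro h0
      have h1 : e = e 0 • ![1, 0] := by
        apply ext2
        · simp
        · rw [h0]; simp
      have h2 := hye
      rw [h1, hs, ← hr] at h2
      have h3 := congrFun h2 1
      have h4 := congrFun h2 0
      simp only [Pi.smul_apply, smul_eq_mul, Matrix.cons_val_one, Matrix.cons_val_zero] at h3 h4
      have h5 := (mul_eq_zero.1 h3).resolve_right hr1
      rw [h5, zero_mul] at h4
      exact zero_ne_one h4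
    have hz : S.act (y * a * y⁻¹) ![1, 0] = ![1, 0] + s (e 1) • r := by
      rw [S.act_mul (mul_mem hyS haS) (inv_mem hyS), S.act_mul hyS haS, ← he]
      have h1 : S.act a e = e + e 1 • ![1, 0] := by
        rw [(S.ind_iff haS).1 (show S.Ind a (up 1) from hac.act)]
        apply ext2
        · rw [ap_zero', up_00, up_01]; simp
        · rw [ap_one', up_10, up_11]; simp
      rw [h1, S.act_add hyS, hye, hs]
    set p' := S.act (y * a * y⁻¹) ![1, 0] with hp'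
    have hp1 : p' 1 ≠ 0 := by
      have h1 : s (e 1) ≠ 0 := fun h0 => he1 (s.injective (by rw [h0, map_zero]))
      have h2 : (![1, 0] : Fin 2 → F) 1 = 0 := rfl
      rw [hz, Pi.add_apply, Pi.smul_apply, smul_eq_mul, h2, zero_add]
      exact mul_ne_zero h1 hr1
    obtain ⟨b, hb, hbc⟩ := hEc (p 0 / p 1 - p' 0 / p' 1)
    have hbT := hE.2.1 hb
    have hbS : b ∈ M.St j := M.act1_mem_St hbc (hm.syl.1 hbT)
    refine ⟨b * (y * a * y⁻¹), mul_mem (hT0 hbT) (mul_mem (mul_mem hy0 (hT0 haT)) (inv_mem hy0)),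
      mul_mem hbS hzS, fun w hw => ?_, p 1 / p' 1, ?_⟩
    · have e1 : Commute b w := hEW b hb w hw
      have e2 : Commute (y * a * y⁻¹) w := hzW w hw
      exact (e1.mul_left e2).eq
    · rw [S.act_mul hbS hzS, ← hp', (S.ind_iff hbS).1 (show S.Ind b (up _) from hbc.act)]
      apply ext2
      · rw [Pi.smul_apply, smul_eq_mul, ap_zero', up_00, up_01]
        field_simp
        ring
      · rw [Pi.smul_apply, smul_eq_mul, ap_one', up_10, up_11]
        field_simp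
        ring
  -- the induction
  have key : ∀ s : Finset ι, ∀ h ∈ H, (∀ j, j ∉ s → M.Good h j) → h ∈ M₀ := by
    intro s
    induction s using Finset.induction_on with
    | empty =>
      intro h hh hg
      refine hN0 ⟨hh, mem_norm_of fun v hv => ?_⟩
      rw [M.mem_V1_iff hm] at hv ⊢
      refine ⟨M.Vn h hh v hv.1, fun k => ?_⟩
      obtain ⟨j, hj⟩ := M.W_cj (inv_mem hh) k
      exact hg j (by simp) k (by rw [← hj, cj_cj_inv]) v hv.1 (hv.2 j)
    | insert j s hjs ih =>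
      intro h hh hg
      obtain ⟨k, hk⟩ := M.W_cj hh j
      obtain ⟨t, ht, et⟩ := M.W_trans hm.syl.1 k j
      have htH := hm.syl.1 ht
      have h1H : t * h ∈ H := mul_mem htH hh
      have h1W : cj (t * h) (M.W j) = M.W j := by rw [← cj_cj, hk, et]
      have h1S : t * h ∈ M.St j := M.mem_St.2 ⟨h1H, h1W⟩
      have h1g : ∀ l, l ∉ insert j s → M.Good (t * h) l := by
        intro l hl m hm' v hv hv0
        obtain ⟨k', hk'⟩ := M.W_cj hh l
        rw [← cj_cj, hk'] at hm'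
        have h2 := M.T_line hm ht hm' (M.Vn h hh v hv) (hg l hl k' hk' v hv hv0)
        have e : t * h * v * (t * h)⁻¹ = t * (h * v * h⁻¹) * t⁻¹ := by group
        rwa [e]
      suffices hfin : t * h ∈ M₀ by
        have := mul_mem (inv_mem (hT0 ht)) hfin
        rwa [inv_mul_cancel_left] at this
      set h1 := t * h with hh1
      obtain ⟨s1, hs1⟩ := (M.sec j).act_line h1S
      by_cases hp : (M.sec j).act h1 ![1, 0] 1 = 0
      · refine ih h1 h1H fun l hl => ?_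
        by_cases hlj : l = j
        · subst hlj
          intro m hm' v hv hv0
          have hlm : l = m := M.W_inj (by rw [← hm', h1W])
          subst hlm
          have h2 : M.π l (h1 * v * h1⁻¹) = s1 (M.π l v 0) • (M.sec l).act h1 ![1, 0] :=
            hs1 v hv hv0
          rw [h2, Pi.smul_apply, hp, smul_zero]
        · exact h1g l (by simp [hlj, hl])
      · obtain ⟨u, hu0, huS, huW, c, hc⟩ := hline j h1 h1S hp
        have huH := huS.1
        have hu'W : ∀ w ∈ M.W j, u⁻¹ * w = w * u⁻¹ := fun w hw =>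
          ((show Commute u w from huW w hw).inv_left).eq
        have h2H : u⁻¹ * h1 ∈ H := mul_mem (inv_mem huH) h1H
        have h2S : u⁻¹ * h1 ∈ M.St j := mul_mem (inv_mem huS) h1S
        suffices h2fin : u⁻¹ * h1 ∈ M₀ by
          have := mul_mem hu0 h2fin
          rwa [mul_inv_cancel_left] at this
        refine ih _ h2H fun l hl => ?_
        by_cases hlj : l = j
        · subst hlj
          intro m hm' v hv hv0
          have hlm : l = m := M.W_inj (by rw [← hm', (M.mem_St.1 h2S).2])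
          subst hlm
          obtain ⟨s2, hs2⟩ := (M.sec l).exists_semi (inv_mem huS)
          have h2 : M.π l (h1 * v * h1⁻¹) = s1 (M.π l v 0) • (M.sec l).act h1 ![1, 0] :=
            hs1 v hv hv0
          have h3 := (M.sec l).act_π (inv_mem huS) (M.Vn h1 h1H v hv)
          have e3 : (M.sec l).π = M.π l := rfl
          rw [e3, h2, hs2, hc, hs2, (M.sec l).act_inv_act huS] at h3
          have e : u⁻¹ * h1 * v * (u⁻¹ * h1)⁻¹ = u⁻¹ * (h1 * v * h1⁻¹) * u⁻¹⁻¹ := by group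
          rw [e, ← h3]
          simp
        · intro m hm' v hv hv0
          obtain ⟨m', hm1⟩ := M.W_cj h1H l
          have hm'j : m' ≠ j := by
            rintro rfl
            apply hlj
            apply M.W_inj
            have := congrArg (cj h1⁻¹) (hm1.trans h1W.symm)
            rw [cj_inv_cj, cj_inv_cj] at this
            exact this.le
          have hmm : m' = m := by
            have h4 : cj u⁻¹ (M.W m') = M.W m' := by
              rw [← mem_normalizer_iff_cj]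
              refine mem_norm_of fun w hw => ⟨M.Vn _ (inv_mem huH) w hw.1, ?_⟩
              rw [M.cent_act (inv_mem huH) hu'W hm'j hw.1, hw.2]
            apply M.W_inj
            rw [← hm', ← cj_cj, hm1, h4]
          subst hmm
          have e : u⁻¹ * h1 * v * (u⁻¹ * h1)⁻¹ = u⁻¹ * (h1 * v * h1⁻¹) * u⁻¹⁻¹ := by group
          rw [e, M.cent_act (inv_mem huH) hu'W hm'j (M.Vn h1 h1H v hv)]
          exact h1g l (by simp [hlj, hl]) m' hm1 v hv hv0
  have := Fintype.ofFinite ι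
  exact hM fun h hh => key Finset.univ h hh (by simp)

/-- **L1 (`k` blocks).** The output of the FF-theorem gives the Baumann data. -/
theorem toInK [Finite G] [Finite F] [CharP F 2] [Finite ι] [Nonempty ι] (hm : MinH H T)
    (M : FFK ι F H T V V0) :
    ∃ E : ι → Subgroup G, InK H T (o2 H) V V0 M.N E (Nat.card F) := by
  classical
  choose E hE hEW hEc using M.exists_E hm
  have hH : ∀ {j}, j ∈ jj T → j ∈ H := fun hj => hm.syl.1 (jj_le T hj)
  have hcz : ∀ {b : G} {c : ι → F}, b ∈ jj T → M.Up b c → ∀ i, (∃ v ∈ M.N i, b * v ≠ v * b) →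
      c i ≠ 0 := by
    rintro b c hb hc i ⟨v, hv, hne⟩ h0
    exact hne (M.cent_N hm (jj_le T hb) hc h0 hv)
  refine ⟨E, ?_⟩
  exact {
    TH := hm.syl.1
    QT := o2_le_syl hm.syl
    VQ := M.VQ
    Qn := fun h hh x hx => conj_mem_of_norm (le_normalizer_o2 H hh) hx
    Vn := M.Vn
    Vsq := M.Vsq
    VcQ := M.VcQ
    cT := by
      intro t ht hc
      rw [M.mem_Q_iff hm ht]
      intro v hv i
      rw [hc v hv, mul_inv_cancel_right]
    syl := hm.syl
    V0n := M.V0n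
    V0N := M.V0_le_N
    NV := M.NV
    Nperm := by
      intro h hh i
      obtain ⟨j, hj⟩ := M.W_cj hh i
      exact ⟨j, M.N_cj hh hj⟩
    Ninf := by
      rintro i j hij v ⟨hv1, hv2⟩
      exact M.V0_of_N hv1 (hv2.2 i hij)
    Nsup := M.Nsup
    JN := by
      intro a ha i v hv
      obtain ⟨c, hc⟩ := M.jj_up hm ha
      refine ⟨M.Vn a (hH ha) v hv.1, fun j hj => ?_⟩
      rw [hc j v hv.1, hv.2 j hj]
      apply ext2
      · rw [ap_zero']; simp
      · rw [ap_one']; simp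
    V0J := by
      intro a ha v hv
      have h1 : v ∈ V1 T V := by
        rw [M.mem_V1_iff hm]
        exact ⟨M.V0V hv, fun i => by rw [(M.ker v (M.V0V hv)).2 hv i]; rfl⟩
      exact (mem_V1.1 h1).2 a ha
    card1 := by
      intro i
      refine card_of_map (fun v => M.π i v 1) ?_ inf_le_right ?_ ?_
      · intro v hv w hw
        show M.π i (v * w) 1 = _
        rw [M.map_mul i v hv.1 w hw.1]; rfl
      · intro v hv
        rw [M.mem_V1N hm]
        exact ⟨fun h => ⟨hv, h⟩, fun h => h.2⟩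
      · intro c
        obtain ⟨v, hv, e, hj⟩ := M.surj i ![0, c]
        exact ⟨v, ⟨hv, hj⟩, by show M.π i v 1 = c; rw [e]; rfl⟩
    card0 := by
      intro i
      have hle : V0 ≤ V1 T V ⊓ M.N i := by
        intro v hv
        rw [M.mem_V1N hm]
        exact ⟨M.V0_le_N i hv, by rw [(M.ker v (M.V0V hv)).2 hv i]; rfl⟩
      refine card_of_map (fun v => M.π i v 0) ?_ hle ?_ ?_
      · intro v hv w hw
        show M.π i (v * w) 0 = _
        rw [M.map_mul i v hv.2.1 w hw.2.1]; rfl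
      · intro v hv
        have hv' := (M.mem_V1N hm).1 hv
        constructor
        · intro h
          exact M.V0_of_N hv'.1 (ext2 h hv'.2)
        · intro h
          show M.π i v 0 = 0
          rw [(M.ker v (M.V0V h)).2 h i]; rfl
      · intro c
        obtain ⟨v, hv, e, hj⟩ := M.surj i ![c, 0]
        refine ⟨v, ?_, by show M.π i v 0 = c; rw [e]; rfl⟩
        rw [M.mem_V1N hm]
        exact ⟨⟨hv, hj⟩, by rw [e]; rfl⟩
    one_lt := Finite.one_lt_card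
    AT := hE
    Acent := fun i j hij a ha v hv => hEW i a ha v (M.N_le_W hij hv)
    Anle := by
      intro i hle
      obtain ⟨a, ha, hac⟩ := hEc i 1
      have h1 := M.up_unique (M.up_of_act1 hac) (M.up_zero_of_mem_Q (hle ha))
      have h2 := congrFun h1 i
      simp at h2
    Acard := by
      intro i
      have hS : M.Sup (E i) = {i} := by
        ext j
        rw [Set.mem_singleton_iff]
        constructor
        · intro hj
          by_contra hji
          apply hj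
          intro a ha v hv
          exact M.cent_act (hm.syl.1 ((hE i).2.1 ha)) (hEW i a ha) hji hv
        · rintro rfl hall
          obtain ⟨a, ha, hac⟩ := hEc j 1
          obtain ⟨v, hv, e, -⟩ := M.surj j ![0, 1]
          have h1 := hall a ha v hv
          rw [hac.act v hv, e] at h1
          have h2 := congrFun h1 0
          rw [ap_zero', up_00, up_01] at h2
          simp at h2
      have h1 := M.card_A hm (hE i)
      rw [hS] at h1
      rwa [Nat.card_congr (Equiv.funUnique ({i} : Set ι) F)] at h1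
    full := by
      intro i b hb
      obtain ⟨c, hc⟩ := M.jj_up hm hb
      obtain ⟨a, ha, hac⟩ := hEc i (c i)
      refine ⟨a, ha, fun v hv => ?_⟩
      have haT := (hE i).2.1 ha
      have haH := hm.syl.1 haT
      have hup := Up.mul M (hH hb) (Up.inv M haH (M.up_of_act1 hac)) hc
      have h1 := M.cent_N hm (mul_mem (inv_mem haT) (jj_le T hb)) hup (i := i) (by simp) hv
      have h2 : a⁻¹ * b * v * (a⁻¹ * b)⁻¹ = v := by rw [h1, mul_inv_cancel_right]
      calc a * v * a⁻¹ = a * (a⁻¹ * b * v * (a⁻¹ * b)⁻¹) * a⁻¹ := by rw [h2]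
        _ = b * v * b⁻¹ := by group
    cb := by
      intro i b hb hne v hv hbv
      obtain ⟨c, hc⟩ := M.jj_up hm hb
      have hc0 := hcz hb hc i hne
      have h1 := M.up_val hc hv.1 i
      rw [hbv, mul_inv_cancel_right] at h1
      have h2 : c i * M.π i v 1 = 0 := by
        have := h1.symm
        rwa [add_eq_left] at this
      exact ((M.mem_V1N hm).2 ⟨hv, (mul_eq_zero.1 h2).resolve_left hc0⟩).1
    quad := by
      intro i b hb v hv
      obtain ⟨c, hc⟩ := M.jj_up hm hb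
      have hbv := M.Vn b (hH hb) v hv.1
      rw [M.mem_V1_iff hm]
      refine ⟨mul_mem hbv (inv_mem hv.1), fun j => ?_⟩
      rw [M.map_div j hbv hv.1, Pi.sub_apply, M.up_val1 hc hv.1 j, sub_self]
    faith := by
      intro i b hb hne
      obtain ⟨c, hc⟩ := M.jj_up hm hb
      have hc0 := hcz hb hc i hne
      obtain ⟨v, hv, e, hj⟩ := M.surj i ![0, 1]
      refine ⟨v, ⟨hv, hj⟩, fun h0 => hc0 ?_⟩
      have hbv := M.Vn b (hH hb) v hv
      have h1 := (M.ker _ (M.V0V h0)).2 h0 i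
      rw [M.map_div i hbv hv] at h1
      have h2 := congrFun h1 0
      rw [Pi.sub_apply, M.up_val hc hv i, e] at h2
      simpa using h2
    field := fun t ht hc => field hm M ht hc
    off := fun A hA => M.off hm hA
    opp := M.opp hm
    ne := M.ne hm
    max := max hm M }

end FFK

end Cfsg.Agent.Omega.SQ1.FFOne

end
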