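import Cfsg.Agent.Mrg.Omega.SQ1.Choice
import Cfsg.Agent.Omega.PushUp.Last
import Cfsg.Agent.ZN.ChoiceSit


/-!
# SQ1: the minimal blocks for `q = 2` and the fields of the pushing up theorem

`L` is minimal subject to `B ≤ L ≤ B ⟨r i⟩ C_H(V)` and `L` moves `d i`.  Then `Q_i = C_B(N i)` is normal
in `L` (Frattini argument and minimality), and all hypotheses of `PushUp.Dat` hold for
`V_i = Z_B N i`, `D_i = ⟨d i⟩`.
-/

set_option autoImplicit false

namespace Cfsg.Agent.Omega.SQ1.BauS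

open Subgroup Cfsg Cfsg.Agent.PLocal.ThompsonJ Cfsg.Agent.ZN Cfsg.Agent.ZN.ChoiceBase
open Cfsg.Agent.PLocal.ElemAbSup
open Cfsg.Agent.Omega.SQ1.Bau (mem_AA_of_comm zj_le_AA elem_comm elem_sq mem_sup_comm card_sup_comm
  mem_sup_norm)
open scoped Pointwise

universe u w

variable {G : Type u} [Group G]

/-- The ambient group of a block. -/
def PP (H T V : Subgroup G) (x : G) : Subgroup G :=
  bau T ⊔ zpowers x ⊔ (H ⊓ centralizer (V : Set G))

/-- `N i ⟨d j⟩` -/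
def WW {ι : Type w} (N : ι → Subgroup G) (d : ι → G) (i : ι) : Subgroup G :=
  N i ⊔ Subgroup.closure (Set.range d)

/-- `V_i = Z_B N_i` -/
def VV {ι : Type w} (T : Subgroup G) (N : ι → Subgroup G) (i : ι) : Subgroup G := zj T ⊔ N i

/-- `Q_i = C_B(N_i)` -/
def QQ {ι : Type w} (T : Subgroup G) (N : ι → Subgroup G) (i : ι) : Subgroup G :=
  bau T ⊓ centralizer (N i : Set G)

/-- `L` is a minimal block. -/
structure Blk (H T V : Subgroup G) {ι : Type w} (d r : ι → G) (i : ι) (L : Subgroup G) : Prop where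
  BL : bau T ≤ L
  LP : L ≤ PP H T V (r i)
  mv : ∃ l ∈ L, l * d i * l⁻¹ ≠ d i
  min : ∀ X : Subgroup G, X ≤ L → bau T ≤ X → (∃ x ∈ X, x * d i * x⁻¹ ≠ d i) → L ≤ X

namespace In

variable {H T Q V : Subgroup G} {ι : Type w} {N : ι → Subgroup G} {d t r : ι → G}

theorem PP_le (h : In H T Q V N d t r) (i : ι) : PP H T V (r i) ≤ H :=
  sup_le (sup_le h.bau_H ((zpowers_le).2 (h.rH i))) inf_le_left

theorem B_le_PP (H T V : Subgroup G) (x : G) : bau T ≤ PP H T V x :=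
  le_sup_left.trans le_sup_left

theorem sim_one_iff {V : Subgroup G} {x : G} : Sim V x 1 ↔ ∀ v ∈ V, x * v = v * x := by
  constructor
  · intro h v hv
    have := h v hv
    calc x * v = (x * v * x⁻¹) * x := by group
      _ = v * x := by rw [this]; group
  · intro h v hv
    rw [h v hv]; group

/-- `r ^ n` acts like some element `r ^ k` after moving past `b`. -/
theorem pow_comm (h : In H T Q V N d t r) {i : ι} {b : G} (hb : b ∈ EE t Q) (n : ℤ) :
    ∃ k : ℤ, Sim V (r i ^ n * b) (b * r i ^ k) := by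
  have hbV := h.Vn b (h.EE_le_H hb)
  let S : Subgroup G :=
    { carrier := {s | s ∈ H ∧ ∃ k : ℤ, Sim V (s * b) (b * r i ^ k)}
      mul_mem' := by
        rintro x y ⟨hx, k, hk⟩ ⟨hy, m, hm⟩
        refine ⟨mul_mem hx hy, k + m, ?_⟩
        have h1 := hm.mul_left x
        have h2 := hk.mul_right (h.Vn _ (zpow_mem (h.rH i) m))
        rw [zpow_add]
        have e1 : x * (b * r i ^ m) = x * b * r i ^ m := by group
        have e2 : b * (r i ^ k * r i ^ m) = b * r i ^ k * r i ^ m := by group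
        rw [mul_assoc x y b, e2]
        rw [e1] at h1
        exact h1.trans h2
      one_mem' := ⟨one_mem _, 0, by rw [one_mul, zpow_zero, mul_one]; exact Sim.rfl'⟩
      inv_mem' := by
        rintro x ⟨hx, k, hk⟩
        refine ⟨inv_mem hx, -k, ?_⟩
        have h1 := (hk.mul_left x⁻¹).mul_right (h.Vn _ (zpow_mem (h.rH i) (-k)))
        have e1 : x⁻¹ * (x * b) * r i ^ (-k) = b * r i ^ (-k) := by group
        have e2 : x⁻¹ * (b * r i ^ k) * r i ^ (-k) = x⁻¹ * b := by group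
        rw [e1, e2] at h1
        exact h1.symm }
  have hr : r i ∈ S := by
    refine ⟨h.rH i, ?_⟩
    rcases (h.EE_good hb).actr i with h1 | h1
    · exact ⟨1, by rw [zpow_one]; exact h1.symm⟩
    · refine ⟨-1, ?_⟩
      -- `b r ~ r⁻¹ b`, so `r b r ~ b`
      have h2 := (h1.mul_left (r i)).mul_right (h.Vn _ (inv_mem (h.rH i)))
      have e1 : r i * (b * r i) * (r i)⁻¹ = r i * b := by group
      have e2 : r i * ((r i)⁻¹ * b) * (r i)⁻¹ = b * r i ^ (-1 : ℤ) := by group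
      rw [e1, e2] at h2
      exact h2
  have h2 : r i ^ n ∈ S := zpow_mem hr n
  exact h2.2

/-- Normal form of the elements of the ambient group of a block. -/
theorem PP_form (h : In H T Q V N d t r) [Finite G] {i : ι} {x : G} (hx : x ∈ PP H T V (r i)) :
    ∃ b ∈ bau T, ∃ n : ℤ, Sim V x (b * r i ^ n) := by
  let S : Subgroup G :=
    { carrier := {s | s ∈ H ∧ ∃ b ∈ bau T, ∃ n : ℤ, Sim V s (b * r i ^ n)}
      mul_mem' := by
        rintro x y ⟨hx, b, hb, n, hn⟩ ⟨hy, c, hc, m, hm⟩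
        obtain ⟨k, hk⟩ := h.pow_comm (i := i) (h.bau_EE hc) n
        refine ⟨mul_mem hx hy, b * c, mul_mem hb hc, k + m, ?_⟩
        have h1 := hn.mul (h.Vn y hy) hm
        have h2 := (hk.mul_left b).mul_right (h.Vn _ (zpow_mem (h.rH i) m))
        have e1 : b * r i ^ n * (c * r i ^ m) = b * (r i ^ n * c) * r i ^ m := by group
        have e2 : b * (c * r i ^ k) * r i ^ m = b * c * r i ^ (k + m) := by group
        rw [e1] at h1
        rw [e2] at h2
        exact h1.trans h2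
      one_mem' := ⟨one_mem _, 1, one_mem _, 0, by rw [one_mul, zpow_zero]; exact Sim.rfl'⟩
      inv_mem' := by
        rintro x ⟨hx, b, hb, n, hn⟩
        obtain ⟨k, hk⟩ := h.pow_comm (i := i) (h.bau_EE (inv_mem hb)) (-n)
        refine ⟨inv_mem hx, b⁻¹, inv_mem hb, k, ?_⟩
        have h1 := hn.inv (h.Vn' hx)
        have e : (b * r i ^ n)⁻¹ = r i ^ (-n) * b⁻¹ := by group
        rw [e] at h1
        exact h1.trans hk }
  have h1 : PP H T V (r i) ≤ S := by
    refine sup_le (sup_le ?_ ?_) ?_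
    · intro b hb
      exact ⟨h.bau_H hb, b, hb, 0, by rw [zpow_zero, mul_one]; exact Sim.rfl'⟩
    · rw [zpowers_le]
      exact ⟨h.rH i, 1, one_mem _, 1, by rw [one_mul, zpow_one]; exact Sim.rfl'⟩
    · rintro c ⟨hc, hc'⟩
      refine ⟨hc, 1, one_mem _, 0, ?_⟩
      rw [one_mul, zpow_zero, sim_one_iff]
      exact fun v hv => (mem_centralizer_iff.1 hc' v hv).symm
  exact (h1 hx).2

theorem pow_three (h : In H T Q V N d t r) (i : ι) (q : ℤ) : Sim V (r i ^ (3 * q)) 1 := by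
  have h1 : r i * r i * r i ∈ H ⊓ centralizer (V : Set G) := by
    refine ⟨mul_mem (mul_mem (h.rH i) (h.rH i)) (h.rH i), mem_centralizer_iff.2 fun v hv => ?_⟩
    exact ((sim_one_iff.1 (h.r3 i)) v hv).symm
  have h2 := zpow_mem h1 q
  have e : (r i * r i * r i) ^ q = r i ^ (3 * q) := by
    rw [zpow_mul]
    congr 1
    rw [show (3 : ℤ) = 1 + 1 + 1 by norm_num, zpow_add, zpow_add, zpow_one]
  rw [e] at h2
  rw [sim_one_iff]
  exact fun v hv => (mem_centralizer_iff.1 h2.2 v hv).symm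

/-- An element of the ambient group fixing `d i` acts like an element of `B`. -/
theorem PP_fix (h : In H T Q V N d t r) [Finite G] {i : ι} {x : G} (hx : x ∈ PP H T V (r i))
    (hfix : x * d i * x⁻¹ = d i) : ∃ b ∈ bau T, Sim V x b := by
  obtain ⟨b, hb, n, hn⟩ := h.PP_form hx
  refine ⟨b, hb, ?_⟩
  have hbd := (h.EE_good (h.bau_EE hb)).fixd i
  -- `r ^ n` fixes `d i`
  have h1 : r i ^ n * d i * (r i ^ n)⁻¹ = d i := by
    have h2 := hn (d i) (h.dV i)
    rw [hfix] at h2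
    have e : b * r i ^ n * d i * (b * r i ^ n)⁻¹ = b * (r i ^ n * d i * (r i ^ n)⁻¹) * b⁻¹ := by
      group
    rw [e] at h2
    have h3 : b⁻¹ * d i * b = d i := by
      calc b⁻¹ * d i * b = b⁻¹ * (b * d i * b⁻¹) * b := by rw [hbd]
        _ = d i := by group
    calc r i ^ n * d i * (r i ^ n)⁻¹ = b⁻¹ * (b * (r i ^ n * d i * (r i ^ n)⁻¹) * b⁻¹) * b := by
          group
      _ = b⁻¹ * d i * b := by rw [← h2]
      _ = d i := h3
  -- reduction modulo three
  have key : ∃ s : ℕ, s < 3 ∧ Sim V (r i ^ n) (r i ^ s) := by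
    refine ⟨(n % 3).toNat, ?_, ?_⟩
    · have := Int.emod_lt_of_pos n (show (0 : ℤ) < 3 by norm_num)
      have := Int.emod_nonneg n (show (3 : ℤ) ≠ 0 by norm_num)
      omega
    · have hnn := Int.emod_nonneg n (show (3 : ℤ) ≠ 0 by norm_num)
      have e1 : r i ^ n = r i ^ (3 * (n / 3)) * r i ^ (n % 3) := by
        rw [← zpow_add]
        congr 1
        have := Int.mul_ediv_add_emod n 3
        omega
      have e2 : r i ^ (n % 3).toNat = r i ^ (n % 3) := by
        rw [← zpow_natCast, Int.toNat_of_nonneg hnn]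
      rw [e1, e2]
      have h4 := (h.pow_three i (n / 3)).mul_right (h.Vn _ (zpow_mem (h.rH i) (n % 3)))
      rwa [one_mul] at h4
  obtain ⟨s, hs, hs'⟩ := key
  have h5 : r i ^ s * d i * (r i ^ s)⁻¹ = d i := by rw [← hs' _ (h.dV i), h1]
  have hs0 : s = 0 := by
    interval_cases s
    · rfl
    · exfalso
      rw [pow_one] at h5
      exact h.r_d_ne i h5
    · exfalso
      apply h.r_d_ne i
      have h6 := h.r3' i (h.dV i)
      have e : r i ^ 2 * d i * (r i ^ 2)⁻¹ = r i * (r i * d i * (r i)⁻¹) * (r i)⁻¹ := by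
        rw [pow_two]; group
      rw [e] at h5
      rwa [h5] at h6
  rw [hs0, pow_zero] at hs'
  have h7 := hs'.mul_left b
  rw [mul_one] at h7
  exact hn.trans h7

/-- An element of the ambient group moving `d i` yields, modulo `B`, one acting like `r i`. -/
theorem PP_mv (h : In H T Q V N d t r) [Finite G] {i : ι} {x : G} (hx : x ∈ PP H T V (r i))
    (hm : x * d i * x⁻¹ ≠ d i) {X : Subgroup G} (hB : bau T ≤ X) (hxX : x ∈ X) :
    ∃ y ∈ X ⊓ H, Sim V y (r i) := by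
  obtain ⟨b, hb, n, hn⟩ := h.PP_form hx
  have hxH := h.PP_le i hx
  have hbH := h.bau_H hb
  have hyX : b⁻¹ * x ∈ X ⊓ H := ⟨X.mul_mem (X.inv_mem (hB hb)) hxX,
    H.mul_mem (H.inv_mem hbH) hxH⟩
  have hy : Sim V (b⁻¹ * x) (r i ^ n) := by
    have h1 := hn.mul_left b⁻¹
    have e : b⁻¹ * (b * r i ^ n) = r i ^ n := by group
    rwa [e] at h1
  have hrV := fun m : ℤ => h.Vn _ (zpow_mem (h.rH i) m)
  -- `r ^ (3 q + s) ~ r ^ s`
  have key : ∀ q s : ℤ, Sim V (r i ^ (3 * q + s)) (r i ^ s) := by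
    intro q s
    rw [zpow_add]
    have h4 := (h.pow_three i q).mul_right (hrV s)
    rwa [one_mul] at h4
  have h3 : n % 3 = 0 ∨ n % 3 = 1 ∨ n % 3 = 2 := by omega
  rcases h3 with h3 | h3 | h3
  · exfalso
    apply hm
    have h4 := key (n / 3) 0
    rw [show 3 * (n / 3) + 0 = n by omega, zpow_zero] at h4
    have h5 := hn.trans (h4.mul_left b)
    rw [mul_one] at h5
    rw [h5 _ (h.dV i), (h.EE_good (h.bau_EE hb)).fixd i]
  · refine ⟨_, hyX, hy.trans ?_⟩
    have h4 := key (n / 3) 1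
    rwa [show 3 * (n / 3) + 1 = n by omega, zpow_one] at h4
  · refine ⟨(b⁻¹ * x) * (b⁻¹ * x), mul_mem hyX hyX, ?_⟩
    have h4 := hy.mul (h.Vn _ hyX.2) hy
    rw [← zpow_add] at h4
    refine h4.trans ?_
    have h5 := key (2 * (n / 3) + 1) 1
    rwa [show 3 * (2 * (n / 3) + 1) + 1 = n + n by omega, zpow_one] at h5

theorem B_N (h : In H T Q V N d t r) [Finite G] {i : ι} {b : G} (hb : b ∈ bau T) {v : G}
    (hv : v ∈ N i) : b * v * b⁻¹ ∈ N i := by
  rcases (h.EE_good (h.bau_EE hb)).actN i with h1 | h1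
  · rw [h1 v hv]; exact hv
  · rw [h1 v hv]; exact h.t_N i hv

theorem PP_norm_N (h : In H T Q V N d t r) [Finite G] (i : ι) :
    PP H T V (r i) ≤ normalizer (N i : Set G) := by
  refine sup_le (sup_le ?_ ?_) ?_
  · intro b hb
    refine mem_normalizer_of_cj_le ?_
    rintro _ ⟨v, hv, rfl⟩
    exact h.B_N hb hv
  · rw [zpowers_le]
    refine mem_normalizer_of_cj_le ?_
    rintro _ ⟨v, hv, rfl⟩
    exact h.r_N i hv
  · rintro c ⟨hc, hc'⟩
    refine mem_normalizer_of_cj_le ?_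
    rintro _ ⟨v, hv, rfl⟩
    have e : (MulAut.conj c).toMonoidHom v = v := by
      simp only [MulEquiv.toMonoidHom_eq_coe, MonoidHom.coe_coe, MulAut.conj_apply]
      rw [← mem_centralizer_iff.1 hc' v (h.NV i hv)]; group
    rw [e]; exact hv

theorem PP_N (h : In H T Q V N d t r) [Finite G] {i : ι} {x : G} (hx : x ∈ PP H T V (r i)) {v : G}
    (hv : v ∈ N i) : x * v * x⁻¹ ∈ N i := (mem_normalizer_iff.1 (h.PP_norm_N i hx) v).1 hv

theorem W_le_V (h : In H T Q V N d t r) (i : ι) : WW N d i ≤ V := sup_le (h.NV i) h.D_le_V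

theorem PP_norm_W (h : In H T Q V N d t r) [Finite G] (i : ι) :
    PP H T V (r i) ≤ normalizer ((WW N d i : Subgroup G) : Set G) := by
  have key : ∀ x : G, x ∈ PP H T V (r i) → (∀ j, x * d j * x⁻¹ ∈ WW N d i) →
      x ∈ normalizer ((WW N d i : Subgroup G) : Set G) := by
    intro x hx hd
    refine mem_normalizer_of_cj_le ?_
    rw [cj, WW, Subgroup.map_sup]
    refine sup_le ?_ ?_
    · rintro _ ⟨v, hv, rfl⟩
      exact mem_sup_left (h.PP_N hx hv)
    · rw [Subgroup.map_le_iff_le_comap, closure_le]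
      rintro _ ⟨j, rfl⟩
      exact hd j
  refine sup_le (sup_le ?_ ?_) ?_
  · intro b hb
    refine key b (B_le_PP H T V _ hb) fun j => ?_
    rw [(h.EE_good (h.bau_EE hb)).fixd j]
    exact mem_sup_right (subset_closure ⟨j, rfl⟩)
  · rw [zpowers_le]
    refine key _ (mem_sup_left (mem_sup_right (mem_zpowers _))) fun j => ?_
    by_cases hij : i = j
    · subst hij
      exact mem_sup_left (h.r_N i (h.dN i))
    · rw [h.r_d' hij]
      exact mem_sup_right (subset_closure ⟨j, rfl⟩)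
  · rintro c ⟨hc, hc'⟩
    refine key c (mem_sup_right ⟨hc, hc'⟩) fun j => ?_
    have e : c * d j * c⁻¹ = d j := by
      rw [← mem_centralizer_iff.1 hc' _ (h.dV j)]; group
    rw [e]
    exact mem_sup_right (subset_closure ⟨j, rfl⟩)

theorem PP_W (h : In H T Q V N d t r) [Finite G] {i : ι} {x : G} (hx : x ∈ PP H T V (r i)) {v : G}
    (hv : v ∈ WW N d i) : x * v * x⁻¹ ∈ WW N d i :=
  (mem_normalizer_iff.1 (h.PP_norm_W i hx) v).1 hv

theorem exists_blk (h : In H T Q V N d t r) [Finite G] (i : ι) : ∃ L, Blk H T V d r i L := by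
  classical
  obtain ⟨L, hL, hmin⟩ := (Set.toFinite {U : Subgroup G | bau T ≤ U ∧ U ≤ PP H T V (r i) ∧
    ∃ l ∈ U, l * d i * l⁻¹ ≠ d i}).exists_minimalFor id _
    ⟨PP H T V (r i), B_le_PP H T V _, le_rfl, r i, mem_sup_left (mem_sup_right (mem_zpowers _)),
      h.r_d_ne i⟩
  exact ⟨L, hL.1, hL.2.1, hL.2.2, fun X hX hB hm => hmin ⟨hB, hX.trans hL.2.1, hm⟩ hX⟩

/-- The elements of `B` which do not centralise `N i` fix only `1` and `d i` in `N i`. -/
theorem B_ne (h : In H T Q V N d t r) [Finite G] {i : ι} {b : G} (hb : b ∈ bau T)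
    (hbQ : b ∉ QQ T N i) {v : G} (hv : v ∈ N i) (hfix : b * v * b⁻¹ = v) : v = 1 ∨ v = d i := by
  rcases (h.EE_good (h.bau_EE hb)).actN i with h1 | h1
  · exfalso
    refine hbQ ⟨hb, mem_centralizer_iff.2 fun w hw => ?_⟩
    have := h1 w hw
    calc w * b = (b * w * b⁻¹) * b := by rw [this]
      _ = b * w := by group
  · rw [h1 v hv] at hfix
    exact h.t_ne i hv hfix

theorem t_not_QQ (h : In H T Q V N d t r) (i : ι) : t i ∉ QQ T N i := by
  intro hc
  have h1 := mem_centralizer_iff.1 hc.2 _ (h.r_N i (h.dN i))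
  have h2 := h.t_m i
  rw [← h1] at h2
  apply h.d1 i
  have e : r i * d i * (r i)⁻¹ * t i * (t i)⁻¹ = r i * d i * (r i)⁻¹ := by group
  rw [e] at h2
  simpa using h2.symm

theorem comm_Y (h : In H T Q V N d t r) [Finite G] {b : G} (hb : b ∈ bau T) {y : G}
    (hy : y ∈ Y T V) : b * y * b⁻¹ * y⁻¹ ∈ Subgroup.closure (Set.range d) := by
  obtain ⟨z, hz, v, hv, rfl⟩ := h.mem_Y hy
  have h1 := (h.EE_good (h.bau_EE hb)).comm v hv
  have e1 : z * b = b * z := (mem_bau.1 hb).2 z hz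
  have h2 : b * v * b⁻¹ * v⁻¹ ∈ V := h.D_le_V h1
  have e2 := h.ZcV z hz _ h2
  have e : b * (z * v) * b⁻¹ * (z * v)⁻¹ = b * v * b⁻¹ * v⁻¹ := by
    calc b * (z * v) * b⁻¹ * (z * v)⁻¹ = (b * z) * v * b⁻¹ * v⁻¹ * z⁻¹ := by group
      _ = (z * b) * v * b⁻¹ * v⁻¹ * z⁻¹ := by rw [e1]
      _ = (z * (b * v * b⁻¹ * v⁻¹)) * z⁻¹ := by group
      _ = b * v * b⁻¹ * v⁻¹ := by rw [e2]; group
  rw [e]; exact h1

end In

namespace Blk

open In

variable {H T Q V L : Subgroup G} {ι : Type w} {N : ι → Subgroup G} {d t r : ι → G} {i : ι}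

theorem LH (k : Blk H T V d r i L) (h : In H T Q V N d t r) : L ≤ H := k.LP.trans (h.PP_le i)

theorem L_N (k : Blk H T V d r i L) (h : In H T Q V N d t r) [Finite G] {l v : G} (hl : l ∈ L)
    (hv : v ∈ N i) : l * v * l⁻¹ ∈ N i := h.PP_N (k.LP hl) hv

theorem L_N' (k : Blk H T V d r i L) (h : In H T Q V N d t r) [Finite G] {l v : G} (hl : l ∈ L)
    (hv : v ∈ N i) : l⁻¹ * v * l ∈ N i := by
  have := k.L_N h (inv_mem hl) hv
  rwa [inv_inv] at this

theorem mv_inv (_k : Blk H T V d r i L) {l : G} (hm : l * d i * l⁻¹ ≠ d i) :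
    l⁻¹ * d i * l ≠ d i := fun e => hm (by
      calc l * d i * l⁻¹ = l * (l⁻¹ * d i * l) * l⁻¹ := by rw [e]
        _ = d i := by group)

/-- `L = ⟨B, b^l⟩` for `b ∈ B - Q_i`. -/
theorem gen_left (k : Blk H T V d r i L) (h : In H T Q V N d t r) [Finite G] {l b : G} (hl : l ∈ L)
    (hm : l * d i * l⁻¹ ≠ d i) (hb : b ∈ bau T) (hbQ : b ∉ QQ T N i) {X : Subgroup G}
    (hX : bau T ≤ X) (hx : l * b * l⁻¹ ∈ X) : L ≤ X := by
  refine (k.min (X ⊓ L) inf_le_right (le_inf hX k.BL) ⟨l * b * l⁻¹,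
    mem_inf.2 ⟨hx, mul_mem (mul_mem hl (k.BL hb)) (inv_mem hl)⟩, fun e => ?_⟩).trans inf_le_left
  -- `b` fixes `l⁻¹ d l`
  have h1 : b * (l⁻¹ * d i * l) * b⁻¹ = l⁻¹ * d i * l := by
    calc b * (l⁻¹ * d i * l) * b⁻¹ = l⁻¹ * (l * b * l⁻¹ * d i * (l * b * l⁻¹)⁻¹) * l := by group
      _ = l⁻¹ * d i * l := by rw [e]
  rcases h.B_ne hb hbQ (k.L_N' h hl (h.dN i)) h1 with h2 | h2
  · apply h.d1 i
    calc d i = l * (l⁻¹ * d i * l) * l⁻¹ := by group
      _ = 1 := by rw [h2]; group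
  · exact k.mv_inv hm h2

/-- `L = ⟨B, B^l⟩`. -/
theorem gen (k : Blk H T V d r i L) (h : In H T Q V N d t r) [Finite G] {l : G} (hl : l ∈ L)
    (hm : l * d i * l⁻¹ ≠ d i) {X : Subgroup G} (hX : bau T ≤ X)
    (hx : ∀ b ∈ bau T, l * b * l⁻¹ ∈ X) : L ≤ X :=
  k.gen_left h hl hm (h.t_bau i) (h.t_not_QQ i) hX (hx _ (h.t_bau i))

/-- `L` acts trivially on `Y / W_i`. -/
theorem comm_Y (k : Blk H T V d r i L) (h : In H T Q V N d t r) [Finite G] {l y : G} (hl : l ∈ L)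
    (hy : y ∈ Y T V) : l * y * l⁻¹ * y⁻¹ ∈ WW N d i := by
  let S : Subgroup G :=
    { carrier := {x | x ∈ PP H T V (r i) ∧ ∀ y ∈ Y T V, x * y * x⁻¹ * y⁻¹ ∈ WW N d i}
      mul_mem' := by
        rintro a b ⟨ha, ha'⟩ ⟨hb, hb'⟩
        refine ⟨mul_mem ha hb, fun y hy => ?_⟩
        have e : a * b * y * (a * b)⁻¹ * y⁻¹ =
          (a * (b * y * b⁻¹ * y⁻¹) * a⁻¹) * (a * y * a⁻¹ * y⁻¹) := by group
        rw [e]
        exact mul_mem (h.PP_W ha (hb' y hy)) (ha' y hy)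
      one_mem' := ⟨one_mem _, fun y _ => by
        have e : (1 : G) * y * 1⁻¹ * y⁻¹ = 1 := by group
        rw [e]; exact one_mem _⟩
      inv_mem' := by
        rintro a ⟨ha, ha'⟩
        refine ⟨inv_mem ha, fun y hy => ?_⟩
        have e : a⁻¹ * y * a⁻¹⁻¹ * y⁻¹ = a⁻¹ * (a * y * a⁻¹ * y⁻¹)⁻¹ * a⁻¹⁻¹ := by group
        rw [e]
        exact h.PP_W (inv_mem ha) (inv_mem (ha' y hy)) }
  have hBS : bau T ≤ S := fun b hb => ⟨B_le_PP H T V _ hb, fun y hy =>
    mem_sup_right (h.comm_Y hb hy)⟩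
  obtain ⟨m, hm, hmm⟩ := k.mv
  have hLS : L ≤ S := by
    refine k.gen h hm hmm hBS fun b hb => ?_
    have hmP := k.LP hm
    refine ⟨mul_mem (mul_mem hmP (B_le_PP H T V _ hb)) (inv_mem hmP), fun y hy => ?_⟩
    have hy' : m⁻¹ * y * m ∈ Y T V := by
      have := h.Y_norm i m⁻¹ (inv_mem (k.LH h hm)) y hy
      rwa [inv_inv] at this
    have h2 := h.PP_W hmP ((hBS hb).2 _ hy')
    have e : m * b * m⁻¹ * y * (m * b * m⁻¹)⁻¹ * y⁻¹ =
      m * (b * (m⁻¹ * y * m) * b⁻¹ * (m⁻¹ * y * m)⁻¹) * m⁻¹ := by group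
    rw [e]; exact h2
  exact (hLS hl).2 y hy

theorem W_le_VV (h : In H T Q V N d t r) [Finite G] : WW N d i ≤ VV T N i :=
  sup_le le_sup_right (h.D_le_Z.trans le_sup_left)

theorem VV_le_Y (h : In H T Q V N d t r) : VV T N i ≤ Y T V :=
  sup_le (Z_le_Y T V) ((h.NV i).trans (V_le_Y T V))

theorem VV_norm (k : Blk H T V d r i L) (h : In H T Q V N d t r) [Finite G] {l v : G} (hl : l ∈ L)
    (hv : v ∈ VV T N i) : l * v * l⁻¹ ∈ VV T N i := by
  have h1 := k.comm_Y h hl (VV_le_Y h hv)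
  have h2 := mul_mem (W_le_VV h h1) hv
  have e : l * v * l⁻¹ * v⁻¹ * v = l * v * l⁻¹ := by group
  rwa [e] at h2

theorem mem_VV (h : In H T Q V N d t r) [Finite G] {v : G} (hv : v ∈ VV T N i) :
    ∃ z ∈ zj T, ∃ n ∈ N i, v = z * n :=
  mem_sup_comm (fun z hz n hn => h.ZcV z hz n (h.NV i hn)) hv

theorem Z_inf_N (h : In H T Q V N d t r) [Finite G] {v : G} (hv : v ∈ N i) (hz : v ∈ zj T) :
    v = 1 ∨ v = d i := by
  refine h.B_ne (h.t_bau i) (h.t_not_QQ i) hv ?_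
  have := (mem_bau.1 (h.t_bau i)).2 v hz
  rw [← this]; group

theorem VV_le_B (h : In H T Q V N d t r) [Finite G] : VV T N i ≤ bau T := by
  intro v hv
  have h1 := VV_le_Y h hv
  refine mem_bau.2 ⟨h.QT (h.Y_le_Q h1), fun y hy => ?_⟩
  exact elem_comm h.Y_elem y (Z_le_Y T V hy) v h1

theorem VV_le_QQ (h : In H T Q V N d t r) [Finite G] : VV T N i ≤ QQ T N i := by
  intro v hv
  refine ⟨VV_le_B h hv, mem_centralizer_iff.2 fun n hn => ?_⟩
  exact elem_comm h.Y_elem n (V_le_Y T V (h.NV i hn)) v (VV_le_Y h hv)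

/-- `Q* ≤ Q_i` -/
theorem star_le_QQ (h : In H T Q V N d t r) : bau T ⊓ Q ≤ QQ T N i := fun x hx =>
  ⟨hx.1, mem_centralizer_iff.2 fun n hn => (h.VcQ x hx.2 n (h.NV i hn)).symm⟩

/-- An element of `Z` which stays in `Z` under `l⁻¹` is centralised by `L`. -/
theorem cent_of (k : Blk H T V d r i L) (h : In H T Q V N d t r) [Finite G] {l y : G} (hl : l ∈ L)
    (hm : l * d i * l⁻¹ ≠ d i) (h1 : y ∈ zj T) (h2 : l⁻¹ * y * l ∈ zj T) :
    ∀ x ∈ L, x * y = y * x := by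
  have h3 : L ≤ centralizer ({y} : Set G) := by
    refine k.gen h hl hm (fun b hb => ?_) fun c hc => ?_
    · rw [mem_centralizer_iff]
      intro w hw
      rw [show w = y from hw]
      exact (mem_bau.1 hb).2 _ h1
    · rw [mem_centralizer_iff]
      intro w hw
      rw [show w = y from hw]
      have h4 := (mem_bau.1 hc).2 _ h2
      calc y * (l * c * l⁻¹) = l * (l⁻¹ * y * l * c) * l⁻¹ := by group
        _ = l * (c * (l⁻¹ * y * l)) * l⁻¹ := by rw [h4]
        _ = l * c * l⁻¹ * y := by group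
  intro x hx
  exact ((mem_centralizer_iff.1 (h3 hx)) y rfl).symm

/-- `Z = ⟨d i⟩ (Z ∩ Z^l)`. -/
theorem Z_split (k : Blk H T V d r i L) (h : In H T Q V N d t r) [Finite G] {l z : G} (hl : l ∈ L)
    (hm : l * d i * l⁻¹ ≠ d i) (hz : z ∈ zj T) :
    l⁻¹ * z * l ∈ zj T ∨ l⁻¹ * (d i * z) * l ∈ zj T := by
  have h1 : l⁻¹ * z * l ∈ VV T N i := by
    have := k.VV_norm h (inv_mem hl) (mem_sup_left hz)
    rwa [inv_inv] at this
  obtain ⟨z', hz', n, hn, e⟩ := mem_VV h h1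
  have hdN := k.L_N' h hl (h.dN i)
  have hd1 : l⁻¹ * d i * l ≠ 1 := fun e1 => h.d1 i (by
    calc d i = l * (l⁻¹ * d i * l) * l⁻¹ := by group
      _ = 1 := by rw [e1]; group)
  have hdd := k.mv_inv hm
  have hdZ := h.d_mem_Z i
  have hmm := h.mem_N i hdN
  set m := r i * d i * (r i)⁻¹ with hmdef
  have hmN : m ∈ N i := h.r_N i (h.dN i)
  have hmV := h.NV i hmN
  have hmsq := h.mulself hmV
  have hdsq := h.mulself (h.dV i)
  have hdm := h.Vcomm _ (h.dV i) _ hmV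
  have e2 : l⁻¹ * (d i * z) * l = (l⁻¹ * d i * l) * (z' * n) := by
    rw [← e]; group
  have e3 : (l⁻¹ * d i * l) * (z' * n) = z' * ((l⁻¹ * d i * l) * n) := by
    have := h.ZcV z' hz' _ (h.NV i hdN)
    calc (l⁻¹ * d i * l) * (z' * n) = ((l⁻¹ * d i * l) * z') * n := by group
      _ = (z' * (l⁻¹ * d i * l)) * n := by rw [this]
      _ = _ := by group
  rcases h.mem_N i hn with h2 | h2 | h2 | h2
  · left; rw [e, h2, mul_one]; exact hz'
  · left; rw [e, h2]; exact mul_mem hz' hdZ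
  · right
    rw [e2, e3]
    refine mul_mem hz' ?_
    rcases hmm with h3 | h3 | h3 | h3
    · exact absurd h3 hd1
    · exact absurd h3 hdd
    · rw [h3, h2, ← hmdef, hmsq]; exact one_mem _
    · rw [h3, h2, ← hmdef, mul_assoc, hmsq, mul_one]; exact hdZ
  · right
    rw [e2, e3]
    refine mul_mem hz' ?_
    rcases hmm with h3 | h3 | h3 | h3
    · exact absurd h3 hd1
    · exact absurd h3 hdd
    · rw [h3, h2, ← hmdef]
      have e4 : m * (d i * m) = d i := by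
        rw [hdm, ← mul_assoc, hmsq, one_mul]
      rw [e4]; exact hdZ
    · rw [h3, h2, ← hmdef]
      have e4 : d i * m * (d i * m) = 1 := by
        calc d i * m * (d i * m) = (m * d i) * (d i * m) := by rw [← hdm]
          _ = m * (d i * d i) * m := by group
          _ = 1 := by rw [hdsq, mul_one, hmsq]
      rw [e4]; exact one_mem _

/-- `L ∩ Q ≤ B`. -/
theorem inf_Q (k : Blk H T V d r i L) (h : In H T Q V N d t r) [Finite G] {x : G} (hx : x ∈ L)
    (hxQ : x ∈ Q) : x ∈ bau T := by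
  obtain ⟨l, hl, hm⟩ := k.mv
  refine mem_bau.2 ⟨h.QT hxQ, fun z hz => ?_⟩
  rcases k.Z_split h hl hm hz with h1 | h1
  · exact (k.cent_of h hl hm hz h1 x hx).symm
  · have h2 := k.cent_of h hl hm (mul_mem (h.d_mem_Z i) hz) h1 x hx
    have h3 := h.VcQ x hxQ _ (h.dV i)
    have e : x * z = z * x := by
      have h4 : d i * (x * z) = d i * (z * x) := by
        calc d i * (x * z) = (d i * x) * z := by group
          _ = (x * d i) * z := by rw [h3]
          _ = x * (d i * z) := by group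
          _ = d i * z * x := h2
          _ = _ := by group
      exact mul_left_cancel h4
    exact e.symm

/-- `Q_i` is a Sylow 2-subgroup of `C_L(N_i)`. -/
theorem syl_QQ (k : Blk H T V d r i L) (h : In H T Q V N d t r) [Finite G] :
    ChoiceSit.Syl (QQ T N i) (L ⊓ centralizer (N i : Set G)) := by
  refine ⟨inf_le_inf_right _ k.BL, h.Tp.to_le (inf_le_left.trans (bau_le T)), ?_⟩
  intro P hPC hP hQP
  refine le_antisymm ?_ hQP
  intro x hx
  have hxC := hPC hx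
  have hxL : x ∈ L := hxC.1
  have hfix : ∀ n ∈ N i, x * n * x⁻¹ = n := fun n hn => by
    rw [← mem_centralizer_iff.1 hxC.2 n hn]; group
  obtain ⟨b, hb, hbx⟩ := h.PP_fix (k.LP hxL) (hfix _ (h.dN i))
  have hbQ : b ∈ QQ T N i := by
    refine ⟨hb, mem_centralizer_iff.2 fun n hn => ?_⟩
    have h1 := hbx n (h.NV i hn)
    rw [hfix n hn] at h1
    calc n * b = (b * n * b⁻¹) * b := by rw [← h1]
      _ = b * n := by group
  have hcP : b⁻¹ * x ∈ P := mul_mem (inv_mem (hQP hbQ)) hx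
  have hcH : b⁻¹ * x ∈ H := mul_mem (inv_mem (h.bau_H hb)) (k.LH h hxL)
  have hcV : ∀ v ∈ V, b⁻¹ * x * v = v * (b⁻¹ * x) := by
    refine sim_one_iff.1 ?_
    have := hbx.mul_left b⁻¹
    rwa [inv_mul_cancel] at this
  have hcQ : b⁻¹ * x ∈ Q := by
    obtain ⟨n, hn⟩ := hP ⟨_, hcP⟩
    exact h.two _ hcH hcV ⟨n, by simpa using congrArg Subtype.val hn⟩
  have hcB : b⁻¹ * x ∈ bau T := k.inf_Q h (mul_mem (inv_mem (k.BL hb)) hxL) hcQ
  have h2 := mul_mem hbQ (star_le_QQ (i := i) h ⟨hcB, hcQ⟩)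
  rwa [mul_inv_cancel_left] at h2

/-- `Q_i` is normal in `L`. -/
theorem QQ_norm (k : Blk H T V d r i L) (h : In H T Q V N d t r) [Finite G] :
    L ≤ normalizer ((QQ T N i : Subgroup G) : Set G) := by
  set C := L ⊓ centralizer (N i : Set G) with hC
  have hB : bau T ≤ normalizer ((QQ T N i : Subgroup G) : Set G) := by
    intro b hb
    refine mem_normalizer_of_cj_le ?_
    rintro _ ⟨x, hx, rfl⟩
    refine ⟨(bau T).mul_mem ((bau T).mul_mem hb hx.1) ((bau T).inv_mem hb),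
      mem_centralizer_iff.2 fun n hn => ?_⟩
    have hn' : b⁻¹ * n * b ∈ N i := by
      have := h.B_N (inv_mem hb) hn
      rwa [inv_inv] at this
    have h1 := mem_centralizer_iff.1 hx.2 _ hn'
    change n * (b * x * b⁻¹) = (b * x * b⁻¹) * n
    calc n * (b * x * b⁻¹) = b * ((b⁻¹ * n * b) * x) * b⁻¹ := by group
      _ = b * (x * (b⁻¹ * n * b)) * b⁻¹ := by rw [h1]
      _ = _ := by group
  obtain ⟨l, hl, hm⟩ := k.mv
  have hs := k.syl_QQ h
  rw [← hC] at hs
  have hlC : cj l C = C := by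
    refine cj_eq_of_mem_normalizer (mem_normalizer_of_cj_le ?_)
    rintro _ ⟨x, hx, rfl⟩
    refine ⟨L.mul_mem (L.mul_mem hl hx.1) (L.inv_mem hl), mem_centralizer_iff.2 fun n hn => ?_⟩
    have h1 := mem_centralizer_iff.1 hx.2 _ (k.L_N' h hl hn)
    change n * (l * x * l⁻¹) = (l * x * l⁻¹) * n
    calc n * (l * x * l⁻¹) = l * ((l⁻¹ * n * l) * x) * l⁻¹ := by group
      _ = l * (x * (l⁻¹ * n * l)) * l⁻¹ := by rw [h1]
      _ = _ := by group
  have hs' : ChoiceSit.Syl (cj l (QQ T N i)) C := by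
    refine ⟨?_, isPGroup_cj l hs.2.1, ?_⟩
    · rw [← hlC]; exact cj_mono l hs.1
    · intro P hP hP2 hQP
      have h1 : cj l⁻¹ P = QQ T N i := by
        refine hs.2.2 _ ?_ (isPGroup_cj _ hP2) ?_
        · rw [cj_le_iff, inv_inv, hlC]; exact hP
        · rw [← cj_le_iff]; exact hQP
      rw [← h1, cj_cj_inv]
  obtain ⟨c, hc, hcc⟩ := ChoiceSit.syl_conj hs' hs
  rw [cj_cj] at hcc
  have hcl : c * l ∈ normalizer ((QQ T N i : Subgroup G) : Set G) := mem_normalizer_iff_cj.2 hcc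
  refine (k.min (L ⊓ normalizer ((QQ T N i : Subgroup G) : Set G)) inf_le_left
    (le_inf k.BL hB) ⟨c * l, ⟨mul_mem hc.1 hl, hcl⟩, ?_⟩).trans inf_le_right
  have h1 := mem_centralizer_iff.1 hc.2 _ (k.L_N h hl (h.dN i))
  have e : c * l * d i * (c * l)⁻¹ = l * d i * l⁻¹ := by
    calc c * l * d i * (c * l)⁻¹ = (c * (l * d i * l⁻¹)) * c⁻¹ := by group
      _ = (l * d i * l⁻¹ * c) * c⁻¹ := by rw [h1]
      _ = _ := by group
  rw [e]; exact hm

theorem L_QQ (k : Blk H T V d r i L) (h : In H T Q V N d t r) [Finite G] {l x : G} (hl : l ∈ L)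
    (hx : x ∈ QQ T N i) : l * x * l⁻¹ ∈ QQ T N i :=
  (mem_normalizer_iff.1 (k.QQ_norm h hl) x).1 hx

/-- `⟨T, L⟩ = H`. -/
theorem sup_T (k : Blk H T V d r i L) (h : In H T Q V N d t r) [Finite G] {X : Subgroup G}
    (hT : T ≤ X) (hL : L ≤ X) : H ≤ X := by
  obtain ⟨l, hl, hm⟩ := k.mv
  obtain ⟨y, hy, hys⟩ := h.PP_mv (k.LP hl) hm ((bau_le T).trans hT) (hL hl)
  exact (h.max (X ⊓ H) (le_inf hT h.TH) inf_le_right i ⟨y, hy, hys⟩).trans inf_le_left

/-- `l` moves `D_i` out of `Z` iff it moves `d i`. -/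
theorem mv_iff (k : Blk H T V d r i L) (h : In H T Q V N d t r) [Finite G] {l : G} (hl : l ∈ L) :
    Cfsg.Agent.Omega.PushUp.Mv (zpowers (d i)) (zj T) l ↔ l * d i * l⁻¹ ≠ d i := by
  constructor
  · rintro ⟨x, hx, hx'⟩ e
    apply hx'
    have h1 : zpowers (d i) ≤ centralizer ({l} : Set G) := by
      rw [zpowers_le, mem_centralizer_iff]
      intro w hw
      rw [show w = l from hw]
      calc l * d i = (l * d i * l⁻¹) * l := by group
        _ = d i * l := by rw [e]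
    have h2 := mem_centralizer_iff.1 (h1 hx) l rfl
    have e2 : Cfsg.Agent.MinSimple.PushUp.cj l x = x := by
      change l * x * l⁻¹ = x
      rw [h2]; group
    rw [e2]
    exact (zpowers_le).2 (h.d_mem_Z i) hx
  · intro hm
    refine ⟨d i, mem_zpowers _, fun hZ => ?_⟩
    rcases Z_inf_N h (k.L_N h hl (h.dN i)) hZ with h1 | h1
    · apply h.d1 i
      calc d i = l⁻¹ * (l * d i * l⁻¹) * l := by group
        _ = 1 := by rw [h1]; group
    · exact hm h1

theorem mem_zp (h : In H T Q V N d t r) {x : G} (hx : x ∈ zpowers (d i)) : x = 1 ∨ x = d i := by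
  obtain ⟨n, rfl⟩ := mem_zpowers_iff.1 hx
  have hsq : d i ^ (2 : ℤ) = 1 := by
    rw [show (2 : ℤ) = 1 + 1 by norm_num, zpow_add, zpow_one, h.mulself (h.dV i)]
  rcases Int.emod_two_eq_zero_or_one n with h1 | h1
  · left
    rw [show n = 2 * (n / 2) by omega, zpow_mul, hsq, one_zpow]
  · right
    rw [show n = 2 * (n / 2) + 1 by omega, zpow_add, zpow_mul, hsq, one_zpow, one_mul, zpow_one]

theorem relIndex_QQ (h : In H T Q V N d t r) [Finite G] : (QQ T N i).relIndex (bau T) = 2 := by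
  rw [Subgroup.relIndex, Subgroup.index_eq_two_iff]
  refine ⟨⟨t i, h.t_bau i⟩, ?_⟩
  rintro ⟨b, hb⟩
  simp only [mem_subgroupOf, Subgroup.coe_mul]
  have hQ : ∀ {b : G}, b ∈ bau T → (b ∈ QQ T N i ↔ ∀ v ∈ N i, b * v * b⁻¹ = v) := by
    intro b hb
    constructor
    · intro h1 v hv
      rw [← mem_centralizer_iff.1 h1.2 v hv]; group
    · intro h1
      refine ⟨hb, mem_centralizer_iff.2 fun v hv => ?_⟩
      calc v * b = (b * v * b⁻¹) * b := by rw [h1 v hv]
        _ = b * v := by group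
  have hd : ∀ v : G, b * t i * v * (b * t i)⁻¹ = b * (t i * v * (t i)⁻¹) * b⁻¹ := fun v => by group
  rcases (h.EE_good (h.bau_EE hb)).actN i with h1 | h1
  · refine Or.inr ⟨(hQ hb).2 h1, fun h2 => h.t_not_QQ i ((hQ (h.t_bau i)).2 fun v hv => ?_)⟩
    have h3 := (hQ (mul_mem hb (h.t_bau i))).1 h2 v hv
    rwa [hd, h1 _ (h.t_N i hv)] at h3
  · refine Or.inl ⟨(hQ (mul_mem hb (h.t_bau i))).2 fun v hv => ?_, fun h2 => ?_⟩
    · rw [hd, h1 _ (h.t_N i hv)]
      have e : t i * (t i * v * (t i)⁻¹) * (t i)⁻¹ = t i * t i * v * (t i * t i)⁻¹ := by group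
      rw [e, h.tsq i v (h.NV i hv)]; group
    · exact h.t_not_QQ i ((hQ (h.t_bau i)).2 fun v hv => by rw [← h1 v hv, (hQ hb).1 h2 v hv])

theorem relIndex_Z (h : In H T Q V N d t r) [Finite G] : (zj T).relIndex (VV T N i) = 2 := by
  rw [Subgroup.relIndex, Subgroup.index_eq_two_iff]
  set m := r i * d i * (r i)⁻¹ with hm
  have hmN : m ∈ N i := h.r_N i (h.dN i)
  have hmV : m ∈ VV T N i := mem_sup_right hmN
  have hmZ : m ∉ zj T := fun hc => by
    rcases Z_inf_N h hmN hc with h1 | h1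
    · exact h.r_d_ne_one i h1
    · exact h.r_d_ne i h1
  refine ⟨⟨m, hmV⟩, ?_⟩
  rintro ⟨b, hb⟩
  simp only [mem_subgroupOf, Subgroup.coe_mul]
  have hex : b ∈ zj T ∨ b * m ∈ zj T := by
    obtain ⟨z, hz, n, hn, rfl⟩ := mem_VV h hb
    have hmsq := h.mulself (h.NV i hmN)
    rcases h.mem_N i hn with h2 | h2 | h2 | h2
    · left; rw [h2, mul_one]; exact hz
    · left; rw [h2]; exact mul_mem hz (h.d_mem_Z i)
    · right; rw [h2, ← hm, mul_assoc, hmsq, mul_one]; exact hz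
    · right
      rw [h2, ← hm, mul_assoc, mul_assoc, hmsq, mul_one]
      exact mul_mem hz (h.d_mem_Z i)
  by_cases hbZ : b ∈ zj T
  · refine Or.inr ⟨hbZ, fun h2 => hmZ ?_⟩
    have := mul_mem (inv_mem hbZ) h2
    rwa [inv_mul_cancel_left] at this
  · exact Or.inl ⟨hex.resolve_left hbZ, hbZ⟩

/-- **The fields of the pushing up theorem for a minimal block.** -/
theorem dat (k : Blk H T V d r i L) (h : In H T Q V N d t r) [Finite G] {A : Subgroup G}
    (hTA : T ≤ A) (hAT : A ≤ normalizer (T : Set G))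
    (idx : ∀ a ∈ A, ∀ b ∈ A, a ∉ T → b ∉ T → a⁻¹ * b ∈ T)
    (hcore : ∀ R : Subgroup G, R ≤ T → (∀ x ∈ H, ∀ r ∈ R, x * r * x⁻¹ ∈ R) →
      (∀ a ∈ A, ∀ r ∈ R, a * r * a⁻¹ ∈ R) → R = ⊥) :
    Cfsg.Agent.Omega.PushUp.Dat A T L (bau T) (QQ T N i) (VV T N i) (zj T) (zpowers (d i)) where
  TA := hTA
  idx := idx
  BT := bau_le T
  BL := k.BL
  QB := inf_le_left
  VQ := VV_le_QQ h
  ZV := le_sup_left
  DZ := (zpowers_le).2 (h.d_mem_Z i)
  AnB := fun a ha b hb => (mem_normalizer_iff.1 (normalizer_le_bau T (hAT ha)) b).1 hb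
  AnZ := fun a ha b hb =>
    (mem_normalizer_iff.1 (normalizer_le_of_cj (F := zj) zj_cj T (hAT ha)) b).1 hb
  LnQ := fun _ hl _ hq => k.L_QQ h hl hq
  LnV := fun _ hl _ hv => k.VV_norm h hl hv
  BcZ := fun _ hb _ hy => ((mem_bau.1 hb).2 _ hy).symm
  Vsq := fun v hv => by
    rw [← pow_two]; exact elem_sq h.Y_elem v (VV_le_Y h hv)
  QcV := fun b hb hc => ⟨hb, mem_centralizer_iff.2 fun n hn => (hc n (mem_sup_right hn)).symm⟩
  VcQ := fun x hx v hv => by
    obtain ⟨z, hz, n, hn, rfl⟩ := mem_VV h hv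
    have e1 := (mem_bau.1 hx.1).2 z hz
    have e2 := mem_centralizer_iff.1 hx.2 n hn
    calc x * (z * n) = (x * z) * n := by group
      _ = (z * x) * n := by rw [e1]
      _ = z * (x * n) := by group
      _ = z * (n * x) := by rw [e2]
      _ = z * n * x := by group
  Bsq := fun b hb => ⟨mul_mem hb hb, mem_centralizer_iff.2 fun n hn => by
    have h1 := h.EE_sq (h.bau_EE hb) (h.NV i hn)
    calc n * (b * b) = (b * b * n * (b * b)⁻¹) * (b * b) := by rw [h1]
      _ = b * b * n := by group⟩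
  comm := fun v hv b hb => by
    obtain ⟨z, hz, n, hn, rfl⟩ := mem_VV h hv
    have e1 : z * b = b * z := (mem_bau.1 hb).2 z hz
    have hnV := h.NV i hn
    have hbn : b * n * b⁻¹ * n⁻¹ ∈ zpowers (d i) := by
      rcases (h.EE_good (h.bau_EE hb)).actN i with h1 | h1
      · rw [h1 n hn, mul_inv_cancel]; exact one_mem _
      · rw [h1 n hn]
        rcases h.t_comm i n hnV with h2 | h2
        · rw [h2, mul_inv_cancel]; exact one_mem _
        · rw [h2, mul_inv_cancel_right]; exact mem_zpowers _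
    have hcV : b * n * b⁻¹ * n⁻¹ ∈ V := (zpowers_le).2 (h.dV i) hbn
    have e2 := h.ZcV z hz _ hcV
    have e3 := h.ZcV z hz _ hnV
    have e : z * n * b * (z * n)⁻¹ * b⁻¹ = (b * n * b⁻¹ * n⁻¹)⁻¹ := by
      have h3 : z * (n * b * n⁻¹ * b⁻¹) = (n * b * n⁻¹ * b⁻¹) * z := by
        have h4 := h.ZcV z hz _ (inv_mem hcV)
        have e5 : (b * n * b⁻¹ * n⁻¹)⁻¹ = n * b * n⁻¹ * b⁻¹ := by group
        rwa [e5] at h4
      calc z * n * b * (z * n)⁻¹ * b⁻¹ = z * (n * b * n⁻¹ * b⁻¹) * (b * z⁻¹ * b⁻¹) := by group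
        _ = (n * b * n⁻¹ * b⁻¹) * z * (b * z⁻¹ * b⁻¹) := by rw [h3]
        _ = (n * b * n⁻¹ * b⁻¹) * (z * b) * z⁻¹ * b⁻¹ := by group
        _ = (n * b * n⁻¹ * b⁻¹) * (b * z) * z⁻¹ * b⁻¹ := by rw [e1]
        _ = _ := by group
    rw [e]
    exact inv_mem hbn
  Dgen := by
    rw [zpowers_le]
    have hmN : r i * d i * (r i)⁻¹ ∈ N i := h.r_N i (h.dN i)
    have h1 := inv_mem (subset_closure (k := {x | ∃ v ∈ VV T N i, ∃ b ∈ bau T,
      x = v * b * v⁻¹ * b⁻¹}) ⟨_, mem_sup_right hmN, t i, h.t_bau i, rfl⟩)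
    have e : (r i * d i * (r i)⁻¹ * t i * (r i * d i * (r i)⁻¹)⁻¹ * (t i)⁻¹)⁻¹ = d i := by
      have h2 := h.t_m i
      calc (r i * d i * (r i)⁻¹ * t i * (r i * d i * (r i)⁻¹)⁻¹ * (t i)⁻¹)⁻¹
          = (t i * (r i * d i * (r i)⁻¹) * (t i)⁻¹) * (r i * d i * (r i)⁻¹)⁻¹ := by group
        _ = d i := by rw [h2]; group
    rwa [e] at h1
  ncomm := fun v hv hvZ b hb hbQ hc => by
    obtain ⟨z, hz, n, hn, rfl⟩ := mem_VV h hv
    have e1 : z * b = b * z := (mem_bau.1 hb).2 z hz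
    have h1 : b * n * b⁻¹ = n := by
      have h2 : z * (b * n) = z * (n * b) := by
        calc z * (b * n) = (z * b) * n := by group
          _ = (b * z) * n := by rw [e1]
          _ = b * (z * n) := by group
          _ = z * n * b := hc.symm
          _ = _ := by group
      rw [mul_left_cancel h2]; group
    apply hvZ
    rcases h.B_ne hb hbQ hn h1 with h2 | h2
    · rw [h2, mul_one]; exact hz
    · rw [h2]; exact mul_mem hz (h.d_mem_Z i)
  card := by rw [relIndex_QQ h, relIndex_Z h]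
  gen := fun l hl hm K hK hlK => k.gen h hl ((k.mv_iff h hl).1 hm) hK hlK
  moves := by
    obtain ⟨l, hl, hm⟩ := k.mv
    exact ⟨l, hl, (k.mv_iff h hl).2 hm⟩
  mvinv := fun l hl hm => by
    rw [k.mv_iff h (inv_mem hl), inv_inv]
    exact k.mv_inv ((k.mv_iff h hl).1 hm)
  side := fun s hs l hl v hv => by
    have hsv : s * v * s⁻¹ ∈ Y T V := by
      obtain ⟨z, hz, n, hn, rfl⟩ := mem_VV h hv
      have e : s * (z * n) * s⁻¹ = (s * z * s⁻¹) * (s * n * s⁻¹) := by group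
      rw [e]
      exact mul_mem (Z_le_Y T V (Bau.In.T_norm_Z T hs hz))
        (V_le_Y T V (h.Vn s (h.TH hs) n (h.NV i hn)))
    have h1 := W_le_VV h (k.comm_Y h hl hsv)
    have e : l * (s * v * s⁻¹) * l⁻¹ =
      (l * (s * v * s⁻¹) * l⁻¹ * (s * v * s⁻¹)⁻¹) * (s * v * s⁻¹) := by group
    rw [e]
    exact mul_mem (mem_sup_left h1) (mem_sup_right ⟨v, hv, rfl⟩)
  indep := fun s hs hsD v hv => by
    obtain ⟨z, hz, n, hn, rfl⟩ := mem_VV h hv
    obtain ⟨j, hj, hjN⟩ := h.perm s hs i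
    have h1 := hsD (d i) (mem_zpowers _)
    have h2 : d j = d i := by
      rw [hj] at h1
      rcases mem_zp h h1 with h3 | h3
      · exact absurd h3 (h.d1 j)
      · exact h3
    have h3 := h.d_inj h2
    subst h3
    have e : s * (z * n) * s⁻¹ = (s * z * s⁻¹) * (s * n * s⁻¹) := by group
    rw [e]
    exact mul_mem (mem_sup_left (Bau.In.T_norm_Z T hs hz)) (mem_sup_right (hjN n hn))
  ti := fun l hl hm b hb hbQ => by
    have hm' := (k.mv_iff h hl).1 hm
    have hlbl : l⁻¹ * b * l ∈ L := mul_mem (mul_mem (inv_mem hl) (k.BL hb)) hl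
    rw [k.mv_iff h hlbl]
    intro e
    have h1 : b * (l * d i * l⁻¹) * b⁻¹ = l * d i * l⁻¹ := by
      calc b * (l * d i * l⁻¹) * b⁻¹ = l * (l⁻¹ * b * l * d i * (l⁻¹ * b * l)⁻¹) * l⁻¹ := by group
        _ = l * d i * l⁻¹ := by rw [e]
    rcases h.B_ne hb hbQ (k.L_N h hl (h.dN i)) h1 with h2 | h2
    · apply h.d1 i
      calc d i = l⁻¹ * (l * d i * l⁻¹) * l := by group
        _ = 1 := by rw [h2]; group
    · exact hm' h2
  core := fun R hR hRL hRA => by
    refine hcore R (hR.trans (bau_le T)) ?_ hRA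
    have h1 : H ≤ normalizer (R : Set G) := by
      refine k.sup_T h (fun t ht => mem_normalizer_of_cj_le ?_)
        (fun l hl => mem_normalizer_of_cj_le ?_)
      · rintro _ ⟨r, hr, rfl⟩; exact hRA t (hTA ht) r hr
      · rintro _ ⟨r, hr, rfl⟩; exact hRL l hl r hr
    exact fun x hx r hr => (mem_normalizer_iff.1 (h1 hx) r).1 hr

end Blk

end Cfsg.Agent.Omega.SQ1.BauS
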