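import Cfsg.Agent.Mrg.Omega.SQ1.End1


/-!
# SQ1, node (A) (arbitrary overgroup), part 0: `N_G(D) ≤ N_G(B)`

The chain argument (1.3), (1.4) of `End1` (helper69) with `O₂(M)` replaced by a normal 2-subgroup `R` of
`M` which centralises `D`, `D ≤ R`, `C_{C_M(D)}(R) ≤ R`; applied to `M = N_G(D)`, `R = O₂(C_G(D))`.
-/

set_option autoImplicit false
set_option Elab.async false

namespace Cfsg.Agent.Omega.SQ1.NodeA

open Subgroup Cfsg Cfsg.Agent.ZN Cfsg.Agent.Omega.MinPar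
open Cfsg.Agent.Omega.SQ1.End Cfsg.Agent.Omega.SQ1.End.Base
open Cfsg.Agent.Lib.GoldschmidtFusion (mem_map_conj card_map_conj exists_conj_le_in)

universe u

variable {G : Type u} [Group G]

/-- `R` is a normal 2-subgroup of `M` centralising `D ≤ R`, with `C_{C_M(D)}(R) ≤ R`. -/
structure Top (S : Sylow 2 G) (M R D : Subgroup G) : Prop where
  SM : (S : Subgroup G) ≤ M
  RS : R ≤ (S : Subgroup G)
  MR' : ∀ m ∈ M, ∀ r ∈ R, m * r * m⁻¹ ∈ R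
  MD' : ∀ m ∈ M, ∀ d ∈ D, m * d * m⁻¹ ∈ D
  DR : D ≤ R
  RD' : ∀ r ∈ R, ∀ d ∈ D, r * d * r⁻¹ = d
  cR : CM M D ⊓ centralizer (R : Set G) ≤ R
  max : ∀ K : Subgroup G, K ≤ CM M D → IsPGroup 2 K → (∀ m ∈ M, ∀ k ∈ K, m * k * m⁻¹ ∈ K) → K ≤ R

namespace Top

variable [Finite G] {S : Sylow 2 G} {M R T B Q₁ Q₂ D C₁ C₂ : Subgroup G} {s : G} {q : ℕ}
variable (g : Top S M R D) (h : Base (S : Subgroup G) T B Q₁ Q₂ D C₁ C₂ s q)

include g

omit [Finite G] in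
theorem R2 : IsPGroup 2 R := S.isPGroup'.to_le g.RS

omit [Finite G] in
theorem MR {m r : G} (hm : m ∈ M) (hr : r ∈ R) : m * r * m⁻¹ ∈ R := g.MR' m hm r hr

omit [Finite G] in
theorem MD {m d : G} (hm : m ∈ M) (hd : d ∈ D) : m * d * m⁻¹ ∈ D := g.MD' m hm d hd

omit [Finite G] in
theorem RD {r d : G} (hr : r ∈ R) (hd : d ∈ D) : r * d * r⁻¹ = d := g.RD' r hr d hd

theorem M_CM {m c : G} (hm : m ∈ M) (hc : c ∈ CM M D) : m * c * m⁻¹ ∈ CM M D := by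
  refine ⟨M.mul_mem (M.mul_mem hm hc.1) (M.inv_mem hm), mem_centralizer_iff.2 fun d hd => ?_⟩
  have h1 : m⁻¹ * d * m ∈ D := inv_conj_mem (fun x hx => g.MD hm hx) d hd
  have h2 := mem_centralizer_iff.1 hc.2 _ h1
  calc d * (m * c * m⁻¹) = m * (m⁻¹ * d * m * c) * m⁻¹ := by group
    _ = m * (c * (m⁻¹ * d * m)) * m⁻¹ := by rw [h2]
    _ = m * c * m⁻¹ * d := by group

theorem R_le_CM : R ≤ CM M D := fun _ hr =>
  ⟨g.SM (g.RS hr), mem_centralizer_iff.2 fun _ hd => (mul_inv_eq_iff_eq_mul.1 (g.RD hr hd)).symm⟩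

include h

theorem B_le_M : B ≤ M := h.BT.trans (h.TS.trans g.SM)

theorem B_le_CM : B ≤ CM M D := fun _ hb =>
  ⟨g.B_le_M h hb, mem_centralizer_iff.2 fun _ hd => h.centD hd hb⟩

/-- If `B ≤ R` then `M ≤ N_G(B)`. -/
theorem M_le_of (hB : B ≤ R) : M ≤ normalizer (B : Set G) := fun _ hm =>
  h.conj_B (fun _ hb => g.RS (g.MR hm (hB hb)))

/-- The chain stabiliser is normalised by the elements of `M` normalising `E`. -/
theorem chain_conj {E : Subgroup G} {n : G} (hn : n ∈ M) (hE : ∀ r ∈ E, n * r * n⁻¹ ∈ E) {k : G}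
    (hk : k ∈ chain (CM M D) R E D (fun _ hc _ hr => g.MR hc.1 hr) (fun _ hc _ hd => CM_D hc hd)) :
    n * k * n⁻¹ ∈ chain (CM M D) R E D (fun _ hc _ hr => g.MR hc.1 hr)
      (fun _ hc _ hd => CM_D hc hd) := by
  obtain ⟨k0, k1, k2, k3⟩ := hk
  refine ⟨g.M_CM hn k0, ?_, ?_, ?_⟩
  · intro r hr
    have h1 := hE _ (k1 _ (inv_conj_mem hE r hr))
    have h2 : n * (k * (n⁻¹ * r * n) * k⁻¹) * n⁻¹ = n * k * n⁻¹ * r * (n * k * n⁻¹)⁻¹ := by group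
    rwa [h2] at h1
  · intro r hr
    have h1 := hE _ (k2 _ (inv_conj_mem (X := R) (fun x hx => g.MR hn hx) r hr))
    have h2 : n * (k * (n⁻¹ * r * n) * k⁻¹ * (n⁻¹ * r * n)⁻¹) * n⁻¹ =
      n * k * n⁻¹ * r * (n * k * n⁻¹)⁻¹ * r⁻¹ := by group
    rwa [h2] at h1
  · intro r hr
    have h1 := g.MD hn (k3 _ (inv_conj_mem hE r hr))
    have h2 : n * (k * (n⁻¹ * r * n) * k⁻¹ * (n⁻¹ * r * n)⁻¹) * n⁻¹ =
      n * k * n⁻¹ * r * (n * k * n⁻¹)⁻¹ * r⁻¹ := by group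
    rwa [h2] at h1

/-- (1.3) If `O₂(M) ∩ B` is normal in `M` then `B ≤ O₂(M)`. -/
theorem B_le_of_normal (hn : ∀ m ∈ M, ∀ r ∈ R ⊓ B, m * r * m⁻¹ ∈ R ⊓ B) : B ≤ R := by
  let K := chain (CM M D) R (R ⊓ B) D (fun c hc r hr => g.MR hc.1 hr)
    (fun c hc d hd => CM_D hc hd)
  have hK2 : IsPGroup 2 K := chain_two g.R2 inf_le_left
    (le_inf (g.DR) h.DB) (g.cR)
  have hBK : B ≤ K := by
    intro b hb
    refine ⟨g.B_le_CM h hb, hn b (g.B_le_M h hb), ?_, ?_⟩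
    · intro r hr
      have h1 := R.mul_mem (g.MR (g.B_le_M h hb) hr) (R.inv_mem hr)
      have h2 := B.mul_mem hb (h.S_B (g.RS hr) (B.inv_mem hb))
      have h3 : b * (r * b⁻¹ * r⁻¹) = b * r * b⁻¹ * r⁻¹ := by group
      rw [h3] at h2
      exact ⟨h1, h2⟩
    · intro r hr
      exact h.commB hb hr.2
  refine hBK.trans (g.max K (fun k hk => hk.1) hK2 ?_)
  intro m hm k hk
  exact g.chain_conj h hm (hn m hm) hk

/-- Elements of `C_S(D)` lie in `B ∪ xB`, for `x ∈ O₂(M) - B`. -/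
theorem mem_or {x : G} (hx : x ∈ R) (hxB : x ∉ B) {y : G} (hy : y ∈ (S : Subgroup G))
    (hyD : ∀ d ∈ D, y * d * y⁻¹ = d) : y ∈ B ∨ x⁻¹ * y ∈ B := by
  have hxT : s⁻¹ * x ∈ T := by
    refine (h.mem_S (g.RS hx)).resolve_left fun h1 => hxB ?_
    exact h.mem_B_of_centD h1 (fun d hd => g.RD hx hd)
  rcases h.mem_S hy with h1 | h1
  · exact Or.inl (h.mem_B_of_centD h1 hyD)
  · right
    apply h.mem_B_of_centD
    · have h2 := T.mul_mem (T.inv_mem hxT) h1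
      have h3 : (s⁻¹ * x)⁻¹ * (s⁻¹ * y) = x⁻¹ * y := by group
      rwa [h3] at h2
    · intro d hd
      have h2 : x⁻¹ * d * x = d := by
        have h3 := g.RD (R.inv_mem hx) hd
        rwa [inv_inv] at h3
      calc x⁻¹ * y * d * (x⁻¹ * y)⁻¹ = x⁻¹ * (y * d * y⁻¹) * x := by group
        _ = d := by rw [hyD d hd, h2]

/-- A 2-subgroup of `C_M(D)` containing `O₂(M)` and normalised by `B` lies in `S`, if `O₂(M) ≰ B`. -/
theorem le_S {x : G} (hx : x ∈ R) (hxB : x ∉ B) {K : Subgroup G} (hK : IsPGroup 2 K)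
    (hKC : K ≤ CM M D) (hRK : R ≤ K) (hBK : ∀ b ∈ B, ∀ k ∈ K, b * k * b⁻¹ ∈ K) :
    K ≤ (S : Subgroup G) := by
  have hp : Fact (Nat.Prime 2) := ⟨Nat.prime_two⟩
  have hB2 : IsPGroup 2 B := h.two.to_le (h.BT.trans h.TS)
  have hKB : IsPGroup 2 (B ⊔ K : Subgroup G) :=
    IsPGroup.to_sup_of_normal_right' hB2 hK (fun b hb => mem_normalizer_of (hBK b hb))
  have hle : (S : Subgroup G) ⊓ CM M D ≤ B ⊔ K := by
    rintro y ⟨hyS, hyC⟩
    rcases g.mem_or h hx hxB hyS (fun d hd => CM_D hyC hd) with h1 | h1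
    · exact (le_sup_left : B ≤ B ⊔ K) h1
    · have h2 := (B ⊔ K).mul_mem ((le_sup_right : K ≤ B ⊔ K) (hRK hx)) ((le_sup_left : B ≤ B ⊔ K) h1)
      rwa [mul_inv_cancel_left] at h2
  have hKBC : (B ⊔ K : Subgroup G) ≤ CM M D := sup_le (g.B_le_CM h) hKC
  obtain ⟨n, hn, hn2⟩ := exists_conj_le_in S.isPGroup' (MinSimple.Basic.not_dvd_relIndex S g.SM)
    (hKBC.trans inf_le_left) hKB
  have h3 : (B ⊔ K : Subgroup G).map (MulAut.conj n).toMonoidHom ≤ (S : Subgroup G) ⊓ CM M D := by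
    refine le_inf hn2 ?_
    rintro _ ⟨y, hy, rfl⟩
    exact g.M_CM hn (hKBC hy)
  have h4 : (S : Subgroup G) ⊓ CM M D = B ⊔ K := by
    apply Subgroup.eq_of_le_of_card_ge hle
    rw [← card_map_conj (B ⊔ K) n]
    exact Subgroup.card_le_of_le h3
  exact le_sup_right.trans (h4.symm.le.trans inf_le_left)

/-- (1.4) `O₂(M) ∩ B` is normal in `M`. -/
theorem R0_normal : ∀ m ∈ M, ∀ r ∈ R ⊓ B, m * r * m⁻¹ ∈ R ⊓ B := by
  by_contra hcon
  push Not at hcon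
  obtain ⟨m, hm, r₁, hr₁, hm1⟩ := hcon
  have hxR : m * r₁ * m⁻¹ ∈ R := g.MR hm hr₁.1
  have hxB : m * r₁ * m⁻¹ ∉ B := fun h1 => hm1 ⟨hxR, h1⟩
  -- the conjugate `Bm` of `B`
  set x := m * r₁ * m⁻¹ with hxdef
  have hxBm : m⁻¹ * x * m ∈ B := by
    have : m⁻¹ * x * m = r₁ := by rw [hxdef]; group
    rw [this]; exact hr₁.2
  have hmD : ∀ d ∈ D, m⁻¹ * d * m ∈ D := inv_conj_mem (fun d hd => g.MD hm hd)
  have hmR : ∀ r ∈ R, m⁻¹ * r * m ∈ R := inv_conj_mem (fun r hr => g.MR hm hr)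
  let Bm : Subgroup G := B.map (MulAut.conj m).toMonoidHom
  have hBm : ∀ y, y ∈ Bm ↔ m⁻¹ * y * m ∈ B := fun y => mem_map_conj
  have hxS := g.RS hxR
  have hxT : s⁻¹ * x ∈ T := by
    refine (h.mem_S hxS).resolve_left fun h1 => hxB ?_
    exact h.mem_B_of_centD h1 (fun d hd => g.RD hxR hd)
  have hDBm : D ≤ Bm := fun d hd => (hBm d).2 (h.DB (hmD d hd))
  have hcommBm : ∀ y ∈ Bm, ∀ z ∈ Bm, y * z * y⁻¹ * z⁻¹ ∈ D := by
    intro y hy z hz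
    have h1 := g.MD hm (h.commB ((hBm y).1 hy) ((hBm z).1 hz))
    have h2 : m * (m⁻¹ * y * m * (m⁻¹ * z * m) * (m⁻¹ * y * m)⁻¹ * (m⁻¹ * z * m)⁻¹) * m⁻¹ =
      y * z * y⁻¹ * z⁻¹ := by group
    rwa [h2] at h1
  -- the coset properties
  have hco : ∀ y ∈ R, y ∈ B ∨ x⁻¹ * y ∈ B := fun y hy =>
    g.mem_or h hxR hxB (g.RS hy) (fun d hd => g.RD hy hd)
  have hcom : ∀ y ∈ R, y ∉ Bm → ∀ z ∈ R, z ∉ Bm → y⁻¹ * z ∈ Bm := by
    intro y hy hy' z hz hz'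
    have h1 := (hco _ (hmR y hy)).resolve_left (fun h2 => hy' ((hBm y).2 h2))
    have h2 := (hco _ (hmR z hz)).resolve_left (fun h2 => hz' ((hBm z).2 h2))
    rw [hBm]
    have h3 := B.mul_mem (B.inv_mem h1) h2
    have h4 : (x⁻¹ * (m⁻¹ * y * m))⁻¹ * (x⁻¹ * (m⁻¹ * z * m)) = m⁻¹ * (y⁻¹ * z) * m := by group
    rwa [h4] at h3
  have hcomB : ∀ b ∈ B, x * b * x⁻¹ * b⁻¹ ∈ R ⊓ B := by
    intro b hb
    refine ⟨?_, B.mul_mem (h.S_B hxS hb) (B.inv_mem hb)⟩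
    have h1 := R.mul_mem hxR (g.MR (g.B_le_M h hb) (R.inv_mem hxR))
    have h2 : x * (b * x⁻¹ * b⁻¹) = x * b * x⁻¹ * b⁻¹ := by group
    rwa [h2] at h1
  have hxxB : x * x ∈ B := by
    rcases hco (x * x) (R.mul_mem hxR hxR) with h1 | h1
    · exact h1
    · rw [inv_mul_cancel_left] at h1
      exact absurd h1 hxB
  -- `[x, b]` is centralised by `x` modulo `D`
  have hdd : ∀ b ∈ B, x * (x * b * x⁻¹ * b⁻¹) * x⁻¹ * (x * b * x⁻¹ * b⁻¹)⁻¹ ∈ D := by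
    intro b hb
    have h1 := h.commB hxxB hb
    have hb' := h.S_B hxS hb
    have h2 := h.sqB (B.mul_mem hb (B.inv_mem hb'))
    have h3 := D.mul_mem h1 h2
    have h4 : x * x * b * (x * x)⁻¹ * b⁻¹ * (b * (x * b * x⁻¹)⁻¹ * (b * (x * b * x⁻¹)⁻¹)) =
        x * (x * b * x⁻¹ * b⁻¹) * x⁻¹ * (x * b * x⁻¹ * b⁻¹)⁻¹ := by group
    rwa [h4] at h3
  -- the chain stabiliser
  have hE : ∀ n ∈ B, ∀ r ∈ R ⊓ B ⊓ Bm, n * r * n⁻¹ ∈ R ⊓ B ⊓ Bm := by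
    intro n hn r hr
    have h1 := h.commB hn hr.1.2
    have h2 : n * r * n⁻¹ = n * r * n⁻¹ * r⁻¹ * r := by group
    rw [h2]
    exact mul_mem (show n * r * n⁻¹ * r⁻¹ ∈ R ⊓ B ⊓ Bm from
      ⟨⟨g.DR h1, h.DB h1⟩, hDBm h1⟩) hr
  have hEm : ∀ n ∈ Bm, ∀ r ∈ R ⊓ B ⊓ Bm, n * r * n⁻¹ ∈ R ⊓ B ⊓ Bm := by
    intro n hn r hr
    have h1 := hcommBm n hn r hr.2
    have h2 : n * r * n⁻¹ = n * r * n⁻¹ * r⁻¹ * r := by group
    rw [h2]
    exact mul_mem (show n * r * n⁻¹ * r⁻¹ ∈ R ⊓ B ⊓ Bm from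
      ⟨⟨g.DR h1, h.DB h1⟩, hDBm h1⟩) hr
  let K := chain (CM M D) R (R ⊓ B ⊓ Bm) D (fun _ hc _ hr => g.MR hc.1 hr)
    (fun _ hc _ hd => CM_D hc hd)
  have hK2 : IsPGroup 2 K := chain_two g.R2 (inf_le_left.trans inf_le_left)
    (le_inf (le_inf (g.DR) h.DB) hDBm) (g.cR)
  -- `[R, R] ≤ R₁`
  have hRBm : ∀ y ∈ R, ∀ r ∈ R ⊓ B, y * r * y⁻¹ ∈ R ⊓ B := fun y hy r hr =>
    ⟨g.MR (g.SM (g.RS hy)) hr.1, h.S_B (g.RS hy) hr.2⟩
  have hRB : ∀ y ∈ R, ∀ z ∈ R, y * z * y⁻¹ * z⁻¹ ∈ B := by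
    intro y hy z hz
    have hyz : ∀ w ∈ R, ∀ b ∈ B, w * b * w⁻¹ ∈ B := fun w hw b hb => h.S_B (g.RS hw) hb
    rcases hco y hy with h1 | h1
    · have h2 := B.mul_mem h1 (hyz z hz _ (B.inv_mem h1))
      have h3 : y * (z * y⁻¹ * z⁻¹) = y * z * y⁻¹ * z⁻¹ := by group
      rwa [h3] at h2
    · rcases hco z hz with h4 | h4
      · exact B.mul_mem (hyz y hy z h4) (B.inv_mem h4)
      · -- `y = x y'`, `z = x z'`
        have h5 := hyz x hxR _ h1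
        have h6 := hyz x hxR _ h4
        have h7 := hyz (x * x) (R.mul_mem hxR hxR) _ (B.mul_mem h4 (B.inv_mem h1))
        have h8 := hyz x hxR _ (hyz x hxR _ (B.inv_mem h4))
        have h9 : y * z * y⁻¹ * z⁻¹ = (x * (x⁻¹ * y) * x⁻¹) * (x * x * ((x⁻¹ * z) * (x⁻¹ * y)⁻¹) * (x * x)⁻¹)
          * (x * (x⁻¹ * z)⁻¹ * x⁻¹) := by group
        rw [h9]
        refine B.mul_mem (B.mul_mem h5 h7) (hyz x hxR _ (B.inv_mem h4))
  have hRBm2 : ∀ y ∈ R, ∀ z ∈ R, y * z * y⁻¹ * z⁻¹ ∈ Bm := by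
    intro y hy z hz
    rw [hBm]
    have h1 := hRB _ (hmR y hy) _ (hmR z hz)
    have h2 : m⁻¹ * y * m * (m⁻¹ * z * m) * (m⁻¹ * y * m)⁻¹ * (m⁻¹ * z * m)⁻¹ =
      m⁻¹ * (y * z * y⁻¹ * z⁻¹) * m := by group
    rwa [h2] at h1
  have hcr : ∀ r ∈ R ⊓ B ⊓ Bm, ∀ y ∈ R, y * r * y⁻¹ * r⁻¹ ∈ D := by
    intro r hr y hy
    rcases hco y hy with h1 | h1
    · exact h.commB h1 hr.1.2
    · have h2 := h.commB h1 hr.1.2
      have h3 := hcommBm x ((hBm x).2 hxBm) r hr.2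
      have h4 := D.mul_mem (h.P_D hxS h2) h3
      have h5 : x * (x⁻¹ * y * r * (x⁻¹ * y)⁻¹ * r⁻¹) * x⁻¹ * (x * r * x⁻¹ * r⁻¹) =
        y * r * y⁻¹ * r⁻¹ := by group
      rwa [h5] at h4
  have hRK : R ≤ K := by
    intro y hy
    refine ⟨g.R_le_CM hy, ?_, ?_, ?_⟩
    · intro r hr
      have h1 := hcr r hr y hy
      have h2 : y * r * y⁻¹ = y * r * y⁻¹ * r⁻¹ * r := by group
      rw [h2]
      exact mul_mem (show y * r * y⁻¹ * r⁻¹ ∈ R ⊓ B ⊓ Bm from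
        ⟨⟨g.DR h1, h.DB h1⟩, hDBm h1⟩) hr
    · intro r hr
      exact ⟨⟨R.mul_mem (g.MR (g.SM (g.RS hy)) hr) (R.inv_mem hr), hRB y hy r hr⟩,
        hRBm2 y hy r hr⟩
    · intro r hr
      exact hcr r hr y hy
  -- `K ≤ S` after conjugation by `m⁻¹`
  have hKS : ∀ k ∈ K, m⁻¹ * k * m ∈ (S : Subgroup G) := by
    intro k hk
    have h1 : K.map (MulAut.conj m⁻¹).toMonoidHom ≤ (S : Subgroup G) := by
      apply g.le_S h hxR hxB (hK2.map _)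
      · rintro _ ⟨y, hy, rfl⟩
        exact g.M_CM (M.inv_mem hm) hy.1
      · intro y hy
        rw [mem_map_conj, inv_inv]
        exact hRK (g.MR hm hy)
      · rintro b hb _ ⟨y, hy, rfl⟩
        rw [mem_map_conj, inv_inv]
        have hbm : m * b * m⁻¹ ∈ Bm := (hBm _).2 (by
          have : m⁻¹ * (m * b * m⁻¹) * m = b := by group
          rwa [this])
        have h2 := g.chain_conj h (M.mul_mem (M.mul_mem hm (g.B_le_M h hb)) (M.inv_mem hm))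
          (hEm _ hbm) hy
        have h3 : m * (b * ((MulAut.conj m⁻¹).toMonoidHom y) * b⁻¹) * m⁻¹ =
            m * b * m⁻¹ * y * (m * b * m⁻¹)⁻¹ := by
          show m * (b * (m⁻¹ * y * m⁻¹⁻¹) * b⁻¹) * m⁻¹ = _
          group
        rw [h3]; exact h2
    have h2 : (MulAut.conj m⁻¹).toMonoidHom k ∈ (S : Subgroup G) := h1 ⟨k, hk, rfl⟩
    have h3 : (MulAut.conj m⁻¹).toMonoidHom k = m⁻¹ * k * m := by
      show m⁻¹ * k * m⁻¹⁻¹ = _
      rw [inv_inv]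
    rwa [h3] at h2
  -- elements `b ∈ B` with `[x, b] ∈ Bm` lie in `K`
  have hB1 : ∀ b ∈ B, x * b * x⁻¹ * b⁻¹ ∈ Bm → b ∈ K := by
    intro b hb hxb
    have hbD : ∀ y ∈ R, b * y * b⁻¹ * y⁻¹ ∈ R ⊓ B := by
      intro y hy
      refine ⟨R.mul_mem (g.MR (g.B_le_M h hb) hy) (R.inv_mem hy), ?_⟩
      have h2 := B.mul_mem hb (h.S_B (g.RS hy) (B.inv_mem hb))
      have h3 : b * (y * b⁻¹ * y⁻¹) = b * y * b⁻¹ * y⁻¹ := by group
      rwa [h3] at h2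
    have hbx : b * x * b⁻¹ * x⁻¹ ∈ Bm := by
      have h1 := Bm.inv_mem hxb
      have h2 : (x * b * x⁻¹ * b⁻¹)⁻¹ = b * x * b⁻¹ * x⁻¹ := by group
      rwa [h2] at h1
    refine ⟨g.B_le_CM h hb, hE b hb, ?_, ?_⟩
    · intro y hy
      refine ⟨hbD y hy, ?_⟩
      rcases hco y hy with h1 | h1
      · exact hDBm (h.commB hb h1)
      · have h2 := h.P_D hxS (h.commB hb h1)
        have h3 := Bm.mul_mem hbx (hDBm h2)
        have h4 : b * x * b⁻¹ * x⁻¹ * (x * (b * (x⁻¹ * y) * b⁻¹ * (x⁻¹ * y)⁻¹) * x⁻¹) =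
          b * y * b⁻¹ * y⁻¹ := by group
        rwa [h4] at h3
    · intro r hr
      exact h.commB hb hr.1.2
  by_cases hcase : ∀ r ∈ R ⊓ B, x * r * x⁻¹ * r⁻¹ ∈ D
  · -- case (i)
    let Δ : Subgroup G :=
      { carrier := {b | b ∈ B ∧ x * b * x⁻¹ * b⁻¹ ∈ D}
        one_mem' := ⟨one_mem _, by simp⟩
        mul_mem' := by
          rintro b c ⟨hb, hb2⟩ ⟨hc, hc2⟩
          refine ⟨B.mul_mem hb hc, ?_⟩
          have h1 := D.mul_mem hb2 (h.P_D (h.TS (h.BT hb)) hc2)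
          have h2 : x * b * x⁻¹ * b⁻¹ * (b * (x * c * x⁻¹ * c⁻¹) * b⁻¹) =
            x * (b * c) * x⁻¹ * (b * c)⁻¹ := by group
          rwa [h2] at h1
        inv_mem' := by
          rintro b ⟨hb, hb2⟩
          refine ⟨B.inv_mem hb, ?_⟩
          have h1 := h.P_D (h.TS (h.BT (B.inv_mem hb))) (D.inv_mem hb2)
          have h2 : b⁻¹ * (x * b * x⁻¹ * b⁻¹)⁻¹ * b⁻¹⁻¹ = x * b⁻¹ * x⁻¹ * b⁻¹⁻¹ := by group
          rwa [h2] at h1 }
    have hΔ : ∀ b ∈ B, x * b * x⁻¹ * b⁻¹ ∈ Bm → b ∈ Δ := by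
      intro b hb hxb
      refine ⟨hb, ?_⟩
      have h1 := hKS b (hB1 b hb hxb)
      have hbCM := g.B_le_CM h hb
      have h2 := g.mem_or h hxR hxB h1 (fun d hd => by
        have h3 := CM_D hbCM (g.MD hm hd)
        calc m⁻¹ * b * m * d * (m⁻¹ * b * m)⁻¹ = m⁻¹ * (b * (m * d * m⁻¹) * b⁻¹) * m := by group
          _ = d := by rw [h3]; group)
      rcases h2 with h2 | h2
      · exact hcommBm x ((hBm x).2 hxBm) b ((hBm b).2 h2)
      · -- `b = x' b'`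
        have hx' : m * x * m⁻¹ ∈ R := g.MR hm hxR
        have hb' : (m * x * m⁻¹)⁻¹ * b ∈ Bm := by
          rw [hBm]
          have h3 : m⁻¹ * ((m * x * m⁻¹)⁻¹ * b) * m = x⁻¹ * (m⁻¹ * b * m) := by group
          rwa [h3]
        have h3 := hcommBm x ((hBm x).2 hxBm) _ hb'
        have h4 : x * (m * x * m⁻¹) * x⁻¹ * (m * x * m⁻¹)⁻¹ ∈ D := by
          rcases hco _ hx' with h5 | h5
          · exact hcase _ ⟨hx', h5⟩
          · have h6 := hcase _ ⟨R.mul_mem (R.inv_mem hxR) hx', h5⟩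
            have h7 := h.P_D hxS h6
            have h8 : x * (x * (x⁻¹ * (m * x * m⁻¹)) * x⁻¹ * (x⁻¹ * (m * x * m⁻¹))⁻¹) * x⁻¹ =
              x * (m * x * m⁻¹) * x⁻¹ * (m * x * m⁻¹)⁻¹ := by group
            rwa [h8] at h7
        have h5 := D.mul_mem h4 (h.P_D (g.RS hx') h3)
        have h6 : x * (m * x * m⁻¹) * x⁻¹ * (m * x * m⁻¹)⁻¹ * (m * x * m⁻¹ *
            (x * ((m * x * m⁻¹)⁻¹ * b) * x⁻¹ * ((m * x * m⁻¹)⁻¹ * b)⁻¹) * (m * x * m⁻¹)⁻¹) =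
            x * b * x⁻¹ * b⁻¹ := by group
        rwa [h6] at h5
    have hcard : Nat.card B ≤ 2 * Nat.card Δ := by
      by_cases hall : ∀ b ∈ B, x * b * x⁻¹ * b⁻¹ ∈ Bm
      · exact card_le_two_mul B.one_mem (fun b hb => Or.inl (hΔ b hb (hall b hb)))
      · push Not at hall
        obtain ⟨f, hf, hfx⟩ := hall
        apply card_le_two_mul hf
        intro b hb
        by_cases hbx : x * b * x⁻¹ * b⁻¹ ∈ Bm
        · exact Or.inl (hΔ b hb hbx)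
        · right
          apply hΔ _ (B.mul_mem (B.inv_mem hf) hb)
          have h1 := hcom _ (hcomB f hf).1 hfx _ (hcomB b hb).1 hbx
          have h2 : (x * f * x⁻¹ * f⁻¹)⁻¹ * (x * b * x⁻¹ * b⁻¹) ∈ R ⊓ B ⊓ Bm :=
            ⟨(R ⊓ B).mul_mem ((R ⊓ B).inv_mem (hcomB f hf)) (hcomB b hb), h1⟩
          have h3 := (hE _ (B.inv_mem hf) _ h2).2
          have h4 : f⁻¹ * ((x * f * x⁻¹ * f⁻¹)⁻¹ * (x * b * x⁻¹ * b⁻¹)) * f⁻¹⁻¹ =
            x * (f⁻¹ * b) * x⁻¹ * (f⁻¹ * b)⁻¹ := by group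
          rwa [h4] at h3
    have h1 := h.card_delta hxT (E := Δ) (fun b hb => hb.1) (fun b hb => hb.2)
    have h2 := h.card1
    have h3 := h.hq
    have h4 : 0 < Nat.card D := Nat.card_pos
    have h5 : 0 < Nat.card B := Nat.card_pos
    rw [h2] at h1
    have h6 : Nat.card B * (q * Nat.card D) ≤ 2 * (Nat.card B * Nat.card D) :=
      calc Nat.card B * (q * Nat.card D) ≤ 2 * Nat.card Δ * (q * Nat.card D) :=
            Nat.mul_le_mul_right _ hcard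
        _ = 2 * (Nat.card Δ * (q * Nat.card D)) := by ring
        _ ≤ _ := Nat.mul_le_mul_left _ h1
    have h7 : Nat.card B * (q * Nat.card D) = q * (Nat.card B * Nat.card D) := by ring
    rw [h7] at h6
    have h8 : q ≤ 2 := Nat.le_of_mul_le_mul_right h6 (Nat.mul_pos h5 h4)
    omega
  · -- case (ii)
    push Not at hcase
    obtain ⟨r₀, hr₀, hr₀x⟩ := hcase
    have hr₀m : r₀ ∉ Bm := fun h1 => hr₀x (hcommBm x ((hBm x).2 hxBm) r₀ h1)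
    have hall : ∀ b ∈ B, x * b * x⁻¹ * b⁻¹ ∈ Bm := by
      intro b hb
      by_contra hc
      have h1 := hcom _ (hcomB b hb).1 hc r₀ hr₀.1 hr₀m
      have h2 := hcommBm x ((hBm x).2 hxBm) _ h1
      have h3 := hdd b hb
      apply hr₀x
      have h4 := D.mul_mem h3 (h.P_D (g.RS (hcomB b hb).1) h2)
      have h5 : x * (x * b * x⁻¹ * b⁻¹) * x⁻¹ * (x * b * x⁻¹ * b⁻¹)⁻¹ *
          (x * b * x⁻¹ * b⁻¹ * (x * ((x * b * x⁻¹ * b⁻¹)⁻¹ * r₀) * x⁻¹ *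
            ((x * b * x⁻¹ * b⁻¹)⁻¹ * r₀)⁻¹) * (x * b * x⁻¹ * b⁻¹)⁻¹) = x * r₀ * x⁻¹ * r₀⁻¹ := by
        group
      rwa [h5] at h4
    have h1 : m⁻¹ ∈ normalizer (B : Set G) := by
      apply h.conj_B
      intro b hb
      have h2 := hKS b (hB1 b hb (hall b hb))
      rwa [inv_inv]
    have h2 := (normalizer (B : Set G)).inv_mem h1
    rw [inv_inv] at h2
    exact hxB ((mem_normalizer_iff.1 h2 r₁).1 hr₁.2)


/-- `M ≤ N_G(B)`. -/
theorem M_le : M ≤ normalizer (B : Set G) :=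
  g.M_le_of h (g.B_le_of_normal h (g.R0_normal h))

end Top

section

variable [Finite G] {S : Sylow 2 G} {T B Q₁ Q₂ D C₁ C₂ : Subgroup G} {s : G} {q : ℕ}

/-- **(2)** `N_G(D) ≤ N_G(B)`. -/
theorem normD_le (hc : IsCharacteristicTwoType G)
    (h : Base (S : Subgroup G) T B Q₁ Q₂ D C₁ C₂ s q) :
    normalizer (D : Set G) ≤ normalizer (B : Set G) := by
  have hDS : D ≤ (S : Subgroup G) := h.DB.trans (h.BT.trans h.TS)
  have hD2 : IsPGroup 2 D := h.two.to_le hDS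
  have hDne : D ≠ ⊥ := by
    intro h1
    have h2 := h.one_lt_D
    rw [h1, Subgroup.card_bot] at h2
    exact lt_irrefl _ h2
  have hSN : (S : Subgroup G) ≤ normalizer (D : Set G) := fun x hx =>
    mem_normalizer_of (fun d hd => h.P_D hx hd)
  have hloc : IsLoc (S : Subgroup G) (normalizer (D : Set G)) := isLoc_normalizer S hD2 hDne hSN
  set M := normalizer (D : Set G) with hM
  have hMD : ∀ m ∈ M, ∀ d ∈ D, m * d * m⁻¹ ∈ D := fun m hm d hd =>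
    (mem_normalizer_iff.1 hm d).1 hd
  let C : Subgroup G := CM M D
  let R : Subgroup G := o2 M ⊓ C
  have hMC : ∀ m ∈ M, ∀ c ∈ C, m * c * m⁻¹ ∈ C := by
    intro m hm c hc
    refine ⟨M.mul_mem (M.mul_mem hm hc.1) (M.inv_mem hm), mem_centralizer_iff.2 fun d hd => ?_⟩
    have h1 : m⁻¹ * d * m ∈ D := inv_conj_mem (fun x hx => hMD m hm x hx) d hd
    have h2 := mem_centralizer_iff.1 hc.2 _ h1
    calc d * (m * c * m⁻¹) = m * (m⁻¹ * d * m * c) * m⁻¹ := by group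
      _ = m * (c * (m⁻¹ * d * m)) * m⁻¹ := by rw [h2]
      _ = m * c * m⁻¹ * d := by group
  have hmax : ∀ K : Subgroup G, K ≤ C → IsPGroup 2 K → (∀ m ∈ M, ∀ k ∈ K, m * k * m⁻¹ ∈ K) →
      K ≤ R := fun K hK hK2 hn =>
    le_inf (ZN.le_o2 (hK.trans inf_le_left) hK2 fun m hm => mem_normalizer_of (hn m hm)) hK
  have g : Top S M R D := by
    refine ⟨hSN, inf_le_left.trans (hloc.o2_le S), ?_, hMD, ?_, ?_, ?_, hmax⟩
    · intro m hm r hr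
      exact ⟨(mem_normalizer_iff.1 (ZN.le_normalizer_o2 M hm) r).1 hr.1, hMC m hm r hr.2⟩
    · apply hmax D _ hD2 hMD
      exact fun d hd => ⟨hSN (hDS hd), mem_centralizer_iff.2 fun e he => h.c1 e (h.D1 he) d (h.D1 hd)⟩
    · intro r hr d hd
      exact CM_D hr.2 hd
    · -- `C_C(R) ≤ R`
      have hRR : ∀ m ∈ M, ∀ r ∈ R, m * r * m⁻¹ ∈ R := fun m hm r hr =>
        ⟨(mem_normalizer_iff.1 (ZN.le_normalizer_o2 M hm) r).1 hr.1, hMC m hm r hr.2⟩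
      have hKn : ∀ m ∈ M, ∀ k ∈ C ⊓ centralizer (R : Set G),
          m * k * m⁻¹ ∈ C ⊓ centralizer (R : Set G) := by
        intro m hm k hk
        refine ⟨hMC m hm k hk.1, mem_centralizer_iff.2 fun r hr => ?_⟩
        have h1 : m⁻¹ * r * m ∈ R := inv_conj_mem (hRR m hm) r hr
        have h2 := mem_centralizer_iff.1 hk.2 _ h1
        calc r * (m * k * m⁻¹) = m * (m⁻¹ * r * m * k) * m⁻¹ := by group
          _ = m * (k * (m⁻¹ * r * m)) * m⁻¹ := by rw [h2]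
          _ = m * k * m⁻¹ * r := by group
      refine hmax _ inf_le_left ?_ hKn
      apply isPGroup_two_of
      rintro k hk n hn hkn
      have hkM : k ∈ M := hk.1.1
      have hcent : ∀ r ∈ o2 M, k * r * k⁻¹ = r := by
        intro r hr
        have hrM := ZN.o2_le M hr
        have h1 : k * r * k⁻¹ * r⁻¹ ∈ R := by
          refine ⟨?_, ?_⟩
          · exact (o2 M).mul_mem ((mem_normalizer_iff.1 (ZN.le_normalizer_o2 M hkM) r).1 hr)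
              ((o2 M).inv_mem hr)
          · have h2 := C.mul_mem hk.1 (hMC r hrM _ (C.inv_mem hk.1))
            have h3 : k * (r * k⁻¹ * r⁻¹) = k * r * k⁻¹ * r⁻¹ := by group
            rwa [h3] at h2
        obtain ⟨m, hm⟩ := isPGroup_o2 M ⟨_, h1.1⟩
        have h2 := odd_fix (k := k) (e := k * r * k⁻¹ * r⁻¹) (r := r) hn hkn (by group)
          (mem_centralizer_iff.1 hk.2 _ h1).symm (by simpa using congrArg Subtype.val hm)
        exact mul_inv_eq_one.1 h2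
      have hkO : k ∈ o2 M := hloc.char2 S hc ⟨hkM, mem_centralizer_iff.2 fun r hr =>
        (mul_inv_eq_iff_eq_mul.1 (hcent r hr)).symm⟩
      obtain ⟨m, hm⟩ := isPGroup_o2 M ⟨_, hkO⟩
      exact eq_one_of_odd_of_two hn hkn (by simpa using congrArg Subtype.val hm)
  exact g.M_le h

end

end Cfsg.Agent.Omega.SQ1.NodeA
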