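import Cfsg.Agent.Mrg.Omega.Assembly
import Cfsg.Agent.Lib.GoldschmidtFusion


/-!
# The end `k = 1`, `q ≥ 4` of the unique maximal 2-local case (SQ1.7), part 0

`B = Q₁ Q₂` with `Q₁`, `Q₂` elementary abelian, `D = Q₁ ∩ Q₂` (a Sylow 2-subgroup of type `L₃(q)` or
`Sp₄(q)`), `T` the normalizer of `Q₁` in the 2-group `S`, `s ∈ S` swapping `Q₁` and `Q₂`.  "Good" elements
of `D` are the elements outside `C₁ ∪ C₂`; commutators of elements of `Q₁ - D` and `Q₂ - D` are good.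
Elements `t ∈ T - B` with `t² ∈ B` act freely (`Free`) on `B/Qᵢ`, `Qᵢ/D`, `D/Cᵢ`.

* `Base`: this situation.
* `Base.mem_S`: `S = T ∪ sT`.
* `Base.eq_of_elem`: `Q₁`, `Q₂` are the only elementary abelian subgroups of order `≥ |Q₁|` of `S`.
-/

set_option autoImplicit false
set_option Elab.async false

namespace Cfsg.Agent.Omega.SQ1.End

open Subgroup Cfsg

universe u

variable {G : Type u} [Group G]

/-- `y` acts freely on `X/Y`: the classes of `X` modulo `Y` fixed by `y` are those of the elements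
`u · yuy⁻¹`. -/
def Free (y : G) (X Y : Subgroup G) : Prop :=
  ∀ x ∈ X, x⁻¹ * (y * x * y⁻¹) ∈ Y → ∃ u ∈ X, x⁻¹ * (u * (y * u * y⁻¹)) ∈ Y

/-- Good elements of `D`. -/
def Gd (D C₁ C₂ : Subgroup G) (d : G) : Prop := d ∈ D ∧ d ∉ C₁ ∧ d ∉ C₂

/-- The local situation. -/
structure Base (S T B Q₁ Q₂ D C₁ C₂ : Subgroup G) (s : G) (q : ℕ) : Prop where
  two : IsPGroup 2 S
  c1 : ∀ x ∈ Q₁, ∀ y ∈ Q₁, x * y = y * x
  c2 : ∀ x ∈ Q₂, ∀ y ∈ Q₂, x * y = y * x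
  sq1 : ∀ x ∈ Q₁, x * x = 1
  sq2 : ∀ x ∈ Q₂, x * x = 1
  memD : ∀ x, x ∈ D ↔ x ∈ Q₁ ∧ x ∈ Q₂
  Q1B : Q₁ ≤ B
  Q2B : Q₂ ≤ B
  prod : ∀ x ∈ B, ∃ a ∈ Q₁, ∃ b ∈ Q₂, x = a * b
  good : ∀ a ∈ Q₁, a ∉ D → ∀ b ∈ Q₂, b ∉ D → Gd D C₁ C₂ (a * b * a⁻¹ * b⁻¹)
  C12 : C₁ ⊓ C₂ = ⊥
  card1 : Nat.card Q₁ = q * Nat.card D
  card2 : Nat.card Q₂ = q * Nat.card D
  hq : 4 ≤ q
  BT : B ≤ T
  TS : T ≤ S
  sS : s ∈ S
  s1 : ∀ x ∈ Q₁, s * x * s⁻¹ ∈ Q₂
  s2 : ∀ x ∈ Q₂, s * x * s⁻¹ ∈ Q₁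
  sC1 : ∀ x ∈ C₁, s * x * s⁻¹ ∈ C₂
  sC2 : ∀ x ∈ C₂, s * x * s⁻¹ ∈ C₁
  T1 : ∀ t ∈ T, ∀ x ∈ Q₁, t * x * t⁻¹ ∈ Q₁
  T2 : ∀ t ∈ T, ∀ x ∈ Q₂, t * x * t⁻¹ ∈ Q₂
  TC1 : ∀ t ∈ T, ∀ x ∈ C₁, t * x * t⁻¹ ∈ C₁
  TC2 : ∀ t ∈ T, ∀ x ∈ C₂, t * x * t⁻¹ ∈ C₂
  memT : ∀ x ∈ S, (∀ a ∈ Q₁, x * a * x⁻¹ ∈ Q₁) → x ∈ T
  free1 : ∀ t ∈ T, t ∉ B → t * t ∈ B → Free t B Q₁
  free2 : ∀ t ∈ T, t ∉ B → t * t ∈ B → Free t B Q₂
  free1D : ∀ t ∈ T, t ∉ B → t * t ∈ B → Free t Q₁ D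
  free2D : ∀ t ∈ T, t ∉ B → t * t ∈ B → Free t Q₂ D
  freeC1 : ∀ t ∈ T, t ∉ B → t * t ∈ B → Free t D C₁
  freeC2 : ∀ t ∈ T, t ∉ B → t * t ∈ B → Free t D C₂
  C1D : C₁ ≤ D
  C2D : C₂ ≤ D
  cardC1 : Nat.card D = q * Nat.card C₁
  cardC2 : Nat.card D = q * Nat.card C₂
  cenD : ∀ t ∈ T, (∀ d ∈ D, t * d * t⁻¹ = d) → t ∈ B
  uniq : ∀ t ∈ T, t ∉ B → t * t ∈ B → ∀ t' ∈ T, t' ∉ B → t' * t' ∈ B → t⁻¹ * t' ∈ B

/-- `L` is a block over its Sylow 2-subgroup `B` on `Q`, `N` the stabiliser `N_L(BK)` of the point `B` of the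
projective line (`K` the kernel of the action on the line, possibly of odd order modulo `Q`), `C = C_Q(L)`,
`D = C_Q(B)`. -/
structure Blk (T B Q D C L N : Subgroup G) : Prop where
  BN : B ≤ N
  NL : N ≤ L
  QL : ∀ l ∈ L, ∀ x ∈ Q, l * x * l⁻¹ ∈ Q
  TL : ∀ t ∈ T, ∀ l ∈ L, t * l * t⁻¹ ∈ L
  TN : ∀ t ∈ T, ∀ n ∈ N, t * n * t⁻¹ ∈ N
  syl : ∀ P : Subgroup G, IsPGroup 2 P → B ≤ P → P ≤ L → P = B
  ne : ∃ l ∈ L, l ∉ N
  tr : ∀ l ∈ L, l ∉ N → ∀ l' ∈ L, l' ∉ N → ∃ b ∈ B, l⁻¹ * b⁻¹ * l' ∈ N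
  st : ∀ b ∈ B, ∀ l ∈ L, l ∉ N → l⁻¹ * b * l ∈ N → b ∈ Q
  ti : ∀ b ∈ B, b ∉ Q → ∀ b' ∈ B, b' ∉ Q → ∀ l ∈ L, l ∉ N → ∀ P : Subgroup G, IsPGroup 2 P →
    b ∈ P → l * b' * l⁻¹ ∉ P
  line : ∀ d ∈ D, d ∉ C → ∀ l ∈ L, l ∉ N → l * d * l⁻¹ ∉ D
  fus : ∀ x ∈ Q, ∃ l ∈ L, l * x * l⁻¹ ∈ D

section

variable {S T B Q₁ Q₂ D C₁ C₂ : Subgroup G} {s : G} {q : ℕ}

/-- Conjugation by a subgroup-stabilising element is surjective on a finite subgroup. -/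
theorem mem_normalizer_of [Finite G] {g : G} {X : Subgroup G} (h : ∀ x ∈ X, g * x * g⁻¹ ∈ X) :
    g ∈ normalizer (X : Set G) := by
  have h1 : X.map (MulAut.conj g).toMonoidHom ≤ X := by
    rintro _ ⟨x, hx, rfl⟩
    exact h x hx
  exact Lib.GoldschmidtFusion.mem_normalizer_iff_map_conj.2
    (Subgroup.eq_of_le_of_card_ge h1 (by rw [Lib.GoldschmidtFusion.card_map_conj]))

theorem inv_conj_mem [Finite G] {g : G} {X : Subgroup G} (h : ∀ x ∈ X, g * x * g⁻¹ ∈ X) :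
    ∀ x ∈ X, g⁻¹ * x * g ∈ X := by
  intro x hx
  have h1 := (mem_normalizer_iff''.1 (mem_normalizer_of h) x).1 hx
  exact h1

namespace Base

variable (h : Base S T B Q₁ Q₂ D C₁ C₂ s q)

include h

theorem D1 : D ≤ Q₁ := fun x hx => ((h.memD x).1 hx).1

theorem D2 : D ≤ Q₂ := fun x hx => ((h.memD x).1 hx).2

theorem DB : D ≤ B := h.D1.trans h.Q1B

theorem inv1 {x : G} (hx : x ∈ Q₁) : x⁻¹ = x := inv_eq_of_mul_eq_one_right (h.sq1 x hx)

theorem inv2 {x : G} (hx : x ∈ Q₂) : x⁻¹ = x := inv_eq_of_mul_eq_one_right (h.sq2 x hx)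

theorem sqD {x : G} (hx : x ∈ D) : x * x = 1 := h.sq1 x (h.D1 hx)

/-- `D` is central in `B`. -/
theorem centD {d x : G} (hd : d ∈ D) (hx : x ∈ B) : d * x = x * d := by
  obtain ⟨a, ha, b, hb, rfl⟩ := h.prod x hx
  calc d * (a * b) = (d * a) * b := by group
    _ = a * (d * b) := by rw [h.c1 d (h.D1 hd) a ha]; group
    _ = a * b * d := by rw [h.c2 d (h.D2 hd) b hb]; group

theorem comm12 {a b : G} (ha : a ∈ Q₁) (hb : b ∈ Q₂) : a * b * a⁻¹ * b⁻¹ ∈ D := by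
  by_cases h1 : a ∈ D
  · rw [h.c2 a (h.D2 h1) b hb]
    have : b * a * a⁻¹ * b⁻¹ = 1 := by group
    rw [this]; exact one_mem _
  by_cases h2 : b ∈ D
  · rw [h.c1 a ha b (h.D1 h2)]
    have : b * a * a⁻¹ * b⁻¹ = 1 := by group
    rw [this]; exact one_mem _
  exact (h.good a ha h1 b hb h2).1

/-- `B' ≤ D`. -/
theorem commB {x y : G} (hx : x ∈ B) (hy : y ∈ B) : x * y * x⁻¹ * y⁻¹ ∈ D := by
  obtain ⟨a, ha, b, hb, rfl⟩ := h.prod x hx
  obtain ⟨a', ha', b', hb', rfl⟩ := h.prod y hy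
  have h1 := h.comm12 ha' hb
  have h2 := h.comm12 ha hb'
  set d := a' * b * a'⁻¹ * b⁻¹ with hd
  set e := a * b' * a⁻¹ * b'⁻¹ with he
  have e1 : a' * b = d * (b * a') := by rw [hd]; group
  have e2 : a * b' = e * (b' * a) := by rw [he]; group
  have hdi : d⁻¹ ∈ D := D.inv_mem h1
  have e1' : b * a' = d⁻¹ * (a' * b) := by rw [hd]; group
  have e2' : b' * a = e⁻¹ * (a * b') := by rw [he]; group
  have k1 : a * b * (a' * b') = d⁻¹ * (a * a' * (b * b')) := by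
    calc a * b * (a' * b') = a * (b * a') * b' := by group
      _ = (a * d⁻¹) * a' * b * b' := by rw [e1']; group
      _ = d⁻¹ * (a * a' * (b * b')) := by rw [← h.centD hdi (h.Q1B ha)]; group
  have k2 : a' * b' * (a * b) = e⁻¹ * (a * a' * (b * b')) := by
    calc a' * b' * (a * b) = a' * (b' * a) * b := by group
      _ = (a' * e⁻¹) * (a * (b' * b)) := by rw [e2']; group
      _ = e⁻¹ * (a' * a) * (b' * b) := by
          rw [← h.centD (D.inv_mem h2) (h.Q1B ha')]; group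
      _ = e⁻¹ * (a * a' * (b * b')) := by rw [h.c1 a' ha' a ha, h.c2 b' hb' b hb]; group
  have k3 : a * b * (a' * b') * (a * b)⁻¹ * (a' * b')⁻¹ = d⁻¹ * e := by
    calc a * b * (a' * b') * (a * b)⁻¹ * (a' * b')⁻¹
        = (a * b * (a' * b')) * (a' * b' * (a * b))⁻¹ := by group
      _ = d⁻¹ * e := by rw [k1, k2]; group
  rw [k3]
  exact D.mul_mem hdi h2

theorem conjQ1 {x a : G} (hx : x ∈ B) (ha : a ∈ Q₁) : x * a * x⁻¹ ∈ Q₁ := by
  have h1 := Q₁.mul_mem (h.D1 (h.commB hx (h.Q1B ha))) ha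
  have h2 : x * a * x⁻¹ * a⁻¹ * a = x * a * x⁻¹ := by group
  rwa [h2] at h1

theorem conjQ2 {x a : G} (hx : x ∈ B) (ha : a ∈ Q₂) : x * a * x⁻¹ ∈ Q₂ := by
  have h1 := Q₂.mul_mem (h.D2 (h.commB hx (h.Q2B ha))) ha
  have h2 : x * a * x⁻¹ * a⁻¹ * a = x * a * x⁻¹ := by group
  rwa [h2] at h1

theorem good_ne {d : G} (hd : Gd D C₁ C₂ d) : d ≠ 1 := by
  rintro rfl
  exact hd.2.1 (one_mem _)

/-- Involutions of `B` lie in `Q₁ ∪ Q₂`. -/
theorem inv_mem_or {e : G} (he : e ∈ B) (he2 : e * e = 1) : e ∈ Q₁ ∨ e ∈ Q₂ := by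
  obtain ⟨a, ha, b, hb, rfl⟩ := h.prod e he
  by_cases h1 : a ∈ D
  · exact Or.inr (Q₂.mul_mem (h.D2 h1) hb)
  by_cases h2 : b ∈ D
  · exact Or.inl (Q₁.mul_mem ha (h.D1 h2))
  exfalso
  apply h.good_ne (h.good a ha h1 b hb h2)
  rw [h.inv1 ha, h.inv2 hb]
  calc a * b * a * b = (a * b) * (a * b) := by group
    _ = 1 := he2

/-- Elementary abelian subgroups of `B` lie in `Q₁` or `Q₂`. -/
theorem elem_le_or {E : Subgroup G} (hE : E ≤ B) (hE2 : ∀ x ∈ E, x * x = 1) : E ≤ Q₁ ∨ E ≤ Q₂ := by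
  by_contra hcon
  push Not at hcon
  obtain ⟨h1, h2⟩ := hcon
  obtain ⟨e, he, he1⟩ := Set.not_subset.1 h1
  obtain ⟨f, hf, hf1⟩ := Set.not_subset.1 h2
  have he2 : e ∈ Q₂ := (h.inv_mem_or (hE he) (hE2 e he)).resolve_left he1
  have hf2 : f ∈ Q₁ := (h.inv_mem_or (hE hf) (hE2 f hf)).resolve_right hf1
  rcases h.inv_mem_or (hE (E.mul_mem he hf)) (hE2 _ (E.mul_mem he hf)) with h3 | h3
  · apply he1
    have h4 := Q₁.mul_mem h3 (Q₁.inv_mem hf2)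
    rwa [mul_inv_cancel_right] at h4
  · apply hf1
    have h4 := Q₂.mul_mem (Q₂.inv_mem he2) h3
    rwa [inv_mul_cancel_left] at h4

theorem exists_a [Finite G] : ∃ a ∈ Q₁, a ∉ D := by
  by_contra hcon
  push Not at hcon
  have h1 : Q₁ = D := le_antisymm hcon h.D1
  have h2 := h.card1
  rw [h1] at h2
  have h3 : 0 < Nat.card D := Nat.card_pos
  have h4 := h.hq
  nlinarith

theorem exists_b [Finite G] : ∃ b ∈ Q₂, b ∉ D := by
  by_contra hcon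
  push Not at hcon
  have h1 : Q₂ = D := le_antisymm hcon h.D2
  have h2 := h.card2
  rw [h1] at h2
  have h3 : 0 < Nat.card D := Nat.card_pos
  have h4 := h.hq
  nlinarith

theorem one_lt_D [Finite G] : 1 < Nat.card D := by
  obtain ⟨a, ha, ha'⟩ := h.exists_a
  obtain ⟨b, hb, hb'⟩ := h.exists_b
  have h1 := h.good a ha ha' b hb hb'
  rw [Subgroup.one_lt_card_iff_ne_bot]
  intro h2
  have h3 := h1.1
  rw [h2, mem_bot] at h3
  exact h.good_ne h1 h3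

/-! ### Counting -/

end Base

/-- `|F|² ≤ |X| |Y|` if `y` acts freely on `X/Y` and centralises `F/Y`. -/
theorem card_sq_le [Finite G] {y : G} {X Y F : Subgroup G} (hYX : Y ≤ X) (hYF : Y ≤ F) (hFX : F ≤ X)
    (hc : ∀ a ∈ X, ∀ b ∈ X, a * b = b * a) (hsq : ∀ a ∈ X, a * a = 1)
    (hX : ∀ x ∈ X, y * x * y⁻¹ ∈ X) (hfr : Free y X Y)
    (hF : ∀ x ∈ F, x⁻¹ * (y * x * y⁻¹) ∈ Y) : Nat.card F ^ 2 ≤ Nat.card X * Nat.card Y := by
  let ν : X →* X :=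
    { toFun := fun u => ⟨u * (y * u * y⁻¹), X.mul_mem u.2 (hX _ u.2)⟩
      map_one' := by ext; simp
      map_mul' := by
        intro a b
        ext
        show (a : G) * b * (y * (a * b) * y⁻¹) = a * (y * a * y⁻¹) * (b * (y * b * y⁻¹))
        have h1 := hc _ b.2 _ (hX _ a.2)
        calc (a : G) * b * (y * (a * b) * y⁻¹) = a * (b * (y * a * y⁻¹)) * (y * b * y⁻¹) := by group
          _ = a * (y * a * y⁻¹) * (b * (y * b * y⁻¹)) := by rw [h1]; group }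
  have hYn : (Y.subgroupOf X).Normal := by
    refine ⟨fun n hn g => ?_⟩
    have : g * n * g⁻¹ = n := by
      ext
      show (g : G) * n * (g : G)⁻¹ = n
      rw [hc _ g.2 _ n.2]; group
    rwa [this]
  let μ : X →* X ⧸ Y.subgroupOf X := (QuotientGroup.mk' _).comp ν
  have hμ : ∀ u : X, μ u = 1 ↔ (u : G) * (y * u * y⁻¹) ∈ Y := by
    intro u
    show ((ν u : X) : X ⧸ Y.subgroupOf X) = 1 ↔ _
    rw [QuotientGroup.eq_one_iff, mem_subgroupOf]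
    rfl
  have hker : F.subgroupOf X ≤ μ.ker := by
    intro u hu
    rw [mem_subgroupOf] at hu
    rw [MonoidHom.mem_ker, hμ]
    have h1 := hF _ hu
    rwa [inv_eq_of_mul_eq_one_right (hsq _ u.2)] at h1
  have hrange : (F.subgroupOf X).map (QuotientGroup.mk' (Y.subgroupOf X)) ≤ μ.range := by
    rintro _ ⟨x, hx, rfl⟩
    have hx' : (x : G) ∈ F := hx
    obtain ⟨u, hu, hu2⟩ := hfr x (hFX hx') (hF _ hx')
    refine ⟨⟨u, hu⟩, ?_⟩
    show ((ν ⟨u, hu⟩ : X) : X ⧸ Y.subgroupOf X) = (x : X ⧸ Y.subgroupOf X)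
    rw [eq_comm, QuotientGroup.eq, mem_subgroupOf]
    exact hu2
  have h1 : Nat.card μ.ker * Nat.card μ.range = Nat.card X := by
    rw [← Subgroup.index_ker, Subgroup.card_mul_index]
  have h2 : Nat.card F ≤ Nat.card μ.ker := by
    have : Nat.card F = Nat.card (F.subgroupOf X) :=
      (Nat.card_congr (Subgroup.subgroupOfEquivOfLe hFX).toEquiv).symm
    rw [this]
    exact Subgroup.card_le_of_le hker
  have h3 : Nat.card F ≤ Nat.card μ.range * Nat.card Y := by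
    have h4 : Nat.card ((F.subgroupOf X).map (QuotientGroup.mk' (Y.subgroupOf X))) * Nat.card Y
        = Nat.card F := by
      rw [← Subgroup.relIndex_ker, QuotientGroup.ker_mk', Subgroup.relIndex_subgroupOf hFX]
      have h5 := Subgroup.relIndex_mul_relIndex ⊥ Y F bot_le hYF
      rw [Subgroup.relIndex_bot_left, Subgroup.relIndex_bot_left] at h5
      rw [← h5, mul_comm]
    rw [← h4]
    exact Nat.mul_le_mul_right _ (Subgroup.card_le_of_le hrange)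
  calc Nat.card F ^ 2 = Nat.card F * Nat.card F := by ring
    _ ≤ Nat.card μ.ker * (Nat.card μ.range * Nat.card Y) := Nat.mul_le_mul h2 h3
    _ = Nat.card X * Nat.card Y := by rw [← h1]; ring

theorem card_le_two_mul [Finite G] {E E₀ : Subgroup G} {f : G} (hf : f ∈ E)
    (h : ∀ e ∈ E, e ∈ E₀ ∨ f⁻¹ * e ∈ E₀) : Nat.card E ≤ 2 * Nat.card E₀ := by
  classical
  let φ : E → E₀ × Bool := fun e => if he : (e : G) ∈ E₀ then (⟨e, he⟩, true) else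
    (⟨f⁻¹ * e, (h e e.2).resolve_left he⟩, false)
  have hφ : Function.Injective φ := by
    intro a b hab
    by_cases ha : (a : G) ∈ E₀ <;> by_cases hb : (b : G) ∈ E₀ <;> simp [φ, ha, hb] at hab
    · exact hab
    · exact hab
  have h1 := Nat.card_le_card_of_injective φ hφ
  rw [Nat.card_prod, Nat.card_eq_fintype_card (α := Bool), Fintype.card_bool] at h1
  omega

namespace Base

variable [Finite G] (h : Base S T B Q₁ Q₂ D C₁ C₂ s q)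

include h

theorem card12 : Nat.card Q₁ = Nat.card Q₂ := by rw [h.card1, h.card2]

theorem cardC12 : Nat.card C₁ = Nat.card C₂ := by
  have h1 := h.cardC1
  rw [h.cardC2] at h1
  have h2 := h.hq
  exact (Nat.eq_of_mul_eq_mul_left (by omega) h1).symm

theorem map_s1 : Q₁.map (MulAut.conj s).toMonoidHom = Q₂ := by
  apply Subgroup.eq_of_le_of_card_ge
  · rintro _ ⟨x, hx, rfl⟩
    exact h.s1 x hx
  · rw [Lib.GoldschmidtFusion.card_map_conj, h.card12]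

theorem map_s2 : Q₂.map (MulAut.conj s).toMonoidHom = Q₁ := by
  apply Subgroup.eq_of_le_of_card_ge
  · rintro _ ⟨x, hx, rfl⟩
    exact h.s2 x hx
  · rw [Lib.GoldschmidtFusion.card_map_conj, h.card12]

theorem s1' {x : G} (hx : x ∈ Q₂) : s⁻¹ * x * s ∈ Q₁ := by
  rw [← h.map_s1] at hx
  obtain ⟨y, hy, rfl⟩ := hx
  have : s⁻¹ * (MulAut.conj s).toMonoidHom y * s = y := by
    show s⁻¹ * (s * y * s⁻¹) * s = y
    group
  rw [this]; exact hy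

theorem s2' {x : G} (hx : x ∈ Q₁) : s⁻¹ * x * s ∈ Q₂ := by
  rw [← h.map_s2] at hx
  obtain ⟨y, hy, rfl⟩ := hx
  have : s⁻¹ * (MulAut.conj s).toMonoidHom y * s = y := by
    show s⁻¹ * (s * y * s⁻¹) * s = y
    group
  rw [this]; exact hy

/-- `s` normalises `T`. -/
theorem sT {t : G} (ht : t ∈ T) : s * t * s⁻¹ ∈ T := by
  apply h.memT _ (S.mul_mem (S.mul_mem h.sS (h.TS ht)) (S.inv_mem h.sS))
  intro a ha
  have h1 := h.s2 _ (h.T2 t ht _ (h.s2' ha))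
  have h2 : s * t * s⁻¹ * a * (s * t * s⁻¹)⁻¹ = s * (t * (s⁻¹ * a * s) * t⁻¹) * s⁻¹ := by group
  rw [h2]; exact h1

theorem ss_mem : s * s ∈ T := by
  apply h.memT _ (S.mul_mem h.sS h.sS)
  intro a ha
  have h1 := h.s2 _ (h.s1 a ha)
  have h2 : s * s * a * (s * s)⁻¹ = s * (s * a * s⁻¹) * s⁻¹ := by group
  rw [h2]; exact h1

theorem sT' {t : G} (ht : t ∈ T) : s⁻¹ * t * s ∈ T := by
  have h1 := inv_conj_mem (g := s) (X := T) (fun x hx => h.sT hx) t ht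
  exact h1

theorem s_notMem : s ∉ T := by
  intro hs
  obtain ⟨a, ha, haD⟩ := h.exists_a
  have h1 := h.s1' (h.s1 a ha)
  have h2 := h.T1 s hs a ha
  have h3 : s * a * s⁻¹ ∈ D := (h.memD _).2 ⟨h2, h.s1 a ha⟩
  have h4 : a ∈ Q₂ := by
    have h5 := h.s2' (h.D1 h3)
    have h6 : s⁻¹ * (s * a * s⁻¹) * s = a := by group
    rwa [h6] at h5
  exact haD ((h.memD a).2 ⟨ha, h4⟩)

/-- The symmetric situation. -/
theorem symm : Base S T B Q₂ Q₁ D C₂ C₁ s q where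
  two := h.two
  c1 := h.c2
  c2 := h.c1
  sq1 := h.sq2
  sq2 := h.sq1
  memD := fun x => (h.memD x).trans and_comm
  Q1B := h.Q2B
  Q2B := h.Q1B
  prod := by
    intro x hx
    obtain ⟨a, ha, b, hb, rfl⟩ := h.prod x hx
    have h1 := h.conjQ1 (B.inv_mem (h.Q2B hb)) ha
    refine ⟨b, hb, b⁻¹ * a * b, ?_, by group⟩
    rwa [inv_inv] at h1
  good := by
    intro b hb hb' a ha ha'
    have h1 := h.good a ha ha' b hb hb'
    have h2 : b * a * b⁻¹ * a⁻¹ = (a * b * a⁻¹ * b⁻¹)⁻¹ := by group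
    rw [h2, h.inv1 (h.D1 h1.1)]
    exact ⟨h1.1, h1.2.2, h1.2.1⟩
  C12 := by rw [inf_comm]; exact h.C12
  card1 := h.card2
  card2 := h.card1
  hq := h.hq
  BT := h.BT
  TS := h.TS
  sS := h.sS
  s1 := h.s2
  s2 := h.s1
  sC1 := h.sC2
  sC2 := h.sC1
  T1 := h.T2
  T2 := h.T1
  TC1 := h.TC2
  TC2 := h.TC1
  memT := by
    intro x hx hx2
    have h1 : s⁻¹ * x * s ∈ T := by
      apply h.memT _ (S.mul_mem (S.mul_mem (S.inv_mem h.sS) hx) h.sS)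
      intro a ha
      have h1 := h.s1' (hx2 _ (h.s1 a ha))
      have h2 : s⁻¹ * x * s * a * (s⁻¹ * x * s)⁻¹ = s⁻¹ * (x * (s * a * s⁻¹) * x⁻¹) * s := by group
      rw [h2]; exact h1
    have h2 := h.sT h1
    have h3 : s * (s⁻¹ * x * s) * s⁻¹ = x := by group
    rwa [h3] at h2
  free1 := h.free2
  free2 := h.free1
  free1D := h.free2D
  free2D := h.free1D
  freeC1 := h.freeC2
  freeC2 := h.freeC1
  C1D := h.C2D
  C2D := h.C1D
  cardC1 := h.cardC2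
  cardC2 := h.cardC1
  cenD := h.cenD
  uniq := h.uniq

theorem T_D {t x : G} (ht : t ∈ T) (hx : x ∈ D) : t * x * t⁻¹ ∈ D :=
  (h.memD _).2 ⟨h.T1 t ht x (h.D1 hx), h.T2 t ht x (h.D2 hx)⟩

/-- The elements of `D` fixed modulo `C₁`. -/
def fixC {t : G} (ht : t ∈ T) : Subgroup G where
  carrier := {x | x ∈ D ∧ x⁻¹ * (t * x * t⁻¹) ∈ C₁}
  one_mem' := ⟨one_mem _, by simp⟩
  mul_mem' := by
    rintro x y ⟨hx, hx2⟩ ⟨hy, hy2⟩
    refine ⟨D.mul_mem hx hy, ?_⟩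
    have e1 := h.c1 y⁻¹ (Q₁.inv_mem (h.D1 hy)) (x⁻¹ * (t * x * t⁻¹)) (h.D1 (h.C1D hx2))
    have e2 : (x * y)⁻¹ * (t * (x * y) * t⁻¹) = (x⁻¹ * (t * x * t⁻¹)) * (y⁻¹ * (t * y * t⁻¹)) := by
      calc (x * y)⁻¹ * (t * (x * y) * t⁻¹) = y⁻¹ * (x⁻¹ * (t * x * t⁻¹)) * (t * y * t⁻¹) := by group
        _ = _ := by rw [e1]; group
    rw [e2]
    exact C₁.mul_mem hx2 hy2
  inv_mem' := by
    rintro x ⟨hx, hx2⟩
    refine ⟨D.inv_mem hx, ?_⟩
    rw [h.inv1 (h.D1 hx)]; exact hx2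

theorem card_fixC {t : G} (ht : t ∈ T) (htB : t ∉ B) (ht2 : t * t ∈ B) :
    Nat.card (h.fixC ht) ^ 2 ≤ Nat.card D * Nat.card C₁ :=
  card_sq_le (y := t) (X := D) (Y := C₁) (F := h.fixC ht) h.C1D
    (fun c hc => ⟨h.C1D hc, C₁.mul_mem (C₁.inv_mem hc) (h.TC1 t ht c hc)⟩) (fun x hx => hx.1)
    (fun a ha b hb => h.c1 a (h.D1 ha) b (h.D1 hb)) (fun a ha => h.sqD ha)
    (fun x hx => h.T_D ht hx) (h.freeC1 t ht htB ht2) (fun x hx => hx.2)

theorem C1_le_fixC {t : G} (ht : t ∈ T) : C₁ ≤ h.fixC ht :=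
  fun c hc => ⟨h.C1D hc, C₁.mul_mem (C₁.inv_mem hc) (h.TC1 t ht c hc)⟩

theorem le_fixC {t : G} (ht : t ∈ T) {E : Subgroup G} (hE : E ≤ D) (hc : ∀ e ∈ E, t * e * t⁻¹ = e) :
    E ≤ h.fixC ht :=
  fun e he => ⟨hE he, by rw [hc e he, inv_mul_cancel]; exact one_mem _⟩

/-- An element of `T - B` with square in `B` centralises few elements of `D`. -/
theorem card_cD {t : G} (ht : t ∈ T) (htB : t ∉ B) (ht2 : t * t ∈ B) {E : Subgroup G} (hE : E ≤ D)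
    (hc : ∀ e ∈ E, t * e * t⁻¹ = e) : Nat.card E ^ 2 ≤ Nat.card D * Nat.card C₁ :=
  le_trans (Nat.pow_le_pow_left (Subgroup.card_le_of_le (h.le_fixC ht hE hc)) 2)
    (h.card_fixC ht htB ht2)

/-- A subgroup of `D` meeting `C₁` trivially has order at most `q`. -/
theorem card_le_q {E : Subgroup G} (hE : E ≤ D) (hEC : E ⊓ C₁ = ⊥) : Nat.card E ≤ q := by
  have h4 := Subgroup.relIndex_mul_relIndex ⊥ (E ⊓ C₁) E bot_le inf_le_left
  rw [Subgroup.relIndex_bot_left, Subgroup.relIndex_bot_left, Subgroup.inf_relIndex_left, hEC,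
    Subgroup.card_bot, one_mul] at h4
  have h5 : C₁.relIndex E ≤ C₁.relIndex D :=
    Subgroup.relIndex_le_of_le_right hE (Subgroup.FiniteIndex.index_ne_zero)
  have h6 := Subgroup.relIndex_mul_relIndex ⊥ C₁ D bot_le h.C1D
  rw [Subgroup.relIndex_bot_left, Subgroup.relIndex_bot_left, h.cardC1, mul_comm] at h6
  have h7 := Nat.eq_of_mul_eq_mul_right (Nat.card_pos) h6
  rw [← h4, ← h7]; exact h5

/-- A subgroup of `D` centralised by `t` and meeting `C₁` trivially has order at most `√q`. -/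
theorem card_sq_le_q {t : G} (ht : t ∈ T) (htB : t ∉ B) (ht2 : t * t ∈ B) {E : Subgroup G} (hE : E ≤ D)
    (hc : ∀ e ∈ E, t * e * t⁻¹ = e) (hEC : E ⊓ C₁ = ⊥) : Nat.card E ^ 2 ≤ q := by
  have h4 := Subgroup.relIndex_mul_relIndex ⊥ (E ⊓ C₁) E bot_le inf_le_left
  rw [Subgroup.relIndex_bot_left, Subgroup.relIndex_bot_left, Subgroup.inf_relIndex_left, hEC,
    Subgroup.card_bot, one_mul] at h4
  have h5 : C₁.relIndex E ≤ C₁.relIndex (h.fixC ht) :=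
    Subgroup.relIndex_le_of_le_right (h.le_fixC ht hE hc) (Subgroup.FiniteIndex.index_ne_zero)
  have h6 := Subgroup.relIndex_mul_relIndex ⊥ C₁ (h.fixC ht) bot_le (h.C1_le_fixC ht)
  rw [Subgroup.relIndex_bot_left, Subgroup.relIndex_bot_left] at h6
  have h7 := h.card_fixC ht htB ht2
  rw [← h6, h.cardC1] at h7
  rw [h4] at h5
  have h8 : 0 < Nat.card C₁ := Nat.card_pos
  have h9 : Nat.card E ^ 2 * (Nat.card C₁ * Nat.card C₁) ≤ q * (Nat.card C₁ * Nat.card C₁) := by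
    calc Nat.card E ^ 2 * (Nat.card C₁ * Nat.card C₁)
        ≤ (C₁.relIndex (h.fixC ht)) ^ 2 * (Nat.card C₁ * Nat.card C₁) :=
          Nat.mul_le_mul_right _ (Nat.pow_le_pow_left h5 2)
      _ = (Nat.card C₁ * C₁.relIndex (h.fixC ht)) ^ 2 := by ring
      _ ≤ q * Nat.card C₁ * Nat.card C₁ := h7
      _ = q * (Nat.card C₁ * Nat.card C₁) := by ring
  exact Nat.le_of_mul_le_mul_right h9 (Nat.mul_pos h8 h8)

/-- An element of `T - B` with square in `B` centralises few elements of `Q₁`. -/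
theorem card_cQ1 {t : G} (ht : t ∈ T) (htB : t ∉ B) (ht2 : t * t ∈ B) {E : Subgroup G} (hE : E ≤ Q₁)
    (hc : ∀ e ∈ E, t * e * t⁻¹ = e) : Nat.card E ^ 2 ≤ Nat.card Q₁ * Nat.card C₁ := by
  have h1 := h.card_cD ht htB ht2 (E := E ⊓ D) inf_le_right (fun e he => hc e he.1)
  let F : Subgroup G :=
    { carrier := {x | x ∈ Q₁ ∧ x⁻¹ * (t * x * t⁻¹) ∈ D}
      one_mem' := ⟨one_mem _, by simp⟩
      mul_mem' := by
        rintro x y ⟨hx, hx2⟩ ⟨hy, hy2⟩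
        refine ⟨Q₁.mul_mem hx hy, ?_⟩
        have e1 := h.c1 y⁻¹ (Q₁.inv_mem hy) (x⁻¹ * (t * x * t⁻¹)) (h.D1 hx2)
        have e2 : (x * y)⁻¹ * (t * (x * y) * t⁻¹) = (x⁻¹ * (t * x * t⁻¹)) * (y⁻¹ * (t * y * t⁻¹)) := by
          calc (x * y)⁻¹ * (t * (x * y) * t⁻¹) = y⁻¹ * (x⁻¹ * (t * x * t⁻¹)) * (t * y * t⁻¹) := by group
            _ = _ := by rw [e1]; group
        rw [e2]
        exact D.mul_mem hx2 hy2
      inv_mem' := by
        rintro x ⟨hx, hx2⟩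
        refine ⟨Q₁.inv_mem hx, ?_⟩
        rw [h.inv1 hx]; exact hx2 }
  have hFQ : F ≤ Q₁ := fun x hx => hx.1
  have hDF : D ≤ F := fun x hx => ⟨h.D1 hx, D.mul_mem (D.inv_mem hx) (h.T_D ht hx)⟩
  have hEF : E ≤ F := fun x hx => ⟨hE hx, by rw [hc x hx, inv_mul_cancel]; exact one_mem _⟩
  have h2 := card_sq_le (y := t) (X := Q₁) (Y := D) (F := F) h.D1 hDF hFQ h.c1 h.sq1 (h.T1 t ht)
    (h.free1D t ht htB ht2) (fun x hx => hx.2)
  have h3 := Subgroup.relIndex_mul_relIndex ⊥ D F bot_le hDF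
  rw [Subgroup.relIndex_bot_left, Subgroup.relIndex_bot_left] at h3
  have h4 := Subgroup.relIndex_mul_relIndex ⊥ (E ⊓ D) E bot_le inf_le_left
  rw [Subgroup.relIndex_bot_left, Subgroup.relIndex_bot_left, Subgroup.inf_relIndex_left] at h4
  have h5 : D.relIndex E ≤ D.relIndex F :=
    Subgroup.relIndex_le_of_le_right hEF (Subgroup.FiniteIndex.index_ne_zero)
  have h6 : 0 < Nat.card D := Nat.card_pos
  rw [← h4, mul_pow]
  rw [← h3, mul_pow] at h2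
  have h7 : (D.relIndex F) ^ 2 * Nat.card D ≤ Nat.card Q₁ := by
    apply Nat.le_of_mul_le_mul_right _ h6
    calc (D.relIndex F) ^ 2 * Nat.card D * Nat.card D = Nat.card D ^ 2 * D.relIndex F ^ 2 := by ring
      _ ≤ _ := h2
  calc Nat.card (E ⊓ D : Subgroup G) ^ 2 * D.relIndex E ^ 2
      ≤ Nat.card D * Nat.card C₁ * D.relIndex F ^ 2 := Nat.mul_le_mul h1 (Nat.pow_le_pow_left h5 2)
    _ = D.relIndex F ^ 2 * Nat.card D * Nat.card C₁ := by ring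
    _ ≤ _ := Nat.mul_le_mul_right _ h7

/-- An element of `T - B` with square in `B` centralises few elements of `Qᵢ`. -/
theorem card_cQ {t : G} (ht : t ∈ T) (htB : t ∉ B) (ht2 : t * t ∈ B) {E : Subgroup G}
    (hE : E ≤ Q₁ ∨ E ≤ Q₂) (hc : ∀ e ∈ E, t * e * t⁻¹ = e) :
    Nat.card E ^ 2 ≤ Nat.card Q₁ * Nat.card C₁ := by
  rcases hE with hE | hE
  · exact h.card_cQ1 ht htB ht2 hE hc
  · rw [h.card12, h.cardC12]
    exact h.symm.card_cQ1 ht htB ht2 hE hc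

theorem mem_T_or {x y : G} (hx : x ∈ S) (hy : y ∈ S) (hx' : x ∈ T ∨ s⁻¹ * x ∈ T)
    (hy' : y ∈ T ∨ s⁻¹ * y ∈ T) : x * y ∈ T ∨ s⁻¹ * (x * y) ∈ T := by
  rcases hx' with hx' | hx' <;> rcases hy' with hy' | hy'
  · exact Or.inl (T.mul_mem hx' hy')
  · right
    have h1 := T.mul_mem (h.sT' hx') hy'
    have h2 : s⁻¹ * x * s * (s⁻¹ * y) = s⁻¹ * (x * y) := by group
    rwa [h2] at h1
  · right
    have h1 := T.mul_mem hx' hy'
    rwa [mul_assoc] at h1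
  · left
    have h1 := T.mul_mem (T.mul_mem (h.sT hx') h.ss_mem) hy'
    have h2 : s * (s⁻¹ * x) * s⁻¹ * (s * s) * (s⁻¹ * y) = x * y := by group
    rwa [h2] at h1

omit [Finite G] h in
theorem elem_comm {E : Subgroup G} (hE : ∀ x ∈ E, x * x = 1) {x y : G} (hx : x ∈ E) (hy : y ∈ E) :
    x * y * x⁻¹ = y := by
  have h1 := hE _ (E.mul_mem hx hy)
  have h2 : x⁻¹ = x := inv_eq_of_mul_eq_one_right (hE x hx)
  have h3 : y⁻¹ = y := inv_eq_of_mul_eq_one_right (hE y hy)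
  have h4 : x * y * x = y⁻¹ := by
    rw [eq_inv_iff_mul_eq_one]
    calc x * y * x * y = (x * y) * (x * y) := by group
      _ = 1 := h1
  rw [h2, h4, h3]

theorem swap1 {x : G} (hx : s⁻¹ * x ∈ T) {a : G} (ha : a ∈ Q₁) : x * a * x⁻¹ ∈ Q₂ := by
  have h1 := h.s1 _ (h.T1 _ hx a ha)
  have h2 : s * (s⁻¹ * x * a * (s⁻¹ * x)⁻¹) * s⁻¹ = x * a * x⁻¹ := by group
  rwa [h2] at h1

theorem swap2 {x : G} (hx : s⁻¹ * x ∈ T) {a : G} (ha : a ∈ Q₂) : x * a * x⁻¹ ∈ Q₁ := by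
  have h1 := h.s2 _ (h.T2 _ hx a ha)
  have h2 : s * (s⁻¹ * x * a * (s⁻¹ * x)⁻¹) * s⁻¹ = x * a * x⁻¹ := by group
  rwa [h2] at h1

/-- Large elementary abelian subgroups of `T ∪ sT` lie in `B`. -/
theorem elem_le_B {E : Subgroup G} (hEA : ∀ e ∈ E, e ∈ T ∨ s⁻¹ * e ∈ T)
    (hE : ∀ x ∈ E, x * x = 1) (hcard : Nat.card Q₁ ≤ Nat.card E) : E ≤ B := by
  by_contra hnot
  have hd := h.one_lt_D
  have hk := h.card1
  have hq := h.hq
  have hcc : ∀ x ∈ E, ∀ y ∈ E, x * y * x⁻¹ = y := fun x hx y hy => elem_comm hE hx hy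
  -- two elements of `(E ∩ T) - B` are congruent modulo `B`
  have hcong : ∀ f ∈ E, f ∈ T → f ∉ B → ∀ e ∈ E, e ∈ T → e ∈ E ⊓ B ∨ f⁻¹ * e ∈ E ⊓ B := by
    intro f hf hfT hfB e he heT
    by_cases heB : e ∈ B
    · exact Or.inl ⟨he, heB⟩
    · exact Or.inr ⟨E.mul_mem (E.inv_mem hf) he, h.uniq f hfT hfB (by rw [hE f hf]; exact one_mem _)
        e heT heB (by rw [hE e he]; exact one_mem _)⟩
  have hE0 : (E ⊓ B : Subgroup G) ≤ Q₁ ∨ (E ⊓ B : Subgroup G) ≤ Q₂ :=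
    h.elem_le_or inf_le_right (fun x hx => hE x hx.1)
  by_cases hT : E ≤ T
  · obtain ⟨f, hf, hfB⟩ := Set.not_subset.1 hnot
    have h1 := card_le_two_mul hf (fun e he => hcong f hf (hT hf) hfB e he (hT he))
    have h2 := h.card_cQ (hT hf) hfB (by rw [hE f hf]; exact one_mem _) hE0
      (fun e he => hcc f hf e he.1)
    have hc := h.cardC1
    have hc0 : 0 < Nat.card C₁ := Nat.card_pos
    generalize Nat.card E = n at *
    generalize Nat.card (E ⊓ B : Subgroup G) = m at *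
    generalize Nat.card Q₁ = k at *
    generalize Nat.card D = d at *
    generalize Nat.card C₁ = c at *
    have h4 : k * k ≤ 4 * (m ^ 2) := by nlinarith
    have h5 : 0 < k := by rw [hk]; exact Nat.mul_pos (by omega) (by omega)
    have h6 : k * k ≤ k * (4 * c) := by nlinarith
    have h7 : k ≤ 4 * c := Nat.le_of_mul_le_mul_left h6 h5
    rw [hk, hc] at h7
    have h8 : q * q * c ≤ 4 * c := by nlinarith
    have h9 := Nat.le_of_mul_le_mul_right h8 hc0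
    nlinarith
  · obtain ⟨f, hf, hfT⟩ := Set.not_subset.1 hT
    have hfs : s⁻¹ * f ∈ T := (hEA f hf).resolve_left hfT
    have h1 : Nat.card E ≤ 2 * Nat.card (E ⊓ T : Subgroup G) := by
      apply card_le_two_mul hf
      intro e he
      rcases hEA e he with h2 | h2
      · exact Or.inl ⟨he, h2⟩
      · right
        refine ⟨E.mul_mem (E.inv_mem hf) he, ?_⟩
        have h3 := T.mul_mem (T.inv_mem hfs) h2
        have h4 : (s⁻¹ * f)⁻¹ * (s⁻¹ * e) = f⁻¹ * e := by group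
        rwa [h4] at h3
    have hED : (E ⊓ B : Subgroup G) ≤ D := by
      intro x hx
      have hfx := hcc f hf x hx.1
      rcases h.inv_mem_or hx.2 (hE x hx.1) with h2 | h2
      · refine (h.memD x).2 ⟨h2, ?_⟩
        have h3 := h.swap1 hfs h2
        rwa [hfx] at h3
      · refine (h.memD x).2 ⟨?_, h2⟩
        have h3 := h.swap2 hfs h2
        rwa [hfx] at h3
    have hEC : (E ⊓ B ⊓ C₁ : Subgroup G) = ⊥ := by
      rw [eq_bot_iff]
      intro x hx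
      have hfx := hcc f hf x hx.1.1
      have h2 := h.sC1 _ (h.TC1 _ hfs x hx.2)
      have h3 : s * (s⁻¹ * f * x * (s⁻¹ * f)⁻¹) * s⁻¹ = f * x * f⁻¹ := by group
      rw [h3, hfx] at h2
      rw [← h.C12]
      exact ⟨hx.2, h2⟩
    have hc := h.cardC1
    have hc0 : 0 < Nat.card C₁ := Nat.card_pos
    have hq2 : q * q ≤ Nat.card Q₁ := by rw [hk, hc]; nlinarith
    by_cases hTB : (E ⊓ T : Subgroup G) ≤ B
    · have h2 : (E ⊓ T : Subgroup G) ≤ E ⊓ B := fun x hx => ⟨hx.1, hTB hx⟩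
      have h3 := Subgroup.card_le_of_le h2
      have h4 := h.card_le_q hED hEC
      nlinarith
    · obtain ⟨e, he, heB⟩ := Set.not_subset.1 hTB
      have h2 : Nat.card (E ⊓ T : Subgroup G) ≤ 2 * Nat.card (E ⊓ B : Subgroup G) := by
        apply card_le_two_mul he
        intro x hx
        exact hcong e he.1 he.2 heB x hx.1 hx.2
      have h3 := h.card_sq_le_q he.2 heB (by rw [hE e he.1]; exact one_mem _) hED
        (fun x hx => hcc e he.1 x hx.1) hEC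
      generalize Nat.card E = n at *
      generalize Nat.card (E ⊓ B : Subgroup G) = m at *
      generalize Nat.card (E ⊓ T : Subgroup G) = l at *
      generalize Nat.card Q₁ = k at *
      have h4 : n ≤ 4 * m := by omega
      have h5 : q * q ≤ 4 * m := by omega
      have h6 : (q * q) * (q * q) ≤ 16 * q := by nlinarith
      have h7 : 16 * (q * q) ≤ (q * q) * (q * q) := Nat.mul_le_mul_right _ (by nlinarith)
      nlinarith

/-- In `T ∪ sT` the groups `Q₁`, `Q₂` are the only elementary abelian subgroups of order `≥ |Q₁|`. -/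
theorem eq_of_elem' {E : Subgroup G} (hEA : ∀ e ∈ E, e ∈ T ∨ s⁻¹ * e ∈ T)
    (hE : ∀ x ∈ E, x * x = 1) (hcard : Nat.card Q₁ ≤ Nat.card E) : E = Q₁ ∨ E = Q₂ := by
  rcases h.elem_le_or (h.elem_le_B hEA hE hcard) hE with h1 | h1
  · exact Or.inl (Subgroup.eq_of_le_of_card_ge h1 hcard)
  · exact Or.inr (Subgroup.eq_of_le_of_card_ge h1 (by rw [← h.card12]; exact hcard))

/-- The subgroup `T ∪ sT`. -/
def A : Subgroup G where
  carrier := {x | x ∈ S ∧ (x ∈ T ∨ s⁻¹ * x ∈ T)}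
  one_mem' := ⟨one_mem _, Or.inl (one_mem _)⟩
  mul_mem' := by
    rintro x y ⟨hx, hx'⟩ ⟨hy, hy'⟩
    exact ⟨S.mul_mem hx hy, h.mem_T_or hx hy hx' hy'⟩
  inv_mem' := by
    rintro x ⟨hx, hx'⟩
    refine ⟨S.inv_mem hx, ?_⟩
    rcases hx' with hx' | hx'
    · exact Or.inl (T.inv_mem hx')
    · right
      have h1 := T.mul_mem (T.inv_mem h.ss_mem) (h.sT (T.inv_mem hx'))
      have h2 : (s * s)⁻¹ * (s * (s⁻¹ * x)⁻¹ * s⁻¹) = s⁻¹ * x⁻¹ := by group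
      rwa [h2] at h1

/-- (0) `S = T ∪ sT`. -/
theorem mem_S {x : G} (hx : x ∈ S) : x ∈ T ∨ s⁻¹ * x ∈ T := by
  by_contra hcon
  have hlt : h.A < S := by
    refine lt_of_le_of_ne (fun y hy => hy.1) ?_
    intro h1
    rw [← h1] at hx
    exact hcon hx.2
  have h1 := Lib.GoldschmidtFusion.lt_inf_normalizer h.two hlt
  obtain ⟨y, ⟨hyS, hyN⟩, hyA⟩ := Set.exists_of_ssubset h1
  have hyN' : ∀ z, z ∈ h.A → y * z * y⁻¹ ∈ h.A := fun z hz => (mem_normalizer_iff.1 hyN z).1 hz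
  have key : ∀ Q : Subgroup G, Q ≤ h.A → (∀ z ∈ Q, z * z = 1) → Nat.card Q₁ ≤ Nat.card Q →
      Q.map (MulAut.conj y).toMonoidHom = Q₁ ∨ Q.map (MulAut.conj y).toMonoidHom = Q₂ := by
    intro Q hQ hQ2 hQ3
    apply h.eq_of_elem'
    · rintro _ ⟨z, hz, rfl⟩
      exact (hyN' z (hQ hz)).2
    · rintro _ ⟨z, hz, rfl⟩
      show y * z * y⁻¹ * (y * z * y⁻¹) = 1
      calc y * z * y⁻¹ * (y * z * y⁻¹) = y * (z * z) * y⁻¹ := by group
        _ = 1 := by rw [hQ2 z hz]; group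
    · rw [Lib.GoldschmidtFusion.card_map_conj]; exact hQ3
  have hQ1A : Q₁ ≤ h.A := fun z hz => ⟨h.TS (h.BT (h.Q1B hz)), Or.inl (h.BT (h.Q1B hz))⟩
  rcases key Q₁ hQ1A h.sq1 le_rfl with h2 | h2
  · apply hyA
    refine ⟨hyS, Or.inl (h.memT y hyS ?_)⟩
    intro a ha
    have h3 : (MulAut.conj y).toMonoidHom a ∈ Q₁.map (MulAut.conj y).toMonoidHom := ⟨a, ha, rfl⟩
    rw [h2] at h3
    exact h3
  · apply hyA
    refine ⟨hyS, Or.inr (h.memT _ (S.mul_mem (S.inv_mem h.sS) hyS) ?_)⟩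
    intro a ha
    have h3 : (MulAut.conj y).toMonoidHom a ∈ Q₁.map (MulAut.conj y).toMonoidHom := ⟨a, ha, rfl⟩
    rw [h2] at h3
    have h4 : y * a * y⁻¹ ∈ Q₂ := h3
    have h5 := h.s1' h4
    have h6 : s⁻¹ * (y * a * y⁻¹) * s = s⁻¹ * y * a * (s⁻¹ * y)⁻¹ := by group
    rwa [h6] at h5

/-- (0) `Q₁`, `Q₂` are the only elementary abelian subgroups of order `≥ |Q₁|` of `S`. -/
theorem eq_of_elem {E : Subgroup G} (hES : E ≤ S) (hE : ∀ x ∈ E, x * x = 1)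
    (hcard : Nat.card Q₁ ≤ Nat.card E) : E = Q₁ ∨ E = Q₂ :=
  h.eq_of_elem' (fun e he => h.mem_S (hES he)) hE hcard

/-- If `gBg⁻¹ ≤ S` then `g` normalises `B`. -/
theorem conj_B {g : G} (hg : ∀ b ∈ B, g * b * g⁻¹ ∈ S) : g ∈ normalizer (B : Set G) := by
  apply mem_normalizer_of
  have key : ∀ Q : Subgroup G, Q ≤ B → (∀ z ∈ Q, z * z = 1) → Nat.card Q₁ ≤ Nat.card Q →
      Q.map (MulAut.conj g).toMonoidHom ≤ B := by
    intro Q hQ hQ2 hQ3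
    have h1 : Q.map (MulAut.conj g).toMonoidHom = Q₁ ∨ Q.map (MulAut.conj g).toMonoidHom = Q₂ := by
      apply h.eq_of_elem
      · rintro _ ⟨z, hz, rfl⟩
        exact hg z (hQ hz)
      · rintro _ ⟨z, hz, rfl⟩
        show g * z * g⁻¹ * (g * z * g⁻¹) = 1
        calc g * z * g⁻¹ * (g * z * g⁻¹) = g * (z * z) * g⁻¹ := by group
          _ = 1 := by rw [hQ2 z hz]; group
      · rw [Lib.GoldschmidtFusion.card_map_conj]; exact hQ3
    rcases h1 with h1 | h1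
    · rw [h1]; exact h.Q1B
    · rw [h1]; exact h.Q2B
  intro x hx
  obtain ⟨a, ha, b, hb, rfl⟩ := h.prod x hx
  have h1 : g * a * g⁻¹ ∈ B := key Q₁ h.Q1B h.sq1 le_rfl ⟨a, ha, rfl⟩
  have h2 : g * b * g⁻¹ ∈ B := key Q₂ h.Q2B h.sq2 h.card12.le ⟨b, hb, rfl⟩
  have h3 : g * (a * b) * g⁻¹ = g * a * g⁻¹ * (g * b * g⁻¹) := by group
  rw [h3]; exact B.mul_mem h1 h2

/-- `S` normalises `B`. -/
theorem S_B {x : G} (hx : x ∈ S) {b : G} (hb : b ∈ B) : x * b * x⁻¹ ∈ B := by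
  have h1 : x ∈ normalizer (B : Set G) :=
    h.conj_B (fun b hb => S.mul_mem (S.mul_mem hx (h.TS (h.BT hb))) (S.inv_mem hx))
  exact (mem_normalizer_iff.1 h1 b).1 hb

end Base

end

end Cfsg.Agent.Omega.SQ1.End
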