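import Cfsg.Agent.Mrg.Omega.SQ1.BauL
import Cfsg.Agent.Mrg.Omega.SQ1.End0


/-!
# SQ1, the end for `k = 1`, `q ≥ 4`: (NS) and (5.3) in the notation of `End0`

`h : Base S T B Q₁ Q₂ D C₁ C₂ s q`, `S` Sylow, `LK B Q₁ D C₁ L K`: `L = ⟨B^L⟩ ≤ N(Q₁)`,
`C₁ = C_{Q₁}(L)`, every element of `Q₁` is `L`-conjugate into `D`, `K ≤ N_L(B)` has odd order and
is transitive on `(D / C₁) - 0`; `C_G(z) ≤ N_G(B)` for `1 ≠ z ∈ Ω₁(Z(S))` (or: all members of
`L(S)` are contained in `N_G(B)`).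

* `go1` : `N_G(B) ∩ N(Q₁) ∩ N(Q₂)` is transitive on the good elements of `D`;
* `cent` : `C_G(z) ≤ N_G(B)` for `z` good; `fused`: `z` good, `z^g ∈ D` ⇒ `g ∈ N_G(B)`;
* `types` : `C₁ = C₂ = 1` and `|D| = q`, or `D = C₁ × C₂`, `|C₁| = |C₂| = q`.
-/

set_option autoImplicit false

namespace Cfsg.Agent.Omega.SQ1.NSOf

open Subgroup Cfsg Cfsg.Agent.ZN Cfsg.Agent.ZN.ChoiceBase Cfsg.Agent.Omega.MinPar
open Cfsg.Agent.Omega.SQ1.End Cfsg.Agent.Omega.SQ1.NS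

universe u

variable {G : Type u} [Group G]

/-- The block `L` with its torus `K`. -/
structure LK (B Q₁ D C₁ L K : Subgroup G) : Prop where
  BL : B ≤ L
  LQ : ∀ l ∈ L, ∀ x ∈ Q₁, l * x * l⁻¹ ∈ Q₁
  gen : ∀ N : Subgroup G, (∀ l ∈ L, ∀ b ∈ B, l * b * l⁻¹ ∈ N) → L ≤ N
  fus : ∀ x ∈ Q₁, ∃ l ∈ L, l * x * l⁻¹ ∈ D
  memC : ∀ c, c ∈ C₁ ↔ c ∈ Q₁ ∧ ∀ l ∈ L, l * c = c * l
  KL : K ≤ L
  KB : ∀ k ∈ K, ∀ b ∈ B, k * b * k⁻¹ ∈ B
  Kodd : Odd (Nat.card K)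
  Ktr : ∀ z ∈ D, z ∉ C₁ → ∀ w ∈ D, w ∉ C₁ → ∃ k ∈ K, k * z * k⁻¹ * w⁻¹ ∈ C₁

variable {T B Q₁ Q₂ D C₁ C₂ L K : Subgroup G} {s : G} {q : ℕ}

theorem cj_eq_of [Finite G] {g : G} {A C : Subgroup G} (h1 : ∀ x ∈ A, g * x * g⁻¹ ∈ C)
    (h2 : Nat.card C ≤ Nat.card A) : cj g A = C :=
  Subgroup.eq_of_le_of_card_ge (cj_le_of h1) (by rw [card_cj]; exact h2)

section

variable [Finite G] {S : Sylow 2 G}
variable (h : Base (S : Subgroup G) T B Q₁ Q₂ D C₁ C₂ s q)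

include h

theorem cj_s1 : cj s Q₁ = Q₂ := cj_eq_of h.s1 h.card12.ge

theorem cj_s2 : cj s Q₂ = Q₁ := cj_eq_of h.s2 h.card12.le

theorem cj_sC1 : cj s C₁ = C₂ := by
  apply cj_eq_of h.sC1
  rw [← card_cj s C₂]
  exact Subgroup.card_le_of_le (cj_le_of h.sC2)

omit [Finite G] in
theorem D_eq : D = Q₁ ⊓ Q₂ := by
  ext x
  rw [h.memD, mem_inf]

omit [Finite G] in
theorem B_eq : B = Q₁ ⊔ Q₂ := by
  apply le_antisymm
  · intro x hx
    obtain ⟨a, ha, b, hb, rfl⟩ := h.prod x hx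
    exact mul_mem_sup ha hb
  · exact sup_le h.Q1B h.Q2B

theorem S_le : (S : Subgroup G) ≤ normalizer (B : Set G) := fun _ hx =>
  End.mem_normalizer_of fun _ hb => h.S_B hx hb

/-- `B` is weakly closed in `N_G(B)`. -/
theorem weak (x : G) (hx : ∀ b ∈ B, x * b * x⁻¹ ∈ normalizer (B : Set G)) :
    x ∈ normalizer (B : Set G) := by
  have hfact : Fact (Nat.Prime 2) := ⟨Nat.prime_two⟩
  have hSN : (S : Subgroup G) ≤ normalizer (B : Set G) := S_le h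
  have hi : ¬ 2 ∣ (S : Subgroup G).relIndex (normalizer (B : Set G)) := fun hd =>
    S.not_dvd_index (hd.trans ⟨_, (Subgroup.relIndex_mul_index hSN).symm⟩)
  obtain ⟨n, hn, hnS⟩ := Lib.GoldschmidtFusion.exists_conj_le_in (p := 2) h.two hi
    (D := cj x B) (cj_le_of hx) (isPGroup_cj x (h.two.to_le (h.BT.trans h.TS)))
  have h1 : n * x ∈ normalizer (B : Set G) := by
    apply h.conj_B
    intro b hb
    have h2 := hnS (conj_mem_cj (g := n) (conj_mem_cj (g := x) hb))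
    have e : n * (x * b * x⁻¹) * n⁻¹ = n * x * b * (n * x)⁻¹ := by group
    rwa [e] at h2
  have h4 := mul_mem (inv_mem hn) h1
  rwa [inv_mul_cancel_left] at h4

/-- `N_G(B)` permutes `Q₁`, `Q₂`. -/
theorem perm {g : G} (hg : g ∈ normalizer (B : Set G)) {Q : Subgroup G} (hQB : Q ≤ B)
    (hQ2 : ∀ x ∈ Q, x * x = 1) (hQc : Nat.card Q₁ ≤ Nat.card Q) : cj g Q = Q₁ ∨ cj g Q = Q₂ := by
  apply h.eq_of_elem
  · intro x hx
    have h1 := (mem_normalizer_iff.1 hg _).1 (hQB (mem_cj.1 hx))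
    have e : g * (g⁻¹ * x * g) * g⁻¹ = x := by group
    rw [e] at h1
    exact h.TS (h.BT h1)
  · intro x hx
    have h1 := hQ2 _ (mem_cj.1 hx)
    have e : g⁻¹ * x * g * (g⁻¹ * x * g) = g⁻¹ * (x * x) * g := by group
    rw [e] at h1
    have h2 : x * x = g * (g⁻¹ * (x * x) * g) * g⁻¹ := by group
    rw [h2, h1, mul_one, mul_inv_cancel]
  · rw [card_cj]
    exact hQc

theorem C1D : C₁ ≤ Q₁ → (∀ c ∈ C₁, ∀ b ∈ B, b * c = c * b) → C₁ ≤ D := by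
  intro h1 h2 c hc
  by_contra hcD
  obtain ⟨b, hb, hbD⟩ := h.exists_b
  have h3 := h.good_ne (h.good c (h1 hc) hcD b hb hbD)
  apply h3
  rw [← h2 c hc b (h.Q2B hb), mul_inv_cancel_right, mul_inv_cancel]

/-- a nontrivial element of `Ω₁(Z(S))` is good. -/
theorem good_zc {z : G} (hz : z ∈ (S : Subgroup G)) (hzz : z * z = 1) (hz1 : z ≠ 1)
    (hzc : ∀ x ∈ (S : Subgroup G), x * z = z * x) : Gd D C₁ C₂ z := by
  have hSB : B ≤ (S : Subgroup G) := h.BT.trans h.TS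
  have hT : z ∈ T := by
    apply h.memT z hz
    intro a ha
    rw [← hzc a (hSB (h.Q1B ha)), mul_inv_cancel_right]
    exact ha
  have hB : z ∈ B := by
    apply h.cenD z hT
    intro d hd
    rw [← hzc d (hSB (h.DB hd)), mul_inv_cancel_right]
  have hsz : s * z * s⁻¹ = z := by rw [hzc s h.sS, mul_inv_cancel_right]
  have hD : z ∈ D := by
    rcases h.inv_mem_or hB hzz with h1 | h1
    · exact (h.memD z).2 ⟨h1, by have := h.s1 z h1; rwa [hsz] at this⟩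
    · exact (h.memD z).2 ⟨by have := h.s2 z h1; rwa [hsz] at this, h1⟩
  refine ⟨hD, fun hc => hz1 ?_, fun hc => hz1 ?_⟩
  · have h1 := h.sC1 z hc
    rw [hsz] at h1
    have h2 : z ∈ C₁ ⊓ C₂ := ⟨hc, h1⟩
    rwa [h.C12, mem_bot] at h2
  · have h1 := h.sC2 z hc
    rw [hsz] at h1
    have h2 : z ∈ C₁ ⊓ C₂ := ⟨h1, hc⟩
    rwa [h.C12, mem_bot] at h2

theorem exists_z0 : ∃ z₀ ∈ (S : Subgroup G), z₀ * z₀ = 1 ∧ z₀ ≠ 1 ∧
    ∀ x ∈ (S : Subgroup G), x * z₀ = z₀ * x := by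
  have hSne : (S : Subgroup G) ≠ ⊥ := by
    intro h1
    have h2 := h.one_lt_D
    have h3 : D = ⊥ := le_bot_iff.1 (h1 ▸ (h.DB.trans (h.BT.trans h.TS)))
    rw [h3, Subgroup.card_bot] at h2
    exact lt_irrefl _ h2
  have h1 := Cfsg.Agent.MinSimple.Basic.zc_ne_bot S.isPGroup' hSne
  obtain ⟨⟨z, hz⟩, hz1⟩ := Subgroup.ne_bot_iff_exists_ne_one.1 h1
  have hz1' : z ≠ 1 := fun h2 => hz1 (Subtype.ext h2)
  have hzc := mem_zc.1 hz
  refine ⟨z, hzc.1, ?_, hz1', fun x hx => hzc.2.2 x hx⟩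
  have := hzc.2.1
  rwa [pow_two] at this

variable (k : LK B Q₁ D C₁ L K)

include k

/-- The input of `NS`. -/
theorem nsIn {z₀ : G} (hz : z₀ ∈ (S : Subgroup G)) (hzz : z₀ * z₀ = 1) (hz1 : z₀ ≠ 1)
    (hzc : ∀ x ∈ (S : Subgroup G), x * z₀ = z₀ * x)
    (hM : ∀ x : G, x * z₀ = z₀ * x → x ∈ normalizer (B : Set G)) :
    NSIn B Q₁ Q₂ L K s z₀ := by
  have hC1 : C₁ = Q₁ ⊓ centralizer (L : Set G) := by
    ext c
    rw [k.memC, mem_inf, mem_centralizer_iff]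
    rfl
  have hC1D : C₁ ≤ D := C1D h (fun c hc => ((k.memC c).1 hc).1)
    fun c hc b hb => ((k.memC c).1 hc).2 b (k.BL hb)
  have hD := D_eq h
  have hKB : K ≤ normalizer (B : Set G) := fun x hx => End.mem_normalizer_of (k.KB x hx)
  have hcen : ∀ z ∈ D, ∀ b ∈ B, b * z = z * b := fun z hz b hb => (h.centD hz hb).symm
  refine ⟨cj_s1 h, cj_s2 h, B_eq h, weak h, k.BL, fun l hl => End.mem_normalizer_of (k.LQ l hl),
    k.gen, ?_, ?_, ?_, ?_, hz1, hzc s h.sS, hM, ?_, ?_, k.KL, hKB, k.Kodd, ?_, ?_⟩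
  · intro y hy
    obtain ⟨l, hl, hly⟩ := k.fus y hy
    refine ⟨l⁻¹, inv_mem hl, fun b hb => ?_⟩
    have h1 := hcen _ hly b hb
    have e1 : l⁻¹ * b * l⁻¹⁻¹ * y = l⁻¹ * (b * (l * y * l⁻¹)) * l := by group
    have e2 : y * (l⁻¹ * b * l⁻¹⁻¹) = l⁻¹ * ((l * y * l⁻¹) * b) * l := by group
    rw [e1, e2, h1]
  · intro z hz b hb
    rw [← hD] at hz
    exact hcen z hz b hb
  · intro y hy hyc
    by_contra hyD
    obtain ⟨b, hb, hbD⟩ := h.exists_b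
    have hyD' : y ∉ D := fun h' => hyD ((h.memD y).1 h').2
    apply h.good_ne (h.good y hy hyD' b hb hbD)
    rw [← hyc b (h.Q2B hb), mul_inv_cancel_right, mul_inv_cancel]
  · exact h.D1 (good_zc h hz hzz hz1 hzc).1
  · exact fun g hg => perm h hg h.Q1B h.sq1 le_rfl
  · exact fun g hg => perm h hg h.Q2B h.sq2 h.card12.le
  · intro z hz hzC w hw hwC
    rw [← hD] at hz hw
    have hzC' : z ∉ C₁ := fun h' => hzC (by rw [hC1] at h'; exact h'.2)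
    have hwC' : w ∉ C₁ := fun h' => hwC (by rw [hC1] at h'; exact h'.2)
    obtain ⟨a, ha, hac⟩ := k.Ktr z hz hzC' w hw hwC'
    refine ⟨a, ha, ?_⟩
    rw [hC1] at hac
    exact hac.2
  · rw [← hC1, cj_sC1 h, h.C12]

omit [Finite G] h in
theorem C1_eq : Q₁ ⊓ centralizer (L : Set G) = C₁ := by
  ext c
  rw [k.memC, mem_inf, mem_centralizer_iff]
  rfl

theorem good_iff {z : G} : NSIn.Good Q₁ Q₂ L s z ↔ Gd D C₁ C₂ z := by
  unfold NSIn.Good Gd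
  rw [C1_eq k, cj_sC1 h, ← D_eq h]

variable (hM : ∀ z ∈ (S : Subgroup G), z * z = 1 → z ≠ 1 →
  (∀ x ∈ (S : Subgroup G), x * z = z * x) → ∀ x : G, x * z = z * x → x ∈ normalizer (B : Set G))

include hM

theorem exists_nsIn : ∃ z₀, NSIn B Q₁ Q₂ L K s z₀ := by
  obtain ⟨z, hz, hzz, hz1, hzc⟩ := exists_z0 h
  exact ⟨z, nsIn h k hz hzz hz1 hzc (hM z hz hzz hz1 hzc)⟩

omit [Finite G] k in
omit h hM in
/-- `hM` from: all members of `L(S)` are contained in `N_G(B)`. -/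
theorem hM_of (huni : ∀ X : Subgroup G, IsLoc (S : Subgroup G) X → X ≤ normalizer (B : Set G)) :
    ∀ z ∈ (S : Subgroup G), z * z = 1 → z ≠ 1 → (∀ x ∈ (S : Subgroup G), x * z = z * x) →
      ∀ x : G, x * z = z * x → x ∈ normalizer (B : Set G) := by
  intro z hz hzz hz1 hzc x hx
  have hord : orderOf z = 2 := orderOf_eq_prime (by rw [pow_two]; exact hzz) hz1
  have hP : IsPGroup 2 (zpowers z) := S.isPGroup'.to_le (by rwa [zpowers_le])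
  have key : ∀ y : G, y * z = z * y → y ∈ normalizer (zpowers z : Set G) := by
    intro y hy
    have h1 : y ∈ centralizer (zpowers z : Set G) := by
      rw [mem_centralizer_iff]
      rintro w ⟨n, rfl⟩
      exact ((show Commute y z from hy).zpow_right n).eq.symm
    exact (Subgroup.centralizer_le_normalizer _) h1
  exact huni _ (isLoc_normalizer S hP (fun h' => hz1 (zpowers_eq_bot.mp h'))
    fun y hy => key y (hzc y hy)) (key x hx)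

/-- (NS) -/
theorem ns : normalizer (Q₁ : Set G) ≤ normalizer (L : Set G) := by
  obtain ⟨z, hz⟩ := exists_nsIn h k hM
  exact hz.normal

/-- `N_G(B)` is transitive on the good elements. -/
theorem go1' {d e : G} (hd : Gd D C₁ C₂ d) (he : Gd D C₁ C₂ e) :
    ∃ n, n ∈ normalizer (B : Set G) ∧ n ∈ normalizer (Q₁ : Set G) ∧
      n ∈ normalizer (Q₂ : Set G) ∧ n * d * n⁻¹ = e := by
  obtain ⟨z, hz⟩ := exists_nsIn h k hM
  exact hz.go1 ((good_iff h k).2 hd) ((good_iff h k).2 he)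

theorem go1 {d e : G} (hd : Gd D C₁ C₂ d) (he : Gd D C₁ C₂ e) :
    ∃ n ∈ normalizer (B : Set G), n * d * n⁻¹ = e := by
  obtain ⟨n, hn, -, -, hne⟩ := go1' h k hM hd he
  exact ⟨n, hn, hne⟩

/-- `C_G(z) ≤ N_G(B)` for good `z`. -/
theorem cent {d x : G} (hd : Gd D C₁ C₂ d) (hx : x * d = d * x) :
    x ∈ normalizer (B : Set G) := by
  obtain ⟨z, hz⟩ := exists_nsIn h k hM
  exact hz.cent_good ((good_iff h k).2 hd) hx

theorem cent' {d : G} (hd : Gd D C₁ C₂ d) : centralizer {d} ≤ normalizer (B : Set G) := by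
  intro x hx
  exact cent h k hM hd (mem_centralizer_iff.1 hx d rfl).symm

/-- (F) -/
theorem fused {d g : G} (hd : Gd D C₁ C₂ d) (hg : g * d * g⁻¹ ∈ D) :
    g ∈ normalizer (B : Set G) := by
  obtain ⟨z, hz⟩ := exists_nsIn h k hM
  rw [D_eq h] at hg
  exact hz.fused_good ((good_iff h k).2 hd) hg

theorem good_conj {d n : G} (hd : Gd D C₁ C₂ d) (hn : n ∈ normalizer (B : Set G)) :
    Gd D C₁ C₂ (n * d * n⁻¹) := by
  obtain ⟨z, hz⟩ := exists_nsIn h k hM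
  exact (good_iff h k).1 (hz.good_conj ((good_iff h k).2 hd) hn)

/-- Types: `C₁ = C₂ = 1` or `D = C₁ C₂`. -/
theorem types : (C₁ = ⊥ ∧ C₂ = ⊥) ∨ ∀ d ∈ D, ∃ c₁ ∈ C₁, ∃ c₂ ∈ C₂, d = c₁ * c₂ := by
  obtain ⟨z, hz⟩ := exists_nsIn h k hM
  have h1 := hz.dich
  rw [C1_eq k, cj_sC1 h, ← D_eq h] at h1
  rcases h1 with h1 | h1
  · left
    refine ⟨h1, ?_⟩
    rw [← cj_sC1 h, h1]
    exact map_bot _
  · exact Or.inr h1

/-- `|C₁| = q` in the second case. -/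
theorem card_C {q' : ℕ} (hC : C₁ ≠ ⊥) (hq : Nat.card D = Nat.card C₁ * q') :
    Nat.card C₁ = q' := by
  obtain ⟨z, hz⟩ := exists_nsIn h k hM
  have h1 := hz.card_C (q := q')
  rw [C1_eq k, ← D_eq h] at h1
  exact h1 hC hq

end

end Cfsg.Agent.Omega.SQ1.NSOf
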