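import Cfsg.Agent.Mrg.Omega.FFOne.Alg
import Cfsg.Agent.Mrg.Omega.SQ1.End0
import Cfsg.Agent.Mrg.Omega.SQ1.MidBase


/-!
# SQT, Node (A) (v): `r(S) ≤ 4` for type `L₃(4)`, from `End.Base`

`rank_four (h : Base S T B Q₁ Q₂ D C₁ C₂ s 4) (hD : |D| = 4) : SectionalPRankLE 2 4 S`.
-/

set_option autoImplicit false

namespace Cfsg.Agent.Omega.SQ1.RankFourOf

open Subgroup Cfsg Cfsg.Agent.Omega.SQ1.End Cfsg.Agent.Omega.SQ1.RankFour

universe u

variable {G : Type u} [Group G] {S T B Q₁ Q₂ D C₁ C₂ : Subgroup G} {s : G}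

section

variable [Finite G] (h : Base S T B Q₁ Q₂ D C₁ C₂ s 4) (hD : Nat.card D = 4)

include h

omit [Finite G] in
theorem conj_D {w : G} (hw : w ∈ T) {d : G} (hd : d ∈ D) : w * d * w⁻¹ ∈ D :=
  (h.memD _).2 ⟨h.T1 w hw d (h.D1 hd), h.T2 w hw d (h.D2 hd)⟩

include hD

/-- squares of elements of `T` act trivially on `Q₁ / D` -/
theorem sq_triv {w : G} (hw : w ∈ T) {y : G} (hy : y ∈ Q₁) : (w * w) * y * (w * w)⁻¹ * y⁻¹ ∈ D := by
  have hf2 : Fact (Nat.Prime 2) := ⟨Nat.prime_two⟩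
  have hT2 : IsPGroup 2 T := h.two.to_le h.TS
  have hQT : Q₁ ≤ T := h.Q1B.trans h.BT
  have hnQ : T ≤ normalizer (Q₁ : Set G) := fun t ht => mem_normalizer_of (h.T1 t ht)
  have hnD : T ≤ normalizer (D : Set G) := fun t ht => mem_normalizer_of (fun d hd => conj_D h ht hd)
  obtain ⟨x, hx, hxD, hfix⟩ := EndThree.exists_fix hT2 hQT hnQ h.D1 hnD (by
    intro h1
    obtain ⟨a, ha, haD⟩ := h.exists_a
    exact haD (h1 ha))
  have hxx := h.sq1 x hx
  -- `E = D ∪ xD`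
  let E : Subgroup G :=
    { carrier := {g | g ∈ D ∨ x * g ∈ D}
      one_mem' := Or.inl D.one_mem
      mul_mem' := by
        rintro a b (ha | ha) (hb | hb)
        · exact Or.inl (D.mul_mem ha hb)
        · right
          have e : x * (a * b) = a * (x * b) := by
            rw [← mul_assoc, ← mul_assoc, h.c1 x hx a (h.D1 ha)]
          rw [e]; exact D.mul_mem ha hb
        · right
          rw [← mul_assoc]; exact D.mul_mem ha hb
        · left
          have hxa : a ∈ Q₁ := by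
            have := Q₁.mul_mem hx (h.D1 ha)
            rwa [← mul_assoc, hxx, one_mul] at this
          have e : a * b = (x * a) * (x * b) := by
            calc a * b = (x * x) * a * b := by rw [hxx, one_mul]
              _ = x * (x * a) * b := by group
              _ = x * (a * x) * b := by rw [h.c1 x hx a hxa]
              _ = _ := by group
          rw [e]; exact D.mul_mem ha hb
      inv_mem' := by
        rintro a (ha | ha)
        · exact Or.inl (D.inv_mem ha)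
        · right
          have hxa : a ∈ Q₁ := by
            have := Q₁.mul_mem hx (h.D1 ha)
            rwa [← mul_assoc, hxx, one_mul] at this
          rw [h.inv1 hxa]; exact ha }
  have hEQ : E ≤ Q₁ := by
    rintro a (ha | ha)
    · exact h.D1 ha
    · have := Q₁.mul_mem hx (h.D1 ha)
      rwa [← mul_assoc, hxx, one_mul] at this
  have hDE : D ≤ E := fun d hd => Or.inl hd
  have hxE : x ∈ E := Or.inr (by rw [hxx]; exact D.one_mem)
  have hE8 : 8 ≤ Nat.card E := by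
    have := two_mul_le hDE ⟨x, hxE, hxD⟩
    omega
  have hQ16 : Nat.card Q₁ = 16 := by rw [h.card1, hD]
  have hrel : E.relIndex Q₁ ≤ 2 := by
    have h1 := card_mul_relIndex hEQ
    by_contra h2
    have : 8 * 3 ≤ Nat.card E * E.relIndex Q₁ := Nat.mul_le_mul hE8 (by omega)
    omega
  -- products of two elements outside `E` lie in `E`
  have hprod : ∀ a ∈ Q₁, ∀ b ∈ Q₁, a ∉ E → b ∉ E → a * b ∈ E := by
    intro a ha b hb haE hbE
    have h1 : (E.subgroupOf Q₁).index = 2 := by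
      have h2 : E.relIndex Q₁ ≠ 0 := by
        intro h3
        have h1 := card_mul_relIndex hEQ
        rw [h3, mul_zero] at h1
        exact absurd h1.symm Nat.card_pos.ne'
      have h3 : E.relIndex Q₁ ≠ 1 := fun h3 => haE (relIndex_eq_one.1 h3 ha)
      show E.relIndex Q₁ = 2
      omega
    have h2 := (Subgroup.mul_mem_iff_of_index_two h1 (a := ⟨a, ha⟩) (b := ⟨b, hb⟩)).2 (by
      constructor
      · intro h3; exact absurd h3 haE
      · intro h3; exact absurd h3 hbE)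
    exact h2
  -- `T` acts trivially on `E` modulo `D`
  have hEfix : ∀ t ∈ T, ∀ e ∈ E, t * e * t⁻¹ * e⁻¹ ∈ D := by
    rintro t ht e (he | he)
    · exact D.mul_mem (conj_D h ht he) (D.inv_mem he)
    · have h1 := hfix t ht
      have h2 : t * x * t⁻¹ * x⁻¹ ∈ D := by
        have := D.inv_mem h1
        have e1 : (x * t * x⁻¹ * t⁻¹)⁻¹ = t * x * t⁻¹ * x⁻¹ := by group
        rwa [e1] at this
      have heQ : e ∈ Q₁ := hEQ (Or.inr he)
      -- `e = x (x e)`
      have h3 := conj_D h ht he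
      have h4 : t * e * t⁻¹ * e⁻¹ = (t * x * t⁻¹)⁻¹ * (t * (x * e) * t⁻¹) * e⁻¹ := by group
      have h5 : (t * x * t⁻¹)⁻¹ = t * x * t⁻¹ := by
        have : (t * x * t⁻¹)⁻¹ = t * x⁻¹ * t⁻¹ := by group
        rw [this, h.inv1 hx]
      rw [h4, h5]
      have h6 : t * x * t⁻¹ * (t * (x * e) * t⁻¹) * e⁻¹ =
          (t * x * t⁻¹ * x⁻¹) * (x * (t * (x * e) * t⁻¹) * e⁻¹) := by group
      rw [h6]
      refine D.mul_mem h2 ?_
      have h7 : x * (t * (x * e) * t⁻¹) * e⁻¹ = (t * (x * e) * t⁻¹) * (x * e⁻¹) := by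
        rw [h.c1 x hx _ (h.D1 h3)]; group
      rw [h7]
      refine D.mul_mem h3 ?_
      rw [h.inv1 heQ]
      exact he
  have hEconj : ∀ t ∈ T, ∀ e ∈ E, t * e * t⁻¹ ∈ E := by
    intro t ht e he
    have := E.mul_mem (hDE (hEfix t ht e he)) he
    rwa [inv_mul_cancel_right] at this
  by_cases hyE : y ∈ E
  · exact hEfix _ (T.mul_mem hw hw) y hyE
  · have hwy : w * y * w⁻¹ ∉ E := by
      intro h1
      have h2 := hEconj w⁻¹ (T.inv_mem hw) _ h1
      have e1 : w⁻¹ * (w * y * w⁻¹) * w⁻¹⁻¹ = y := by group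
      rw [e1] at h2
      exact hyE h2
    have hyi : y⁻¹ = y := h.inv1 hy
    have he : w * y * w⁻¹ * y⁻¹ ∈ E := by
      rw [hyi]
      exact hprod _ (h.T1 w hw y hy) _ hy hwy hyE
    set e : G := w * y * w⁻¹ * y⁻¹ with hedef
    have h1 : w * e * w⁻¹ * e⁻¹ ∈ D := hEfix w hw e he
    have hee : e * e = 1 := h.sq1 e (hEQ he)
    have h2 : (w * w) * y * (w * w)⁻¹ * y⁻¹ = w * e * w⁻¹ * e⁻¹ * (e * e) := by
      rw [hedef]; group
    rw [h2, hee, mul_one]
    exact h1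

/-- no square of an element of `T` lies outside `B` -/
theorem sq_mem {w : G} (hw : w ∈ T) : w * w ∈ B := by
  by_contra hcon
  obtain ⟨n, hn⟩ := h.two ⟨w, h.TS hw⟩
  have hwn : w ^ 2 ^ n = 1 := by
    have := congrArg Subtype.val hn
    simpa using this
  -- the last power outside `B`
  have hex : ∃ k, w ^ 2 ^ (k + 1) ∈ B := by
    refine ⟨n, ?_⟩
    rw [pow_succ, pow_mul, hwn, one_pow]
    exact B.one_mem
  classical
  set k := Nat.find hex with hk
  have hk1 : w ^ 2 ^ (k + 1) ∈ B := Nat.find_spec hex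
  have hk0 : k ≠ 0 := by
    intro h0
    rw [h0, zero_add, pow_one, pow_two] at hk1
    exact hcon hk1
  obtain ⟨j, hj⟩ := Nat.exists_eq_succ_of_ne_zero hk0
  have hj1 : w ^ 2 ^ (j + 1) ∉ B := by
    have := Nat.find_min hex (m := j) (by omega)
    exact this
  set w' : G := w ^ 2 ^ j with hw'
  have hw'T : w' ∈ T := T.pow_mem hw _
  have e1 : w' * w' = w ^ 2 ^ (j + 1) := by
    rw [hw', ← pow_add, pow_succ]; congr 1; ring
  set v : G := w' * w' with hv
  have hvT : v ∈ T := T.mul_mem hw'T hw'T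
  have hvB : v ∉ B := by rw [e1]; exact hj1
  have hvv : v * v ∈ B := by
    rw [e1, ← pow_add]
    have : 2 ^ (j + 1) + 2 ^ (j + 1) = 2 ^ (k + 1) := by rw [hj, pow_succ 2 (j.succ)]; omega
    rw [this]; exact hk1
  obtain ⟨a, ha, haD⟩ := h.exists_a
  have h1 := sq_triv h hD hw'T ha
  rw [← hv] at h1
  have hva := h.T1 v hvT a ha
  obtain ⟨u, hu, hu2⟩ := h.free1D v hvT hvB hvv a ha (by
    rw [h.c1 _ (Q₁.inv_mem ha) _ hva]; exact h1)
  have h2 := sq_triv h hD hw'T hu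
  rw [← hv] at h2
  apply haD
  have h3 : u * (v * u * v⁻¹) ∈ D := by
    rw [h.c1 u hu _ (h.T1 v hvT u hu)]
    rwa [h.inv1 hu] at h2
  have h4 := D.mul_mem hu2 (D.inv_mem h3)
  have e2 : a⁻¹ * (u * (v * u * v⁻¹)) * (u * (v * u * v⁻¹))⁻¹ = a⁻¹ := by group
  rw [e2] at h4
  exact D.inv_mem_iff.1 h4

theorem moves1 {u : G} (huT : u ∈ T) (huB : u ∉ B) : ∃ a ∈ Q₁, u * a * u⁻¹ * a⁻¹ ∉ D := by
  by_contra hcon
  push Not at hcon
  obtain ⟨a, ha, haD⟩ := h.exists_a
  obtain ⟨v, hv, hv2⟩ := h.free1D u huT huB (sq_mem h hD huT) a ha (by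
    rw [h.c1 _ (Q₁.inv_mem ha) _ (h.T1 u huT a ha)]; exact hcon a ha)
  apply haD
  have h3 : v * (u * v * u⁻¹) ∈ D := by
    rw [h.c1 v hv _ (h.T1 u huT v hv)]
    have := hcon v hv
    rwa [h.inv1 hv] at this
  have h4 := D.mul_mem hv2 (D.inv_mem h3)
  have e2 : a⁻¹ * (v * (u * v * u⁻¹)) * (v * (u * v * u⁻¹))⁻¹ = a⁻¹ := by group
  rw [e2] at h4
  exact D.inv_mem_iff.1 h4

theorem relIndex_T : B.relIndex T ∣ 2 := by
  by_cases hTB : T ≤ B
  · rw [relIndex_eq_one.2 hTB]; norm_num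
  obtain ⟨t, ht, htB⟩ := SetLike.not_le_iff_exists.1 hTB
  have h1 : (B.subgroupOf T).index = 2 := by
    rw [Subgroup.index_eq_two_iff]
    refine ⟨⟨t, ht⟩, fun b => ?_⟩
    by_cases hb : (b : G) ∈ B
    · refine Or.inr ⟨hb, fun h2 => ?_⟩
      exact htB ((B.mul_mem_cancel_left hb).1 h2)
    · refine Or.inl ⟨?_, hb⟩
      have h2 := h.uniq (b : G)⁻¹ (T.inv_mem b.2) (fun h3 => hb (B.inv_mem_iff.1 h3))
        (sq_mem h hD (T.inv_mem b.2)) t ht htB (sq_mem h hD ht)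
      rwa [inv_inv] at h2
  have h2 : B.relIndex T = 2 := h1
  rw [h2]

theorem relIndex_S : B.relIndex S ∣ 4 := by
  have h1 := Subgroup.relIndex_mul_relIndex B T S h.BT h.TS
  have h2 : (T.subgroupOf S).index = 2 := by
    rw [Subgroup.index_eq_two_iff]
    refine ⟨⟨s, h.sS⟩⁻¹, fun b => ?_⟩
    have hsn : s ∉ T := h.s_notMem
    rcases h.mem_S b.2 with hb | hb
    · refine Or.inr ⟨hb, fun h2 => ?_⟩
      have h3 : (b : G) * s⁻¹ ∈ T := h2
      exact hsn (T.inv_mem_iff.1 ((T.mul_mem_cancel_left hb).1 h3))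
    · refine Or.inl ⟨?_, fun h2 => ?_⟩
      · show (b : G) * s⁻¹ ∈ T
        have h3 := h.sT hb
        have e : s * (s⁻¹ * (b : G)) * s⁻¹ = (b : G) * s⁻¹ := by group
        rwa [e] at h3
      · have h3 : (b : G) ∈ T := h2
        exact hsn (T.inv_mem_iff.1 ((T.mul_mem_cancel_right h3).1 hb))
  have h3 : T.relIndex S = 2 := h2
  rw [← h1, h3]
  obtain ⟨k, hk⟩ := relIndex_T h hD
  exact ⟨k, by rw [show (4 : ℕ) = 2 * 2 by norm_num]; nth_rewrite 1 [hk]; ring⟩

/-- The structure `Dat` inside `S`. -/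
theorem dat : Dat (B.subgroupOf S) (Q₁.subgroupOf S) (Q₂.subgroupOf S) (D.subgroupOf S) := by
  have hBS : B ≤ S := h.BT.trans h.TS
  have hcard : ∀ {X : Subgroup G}, X ≤ S → Nat.card (X.subgroupOf S) = Nat.card X :=
    fun hX => Nat.card_congr (Subgroup.subgroupOfEquivOfLe hX).toEquiv
  refine ⟨?_, ?_, ?_, ?_, ?_, ?_, ?_, ?_, ?_, ?_, ?_, ?_, ?_⟩
  · ext x
    rw [mem_inf, mem_subgroupOf, mem_subgroupOf, mem_subgroupOf, h.memD]
  · rw [hcard (h.DB.trans hBS), hD]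
  · rw [hcard (h.Q1B.trans hBS), h.card1, hD]
  · rw [hcard (h.Q2B.trans hBS), h.card2, hD]
  · intro x hx; exact Subtype.ext (h.sq1 x hx)
  · intro x hx; exact Subtype.ext (h.sq2 x hx)
  · intro a ha b hb
    exact h.comm12 ha hb
  · intro a ha haD b hb hbD h1
    have h2 : (a : G) * b = b * a := congrArg Subtype.val h1
    have h3 := h.good a ha haD b hb hbD
    apply h.good_ne h3
    rw [h2]; group
  · have h1 : Q₁ ⊔ Q₂ = B := by
      refine le_antisymm (sup_le h.Q1B h.Q2B) ?_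
      intro x hx
      obtain ⟨a, ha, b, hb, rfl⟩ := h.prod x hx
      exact mul_mem (mem_sup_left ha) (mem_sup_right hb)
    rw [← Subgroup.subgroupOf_sup (h.Q1B.trans hBS) (h.Q2B.trans hBS), h1]
  · intro u
    rcases h.mem_S u.2 with hu | hu
    · exact Or.inl ⟨fun a ha => h.T1 u hu a ha, fun b hb => h.T2 u hu b hb⟩
    · exact Or.inr ⟨fun a ha => h.swap1 hu ha, fun b hb => h.swap2 hu hb⟩
  · intro u huB hu
    have huT : (u : G) ∈ T := h.memT u u.2 (fun a ha => hu ⟨a, h.Q1B.trans hBS ha⟩ ha)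
    obtain ⟨a, ha, ha2⟩ := moves1 h hD huT huB
    obtain ⟨b, hb, hb2⟩ := moves1 h.symm hD huT huB
    exact ⟨⟨⟨a, h.Q1B.trans hBS ha⟩, ha, ha2⟩, ⟨⟨b, h.Q2B.trans hBS hb⟩, hb, hb2⟩⟩
  · exact ⟨⟨s, h.sS⟩, fun a ha => h.s1 a ha⟩
  · exact relIndex_S h hD

/-- **Type `L₃(4)`: `r(S) ≤ 4`.** -/
theorem rank_four : SectionalPRankLE 2 4 S := (dat h hD).rank

end

/-- The same for a group `G` with Sylow 2-subgroup `S`. -/
theorem rank_four_of_sylow [Finite G] {P : Sylow 2 G} (h : Base (P : Subgroup G) T B Q₁ Q₂ D C₁ C₂ s 4)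
    (hD : Nat.card D = 4) : SectionalPRankLE 2 4 G :=
  have : Fact (Nat.Prime 2) := ⟨Nat.prime_two⟩
  (GH.Rank.sylow_iff P).1 (rank_four h hD)

end Cfsg.Agent.Omega.SQ1.RankFourOf
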