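import Cfsg.Agent.Mrg.Omega.SQ1.TySp
import Cfsg.Agent.Mrg.Omega.SQ1.TyL
import Cfsg.Agent.Mrg.Omega.SQ1.RankFourOf
import Cfsg.Agent.Lib.FieldAutCard


/-!
# NODE (A) / (h4), final form: every member of `L(S)` normalises `B`, for an arbitrary overgroup `Y`

* `sp_le`: type `Sp₄(q)`, `q ≥ 4`; `l_le`: type `L₃(q)`, `q ≥ 8`;
* `good_of`: then `C_G(z) ≤ N_G(B)` for every good `z` (input: `N_G(B)` transitive on the good elements);
* `node_a`: the trichotomy from `FFOne.five`.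
-/

set_option autoImplicit false
set_option Elab.async false

namespace Cfsg.Agent.Omega.SQ1.NodeA

open Subgroup Cfsg Cfsg.Agent.ZN Cfsg.Agent.Omega.MinPar Cfsg.Agent.Omega.SQ1.End
open Cfsg.Agent.Omega.FFOne (cm SpFour LThree)

universe u

variable {G : Type u} [Group G] {F : Type*} [Field F]

section

variable {S T B Q₁ Q₂ D C₁ C₂ : Subgroup G} {s t₁ t₂ : G} {q : ℕ} {x y z z' : G → F} {ω₁ ω₂ : F}
variable [Finite G]

/-- `q = 4`: squares of elements of `T` lie in `B`. -/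
theorem sq_mem_sp [Finite F] [CharP F 2] (h : End.Base S T B Q₁ Q₂ D C₁ C₂ s q)
    (co : SpFour Q₁ Q₂ D C₁ C₂ x y z z' t₁ t₂ ω₁ ω₂) (hq : q = 4) {t : G} (ht : t ∈ T) : t * t ∈ B := by
  have hF : Nat.card F = 4 := by rw [← q_eq h co, hq]
  obtain ⟨ρ, a, b, c, c', -, -, hx, hy, -, -⟩ := exists_semi h co ht
  have hρ : ∀ w, ρ (ρ w) = w := by
    have : Fact (Nat.Prime 2) := ⟨Nat.prime_two⟩
    have : Fintype F := Fintype.ofFinite F
    have h1 : Nat.card (F ≃+* F) = 2 := Lib.FieldAutCard.card_ringAut (p := 2) (f := 2) (by norm_num)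
      (by rw [← Nat.card_eq_fintype_card, hF]; norm_num)
    have h2 : ρ ^ Nat.card (F ≃+* F) = 1 := pow_card_eq_one'
    rw [h1, pow_two] at h2
    intro w
    exact RingEquiv.congr_fun h2 w
  obtain ⟨m, hm⟩ := h.two ⟨t, h.TS ht⟩
  have hm' : t ^ 2 ^ m = 1 := by simpa using congrArg Subtype.val hm
  have hm2 : (t * t) ^ 2 ^ m = 1 := by
    rw [← pow_two, ← pow_mul, mul_comm, pow_mul, hm', one_pow]
  have hT2 : t * t ∈ T := mul_mem ht ht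
  have hxx : ∀ u ∈ Q₁, x (t * t * u * (t * t)⁻¹) = a * ρ a * x u := by
    intro u hu
    have e : t * t * u * (t * t)⁻¹ = t * (t * u * t⁻¹) * t⁻¹ := by group
    rw [e, hx _ (h.T1 t ht u hu), hx u hu, map_mul, hρ]; ring
  have hyy : ∀ u ∈ Q₂, y (t * t * u * (t * t)⁻¹) = b * ρ b * y u := by
    intro u hu
    have e : t * t * u * (t * t)⁻¹ = t * (t * u * t⁻¹) * t⁻¹ := by group
    rw [e, hy _ (h.T2 t ht u hu), hy u hu, map_mul, hρ]; ring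
  have hxn : ∀ n : ℕ, ∀ u ∈ Q₁, x ((t * t) ^ n * u * ((t * t) ^ n)⁻¹) = (a * ρ a) ^ n * x u := by
    intro n
    induction n with
    | zero => intro u _; simp
    | succ n ih =>
      intro u hu
      have e : (t * t) ^ (n + 1) * u * ((t * t) ^ (n + 1))⁻¹ =
          t * t * ((t * t) ^ n * u * ((t * t) ^ n)⁻¹) * (t * t)⁻¹ := by
        generalize t * t = g; rw [pow_succ']; group
      rw [e, hxx _ (h.T1 _ (T.pow_mem hT2 n) u hu), ih u hu, pow_succ']; ring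
  have hyn : ∀ n : ℕ, ∀ u ∈ Q₂, y ((t * t) ^ n * u * ((t * t) ^ n)⁻¹) = (b * ρ b) ^ n * y u := by
    intro n
    induction n with
    | zero => intro u _; simp
    | succ n ih =>
      intro u hu
      have e : (t * t) ^ (n + 1) * u * ((t * t) ^ (n + 1))⁻¹ =
          t * t * ((t * t) ^ n * u * ((t * t) ^ n)⁻¹) * (t * t)⁻¹ := by
        generalize t * t = g; rw [pow_succ']; group
      rw [e, hyy _ (h.T2 _ (T.pow_mem hT2 n) u hu), ih u hu, pow_succ']; ring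
  have ha : a * ρ a = 1 := by
    obtain ⟨u, hu, hu1⟩ := co.x_surj 1
    have h1 := hxn (2 ^ m) u hu
    rw [hm2, one_mul, inv_one, mul_one, hu1, mul_one] at h1
    exact TyAlg.one_of_two_pow h1.symm
  have hb : b * ρ b = 1 := by
    obtain ⟨u, hu, hu1⟩ := co.y_surj 1
    have h1 := hyn (2 ^ m) u hu
    rw [hm2, one_mul, inv_one, mul_one, hu1, mul_one] at h1
    exact TyAlg.one_of_two_pow h1.symm
  exact mem_B_of_xy h co hT2 (fun u hu => by rw [hxx u hu, ha, one_mul]) fun u hu => by rw [hyy u hu, hb, one_mul]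

end

section

variable {S : Sylow 2 G} {T B Q₁ Q₂ D C₁ C₂ : Subgroup G} {s t₁ t₂ : G} {q : ℕ} {x y z z' : G → F} {ω₁ ω₂ : F}
variable [Finite G] [Finite F] [CharP F 2] (h : End.Base (S : Subgroup G) T B Q₁ Q₂ D C₁ C₂ s q)

include h

/-- NODE (A), type `Sp₄(q)`. -/
theorem sp_le (co : SpFour Q₁ Q₂ D C₁ C₂ x y z z' t₁ t₂ ω₁ ω₂) (hG : IsCharacteristicTwoType G)
    (hD : normalizer (D : Set G) ≤ normalizer (B : Set G)) {X : Subgroup G} (hX : IsLoc (S : Subgroup G) X) :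
    X ≤ normalizer (B : Set G) := by
  have hcard : Nat.card D = q ^ 2 := by rw [card_D_eq h co, q_eq h co]
  have hq4 := h.hq
  rcases Nat.eq_or_lt_of_le hq4 with hq | hq
  · refine le_normalizer_of_two h hG (ty_sp h co) hD (by rw [hcard]; nlinarith) (sp_two h co) ?_ hX
    intro t ht htB t' ht' htB'
    exact h.uniq t ht htB (sq_mem_sp h co hq.symm ht) t' ht' htB' (sq_mem_sp h co hq.symm ht')
  · exact le_normalizer_of_lt h hG (ty_sp h co) hD (by rw [hcard]; nlinarith) hX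

/-- NODE (A), type `L₃(q)`, `q ≥ 8`. -/
theorem l_le (co : LThree Q₁ Q₂ D x y z t₁ t₂ ω₁ ω₂) (hC : C₁ = ⊥) (hq : 4 < q) (hG : IsCharacteristicTwoType G)
    (hD : normalizer (D : Set G) ≤ normalizer (B : Set G)) {X : Subgroup G} (hX : IsLoc (S : Subgroup G) X) :
    X ≤ normalizer (B : Set G) := by
  have hcard : Nat.card D = q := by
    have := h.cardC1
    rwa [hC, Subgroup.card_bot, mul_one] at this
  exact le_normalizer_of_lt h hG (TyL.ty_L h co) hD (by rw [hcard]; omega) hX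

omit [Finite F] [CharP F 2] in
/-- control of the good elements -/
theorem good_of (hL : ∀ X : Subgroup G, IsLoc (S : Subgroup G) X → X ≤ normalizer (B : Set G))
    (tr : ∀ d e, Gd D C₁ C₂ d → Gd D C₁ C₂ e → ∃ n ∈ normalizer (B : Set G), n * d * n⁻¹ = e) :
    ∀ w, Gd D C₁ C₂ w → centralizer ({w} : Set G) ≤ normalizer (B : Set G) := by
  intro w hw c hc
  obtain ⟨w0, hw0, hg0⟩ := h.exists_z0
  obtain ⟨n, hn, rfl⟩ := tr w0 w hg0 hw
  have h1 : n⁻¹ * c * n ∈ centralizer ({w0} : Set G) := by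
    rw [mem_centralizer_singleton_iff] at hc ⊢
    calc n⁻¹ * c * n * w0 = n⁻¹ * (c * (n * w0 * n⁻¹)) * n := by group
      _ = n⁻¹ * (n * w0 * n⁻¹ * c) * n := by rw [hc]
      _ = w0 * (n⁻¹ * c * n) := by group
  have hzc := mem_zc.1 hw0
  have h2 : IsLoc (S : Subgroup G) (centralizer ({w0} : Set G)) := by
    refine isLoc_centralizer S hzc.2.2 (h.good_ne hg0) fun g hg => ?_
    rw [mem_centralizer_singleton_iff]
    exact (hzc.2.1 g hg)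
  have h3 := hL _ h2 h1
  have h4 := mul_mem (mul_mem hn h3) (inv_mem hn)
  have e : n * (n⁻¹ * c * n) * n⁻¹ = c := by group
  rwa [e] at h4

omit [Finite F] [CharP F 2] h in
/-- the tori are transitive on the good elements -/
theorem tr_sp (co : SpFour Q₁ Q₂ D C₁ C₂ x y z z' t₁ t₂ ω₁ ω₂) (h1 : t₁ ∈ normalizer (B : Set G))
    (h2 : t₂ ∈ normalizer (B : Set G)) (hD1 : ∀ d ∈ D, t₁ * d * t₁⁻¹ ∈ D) (hD2 : ∀ d ∈ D, t₂ * d * t₂⁻¹ ∈ D) (d e : G)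
    (hd : Gd D C₁ C₂ d) (he : Gd D C₁ C₂ e) : ∃ n ∈ normalizer (B : Set G), n * d * n⁻¹ = e := by
  have hz : z d ≠ 0 := fun k => hd.2.1 ((co.z_ker d hd.1).1 k)
  have hz' : z' d ≠ 0 := fun k => hd.2.2 ((co.z'_ker d hd.1).1 k)
  have hze : z e ≠ 0 := fun k => he.2.1 ((co.z_ker e he.1).1 k)
  have hze' : z' e ≠ 0 := fun k => he.2.2 ((co.z'_ker e he.1).1 k)
  obtain ⟨m, hm⟩ := co.gen₁ (z e / z d) (div_ne_zero hze hz)
  obtain ⟨n, hn⟩ := co.gen₂ (z' e / z' d) (div_ne_zero hze' hz')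
  have k1 : ∀ k : ℕ, ∀ d ∈ D, t₁ ^ k * d * (t₁ ^ k)⁻¹ ∈ D ∧ z (t₁ ^ k * d * (t₁ ^ k)⁻¹) = ω₁ ^ k * z d ∧
      z' (t₁ ^ k * d * (t₁ ^ k)⁻¹) = z' d := by
    intro k
    induction k with
    | zero => intro d hd; simpa using hd
    | succ k ih =>
      intro d hd
      obtain ⟨i1, i2, i3⟩ := ih d hd
      have e : t₁ ^ (k + 1) * d * (t₁ ^ (k + 1))⁻¹ = t₁ * (t₁ ^ k * d * (t₁ ^ k)⁻¹) * t₁⁻¹ := by
        rw [pow_succ']; group
      rw [e]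
      exact ⟨hD1 _ i1, by rw [co.t₁z _ i1, i2, pow_succ']; ring, by rw [co.t₁z' _ i1, i3]⟩
  have k2 : ∀ k : ℕ, ∀ d ∈ D, t₂ ^ k * d * (t₂ ^ k)⁻¹ ∈ D ∧ z' (t₂ ^ k * d * (t₂ ^ k)⁻¹) = ω₂ ^ k * z' d ∧
      z (t₂ ^ k * d * (t₂ ^ k)⁻¹) = z d := by
    intro k
    induction k with
    | zero => intro d hd; simpa using hd
    | succ k ih =>
      intro d hd
      obtain ⟨i1, i2, i3⟩ := ih d hd
      have e : t₂ ^ (k + 1) * d * (t₂ ^ (k + 1))⁻¹ = t₂ * (t₂ ^ k * d * (t₂ ^ k)⁻¹) * t₂⁻¹ := by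
        rw [pow_succ']; group
      rw [e]
      exact ⟨hD2 _ i1, by rw [co.t₂z' _ i1, i2, pow_succ']; ring, by rw [co.t₂z _ i1, i3]⟩
  obtain ⟨a1, a2, a3⟩ := k1 m d hd.1
  obtain ⟨b1, b2, b3⟩ := k2 n _ a1
  refine ⟨t₂ ^ n * t₁ ^ m, mul_mem (pow_mem h2 n) (pow_mem h1 m), ?_⟩
  have e1 : t₂ ^ n * t₁ ^ m * d * (t₂ ^ n * t₁ ^ m)⁻¹ = t₂ ^ n * (t₁ ^ m * d * (t₁ ^ m)⁻¹) * (t₂ ^ n)⁻¹ := by group
  rw [e1]
  refine eq_of_coord co b1 he.1 ?_ ?_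
  · rw [b3, a2, ← hm, div_mul_cancel₀ _ hz]
  · rw [b2, a3, ← hn, div_mul_cancel₀ _ hz']

omit [Finite G] [Finite F] [CharP F 2] h in
theorem tr_l (co : LThree Q₁ Q₂ D x y z t₁ t₂ ω₁ ω₂) (hC1 : C₁ = ⊥) (h1 : t₁ ∈ normalizer (B : Set G))
    (hD1 : ∀ d ∈ D, t₁ * d * t₁⁻¹ ∈ D) (d e : G)
    (hd : Gd D C₁ C₂ d) (he : Gd D C₁ C₂ e) : ∃ n ∈ normalizer (B : Set G), n * d * n⁻¹ = e := by
  have hne : ∀ w, Gd D C₁ C₂ w → z w ≠ 0 := fun w hw k => hw.2.1 (by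
    rw [hC1, mem_bot]; exact co.z_inj w hw.1 k)
  obtain ⟨m, hm⟩ := co.gen₁ (z e / z d) (div_ne_zero (hne e he) (hne d hd))
  have k1 : ∀ k : ℕ, ∀ d ∈ D, t₁ ^ k * d * (t₁ ^ k)⁻¹ ∈ D ∧ z (t₁ ^ k * d * (t₁ ^ k)⁻¹) = ω₁ ^ k * z d := by
    intro k
    induction k with
    | zero => intro d hd; simpa using hd
    | succ k ih =>
      intro d hd
      obtain ⟨i1, i2⟩ := ih d hd
      have e : t₁ ^ (k + 1) * d * (t₁ ^ (k + 1))⁻¹ = t₁ * (t₁ ^ k * d * (t₁ ^ k)⁻¹) * t₁⁻¹ := by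
        rw [pow_succ']; group
      rw [e]
      exact ⟨hD1 _ i1, by rw [co.t₁z _ i1, i2, pow_succ']; ring⟩
  obtain ⟨a1, a2⟩ := k1 m d hd.1
  refine ⟨t₁ ^ m, pow_mem h1 m, ?_⟩
  have h3 : t₁ ^ m * d * (t₁ ^ m)⁻¹ * e⁻¹ = 1 := co.z_inj _ (mul_mem a1 (inv_mem he.1)) (by
    rw [co.z_mul _ a1 _ (inv_mem he.1), FFOne.add_inv' co.z_mul he.1, a2, ← hm, div_mul_cancel₀ _ (hne d hd),
      add_neg_cancel])
  exact mul_inv_eq_one.1 h3

end

end Cfsg.Agent.Omega.SQ1.NodeA
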