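import Cfsg.Agent.Mrg.Omega.SQ1.MidEnd
import Cfsg.Agent.Mrg.Omega.SQ1.NodeA0
import Cfsg.Agent.Mrg.Omega.SQ1.NodeAFin


/-!
# SQ1, one natural summand, `q ≥ 4`: node (A) from `Mid`, and `Main.EndOne`

* `exists_co`: coordinates `FFOne.Co` of one side from `Mid`;
* `co_conj`: the other side;
* `trivial_D`: the hypothesis of `FFOne.five`;
* `nodeA`: every member of `L(S)` normalises `B` (`r(G) ≥ 5`), `endOne`: `Main.EndOne`.
-/

set_option autoImplicit false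
set_option linter.unusedSectionVars false
set_option linter.unusedVariables false

namespace Cfsg.Agent.Omega.SQ1.CoOf

open Subgroup Cfsg Cfsg.Agent.ZN Cfsg.Agent.ZN.ChoiceBase Cfsg.Agent.ZN.ChoiceSit Cfsg.Agent.Omega.MinPar
open Cfsg.Agent.Omega.SQ1.MidOne Cfsg.Agent.Lib.SL2Mat Cfsg.Agent.Omega.NatPair
open Cfsg.Agent.Omega.FFOne (cm Co)

universe u

variable {G : Type u} [Group G] {F : Type} [Field F]

/-- conjugation of the coordinates -/
theorem co_conj {Q₁ Q₂ D C P₁ P₂ E A : Subgroup G} {x y z : G → F} {t : G} {ω : F} (s : G)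
    (co : Co Q₁ Q₂ D C x y z t ω) (h1 : ∀ u, u ∈ P₁ ↔ s⁻¹ * u * s ∈ Q₁) (h2 : ∀ u, u ∈ P₂ ↔ s⁻¹ * u * s ∈ Q₂)
    (h3 : ∀ u, u ∈ E ↔ s⁻¹ * u * s ∈ D) (h4 : ∀ u, u ∈ A ↔ s⁻¹ * u * s ∈ C) :
    Co P₁ P₂ E A (fun u => x (s⁻¹ * u * s)) (fun u => y (s⁻¹ * u * s)) (fun u => z (s⁻¹ * u * s)) (s * t * s⁻¹)
      ω := by
  have hm : ∀ u v : G, s⁻¹ * (u * v) * s = (s⁻¹ * u * s) * (s⁻¹ * v * s) := fun u v => by group
  have hc : ∀ u : G, s⁻¹ * (s * t * s⁻¹ * u * (s * t * s⁻¹)⁻¹) * s = t * (s⁻¹ * u * s) * t⁻¹ := fun u => by group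
  have hb : ∀ u : G, s⁻¹ * (s * u * s⁻¹) * s = u := fun u => by group
  exact
    { CD := fun u hu => (h3 u).2 (co.CD ((h4 u).1 hu))
      x_mul := fun u hu v hv => by
        show x _ = x _ + x _
        rw [hm, co.x_mul _ ((h1 u).1 hu) _ ((h1 v).1 hv)]
      x_surj := fun a => by
        obtain ⟨u, hu, e⟩ := co.x_surj a
        exact ⟨s * u * s⁻¹, (h1 _).2 (by rwa [hb]), by show x _ = a; rw [hb, e]⟩
      x_ker := fun u hu => (co.x_ker _ ((h1 u).1 hu)).trans (h3 u).symm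
      y_mul := fun u hu v hv => by
        show y _ = y _ + y _
        rw [hm, co.y_mul _ ((h2 u).1 hu) _ ((h2 v).1 hv)]
      y_surj := fun a => by
        obtain ⟨u, hu, e⟩ := co.y_surj a
        exact ⟨s * u * s⁻¹, (h2 _).2 (by rwa [hb]), by show y _ = a; rw [hb, e]⟩
      y_ker := fun u hu => (co.y_ker _ ((h2 u).1 hu)).trans (h3 u).symm
      z_mul := fun u hu v hv => by
        show z _ = z _ + z _
        rw [hm, co.z_mul _ ((h3 u).1 hu) _ ((h3 v).1 hv)]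
      z_surj := fun a => by
        obtain ⟨u, hu, e⟩ := co.z_surj a
        exact ⟨s * u * s⁻¹, (h3 _).2 (by rwa [hb]), by show z _ = a; rw [hb, e]⟩
      z_ker := fun u hu => (co.z_ker _ ((h3 u).1 hu)).trans (h4 u).symm
      com := fun u hu v hv => by
        show z _ = x _ * y _
        rw [← co.com _ ((h1 u).1 hu) _ ((h2 v).1 hv)]
        congr 1
        simp only [cm]; group
      tQ₁ := fun u hu => (h1 _).2 (by rw [hc]; exact co.tQ₁ _ ((h1 u).1 hu))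
      tQ₂ := fun u hu => (h2 _).2 (by rw [hc]; exact co.tQ₂ _ ((h2 u).1 hu))
      tD := fun u hu => (h3 _).2 (by rw [hc]; exact co.tD _ ((h3 u).1 hu))
      tx := fun u hu => by
        show x _ = _ * x _
        rw [hc, co.tx _ ((h1 u).1 hu)]
      tz := fun u hu => by
        show z _ = _ * z _
        rw [hc, co.tz _ ((h3 u).1 hu)]
      tC := fun u hu => by
        have := co.tC _ ((h4 u).1 hu)
        have e : s * t * s⁻¹ * u * (s * t * s⁻¹)⁻¹ = s * (t * (s⁻¹ * u * s) * t⁻¹) * s⁻¹ := by group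
        rw [e, this]; group
      gen := co.gen
      ω0 := co.ω0
      ω1 := co.ω1 }

section

variable {H T B Y Z C L : Subgroup G} {s : G} [Finite G] [Finite F] [CharP F 2]

/-- elements normalising `B` and `Q₁` normalise `Q₂` -/
theorem norm_Q2 {S T B Q₁ Q₂ D C₁ C₂ : Subgroup G} {s : G} {q : ℕ} (h : End.Base S T B Q₁ Q₂ D C₁ C₂ s q) {g : G}
    (hB : ∀ b ∈ B, g * b * g⁻¹ ∈ B) (h1 : ∀ a ∈ Q₁, g * a * g⁻¹ ∈ Q₁) : ∀ b ∈ Q₂, g * b * g⁻¹ ∈ Q₂ := by
  have h2 : cj g Q₂ = Q₁ ∨ cj g Q₂ = Q₂ := by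
    apply h.eq_of_elem
    · rintro _ ⟨b, hb, rfl⟩
      exact h.TS (h.BT (hB b (h.Q2B hb)))
    · rintro _ ⟨b, hb, rfl⟩
      rw [← map_mul, h.sq2 b hb, map_one]
    · rw [card_cj, h.card12]
  rcases h2 with h2 | h2
  · exfalso
    obtain ⟨b, hb, hbD⟩ := h.exists_b
    apply hbD
    rw [h.memD]
    refine ⟨?_, hb⟩
    have h3 : g * b * g⁻¹ ∈ Q₁ := h2 ▸ ⟨b, hb, rfl⟩
    have h4 := End.inv_conj_mem h1 _ h3
    have e : g⁻¹ * (g * b * g⁻¹) * g = b := by group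
    rwa [e] at h4
  · intro b hb
    exact h2 ▸ ⟨b, hb, rfl⟩

/-- coordinates of the first side -/
theorem exists_co (M : Mid F H T B Y Z C L s) {S : Subgroup G}
    (h : End.Base S T B Y (cj s Y) Z C (cj s C) s (Nat.card F)) (hq : 4 ≤ Nat.card F) :
    ∃ (x y z : G → F) (t : G) (ω : F), t ∈ normalizer (B : Set G) ∧ Co Y (cj s Y) Z C x y z t ω := by
  classical
  have := Fintype.ofFinite F
  obtain ⟨ω, hω⟩ := IsCyclic.exists_generator (α := Fˣ)
  obtain ⟨l, hl, hA⟩ := M.liftL (dg (ω : F) ω.ne_zero)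
  have gen : ∀ a : F, a ≠ 0 → ∃ n : ℕ, a = (ω : F) ^ n := by
    intro a ha
    obtain ⟨n, hn⟩ := mem_powers_iff_mem_zpowers.2 (hω (Units.mk0 a ha))
    have := congrArg Units.val hn
    exact ⟨n, by simpa using this.symm⟩
  have ω1 : (ω : F) ≠ 1 := by
    intro h1
    have h2 : ∀ a : F, a = 0 ∨ a = 1 := by
      intro a
      by_cases ha : a = 0
      · exact Or.inl ha
      · obtain ⟨n, hn⟩ := gen a ha
        rw [h1, one_pow] at hn
        exact Or.inr hn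
    have h3 : (Finset.univ : Finset F) ⊆ {0, 1} := by
      intro a _
      rcases h2 a with h | h <;> simp [h]
    have h4 := Finset.card_le_card h3
    have h5 : ({0, 1} : Finset F).card ≤ 2 := Finset.card_le_two
    rw [Finset.card_univ, ← Nat.card_eq_fintype_card] at h4
    omega
  have hn : ∀ b ∈ B, l * b * l⁻¹ ∈ B := fun b hb => by
    have h1 := M.ind_conj hl (M.BL hb) hA (M.ind_β hb)
    have e : dg (ω : F) ω.ne_zero * up (M.β b) * (dg (ω : F) ω.ne_zero)⁻¹ = up ((ω : F) ^ 2 * M.β b) := by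
      rw [dg_up, mul_inv_cancel_right]
    rw [e] at h1
    exact M.mem_B_of_ind (mul_mem (mul_mem hl (M.BL hb)) (inv_mem hl)) h1
  have hY : ∀ a ∈ Y, l * a * l⁻¹ ∈ Y := fun a ha => M.LY hl ha
  have hx : ∀ u ∈ Y, M.π (l * u * l⁻¹) 1 = (ω : F)⁻¹ * M.π u 1 := by
    intro u hu
    rw [hA u hu, ap_one', dg_10, dg_11]; ring
  have hz : ∀ u ∈ Y, M.π (l * u * l⁻¹) 0 = (ω : F) * M.π u 0 := by
    intro u hu
    rw [hA u hu, ap_zero', dg_00, dg_01]; ring
  have hQB : ∀ v ∈ cj s Y, v ∈ B := fun v hv => M.cjYB hv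
  refine ⟨fun u => M.π u 1, fun v => - M.β v, fun d => M.π d 0, l, ω, End.mem_normalizer_of hn, ?_⟩
  exact
    { CD := M.CZ
      x_mul := fun u hu v hv => by
        show M.π (u * v) 1 = _
        rw [M.map_mul u hu v hv]; rfl
      x_surj := fun a => by
        obtain ⟨u, hu, e⟩ := M.surj ![0, a]
        exact ⟨u, hu, by show M.π u 1 = a; rw [e]; rfl⟩
      x_ker := fun u hu => (M.Zpi u hu).symm
      y_mul := fun u hu v hv => by
        show - M.β (u * v) = - M.β u + - M.β v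
        rw [M.β_mul (hQB u hu) (hQB v hv)]; ring
      y_surj := fun a => by
        obtain ⟨b, hb, e⟩ := M.β_surj (-a)
        obtain ⟨y₁, hy₁, y₂, hy₂, rfl⟩ := M.prod' b hb
        refine ⟨y₂, hy₂, ?_⟩
        show - M.β y₂ = a
        rw [M.β_mul (M.YB hy₁) (hQB y₂ hy₂), (M.β_zero_iff (M.YB hy₁)).2 hy₁, zero_add] at e
        rw [e]; ring
      y_ker := fun v hv => by
        show - M.β v = 0 ↔ v ∈ Z
        rw [neg_eq_zero, M.β_zero_iff (hQB v hv), M.mem_Z_iff]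
        exact ⟨fun h1 => ⟨h1, hv⟩, fun h1 => h1.1⟩
      z_mul := fun u hu v hv => by
        show M.π (u * v) 0 = _
        rw [M.map_mul u (M.ZY hu) v (M.ZY hv)]; rfl
      z_surj := fun a => by
        obtain ⟨u, hu, e⟩ := M.surj ![a, 0]
        exact ⟨u, M.π_mem_Z hu (by rw [e]; rfl), by show M.π u 0 = a; rw [e]; rfl⟩
      z_ker := fun u hu => by
        show M.π u 0 = 0 ↔ u ∈ C
        rw [← M.ker u (M.ZY hu)]
        constructor
        · intro h1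
          exact NatPair.ext2 h1 ((M.Zpi u (M.ZY hu)).1 hu)
        · intro h1
          rw [h1]; rfl
      com := fun u hu v hv => by
        show M.π (u * v * u⁻¹ * v⁻¹) 0 = M.π u 1 * - M.β v
        rw [M.comm_YB hu (hQB v hv)]
        show - (M.β v * M.π u 1) = _
        ring
      tQ₁ := hY
      tQ₂ := norm_Q2 h hn hY
      tD := fun d hd => M.π_mem_Z (hY d (M.ZY hd)) (by
        rw [hx d (M.ZY hd), (M.Zpi d (M.ZY hd)).1 hd, mul_zero])
      tx := hx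
      tz := fun d hd => hz d (M.ZY hd)
      tC := fun c hc => by
        rw [((M.cC c).1 hc).2 l hl, mul_inv_cancel_right]
      gen := gen
      ω0 := ω.ne_zero
      ω1 := ω1 }

/-- `N_G(B)` normalises `D` -/
theorem normB_D {S T B Q₁ Q₂ D C₁ C₂ : Subgroup G} {s : G} {q : ℕ} (h : End.Base S T B Q₁ Q₂ D C₁ C₂ s q) {g : G}
    (hB : ∀ b ∈ B, g * b * g⁻¹ ∈ B) {d : G} (hd : d ∈ D) : g * d * g⁻¹ ∈ D := by
  have hgB := hB d (h.DB hd)
  have hcen : ∀ b ∈ B, g * d * g⁻¹ * b = b * (g * d * g⁻¹) := by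
    intro b hb
    have h1 := End.inv_conj_mem hB _ hb
    have h2 := h.centD hd h1
    calc g * d * g⁻¹ * b = g * (d * (g⁻¹ * b * g)) * g⁻¹ := by group
      _ = g * (g⁻¹ * b * g * d) * g⁻¹ := by rw [h2]
      _ = b * (g * d * g⁻¹) := by group
  have hinv : g * d * g⁻¹ * (g * d * g⁻¹) = 1 := by
    have e : g * d * g⁻¹ * (g * d * g⁻¹) = g * (d * d) * g⁻¹ := by group
    rw [e, h.sqD hd]; group
  by_contra hcon
  have hone : ∀ a ∈ Q₁, a ∉ D → ∀ b ∈ Q₂, b ∉ D → a * b ≠ b * a := by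
    intro a ha haD b hb hbD e
    have h1 := h.good a ha haD b hb hbD
    apply h.good_ne h1
    rw [e]; group
  rcases h.inv_mem_or hgB hinv with h1 | h1
  · obtain ⟨b, hb, hbD⟩ := h.exists_b
    exact hone _ h1 hcon b hb hbD (hcen b (h.Q2B hb))
  · obtain ⟨a, ha, haD⟩ := h.exists_a
    exact hone a ha haD _ h1 hcon (hcen a (h.Q1B ha)).symm

/-- the hypothesis of `FFOne.five` -/
theorem trivial_D (M : Mid F H T B Y Z C L s) {S : Sylow 2 G}
    (h : End.Base (S : Subgroup G) T B Y (cj s Y) Z C (cj s C) s (Nat.card F)) (r : G)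
    (r1 : ∀ u ∈ Y, r * u * r⁻¹ * u⁻¹ ∈ Z) (r2 : ∀ v ∈ cj s Y, r * v * r⁻¹ * v⁻¹ ∈ Z)
    (r3 : ∀ d ∈ Z, ∃ u ∈ Y, ∃ v ∈ cj s Y, r * d * r⁻¹ * d⁻¹ = cm u v)
    (r4 : ∀ u ∈ Y, ∀ v ∈ cj s Y, r * cm u v * r⁻¹ = cm u v) : ∀ d ∈ Z, r * d * r⁻¹ = d := by
  have hp : Fact (Nat.Prime 2) := ⟨Nat.prime_two⟩
  -- `r` is trivial on `B / D`
  have r5 : ∀ b ∈ B, r * b * r⁻¹ * b⁻¹ ∈ Z := by
    intro b hb
    obtain ⟨u, hu, v, hv, rfl⟩ := h.prod b hb
    have e : r * (u * v) * r⁻¹ * (u * v)⁻¹ = (r * u * r⁻¹ * u⁻¹) * (u * (r * v * r⁻¹ * v⁻¹) * u⁻¹) := by group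
    rw [e]
    refine mul_mem (r1 u hu) ?_
    rw [← h.centD (r2 v hv) (h.Q1B hu), mul_inv_cancel_right]
    exact r2 v hv
  -- the group of all elements trivial on `B / D`
  have key : ∀ x ∈ (S : Subgroup G), (∀ b ∈ B, x * b * x⁻¹ * b⁻¹ ∈ Z) → x ∈ B := by
    intro x hxS hx
    have hxT : x ∈ T := by
      apply h.memT x hxS
      intro a ha
      have h1 := mul_mem (M.ZY (hx a (h.Q1B ha))) ha
      rwa [inv_mul_cancel_right] at h1
    obtain ⟨σ, a, d, hw⟩ := M.exists_tw hxT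
    have hd : ∀ c : F, d * σ c = c := by
      intro c
      obtain ⟨u, hu, e⟩ := M.surj ![0, c]
      have h1 := hx u (M.YB hu)
      have h2 := M.TY hxT hu
      have h3 := (M.Zpi _ (mul_mem h2 (inv_mem hu))).1 h1
      rw [M.map_mul _ h2 _ (inv_mem hu), M.map_inv hu, Pi.add_apply, Pi.neg_apply, hw.one u hu, e] at h3
      have h4 : d * σ c + - c = 0 := h3
      linear_combination h4
    have hd1 := hd 1
    rw [map_one, mul_one] at hd1
    subst hd1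
    have hσ : σ = RingEquiv.refl F := by
      ext c
      have := hd c
      rw [one_mul] at this
      exact this
    subst hσ
    exact M.mem_B hxT hw
  -- the 2-part of `r`
  obtain ⟨k, m, hm, hrm⟩ := Nat.exists_eq_two_pow_mul_odd (n := orderOf r) (orderOf_pos r).ne'
  have hr2 : ∀ d ∈ Z, r * (r * d * r⁻¹) * r⁻¹ = d := by
    intro d hd
    obtain ⟨u, hu, v, hv, e⟩ := r3 d hd
    have h1 : r * d * r⁻¹ = cm u v * d := by rw [← e]; group
    have hcD : cm u v ∈ Z := h.comm12 hu hv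
    have h2 : r * (cm u v * d) * r⁻¹ = (r * cm u v * r⁻¹) * (r * d * r⁻¹) := by group
    rw [h1, h2, r4 u hu v hv, h1, ← mul_assoc, h.sqD hcD, one_mul]
  have hrpow : ∀ n : ℕ, (∀ b ∈ B, r ^ n * b * (r ^ n)⁻¹ * b⁻¹ ∈ Z) := by
    have hrZ : ∀ d ∈ Z, r * d * r⁻¹ ∈ Z := fun d hd => by
      have h1 := mul_mem (r5 d (h.DB hd)) hd
      rwa [inv_mul_cancel_right] at h1
    intro n
    induction n with
    | zero => intro b hb; simp
    | succ n ih =>
      intro b hb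
      have e : r ^ (n + 1) * b * (r ^ (n + 1))⁻¹ * b⁻¹ =
          (r * (r ^ n * b * (r ^ n)⁻¹ * b⁻¹) * r⁻¹) * (r * b * r⁻¹ * b⁻¹) := by
        rw [pow_succ']; group
      rw [e]
      exact mul_mem (hrZ _ (ih b hb)) (r5 b hb)
  have hodd : ∀ j : ℕ, ∀ d ∈ Z, r ^ (2 * j + 1) * d * (r ^ (2 * j + 1))⁻¹ = r * d * r⁻¹ := by
    intro j
    induction j with
    | zero => intro d hd; simp
    | succ j ih =>
      intro d hd
      have hd' : r * (r * d * r⁻¹) * r⁻¹ = d := hr2 d hd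
      have e : r ^ (2 * (j + 1) + 1) * d * (r ^ (2 * (j + 1) + 1))⁻¹ =
          r ^ (2 * j + 1) * (r * (r * d * r⁻¹) * r⁻¹) * (r ^ (2 * j + 1))⁻¹ := by
        rw [show 2 * (j + 1) + 1 = (2 * j + 1) + 1 + 1 by ring, pow_succ, pow_succ]; group
      rw [e, hd', ih d hd]
  obtain ⟨j, hj⟩ := hm
  set g := r ^ m with hg
  have hg2 : IsPGroup 2 (zpowers g) := by
    rw [IsPGroup.iff_card]
    refine ⟨k, ?_⟩
    rw [Nat.card_zpowers, hg, orderOf_pow, hrm, Nat.gcd_eq_right (Dvd.intro_left _ rfl)]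
    exact Nat.mul_div_cancel _ (by omega)
  have hgB : ∀ b ∈ B, g * b * g⁻¹ ∈ B := fun b hb => by
    have h1 := mul_mem (h.DB (hrpow m b hb)) hb
    rwa [inv_mul_cancel_right] at h1
  have hgN : zpowers g ≤ normalizer (B : Set G) := zpowers_le.2 (End.mem_normalizer_of hgB)
  -- conjugate `g` into `S`
  have hSN : (S : Subgroup G) ≤ normalizer (B : Set G) := fun x hx =>
    End.mem_normalizer_of fun b hb => h.S_B hx hb
  obtain ⟨P, hP, hgP⟩ := exists_syl hg2 hgN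
  obtain ⟨w, hw, hwP⟩ := syl_conj hP (⟨hSN, S.isPGroup', fun Q _ hQ2 hQ => S.is_maximal' hQ2 hQ⟩ :
    Syl (S : Subgroup G) (normalizer (B : Set G)))
  have hwS : w * g * w⁻¹ ∈ (S : Subgroup G) := by
    rw [← hwP]
    exact ⟨g, hgP (mem_zpowers g), rfl⟩
  have hwB : ∀ b ∈ B, w * b * w⁻¹ ∈ B := fun b hb => (mem_normalizer_iff.1 hw b).1 hb
  have h1 : w * g * w⁻¹ ∈ B := by
    apply key _ hwS
    intro b hb
    have h2 := End.inv_conj_mem hwB _ hb
    have h3 := normB_D h hwB (hrpow m _ h2)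
    have e : w * (r ^ m * (w⁻¹ * b * w) * (r ^ m)⁻¹ * (w⁻¹ * b * w)⁻¹) * w⁻¹ =
        w * g * w⁻¹ * b * (w * g * w⁻¹)⁻¹ * b⁻¹ := by rw [hg]; group
    rwa [e] at h3
  intro d hd
  rw [← hodd j d hd, ← hj, ← hg]
  have h2 := normB_D h hwB hd
  have h3 := h.centD h2 h1
  calc g * d * g⁻¹ = w⁻¹ * (w * g * w⁻¹ * (w * d * w⁻¹)) * (w * g⁻¹) := by group
    _ = w⁻¹ * (w * d * w⁻¹ * (w * g * w⁻¹)) * (w * g⁻¹) := by rw [h3]
    _ = d := by group

end

/-- **Node (A).** -/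
theorem nodeA : EndOneOf.NodeA.{u} := by
  intro G _ _ _ hc hr F _ _ _ S H T B Y Z C L s M hTS hs hNS hF X hX
  have h := M.base S.isPGroup' hTS hs hNS hF
  have hD : normalizer (Z : Set G) ≤ normalizer (B : Set G) := NodeA.normD_le hc h
  obtain ⟨x, y, z, t, ω, htB, co₁⟩ := exists_co M h hF
  have hmem : ∀ (A : Subgroup G) (u : G), u ∈ cj s A ↔ s⁻¹ * u * s ∈ A := fun A u => mem_cj
  have hY2 : ∀ u, u ∈ Y ↔ s⁻¹ * u * s ∈ cj s Y := by
    intro u
    constructor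
    · exact fun hu => M.sY1' hu
    · intro hu
      have h1 := M.sY2 hu
      have e : s * (s⁻¹ * u * s) * s⁻¹ = u := by group
      rwa [e] at h1
  have hZ2 : ∀ u, u ∈ Z ↔ s⁻¹ * u * s ∈ Z := by
    intro u
    rw [← hmem, M.cjZ]
  have co₂ := co_conj s co₁ (hmem Y) hY2 hZ2 (hmem C)
  rcases FFOne.five (TyL.toBase h) co₁ co₂ h.C12 (trivial_D M h) with ⟨hC1, hC2, ω', co⟩ | ⟨z', ω', co⟩
  · rcases Nat.lt_or_ge 4 (Nat.card F) with h4 | h4
    · exact NodeA.l_le h co hC1 h4 hc hD hX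
    · exfalso
      apply hr
      have h5 : Nat.card F = 4 := le_antisymm h4 hF
      rw [h5] at h
      refine RankFourOf.rank_four_of_sylow h ?_
      have h6 := h.cardC1
      rwa [hC1, Subgroup.card_bot, mul_one] at h6
  · exact NodeA.sp_le h co hc hD hX

/-- **`Main.EndOne`.** -/
theorem endOne : Main.EndOne.{u} := EndOneOf.endOne_of nodeA

end Cfsg.Agent.Omega.SQ1.CoOf
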