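import Cfsg.Agent.Mrg.Omega.SQ1.BauKL
import Cfsg.Agent.Omega.PushUp.Last
import Cfsg.Agent.Mrg.Omega.SQ1.BauL
import Cfsg.Agent.Mrg.Omega.SQ1.Choice

section


/-!
# SQ1.3: the Baumann blocks satisfy the hypotheses of the pushing up theorem

`Bau.Blk.dat`: one summand.  `BauK.BlkK.dat`: several summands.
-/

set_option autoImplicit false

namespace Cfsg.Agent.Omega.SQ1

open Subgroup Cfsg Cfsg.Agent.PLocal.ThompsonJ Cfsg.Agent.ZN Cfsg.Agent.ZN.ChoiceBase
open Cfsg.Agent.PLocal.ElemAbSup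
open scoped Pointwise commutatorElement

universe u

variable {G : Type u} [Group G]

theorem relIndex_eq_of_card [Finite G] {K L : Subgroup G} {q : ℕ} (hKL : K ≤ L)
    (h : Nat.card L = Nat.card K * q) : K.relIndex L = q := by
  have h1 := Subgroup.card_mul_index (K.subgroupOf L)
  have h2 : Nat.card (K.subgroupOf L) = Nat.card K :=
    Nat.card_congr (Subgroup.subgroupOfEquivOfLe hKL).toEquiv
  rw [h2, h] at h1
  exact Nat.eq_of_mul_eq_mul_left Nat.card_pos h1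

namespace Bau

open In (Y Z_le_Y V_le_Y)

variable {H T Q V V1 V0 L : Subgroup G} {q : ℕ}

theorem In.Y_le_star (h : In H T Q V V1 V0 q) [Finite G] : Y T V ≤ bau T ⊓ Q := fun y hy =>
  h.mem_star_iff.2 ⟨h.QT (h.Y_le_Q hy), fun y' hy' => elem_comm h.Y_elem y hy y' hy'⟩

theorem In.bau_sq (h : In H T Q V V1 V0 q) [Finite G] {b : G} (hb : b ∈ bau T) :
    b * b ∈ bau T ⊓ Q := by
  obtain ⟨A, hA, hAQ⟩ := h.exists_off
  obtain ⟨a, ha, x, hx, rfl⟩ := h.bau_eq hA hAQ hb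
  have haa : a * a = 1 := by have := elem_sq hA.1 a ha; rwa [pow_two] at this
  have h1 := h.star_norm a (h.TH (hA.2.1 ha)) x hx
  have e : a * x * (a * x) = (a * x * a⁻¹) * (a * a) * x := by group
  rw [e, haa, mul_one]
  exact mul_mem h1 hx

theorem Blk.mv_iff' (k : Blk H T V1 L) (h : In H T Q V V1 V0 q) [Finite G] {l : G} (hl : l ∈ L) :
    Omega.PushUp.Mv (DD T V) (zj T) l ↔ Mv V1 l := by
  rw [h.mv_iff (k.LH hl)]
  exact Iff.rfl

/-- The pushing up data for one summand. -/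
theorem Blk.dat (k : Blk H T V1 L) (h : In H T Q V V1 V0 q) [Finite G] {A : Subgroup G}
    (hTA : T ≤ A) (hAT : A ≤ normalizer (T : Set G))
    (idx : ∀ a ∈ A, ∀ b ∈ A, a ∉ T → b ∉ T → a⁻¹ * b ∈ T)
    (hcore : ∀ R : Subgroup G, R ≤ T → (∀ x ∈ H, ∀ r ∈ R, x * r * x⁻¹ ∈ R) →
      (∀ a ∈ A, ∀ r ∈ R, a * r * a⁻¹ ∈ R) → R = ⊥) :
    Omega.PushUp.Dat A T L (bau T) (bau T ⊓ Q) (Y T V) (zj T) (DD T V) where
  TA := hTA
  idx := idx
  BT := bau_le T
  BL := k.BL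
  QB := inf_le_left
  VQ := h.Y_le_star
  ZV := Z_le_Y T V
  DZ := h.D_le_Z
  AnB a ha b hb := In.norm_bau hAT ha hb
  AnZ a ha b hb := In.norm_zj hAT ha hb
  LnQ := k.norm_star h
  LnV := k.norm_Y h
  BcZ b hb y hy := ((mem_bau.1 hb).2 y hy).symm
  Vsq v hv := by have := elem_sq h.Y_elem v hv; rwa [pow_two] at this
  QcV b hb hc := h.mem_star_iff.2 ⟨bau_le T hb, hc⟩
  VcQ x hx v hv := (h.mem_star_iff.1 hx).2 v hv
  Bsq b hb := h.bau_sq hb
  comm v hv b hb := by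
    rw [← h.comm_Y]
    exact commutator_mem_commutator hv hb
  Dgen := by
    rw [DD, commutator_le]
    exact fun v hv b hb => subset_closure ⟨v, V_le_Y T V hv, b, hb, rfl⟩
  ncomm v hv hvZ b hb hbQ hc := hvZ (h.cent_Y hb (fun h1 => hbQ ⟨hb, h1⟩) hv hc.symm)
  card := by
    rw [relIndex_eq_of_card inf_le_left h.card_bau, relIndex_eq_of_card (Z_le_Y T V) h.card_Y]
  gen l hl hm K hK hx := k.gen h hl ((k.mv_iff' h hl).1 hm) hK hx
  moves := by
    obtain ⟨l, hl, hm⟩ := k.mv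
    exact ⟨l, hl, (k.mv_iff' h hl).2 hm⟩
  mvinv l hl hm := (k.mv_iff' h (inv_mem hl)).2 (mv_inv.2 ((k.mv_iff' h hl).1 hm))
  side t ht l hl v hv := mem_sup_left (k.norm_Y h l hl _ (h.Y_norm t (h.TH ht) v hv))
  indep t ht _ v hv := h.Y_norm t (h.TH ht) v hv
  ti l hl hm b hb hbQ := by
    have h1 := h.bau_mv (k.LH (inv_mem hl)) (mv_inv.2 ((k.mv_iff' h hl).1 hm)) hb
      (fun h1 => hbQ ⟨hb, h1⟩)
    rw [inv_inv] at h1
    exact (k.mv_iff' h (mul_mem (mul_mem (inv_mem hl) (k.BL hb)) hl)).2 h1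
  core R hR hL hA := k.core h hTA hcore (hR.trans (bau_le T)) hL hA

end Bau

namespace BauK

open InK (St VL QL mem_QL mem_St comm_iff not_QL)
open BlkK (DK)
open Cfsg.Agent.Omega.SQ1.Bau (elem_comm elem_sq Mv mv_inv)

variable {H T Q V V0 L : Subgroup G} {ι : Type} {N E : ι → Subgroup G} {q : ℕ} {i : ι}

theorem BlkK.mv_iff' (k : BlkK H T V N i L) (h : InK H T Q V V0 N E q) [Finite G] {l : G}
    (hl : l ∈ L) : Omega.PushUp.Mv (DK T (N i)) (zj T) l ↔ Mv (V1 T V ⊓ N i) l := by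
  rw [k.mv_iff h hl]
  exact Iff.rfl

/-- The pushing up data for a summand. -/
theorem BlkK.dat (k : BlkK H T V N i L) (h : InK H T Q V V0 N E q) [Finite G] {A : Subgroup G}
    (hTA : T ≤ A) (hAT : A ≤ normalizer (T : Set G))
    (idx : ∀ a ∈ A, ∀ b ∈ A, a ∉ T → b ∉ T → a⁻¹ * b ∈ T)
    (hcore : ∀ R : Subgroup G, R ≤ T → (∀ x ∈ H, ∀ r ∈ R, x * r * x⁻¹ ∈ R) →
      (∀ a ∈ A, ∀ r ∈ R, a * r * a⁻¹ ∈ R) → R = ⊥) :
    Omega.PushUp.Dat A T L (bau T) (QL T (N i)) (VL T (N i)) (zj T) (DK T (N i)) where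
  TA := hTA
  idx := idx
  BT := bau_le T
  BL := k.BL
  QB := inf_le_left
  VQ := h.VL_le_QL i
  ZV := le_sup_left
  DZ := BlkK.D_le_Z h i
  AnB a ha b hb := Bau.In.norm_bau hAT ha hb
  AnZ a ha b hb := Bau.In.norm_zj hAT ha hb
  LnQ := k.QL_norm h
  LnV := k.VL_norm h
  BcZ b hb y hy := ((mem_bau.1 hb).2 y hy).symm
  Vsq v hv := by have := elem_sq (h.VL_elem i) v hv; rwa [pow_two] at this
  QcV b hb hc := h.mem_QL_iff.2 ⟨hb, hc⟩
  VcQ x hx v hv := (h.mem_QL_iff.1 hx).2 v hv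
  Bsq b hb := h.bau_sq hb
  comm v hv b hb := commutator_mem_commutator hv hb
  Dgen := by
    rw [DK, commutator_le]
    exact fun v hv b hb => subset_closure ⟨v, hv, b, hb, rfl⟩
  ncomm v hv hvZ b hb hbQ hc := hvZ (h.cent_VL hb hbQ hv hc.symm)
  card := by
    rw [relIndex_eq_of_card (K := QL T (N i)) inf_le_left (h.card_bau i),
      relIndex_eq_of_card (K := zj T) (L := VL T (N i)) le_sup_left (h.card_VL i)]
  gen l hl hm K hK hx := k.gen h hl ((k.mv_iff' h hl).1 hm) hK hx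
  moves := by
    obtain ⟨l, hl, hm⟩ := k.mv
    exact ⟨l, hl, (k.mv_iff' h hl).2 hm⟩
  mvinv l hl hm := (k.mv_iff' h (inv_mem hl)).2 (mv_inv.2 ((k.mv_iff' h hl).1 hm))
  side t ht l hl v hv := k.side h ht hl hv
  indep t ht hD v hv := by
    have h1 : cj t (VL T (N i)) = VL T (N i) := BlkK.indep h ht (by
      rintro _ ⟨d, hd, rfl⟩
      exact hD d hd)
    rw [← h1]
    exact ⟨v, hv, rfl⟩
  ti l hl hm b hb hbQ := by
    have h1 := h.bau_moves (k.LS h (inv_mem hl)) (mv_inv.2 ((k.mv_iff' h hl).1 hm)) hb hbQ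
    rw [inv_inv] at h1
    exact (k.mv_iff' h (mul_mem (mul_mem (inv_mem hl) (k.BL hb)) hl)).2 h1
  core R hR hL hA := k.core h hTA hcore (hR.trans (bau_le T)) hL hA

end BauK

end Cfsg.Agent.Omega.SQ1

end

section


/-!
# SQ1, one block: from the choice of `T`, `H`, `s` and the Baumann data to `b = 1`

`MinH.of_config`, `Sit.of_config` (pushing up: `PushUp.Dat.exists_noncommuting`), `LSit.of_config`.
-/

set_option autoImplicit false
set_option linter.unusedSectionVars false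

namespace Cfsg.Agent.Omega.SQ1.SitOf

open Subgroup Cfsg Cfsg.Agent.PLocal.ThompsonJ Cfsg.Agent.ZN Cfsg.Agent.ZN.ChoiceBase
open Cfsg.Agent.ZN.ChoiceSit
open Cfsg.Agent.PLocal.ElemAbSup
open Cfsg.Agent.Omega.SQ1.Bau
open Cfsg.Agent.Omega.SQ1.Bau.In (Y Z_le_Y V_le_Y)
open Cfsg.Agent.Omega.SQ1.FFOne Cfsg.Agent.Omega.SQ1.MatchOne Cfsg.Agent.Omega.SQ1.MatchL
open Cfsg.Agent.Omega.SQ1.Choice (Config)
open scoped Pointwise

universe u

variable {G : Type u} [Group G]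

/-- the elements of `T⟨s⟩` -/
theorem mem_A {T : Subgroup G} {s : G} (sN : s ∈ normalizer (T : Set G)) (sq : s * s ∈ T) {a : G}
    (ha : a ∈ T ⊔ zpowers s) : a ∈ T ∨ s⁻¹ * a ∈ T := by
  have hle : zpowers s ≤ normalizer (T : Set G) := zpowers_le.2 sN
  have h1 : a ∈ (T : Set G) * (zpowers s : Set G) := by
    rw [← Subgroup.coe_mul_of_right_le_normalizer_left _ _ hle]; exact ha
  obtain ⟨t, ht, x, hx, rfl⟩ := Set.mem_mul.1 h1
  obtain ⟨k, rfl⟩ := mem_zpowers_iff.1 hx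
  have hev : ∀ m : ℤ, s ^ (2 * m) ∈ T := by
    intro m
    rw [zpow_mul]
    refine zpow_mem ?_ m
    have e : s ^ (2 : ℤ) = s * s := by
      rw [show (2 : ℤ) = ((2 : ℕ) : ℤ) from rfl, zpow_natCast, pow_two]
    rw [e]
    exact sq
  rcases Int.even_or_odd' k with ⟨m, rfl | rfl⟩
  · left
    exact mul_mem ht (hev m)
  · right
    have h2 : s⁻¹ * t * s ∈ T := by
      have := (mem_normalizer_iff.1 (inv_mem sN) t).1 ht
      rwa [inv_inv] at this
    have e : s⁻¹ * (t * s ^ (2 * m + 1)) = (s⁻¹ * t * s) * s ^ (2 * m) := by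
      rw [add_comm (2 * m) 1, zpow_add, zpow_one]; group
    rw [e]
    exact mul_mem h2 (hev m)

theorem MinH.of_config {M₀ T H : Subgroup G} {s : G} (c : Config M₀ T H s) : MinH H T where
  syl := c.syl
  uniq := ⟨M₀, c.notM, fun X hTX hXH hne => c.min X hTX (lt_of_le_of_ne hXH hne)⟩
  self_cent := c.self_cent

variable {M₀ H T V V1 V0 : Subgroup G} {q : ℕ} {s : G}

/-- `CORE` from the choice -/
theorem core_of_config (c : Config M₀ T H s) [Finite G] (R : Subgroup G) (hRT : R ≤ T)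
    (hH : ∀ x ∈ H, ∀ r ∈ R, x * r * x⁻¹ ∈ R) (hs : ∀ r ∈ R, s * r * s⁻¹ ∈ R) : R = ⊥ := by
  by_contra hne
  apply c.notM
  refine le_trans ?_ (c.core R (c.two.to_le hRT) hne ?_ ?_)
  · exact fun x hx => mem_norm_of (hH x hx)
  · exact fun x hx => mem_norm_of (hH x (c.syl.1 hx))
  · exact mem_norm_of hs

/-- **`b = 1` for one block.** -/
theorem Sit.of_config (c : Config M₀ T H s) [Finite G] (h : In H T (o2 H) V V1 V0 q) :
    Sit H T (o2 H) V V1 V0 q s where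
  dd := h
  two := c.two
  sN := c.sN
  sq := c.sq
  core := core_of_config c
  nc := by
    obtain ⟨L, k⟩ := h.exists_blk
    have hTA : T ≤ T ⊔ zpowers s := le_sup_left
    have hAT : T ⊔ zpowers s ≤ normalizer (T : Set G) := sup_le le_normalizer (zpowers_le.2 c.sN)
    have idx : ∀ a ∈ T ⊔ zpowers s, ∀ b ∈ T ⊔ zpowers s, a ∉ T → b ∉ T → a⁻¹ * b ∈ T := by
      intro a ha b hb haT hbT
      have h1 := (mem_A c.sN c.sq ha).resolve_left haT
      have h2 := (mem_A c.sN c.sq hb).resolve_left hbT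
      have h3 := mul_mem (inv_mem h1) h2
      have e : (s⁻¹ * a)⁻¹ * (s⁻¹ * b) = a⁻¹ * b := by group
      rwa [e] at h3
    have hd := k.dat h hTA hAT idx (fun R hR hH hA =>
      core_of_config c R hR hH (hA s (mem_sup_right (mem_zpowers s))))
    obtain ⟨t, ht, v, hv, u, hu, hne⟩ := hd.exists_noncommuting
    have htT : t ∉ T := by
      intro htT
      apply hne
      exact elem_comm h.Y_elem v hv _ (h.Y_norm t (h.TH htT) u hu)
    have h1 := (mem_A c.sN c.sq ht).resolve_left htT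
    refine ⟨v, hv, (s⁻¹ * t) * u * (s⁻¹ * t)⁻¹, h.Y_norm _ (h.TH h1) u hu, ?_⟩
    have e : s * ((s⁻¹ * t) * u * (s⁻¹ * t)⁻¹) * s⁻¹ = t * u * t⁻¹ := by group
    rw [e]
    exact hne

/-- the input of `MatchL` from the choice and the FF-theorem -/
theorem LSit.of_config {F : Type*} [Field F] [Finite F] [CharP F 2] [Finite G] (c : Config M₀ T H s)
    (M : FF F H T V V0) : LSit M s where
  hm := MinH.of_config c
  sit := Sit.of_config c (M.toIn (MinH.of_config c))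

end Cfsg.Agent.Omega.SQ1.SitOf

end
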