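import Cfsg.Agent.Omega.SQ1.LocTwo
import Cfsg.Agent.Omega.SQ1.NoTwist
import Cfsg.Agent.Mrg.Omega.SQ1.FFKNat
import Cfsg.Agent.Omega.SQ1.Match
import Cfsg.Agent.Mrg.Omega.SQ1.Choice
import Cfsg.Agent.Mrg.Omega.SQ1.BauMin
import Cfsg.Agent.Mrg.Omega.SQ1.Main
import Mathlib

section


/-!
# SQ1: there is only one block if `q ≥ 4`

`MIn` (blocks and matching, any number of blocks) in a group of characteristic 2 type; if there are
two different blocks, the killing lemma `Kill.Data.false` gives a contradiction.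
No tori, no structure of `SL₂(q)`.  (bb OMEGA #12483.)
-/

set_option autoImplicit false

namespace Cfsg.Agent.Omega.SQ1.Block

open Cfsg.Agent.MinSimple.PushUp Cfsg.Agent.Omega.PushUp Cfsg.Agent.Omega.SQ1.Match
open Cfsg.Agent.Omega.SQ1.BlockO Subgroup
open Cfsg.Agent.Omega.SQ1.Kill (bh mem_bh)
open scoped Pointwise

variable {G : Type*} [Group G] {ι : Type*}
variable {A T B Z P : Subgroup G} {s : G} {L Q V D : ι → Subgroup G}

theorem Dm_inv_Dm (g : G) (H : Subgroup G) : Dm (Dm H g) g⁻¹ = H := by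
  ext x
  rw [mem_Dm, mem_Dm, inv_inv, cj_inv_cj]

theorem norm_Dm {H : Subgroup G} {x g : G} (h : x ∈ normalizer (H : Set G)) :
    cj g x ∈ normalizer ((Dm H g : Subgroup G) : Set G) := by
  rw [mem_normalizer_iff] at h ⊢
  intro y
  rw [mem_Dm, mem_Dm, h (cj g⁻¹ y)]
  have e : cj g⁻¹ (cj g x * y * (cj g x)⁻¹) = x * cj g⁻¹ y * x⁻¹ := by simp [cj, mul_assoc]
  rw [e]

theorem norm_Dm' {H : Subgroup G} {x g : G} (h : cj g⁻¹ x ∈ normalizer (H : Set G)) :
    x ∈ normalizer ((Dm H g : Subgroup G) : Set G) := by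
  have := norm_Dm (g := g) h
  rwa [cj_cj_inv] at this

/-- the hypotheses on 2-groups normalising `P` -/
def JCond (B Z P : Subgroup G) : Prop :=
  ∀ R : Subgroup G, IsPGroup 2 R → B ≤ R → R ≤ normalizer (P : Set G) →
    R ≤ normalizer (B : Set G) ∧ normalizer (R : Set G) ≤ normalizer (B : Set G) ∧
      ∀ r ∈ R, (∀ z ∈ Z, r * z = z * r) → r ∈ B

section

variable (h : MIn A T B Z P s L Q V D)
  (hZ : ∀ x ∈ B, x * x = 1 → (∀ b ∈ B, x * b = b * x) → x ∈ Z)
  (hB2 : IsPGroup 2 B) (hself : centralizer (P : Set G) ≤ P) (hJC : JCond B Z P)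
  (hbig : ∀ i, ∃ v ∈ V i, ∃ w ∈ V i, v ∉ Z ∧ w ∉ Z ∧ v * w ∉ Z)

include h

theorem P_le_B : P ≤ B := fun x hx => ((h.Pmem x).1 hx).1

include hZ hbig

theorem noTwist [Finite G] [Finite ι] (i₀ : ι) :
    NoTwist.In B Z P V D (fun i => centralizer (L i : Set G)) where
  QB := P_le_B h
  Qsq := fun v hv => h.Psq i₀ hv
  Qab := fun v hv w hw => h.Pcomm i₀ hv hw
  BnQ := fun b hb v hv => h.LP i₀ b ((h.dat i₀).BL hb) v hv
  ZV := fun i => (h.dat i).ZV
  VQ := fun i v hv => h.VP hv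
  Qgen := (h.P_eq i₀ hZ).le
  QcV := fun b hb hc => (h.Pmem b).2 ⟨hb, fun i => (h.dat i).QcV b hb (hc i)⟩
  DZ := fun i => (h.dat i).DZ
  BcZ := (h.dat i₀).BcZ
  nc := by
    intro i v hv hvZ b hb hc w hw
    by_cases hbQ : b ∈ Q i
    · exact (h.dat i).VcQ b hbQ w hw
    · exact absurd hc.symm ((h.dat i).ncomm v hv hvZ b hb hbQ)
  star := by
    intro i v hv hvZ b hb hc w hw
    refine (h.dat i).VcQ b (star (h.dat i) hv hvZ hb fun y hy => ?_) w hw
    exact mem_centralizer_iff.1 hc y hy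
  comm := fun i v hv b hb => (h.dat i).comm v hv b hb
  DF := by
    intro i j hij d hd
    rw [mem_centralizer_iff]
    intro l hl
    exact h.cross j i (Ne.symm hij) l hl d hd
  big := hbig

include hB2 hself hJC

theorem sw_of [Finite G] [Finite ι] (i₀ : ι) {x : G} (hx : x ∈ normalizer (B : Set G))
    (hc : ∀ b ∈ B, x * (x * b * x⁻¹ * b⁻¹) = (x * b * x⁻¹ * b⁻¹) * x) :
    x ∈ normalizer (P : Set G) := by
  have hPB := P_le_B h
  refine NoTwist.sw (noTwist h hZ hbig i₀) (fun b hb => norm_cj hx hb)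
    (fun z hz => normB_Z i₀ h hZ hx hz) (fun v hv => hc v (hPB hv)) ?_
  intro hP hcZ
  -- `x` is a 2-element
  obtain ⟨n, hn⟩ := IsPGroup.iff_card.1 hB2
  have hBn : ∀ b ∈ B, b ^ 2 ^ n = 1 := by
    intro b hb
    have := pow_card_eq_one' (G := B) (x := ⟨b, hb⟩)
    rw [hn] at this
    simpa using congrArg Subtype.val this
  have hxB : x ^ 2 ^ n ∈ B := by
    apply hPB
    apply hself
    rw [mem_centralizer_iff]
    intro b hb
    have hbB : b ∈ B := hPB hb
    set c := x * b * x⁻¹ * b⁻¹ with hcd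
    have hxc : Commute x c := hc b hbB
    have hcB : c ∈ B := mul_mem (norm_cj hx hbB) (inv_mem hbB)
    have key : ∀ k : ℕ, x ^ k * b * (x ^ k)⁻¹ = c ^ k * b := by
      intro k
      induction k with
      | zero => simp
      | succ k ih =>
        have e : x ^ (k + 1) * b * (x ^ (k + 1))⁻¹ = x * (x ^ k * b * (x ^ k)⁻¹) * x⁻¹ := by
          rw [pow_succ']; group
        have e2 : x * b * x⁻¹ = c * b := by rw [hcd]; group
        rw [e, ih]
        calc x * (c ^ k * b) * x⁻¹ = (x * c ^ k) * b * x⁻¹ := by group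
          _ = c ^ k * (x * b * x⁻¹) := by rw [(hxc.pow_right k).eq]; group
          _ = c ^ (k + 1) * b := by rw [e2, pow_succ]; group
    have h1 := key (2 ^ n)
    rw [hBn c hcB, one_mul] at h1
    exact ((mul_inv_eq_iff_eq_mul).1 h1).symm
  have hx2 : IsPGroup 2 (zpowers (x * x)) := by
    have hord : orderOf (x * x) ∣ 2 ^ (n + n) := by
      apply orderOf_dvd_of_pow_eq_one
      have h0 : x ^ 2 ^ (n + n) = 1 := by
        rw [pow_add, pow_mul]; exact hBn _ hxB
      rw [← pow_two, ← pow_mul, mul_comm, pow_mul, h0, one_pow]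
    obtain ⟨k, -, hk⟩ := (Nat.dvd_prime_pow Nat.prime_two).1 hord
    apply IsPGroup.of_card (n := k)
    rw [Nat.card_zpowers, hk]
  have hN : zpowers (x * x) ≤ normalizer (B : Set G) := by
    rw [zpowers_le]; exact mul_mem hx hx
  have h2 : IsPGroup 2 (zpowers (x * x) ⊔ B : Subgroup G) :=
    IsPGroup.to_sup_of_normal_right' hx2 hB2 hN
  have h3 : (zpowers (x * x) ⊔ B : Subgroup G) ≤ normalizer (P : Set G) := by
    refine sup_le ?_ ?_
    · rw [zpowers_le]
      exact mem_norm_of fun y hy => hP y hy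
    · intro b hb
      exact mem_norm_of fun y hy => h.LP i₀ b ((h.dat i₀).BL hb) y hy
  exact (hJC _ h2 le_sup_right h3).2.2 _ (mem_sup_left (mem_zpowers _)) hcZ

end

/-- `O²(L_j)^s` -/
theorem Dm_O2_norm (h : MIn A T B Z P s L Q V D) {j : ι} {b x : G} (hb : b ∈ B)
    (hx : x ∈ Dm (O2 (L j)) s) : cj b x ∈ Dm (O2 (L j)) s := by
  rw [mem_Dm] at hx ⊢
  have e : cj s⁻¹ (cj b x) = cj (cj s⁻¹ b) (cj s⁻¹ x) := by simp [cj, mul_assoc]
  rw [e]
  exact O2_norm ((h.dat j).BL (h.cjsB' j hb)) hx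

/-- some nontrivial element of `L` has odd order -/
theorem exists_odd [Finite G] (h : MIn A T B Z P s L Q V D) (i : ι) :
    ∃ x ∈ L i, Odd (orderOf x) ∧ x ≠ 1 := by
  by_contra hcon
  push Not at hcon
  obtain ⟨y, hy, d, hd, hdZ⟩ := O2_moves h (i := i)
  have hle : O2 (L i) ≤ ⊥ := by
    rw [O2, closure_le]
    rintro x ⟨hx, ho⟩
    simp only [SetLike.mem_coe, mem_bot]
    exact hcon x hx ho
  have hy1 : y = 1 := by simpa using hle hy
  apply hdZ
  rw [hy1, cj_one]
  exact (h.dat i).DZ hd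

/-- **There are no two blocks** (`q ≥ 4`). -/
theorem one_block [Finite G] [Finite ι] (hG : Kill.CharTwo G) (h : MIn A T B Z P s L Q V D)
    (hZ : ∀ x ∈ B, x * x = 1 → (∀ b ∈ B, x * b = b * x) → x ∈ Z)
    (hB2 : IsPGroup 2 B) (hself : centralizer (P : Set G) ≤ P) (hJC : JCond B Z P)
    (hbig : ∀ i, ∃ v ∈ V i, ∃ w ∈ V i, v ∉ Z ∧ w ∉ Z ∧ v * w ∉ Z)
    {i i' : ι} (hii : i ≠ i') : False := by
  obtain ⟨j, hp⟩ := h.par_exists i
  obtain ⟨j', hp'⟩ := h.par_exists i'
  have hjj : j ≠ j' := fun hj => hii (h.par_inj hp (hj ▸ hp'))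
  have hPB := P_le_B h
  set X : Bool → Subgroup G := fun b => if b then O2 (L i) else Dm (O2 (L j)) s with hXdef
  set Qf : Bool → Subgroup G := fun b => if b then P else Dm P s with hQdef
  have hXt : X true = O2 (L i) := rfl
  have hXf : X false = Dm (O2 (L j)) s := rfl
  have hQt : Qf true = P := rfl
  have hQf : Qf false = Dm P s := rfl
  have hBP : B ≤ normalizer (P : Set G) := fun b hb =>
    mem_norm_of fun y hy => h.LP i b ((h.dat i).BL hb) y hy
  have hLP : ∀ k, L k ≤ normalizer (P : Set G) := fun k l hl =>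
    mem_norm_of fun y hy => h.LP k l hl y hy
  have hBPs : B ≤ normalizer ((Dm P s : Subgroup G) : Set G) := fun b hb =>
    norm_Dm' (hBP (h.cjsB' i hb))
  -- `D i' ≤ Bh`
  have hDB : D i' ≤ bh B X := by
    intro d hd
    rw [mem_bh]
    refine ⟨(h.dat i').VB ((h.dat i').DV hd), fun b x hx => ?_⟩
    cases b with
    | true => exact h.cross i' i hii.symm x (O2_le _ hx) d hd
    | false =>
      have h1 : cj s⁻¹ x ∈ L j := O2_le _ (mem_Dm.1 hx)
      have h2 : cj s⁻¹ d ∈ D j' := h.par_D' hp' hd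
      have h3 := h.cross j' j hjj.symm _ h1 _ h2
      have h4 := (cj_comm (g := s)).2 h3
      rwa [cj_cj_inv, cj_cj_inv] at h4
  have hbne : bh B X ≠ ⊥ := by
    intro hbot
    obtain ⟨d, hd, hd1⟩ := (h.dat i').exists_ne
    apply hd1
    have := hDB hd
    rw [hbot] at this
    simpa using this
  have hbh2 : IsPGroup 2 (bh B X) := hB2.to_le inf_le_left
  obtain ⟨R, hR2, hRN, hNR, hbR, hcR⟩ := hG _ hbne hbh2
  -- the blocks normalise `Bh`
  have hXbh : ∀ b, X b ≤ normalizer (bh B X : Set G) := by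
    intro b x hx
    apply mem_norm_of
    intro c hc
    have h1 := (mem_bh.1 hc).2 b x hx
    rw [h1, mul_assoc, mul_inv_cancel, mul_one]; exact hc
  have hBX : ∀ b, ∀ c ∈ B, ∀ x ∈ X b, cj c x ∈ X b := by
    intro b c hc x hx
    cases b with
    | true => exact O2_norm ((h.dat i).BL hc) hx
    | false => exact Dm_O2_norm h hc hx
  have hBbh : B ≤ normalizer (bh B X : Set G) := by
    intro b hb
    apply mem_norm_of
    intro c hc
    obtain ⟨h1, h2⟩ := mem_bh.1 hc
    refine mem_bh.2 ⟨mul_mem (mul_mem hb h1) (inv_mem hb), fun t x hx => ?_⟩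
    have h3 := h2 t _ (hBX t b⁻¹ (inv_mem hb) x hx)
    have h4 := (cj_comm (g := b)).2 h3
    rwa [cj_cj_inv] at h4
  -- the local structure
  have hJC' : ∀ R : Subgroup G, IsPGroup 2 R → B ≤ R → R ≤ normalizer (P : Set G) →
      R ≤ normalizer (B : Set G) := fun R h1 h2 h3 => (hJC R h1 h2 h3).1
  have hDs : ∀ d ∈ D i, cj s⁻¹ d ∈ D j := fun d hd => h.par_D' hp hd
  have data : Kill.Data B R Qf (fun _ => D i) X := by
    refine ⟨hB2, ?_, ?_, hBbh, hR2, hRN, hNR, hbR, hcR, ?_, ?_, ?_, ?_⟩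
    · intro t
      cases t with
      | true => exact hBP
      | false => exact hBPs
    · intro t
      cases t with
      | true => exact (O2_le _).trans (hLP i)
      | false =>
        intro x hx
        exact norm_Dm' (hLP j (O2_le _ (mem_Dm.1 hx)))
    · -- loc
      intro t F hF2 hFN hXF hBF
      cases t with
      | true =>
        have hT : Two B P (L i) F := ⟨hF2, hFN, fun y hy r hr => norm_cj (hXF hy) hr,
          fun b hb r hr => norm_cj (hBF hb) hr⟩
        exact loc h hZ hB2 hJC' hT hp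
      | false =>
        have hT : Two B P (L j) (Dm F s⁻¹) := by
          refine ⟨hF2.map _, ?_, ?_, ?_⟩
          · intro x hx
            rw [mem_Dm, inv_inv] at hx
            have h1 := norm_Dm (g := s⁻¹) (hFN hx)
            rw [cj_inv_cj] at h1
            have e : Dm (Qf false) s⁻¹ = P := Dm_inv_Dm s P
            rwa [e] at h1
          · intro y hy r hr
            rw [mem_Dm, inv_inv] at hr ⊢
            have e : cj s (cj y r) = cj (cj s y) (cj s r) := by simp [cj, mul_assoc]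
            rw [e]
            exact norm_cj (hXF (show cj s y ∈ Dm (O2 (L j)) s from cj_mem_Dm hy)) hr
          · intro b hb r hr
            rw [mem_Dm, inv_inv] at hr ⊢
            have e : cj s (cj b r) = cj (cj s b) (cj s r) := by simp [cj, mul_assoc]
            rw [e]
            exact norm_cj (hBF (h.cjsB i hb)) hr
        rcases loc h.inv hZ hB2 hJC' hT (MIn.par_symm hp) with h1 | h1
        · left
          intro x hx f hf
          have h2 := h1 _ (mem_Dm.1 hx) (cj s⁻¹ f) (by rw [mem_Dm, inv_inv, cj_cj_inv]; exact hf)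
          have h3 := (cj_comm (g := s)).2 h2
          rwa [cj_cj_inv, cj_cj_inv] at h3
        · right
          intro d hd
          have h2 := h1 (hDs d hd)
          rwa [mem_Dm, inv_inv, cj_cj_inv] at h2
    · -- kick
      intro _ hDR
      have hT : Two B P (L i) (R ⊓ normalizer (P : Set G)) := by
        refine ⟨hR2.to_le inf_le_left, inf_le_right, ?_, ?_⟩
        · intro y hy r hr
          have hyP : y ∈ normalizer (P : Set G) := hLP i (O2_le _ hy)
          have h1 : cj y r ∈ normalizer (P : Set G) :=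
            mul_mem (mul_mem hyP (mem_inf.1 hr).2) (inv_mem hyP)
          exact mem_inf.2 ⟨norm_cj (hNR (hXbh true hy)) (mem_inf.1 hr).1, h1⟩
        · intro b hb r hr
          have h1 : cj b r ∈ normalizer (P : Set G) :=
            mul_mem (mul_mem (hBP hb) (mem_inf.1 hr).2) (inv_mem (hBP hb))
          exact mem_inf.2 ⟨norm_cj (hNR (hBbh hb)) (mem_inf.1 hr).1, h1⟩
      obtain ⟨y, hy, d, hd, hdZ⟩ := O2_moves h (i := j)
      apply hdZ
      have h1 : cj s (cj y d) ∈ R := by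
        have e : cj s (cj y d) = cj (cj s y) (cj s d) := by simp [cj, mul_assoc]
        rw [e]
        exact norm_cj (hNR (hXbh false (show cj s y ∈ Dm (O2 (L j)) s from cj_mem_Dm hy)))
          (hDR (h.par_D hp hd))
      have hyd : cj y d ∈ V j := (h.dat j).cjV (O2_le _ hy) ((h.dat j).DV hd)
      have h2 : cj s (cj y d) ∈ Dm (V j) s := cj_mem_Dm hyd
      have h3 : cj s (cj y d) ∈ B := V'_le_B h j h2
      have h4 : cj s (cj y d) ∈ Q i := R_cap h hZ hB2 hJC' hT ⟨h1, hBP h3⟩ h3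
      have h5 := V'_cap h hp h2 fun v hv => (h.dat i).VcQ _ h4 v hv
      have h6 := (h.dat i).cjZ (A.inv_mem h.sA) h5
      rwa [cj_inv_cj] at h6
    · -- grow
      intro P' hP' hBP' _ hPQ
      exact (hJC P' hP' hBP' (hPQ true)).2.1
    · -- tw
      intro x hxB hxc hcom t
      have hc : ∀ b ∈ B, x * (x * b * x⁻¹ * b⁻¹) = (x * b * x⁻¹ * b⁻¹) * x := fun b hb =>
        hxc _ (hcom b hb)
      cases t with
      | true => exact sw_of h hZ hB2 hself hJC hbig i hxB hc
      | false =>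
        apply norm_Dm'
        refine sw_of h hZ hB2 hself hJC hbig i ?_ ?_
        · have h1 := norm_Dm (g := s⁻¹) hxB
          have e : Dm B s⁻¹ = B := Dm_eq_of fun b hb => h.cjsB' i hb
          rwa [e] at h1
        · intro b hb
          have h1 := hc _ (h.cjsB i hb)
          have h2 := (cj_comm (g := s⁻¹)).2 h1
          have e : cj s⁻¹ (x * cj s b * x⁻¹ * (cj s b)⁻¹) =
              cj s⁻¹ x * b * (cj s⁻¹ x)⁻¹ * b⁻¹ := by simp [cj, mul_assoc]
          rwa [e] at h2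
  obtain ⟨x, hx, hodd, hx1⟩ := exists_odd h i
  exact data.false true (mem_O2 hx hodd) (pow_orderOf_eq_one x) hodd hx1

end Cfsg.Agent.Omega.SQ1.Block

end

section


/-!
# SQ1: the matching and the Thompson subgroup

`MIn` with `B = bau T`, `Z = zj T`: `P`, `P^s` are elementary abelian subgroups of `T` of maximal
order, `J(T) = B`, elementary abelian subgroups of `T` of maximal order lie in `B`.
-/

set_option autoImplicit false

namespace Cfsg.Agent.Omega.SQ1.Match

open Cfsg Cfsg.Agent.Omega.PushUp Cfsg.Agent.ZN Cfsg.Agent.ZN.ChoiceBase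
open Cfsg.Agent.PLocal.ThompsonJ

universe u v

variable {G : Type u} [Group G] {ι : Type v}
variable {A T P : Subgroup G} {s : G} {L Q V D : ι → Subgroup G}

/-- involutions of `T` centralising `bau T` lie in `zj T` -/
theorem hZ_bau [Finite G] : ∀ x ∈ bau T, x * x = 1 → (∀ b ∈ bau T, x * b = b * x) → x ∈ zj T := by
  intro x hx hxx hc
  have hx2 : x ^ 2 = 1 := by rw [pow_two]; exact hxx
  have hcj : ∀ y ∈ jj T, y * x = x * y := fun y hy => (hc y (jj_le_bau T hy)).symm
  exact mem_zj.2 ⟨mem_jj_of_comm (bau_le T hx) hx2 hcj, hx2, hcj⟩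

namespace MIn

variable (h : MIn A T (bau T) (zj T) P s L Q V D)

include h

theorem P_elem [Finite ι] [Finite G] (i : ι) : IsElementaryAbelian 2 P :=
  isElementaryAbelian_iff.2 ⟨fun _ hx _ hy => h.Pcomm i hx hy,
    fun _ hx => by rw [pow_two]; exact h.Psq i hx⟩

theorem P_le_T : P ≤ T := fun x hx => bau_le T ((h.Pmem x).1 hx).1

/-- `P ∈ A(T)` if `P` contains a member of `A(T)`. -/
theorem P_AA [Finite ι] [Finite G] (i : ι) {E : Subgroup G} (hE : E ∈ AA T) (hEP : E ≤ P) :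
    P ∈ AA T := by
  rw [mem_AA_iff]
  refine ⟨h.P_elem i, h.P_le_T, ?_⟩
  rw [mm_eq hE]
  exact Subgroup.card_le_of_le hEP

theorem T_conj (i : ι) {a t : G} (ha : a ∈ A) (ht : t ∈ T) : a * t * a⁻¹ ∈ T := by
  by_cases haT : a ∈ T
  · exact T.mul_mem (T.mul_mem haT ht) (T.inv_mem haT)
  · have h1 : a⁻¹ ∉ T := fun h1 => haT (by simpa using T.inv_mem h1)
    have h2 : (a * t)⁻¹ ∉ T := by
      intro h2
      apply haT
      have := T.mul_mem (T.inv_mem h2) (T.inv_mem ht)
      simpa using this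
    have h3 := (h.dat i).idx (a * t)⁻¹ (A.inv_mem (A.mul_mem ha (h.TA i ht))) a⁻¹ (A.inv_mem ha)
      h2 h1
    simpa using h3

theorem s_normT (i : ι) [Finite G] : cj s T = T := by
  apply cj_eq_of_mem_normalizer
  apply mem_normalizer_of_cj_le
  rintro _ ⟨t, ht, rfl⟩
  exact h.T_conj i h.sA ht

theorem Ps_AA [Finite G] (i : ι) (hP : P ∈ AA T) : cj s P ∈ AA T := by
  refine ⟨isElementaryAbelian_map hP.1 _, ?_, fun E hE hET => ?_⟩
  · rw [← h.s_normT i]
    exact cj_mono s hP.2.1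
  · rw [card_cj]
    exact hP.2.2 E hE hET

theorem J_eq [Finite ι] [Finite G] (i : ι) (hP : P ∈ AA T) : jj T = bau T := by
  apply le_antisymm (jj_le_bau T)
  intro b hb
  obtain ⟨y, hy, p, hp, rfl⟩ := h.cover hb
  apply mul_mem
  · apply le_jj (h.Ps_AA i hP)
    rw [ChoiceBase.mem_cj]
    have : s⁻¹ * Cfsg.Agent.MinSimple.PushUp.cj s y * s = y := by
      simp [Cfsg.Agent.MinSimple.PushUp.cj, mul_assoc]
    rw [this]
    exact h.Y_le hy
  · exact le_jj hP hp

/-- elementary abelian subgroups of maximal order of `T` lie in `B` -/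
theorem AA_le [Finite ι] [Finite G] (i : ι) (hP : P ∈ AA T) {E : Subgroup G} (hE : E ∈ AA T) :
    E ≤ bau T := by
  rw [← h.J_eq i hP]
  exact le_jj hE

end MIn

end Cfsg.Agent.Omega.SQ1.Match

end

section


/-!
# SQ1: facts about `N_G(P)` used by the killing lemma (helper132)

* `jc`: `T` Sylow in `N`, `J(T) = B = bau T`; then `J(R) = B` for every 2-subgroup `R` of `N` over `B`.
* `hself`: `C_G(P) ≤ P`.
* `charTwo`: characteristic 2 type ⇒ `Kill.CharTwo`.
-/

set_option autoImplicit false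

namespace Cfsg.Agent.Omega.SQ1.JC

open Subgroup Cfsg Cfsg.Agent.ZN Cfsg.Agent.ZN.ChoiceBase Cfsg.Agent.ZN.ChoiceSit
open Cfsg.Agent.MinSimple.Choice97 (Loc2 loc2_normalizer)
open Cfsg.Agent.Omega.SQ1.Choice (Config)

universe u v

variable {G : Type u} [Group G]

/-- Every 2-subgroup `R` with `B ≤ R ≤ N` has `J(R) = B`. -/
theorem jc [Finite G] {T N R : Subgroup G} (hT : Syl T N) (hJ : jj T = bau T) (hR : IsPGroup 2 R)
    (hBR : bau T ≤ R) (hRN : R ≤ N) :
    jj R = bau T ∧ R ≤ normalizer (bau T : Set G) ∧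
      normalizer (R : Set G) ≤ normalizer (bau T : Set G) ∧
      ∀ r ∈ R, (∀ z ∈ zj T, r * z = z * r) → r ∈ bau T := by
  obtain ⟨U, hU, hRU⟩ := exists_syl hR hRN
  obtain ⟨g, hgN, hg⟩ := syl_conj hT hU
  subst hg
  have hmm : mm (cj g T) = mm T := mm_cj g T
  have hjU : jj (cj g T) = cj g (bau T) := by rw [jj_cj, hJ]
  have hm1 : mm (bau T) ≤ mm R := mm_mono hBR
  have hm2 : mm R ≤ mm (cj g T) := mm_mono hRU
  rw [mm_bau] at hm1
  have h1 : bau T ≤ jj R := by
    have := jj_mono hBR (by rw [mm_bau]; exact hm2.trans hmm.le)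
    rw [jj_bau, hJ] at this
    exact this
  have h2 : jj R ≤ cj g (bau T) := by
    rw [← hjU]
    exact jj_mono hRU (by rw [hmm]; exact hm1)
  have h3 : cj g (bau T) = bau T :=
    (Subgroup.eq_of_le_of_card_ge (h1.trans h2) (card_cj g (bau T)).le).symm
  have h4 : jj R = bau T := le_antisymm (h2.trans h3.le) h1
  have h5 : normalizer (R : Set G) ≤ normalizer (bau T : Set G) := by
    rw [← h4]; exact normalizer_le_jj R
  refine ⟨h4, le_normalizer.trans h5, h5, ?_⟩
  intro r hr hz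
  have h6 : zj (cj g T) = zj T := zj_congr (by rw [hjU, h3, hJ])
  have h7 : r ∈ bau (cj g T) := by
    refine mem_bau.2 ⟨hRU hr, ?_⟩
    rw [h6]
    exact fun z hz' => (hz z hz').symm
  rw [bau_cj, h3] at h7
  exact h7

/-- The same for the conjugate by an element normalising `T`. -/
theorem jc_cj [Finite G] {T N R : Subgroup G} {s : G} (hs : cj s T = T) (hT : Syl T N)
    (hJ : jj T = bau T) (hR : IsPGroup 2 R) (hBR : bau T ≤ R) (hRN : R ≤ cj s N) :
    jj R = bau T ∧ R ≤ normalizer (bau T : Set G) ∧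
      normalizer (R : Set G) ≤ normalizer (bau T : Set G) ∧
      ∀ r ∈ R, (∀ z ∈ zj T, r * z = z * r) → r ∈ bau T := by
  refine jc (N := cj s N) ?_ hJ hR hBR hRN
  obtain ⟨h1, h2, h3⟩ := hT
  refine ⟨?_, h2, fun Q hQ hQ2 hTQ => ?_⟩
  · rw [← hs]; exact cj_mono s h1
  · have h4 : cj s⁻¹ Q ≤ N := by
      have := cj_mono s⁻¹ hQ
      rwa [cj_inv_cj] at this
    have h5 : T ≤ cj s⁻¹ Q := by
      have := cj_mono s⁻¹ hTQ
      have h6 : cj s⁻¹ T = T := by
        have := congrArg (cj s⁻¹) hs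
        rw [cj_inv_cj] at this
        exact this.symm
      rwa [h6] at this
    have h6 := h3 _ h4 (isPGroup_cj _ hQ2) h5
    have h7 := congrArg (cj s) h6
    rwa [cj_cj_inv, hs] at h7

/-- `C_G(P) ≤ P` -/
theorem self_cent_of [Finite G] (hG : IsCharacteristicTwoType G) {T P : Subgroup G}
    (hP : IsPGroup 2 P) (hP0 : P ≠ ⊥) (hT : Syl T (normalizer (P : Set G)))
    (hc : ∀ x ∈ T, (∀ y ∈ P, x * y = y * x) → x ∈ P) : centralizer (P : Set G) ≤ P := by
  set N : Subgroup G := normalizer (P : Set G) with hN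
  have hloc : IsTwoLocal N := ⟨P, hP, hP0, rfl⟩
  have hself := self_cent hG hloc
  have hO2 := isPGroup_o2 N
  have hON := le_normalizer_o2 N
  have hOT := o2_le_syl hT
  have hcN : centralizer (P : Set G) ≤ N := by
    intro x hx
    refine Kill.mem_norm (fun a ha => ?_) fun a ha => ?_
    · have := (mem_centralizer_iff.1 hx a ha)
      rw [← this, mul_inv_cancel_right]; exact ha
    · have := (mem_centralizer_iff.1 hx a ha)
      rw [mul_assoc, this, inv_mul_cancel_left]; exact ha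
  have hcc : ∀ x ∈ centralizer (P : Set G), ∀ y ∈ P, x * y = y * x := fun x hx y hy =>
    (mem_centralizer_iff.1 hx y hy).symm
  -- conjugates of `C_G(P)` by `N`
  have hcn : ∀ g ∈ N, ∀ x ∈ centralizer (P : Set G), g * x * g⁻¹ ∈ centralizer (P : Set G) := by
    intro g hg x hx
    rw [mem_centralizer_iff]
    intro y hy
    have h1 : g⁻¹ * y * g ∈ P := Kill.norm_conj' hg hy
    have h2 := hcc x hx _ h1
    calc y * (g * x * g⁻¹) = g * ((g⁻¹ * y * g) * x) * g⁻¹ := by group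
      _ = g * (x * (g⁻¹ * y * g)) * g⁻¹ := by rw [h2]
      _ = _ := by group
  -- `[C_G(P), O_2(N)] ≤ P`
  have hcO : ∀ x ∈ centralizer (P : Set G), ∀ r ∈ o2 N, x * r * x⁻¹ * r⁻¹ ∈ P := by
    intro x hx r hr
    have h1 : x * r * x⁻¹ * r⁻¹ ∈ o2 N :=
      mul_mem (Kill.norm_conj (hON (hcN hx)) hr) (inv_mem hr)
    have h2 : x * r * x⁻¹ * r⁻¹ ∈ centralizer (P : Set G) := by
      have : x * r * x⁻¹ * r⁻¹ = x * (r * x⁻¹ * r⁻¹) := by group
      rw [this]
      exact mul_mem hx (hcn r (hT.1 (hOT hr)) _ (inv_mem hx))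
    exact hc _ (hOT h1) (hcc _ h2)
  -- elements of odd order
  have hodd : ∀ x ∈ centralizer (P : Set G), ∀ m, Odd m → x ^ m = 1 → x = 1 := by
    intro x hx m hm hxm
    have h1 : x ∈ N ⊓ centralizer ((o2 N : Subgroup G) : Set G) := by
      refine mem_inf.2 ⟨hcN hx, mem_centralizer_iff.2 ?_⟩
      intro r hr
      have h2 := hcO x hx r hr
      refine (Kill.comm_of_odd hxm hm hO2 ?_ (hcc x hx _ h2)).symm
      exact mul_mem (Kill.norm_conj (hON (hcN hx)) hr) (inv_mem hr)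
    have h2 : x ∈ o2 N := hself h1
    obtain ⟨k, hk⟩ := hO2 ⟨x, h2⟩
    have h4 : orderOf x ∣ 2 ^ k := by
      apply orderOf_dvd_of_pow_eq_one
      simpa using congrArg Subtype.val hk
    have h5 : Nat.Coprime (2 ^ k) m := Nat.Coprime.pow_left _ (Nat.coprime_two_left.2 hm)
    exact orderOf_eq_one_iff.1 (Nat.eq_one_of_dvd_coprimes h5 h4 (orderOf_dvd_of_pow_eq_one hxm))
  have hC2 : IsPGroup 2 (centralizer (P : Set G)) := by
    intro x
    -- `x ^ (2 ^ k)` has odd order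
    obtain ⟨k, m, hm, hkm⟩ := Nat.exists_eq_two_pow_mul_odd (n := orderOf (x : G))
      (orderOf_pos (x : G)).ne'
    refine ⟨k, ?_⟩
    have h1 : ((x : G) ^ (2 ^ k)) ^ m = 1 := by
      rw [← pow_mul, ← hkm, pow_orderOf_eq_one]
    have h2 := hodd _ (pow_mem x.2 (2 ^ k)) m hm h1
    exact Subtype.ext (by simpa using h2)
  -- `C_G(P)` is a normal 2-subgroup of `N`
  have hCO : centralizer (P : Set G) ≤ o2 N := by
    refine le_o2 hC2 hcN ?_
    intro g hg
    refine Kill.mem_norm (fun a ha => hcn g hg a ha) fun a ha => ?_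
    have := hcn g⁻¹ (inv_mem hg) a ha
    simpa using this
  intro x hx
  exact hc x (hOT (hCO hx)) (hcc x hx)

/-- characteristic 2 type implies the form of the killing lemma -/
theorem charTwo [Finite G] (hG : IsCharacteristicTwoType G) : Kill.CharTwo G := by
  intro A hA hA2
  have hloc : IsTwoLocal (normalizer (A : Set G)) := ⟨A, hA2, hA, rfl⟩
  set N : Subgroup G := normalizer (A : Set G) with hN
  have hAO : A ≤ o2 N := le_o2 hA2 le_normalizer le_rfl
  refine ⟨o2 N, isPGroup_o2 N, ?_, le_normalizer_o2 N, hAO, ?_⟩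
  · obtain ⟨S, hS, -⟩ := exists_syl (T := A) hA2 (le_normalizer : A ≤ N)
    exact (o2_le_syl hS).trans hS.1
  · intro x hx
    refine self_cent hG hloc ⟨?_, hx⟩
    have h1 : x ∈ centralizer (A : Set G) := centralizer_le hAO hx
    refine Kill.mem_norm (fun a ha => ?_) fun a ha => ?_
    · have := (mem_centralizer_iff.1 h1 a ha)
      rw [← this, mul_inv_cancel_right]; exact ha
    · have := (mem_centralizer_iff.1 h1 a ha)
      rw [mul_assoc, this, inv_mul_cancel_left]; exact ha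

section

variable {M T Y P : Subgroup G} {s : G} {ι : Type v} {A : Subgroup G}
variable {L Q V D : ι → Subgroup G}

/-- `T` is a Sylow 2-subgroup of `N_G(P)`. -/
theorem syl_P [Finite G] (c : Config M T Y s) (hP : IsPGroup 2 P) (hP0 : P ≠ ⊥)
    (hYP : Y ≤ normalizer (P : Set G)) : Syl T (normalizer (P : Set G)) :=
  c.syl_of_loc (c.TY.trans hYP) (loc2_normalizer hP hP0) fun h => c.notM (hYP.trans h)

/-- `C_G(P) ≤ P` from the matching. -/
theorem hself [Finite G] (hG : IsCharacteristicTwoType G) (c : Config M T Y s)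
    (h : Match.MIn A T (bau T) (zj T) P s L Q V D) (i : ι) (hP0 : P ≠ ⊥)
    (hYP : Y ≤ normalizer (P : Set G)) : centralizer (P : Set G) ≤ P := by
  have hP2 : IsPGroup 2 P := c.two.to_le h.P_le_T
  refine self_cent_of hG hP2 hP0 (syl_P c hP2 hP0 hYP) ?_
  intro x hx hxP
  have hZP : ∀ z ∈ zj T, z ∈ P := fun z hz => h.VP ((h.dat i).ZV hz)
  have hxB : x ∈ bau T := mem_bau.2 ⟨hx, fun z hz => (hxP z (hZP z hz)).symm⟩
  refine (h.Pmem x).2 ⟨hxB, fun j => ?_⟩
  exact (h.dat j).QcV x hxB fun v hv => hxP v (h.VP hv)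

end

end Cfsg.Agent.Omega.SQ1.JC

end

section


/-!
# SQ1: one block (`q ≥ 4`), in the language of `Choice.Config`

`one_block_config`: in the configuration `Config M T Y s` the matching data `MIn` with
`|V i : Z| > 2` has at most one block.
-/

set_option autoImplicit false

namespace Cfsg.Agent.Omega.SQ1.Block

open Subgroup Cfsg Cfsg.Agent.ZN Cfsg.Agent.ZN.ChoiceBase Cfsg.Agent.ZN.ChoiceSit
open Cfsg.Agent.Omega.SQ1.Choice (Config)
open Cfsg.Agent.Omega.SQ1.Match

universe u v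

variable {G : Type u} [Group G] {ι : Type v}
variable {M A T Y P : Subgroup G} {s : G} {L Q V D : ι → Subgroup G}

theorem jcond_of [Finite G] (hT : Syl T (normalizer (P : Set G))) (hJ : jj T = bau T) :
    JCond (bau T) (zj T) P := by
  intro R h1 h2 h3
  obtain ⟨-, a, b, c⟩ := JC.jc hT hJ h1 h2 h3
  exact ⟨a, b, c⟩

/-- `|V : Z| > 2` gives three elements of `V ∖ Z` forming a four-group modulo `Z`. -/
theorem big_of [Finite G] {Z V : Subgroup G} (hsq : ∀ v ∈ V, v * v = 1)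
    (hq : 2 < Z.relIndex V) : ∃ v ∈ V, ∃ w ∈ V, v ∉ Z ∧ w ∉ Z ∧ v * w ∉ Z := by
  classical
  by_contra hcon
  push Not at hcon
  -- at most two cosets
  by_cases hVZ : V ≤ Z
  · rw [relIndex_eq_one.2 hVZ] at hq
    omega
  obtain ⟨v, hv, hvZ⟩ := SetLike.not_le_iff_exists.1 hVZ
  have hle : Z.relIndex V ≤ 2 := by
    have hsurj : Function.Surjective (fun b : Bool =>
        (QuotientGroup.mk (if b then (⟨v, hv⟩ : V) else 1) : V ⧸ Z.subgroupOf V)) := by
      intro x
      obtain ⟨w, rfl⟩ := QuotientGroup.mk_surjective x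
      by_cases hw : (w : G) ∈ Z
      · refine ⟨false, ?_⟩
        simp only [Bool.false_eq_true, if_false]
        rw [QuotientGroup.eq, mem_subgroupOf]
        simpa using hw
      · refine ⟨true, ?_⟩
        simp only [if_true]
        rw [QuotientGroup.eq, mem_subgroupOf]
        have h1 := hcon v hv w w.2 hvZ hw
        have h2 : v⁻¹ = v := inv_eq_of_mul_eq_one_left (hsq v hv)
        simpa [h2] using h1
    have h1 := Nat.card_le_card_of_surjective _ hsurj
    have h2 : Nat.card Bool = 2 := by simp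
    rw [h2] at h1
    exact h1
  omega

/-- **At most one block** in the configuration of the unique maximal 2-local case. -/
theorem one_block_config [Finite G] [Finite ι] (hG : IsCharacteristicTwoType G)
    (c : Config M T Y s) (h : MIn A T (bau T) (zj T) P s L Q V D)
    (hYP : Y ≤ normalizer (P : Set G)) {E : Subgroup G} (hE : E ∈ AA T) (hEP : E ≤ P)
    (hq : ∀ i, 2 < (zj T).relIndex (V i)) : Subsingleton ι := by
  constructor
  intro i i'
  by_contra hii
  have hP2 : IsPGroup 2 P := c.two.to_le h.P_le_T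
  have hP0 : P ≠ ⊥ := by
    intro h0
    obtain ⟨d, hd, hd1⟩ := (h.dat i).exists_ne
    apply hd1
    have h1 := h.VP ((h.dat i).DV hd)
    rw [h0] at h1
    simpa using h1
  have hJ : jj T = bau T := h.J_eq i (h.P_AA i hE hEP)
  exact one_block (JC.charTwo hG) h hZ_bau (c.two.to_le (bau_le T))
    (JC.hself hG c h i hP0 hYP) (jcond_of (JC.syl_P c hP2 hP0 hYP) hJ)
    (fun k => big_of ((h.dat k).Vsq) (hq k)) hii

end Cfsg.Agent.Omega.SQ1.Block

end

section


/-!
# SQ1, several natural blocks, `q ≥ 4`: the end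

`subsingleton_of_inK`: in the configuration `Config M T H s` the Baumann data `BauK.InK` with
`q > 2` have at most one block (matching + `Block.one_block_config`).
-/

set_option autoImplicit false

namespace Cfsg.Agent.Omega.SQ1.EndManyOf

open Subgroup Cfsg Cfsg.Agent.PLocal.ThompsonJ Cfsg.Agent.ZN Cfsg.Agent.ZN.ChoiceBase
open Cfsg.Agent.ZN.ChoiceSit
open Cfsg.Agent.Omega.SQ1.Choice (Config)
open Cfsg.Agent.Omega.SQ1.BauK
open Cfsg.Agent.Omega.SQ1

universe u

variable {G : Type u} [Group G]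

/-- **At most one block** (`q ≥ 4`). -/
theorem subsingleton_of_inK [Finite G] {M T H Q V V0 : Subgroup G} {s : G} {ι : Type} [Finite ι]
    {N E : ι → Subgroup G} {q : ℕ} (hG : IsCharacteristicTwoType G) (c : Config M T H s)
    (h : InK H T Q V V0 N E q) (hq : 2 < q) : Subsingleton ι := by
  rcases isEmpty_or_nonempty ι with hι | hι
  · infer_instance
  have hTA : T ≤ T ⊔ zpowers s := le_sup_left
  have hAT : T ⊔ zpowers s ≤ normalizer (T : Set G) := sup_le le_normalizer (zpowers_le.2 c.sN)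
  have idx : ∀ a ∈ T ⊔ zpowers s, ∀ b ∈ T ⊔ zpowers s, a ∉ T → b ∉ T → a⁻¹ * b ∈ T := by
    intro a ha b hb haT hbT
    have h1 := (SitOf.mem_A c.sN c.sq ha).resolve_left haT
    have h2 := (SitOf.mem_A c.sN c.sq hb).resolve_left hbT
    have h3 := mul_mem (inv_mem h1) h2
    have e : (s⁻¹ * a)⁻¹ * (s⁻¹ * b) = a⁻¹ * b := by group
    rwa [e] at h3
  obtain ⟨L, -, hM⟩ := h.min_in hTA hAT idx (fun R hR hH hA =>
      SitOf.core_of_config c R hR hH (hA s (mem_sup_right (mem_zpowers s))))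
    (mem_sup_right (mem_zpowers s)) c.sT
  have hn : H ≤ normalizer ((bau T ⊓ Q : Subgroup G) : Set G) := fun x hx =>
    FFOne.mem_norm_of (h.star_norm x hx)
  obtain ⟨A, hA, hAQ, -⟩ := h.exists_AQ
  refine Block.one_block_config hG c hM hn hA (le_inf ((le_jj hA).trans (jj_le_bau T)) hAQ) ?_
  intro i
  have h1 := h.card_VL i
  have h2 := relIndex_mul_relIndex (⊥ : Subgroup G) (zj T) (InK.VL T (N i)) bot_le le_sup_left
  rw [relIndex_bot_left, relIndex_bot_left, h1] at h2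
  rw [Nat.eq_of_mul_eq_mul_left Nat.card_pos h2]
  exact hq

end Cfsg.Agent.Omega.SQ1.EndManyOf

end

section


/-!
# SQ1: `Main.EndMany` (`k ≥ 2` natural summands, `q ≥ 4`)
-/

set_option autoImplicit false

namespace Cfsg.Agent.Omega.SQ1.EndManyOf

open Subgroup Cfsg Cfsg.Agent.ZN

universe u

/-- **`k ≥ 2` natural summands, `q ≥ 4`, do not occur.** -/
theorem endMany : Main.EndMany.{u} := by
  intro G _ _ S M T H s h F _ _ _ hF k hk N
  obtain ⟨N', E, hI⟩ := FFOne.exists_inK h.cfg.syl (FFOf.isMinPar h.cfg) h.cfg.self_cent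
    (VOf.nle h.cfg) (by omega) N
  have h1 := subsingleton_of_inK h.char2 h.cfg hI (by omega)
  have h2 := Fin.subsingleton_iff_le_one.1 h1
  omega

end Cfsg.Agent.Omega.SQ1.EndManyOf

end

section


/-!
# Blocks of type `A₄` over a 2-group (project OMEGA, SQ1, L7; step (a) of #11855)

`Blk B d e r` : `V = {1, d, e, d e}` is a four-group, `r` permutes `d → e → d e → d`, `d` is central in
`B`, and `B` normalises `⟨V, r⟩`: an element of `B` centralising `e` centralises `r` modulo `V`, the other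
elements invert `r` modulo `V`.
-/

set_option autoImplicit false

namespace Cfsg.Agent.Omega.SQ1.TwistBase

open Subgroup

universe u v

variable {G : Type u} [Group G]

/-- conjugation -/
def cj (x y : G) : G := x * y * x⁻¹

theorem cj_mul (x y z : G) : cj x (y * z) = cj x y * cj x z := by unfold cj; group
theorem cj_inv (x y : G) : cj x y⁻¹ = (cj x y)⁻¹ := by unfold cj; group
theorem mul_cj (x y z : G) : cj (x * y) z = cj x (cj y z) := by unfold cj; group
theorem cj_one (x : G) : cj x 1 = 1 := by unfold cj; group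
theorem cj_inv_cj (x y : G) : cj x⁻¹ (cj x y) = y := by unfold cj; group
theorem cj_cj_inv (x y : G) : cj x (cj x⁻¹ y) = y := by unfold cj; group
theorem cj_inj {x y z : G} (h : cj x y = cj x z) : y = z := by
  rw [← cj_inv_cj x y, h, cj_inv_cj]
theorem cj_eq_iff {x y : G} : cj x y = y ↔ x * y = y * x := by
  unfold cj; rw [mul_inv_eq_iff_eq_mul]

theorem cj_comm_iff {x y z : G} : cj x y * cj x z = cj x z * cj x y ↔ y * z = z * y := by
  rw [← cj_mul, ← cj_mul]
  exact ⟨fun h => cj_inj h, fun h => by rw [h]⟩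

/-- `v ∈ {1, d, e, d e}` -/
def InV (d e v : G) : Prop := v = 1 ∨ v = d ∨ v = e ∨ v = d * e

/-- A block of type `A₄`. -/
structure Blk (B : Subgroup G) (d e r : G) : Prop where
  dB : d ∈ B
  eB : e ∈ B
  dc : ∀ b ∈ B, d * b = b * d
  dd : d * d = 1
  ee : e * e = 1
  dne : d ≠ 1
  rd : cj r d = e
  re : cj r e = d * e
  r3 : r * r * r = 1
  inner : ∀ b ∈ B, b * e = e * b → ∃ v, InV d e v ∧ cj b r = r * v
  outer : ∀ b ∈ B, b * e ≠ e * b → ∃ v, InV d e v ∧ cj b r = r⁻¹ * v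

variable {B : Subgroup G} {d e r : G}

theorem InV.mem (h : Blk B d e r) {v : G} (hv : InV d e v) : v ∈ B := by
  rcases hv with rfl | rfl | rfl | rfl
  · exact B.one_mem
  · exact h.dB
  · exact h.eB
  · exact B.mul_mem h.dB h.eB

theorem InV.sq (h : Blk B d e r) {v : G} (hv : InV d e v) : v * v = 1 := by
  rcases hv with rfl | rfl | rfl | rfl
  · rw [one_mul]
  · exact h.dd
  · exact h.ee
  · calc d * e * (d * e) = d * (e * d) * e := by group
      _ = (d * d) * (e * e) := by rw [← h.dc e h.eB]; group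
      _ = 1 := by rw [h.dd, h.ee, one_mul]

theorem InV.comm (h : Blk B d e r) {v b : G} (hv : InV d e v) (hb : b ∈ B) (hbe : b * e = e * b) :
    b * v = v * b := by
  rcases hv with rfl | rfl | rfl | rfl
  · rw [one_mul, mul_one]
  · exact (h.dc b hb).symm
  · exact hbe
  · rw [← mul_assoc, ← h.dc b hb, mul_assoc, hbe, mul_assoc]

namespace Blk

theorem de (h : Blk B d e r) : d * e = e * d := h.dc e h.eB

theorem ene (h : Blk B d e r) : e ≠ 1 := by
  intro h1
  have := h.rd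
  rw [h1, ← cj_one r] at this
  exact h.dne (cj_inj this)

theorem ri_e (h : Blk B d e r) : cj r⁻¹ e = d := by rw [← h.rd, cj_inv_cj]

theorem ri_d (h : Blk B d e r) : cj r⁻¹ d = d * e := by
  have h1 : cj r⁻¹ (d * e) = e := by rw [← h.re, cj_inv_cj]
  rw [cj_mul, h.ri_e] at h1
  have h2 : cj r⁻¹ d = e * d⁻¹ := by rw [← h1]; group
  rw [h2, inv_eq_of_mul_eq_one_right h.dd, h.de]

/-- `d` acts on `r` as `r ↦ r e`. -/
theorem cj_d_r (h : Blk B d e r) : cj d r = r * e := by
  have h1 := h.ri_d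
  have h2 : cj d r = r * (cj r⁻¹ d * d⁻¹) := by unfold cj; group
  rw [h2, h1, h.de, mul_assoc, mul_inv_cancel, mul_one]

theorem not_comm_d (h : Blk B d e r) : d * r ≠ r * d := by
  intro h1
  have h2 := cj_eq_iff.mpr h1
  rw [h.cj_d_r] at h2
  exact h.ene (by simpa using h2)

theorem r_de (h : Blk B d e r) : cj r (d * e) = d := by
  rw [cj_mul, h.rd, h.re, ← mul_assoc, ← h.de, mul_assoc, h.ee, mul_one]

theorem ri_de (h : Blk B d e r) : cj r⁻¹ (d * e) = e := by
  rw [← h.re, cj_inv_cj]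

theorem cj_inv_r (h : Blk B d e r) {v : G} (hv : InV d e v) : InV d e (cj r v) := by
  rcases hv with rfl | rfl | rfl | rfl
  · left; exact cj_one r
  · right; right; left; exact h.rd
  · right; right; right; exact h.re
  · right; left; exact h.r_de

theorem cj_inv_ri (h : Blk B d e r) {v : G} (hv : InV d e v) : InV d e (cj r⁻¹ v) := by
  rcases hv with rfl | rfl | rfl | rfl
  · left; exact cj_one _
  · right; right; right; exact h.ri_d
  · right; left; exact h.ri_e
  · right; right; left; exact h.ri_de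

/-- Dichotomy: an element of `B` commuting with `e` and with an outer element `k` acts on `r`
trivially or like `d`. -/
theorem dich (h : Blk B d e r) {k b : G} (hk : k ∈ B) (hke : k * e = d * (e * k)) (hb : b ∈ B)
    (hbe : b * e = e * b) (hbk : b * k = k * b) : b * r = r * b ∨ cj b r = r * e := by
  obtain ⟨v, hv, h1⟩ := h.inner b hb hbe
  have hke' : k * e ≠ e * k := by
    intro h2
    rw [h2] at hke
    exact h.dne (by simpa using hke.symm)
  have hedne : e ≠ d := by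
    intro h2
    apply hke'
    rw [h2]
    exact (h.dc k hk).symm
  obtain ⟨w, hw, h2⟩ := h.outer k hk hke'
  have hkd : cj k d = d := cj_eq_iff.mpr (h.dc k hk).symm
  have hkee : cj k e = d * e := by
    unfold cj
    rw [hke]; group
  have hkde : cj k (d * e) = e := by
    rw [cj_mul, hkd, hkee, ← mul_assoc, h.dd, one_mul]
  have hkv : InV d e (cj k v) := by
    rcases hv with rfl | rfl | rfl | rfl
    · left; exact cj_one _
    · right; left; exact hkd
    · right; right; right; exact hkee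
    · right; right; left; exact hkde
  have hwe : w * e = e * w := by
    rcases hw with rfl | rfl | rfl | rfl
    · rw [one_mul, mul_one]
    · exact h.de
    · rfl
    · rw [mul_assoc, ← mul_assoc e, ← h.de, mul_assoc]
  have h3 : cj b (cj k r) = cj k (cj b r) := by rw [← mul_cj, ← mul_cj, hbk]
  have hbw : cj b w = w := cj_eq_iff.mpr (hw.comm h hb hbe)
  rw [h2, h1, cj_mul, cj_inv, hbw, h1, cj_mul, h2] at h3
  -- `(r v)⁻¹ w = r⁻¹ w (cj k v)`
  have h4 : w * cj k v = cj k v * w := hkv.comm h (hw.mem h) hwe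
  have h5 : v⁻¹ = cj r⁻¹ (cj k v) := by
    rw [mul_assoc r⁻¹ w, h4, ← mul_assoc] at h3
    have h6 := mul_right_cancel h3
    unfold cj at h6 ⊢
    calc v⁻¹ = (r * v)⁻¹ * r := by group
      _ = _ := by rw [h6]; group
  have hvv : v⁻¹ = v := inv_eq_of_mul_eq_one_right (hv.sq h)
  rw [hvv] at h5
  have key : cj r v = cj k v := by rw [h5, cj_cj_inv]; rw [← h5]
  rcases hv with rfl | rfl | rfl | rfl
  · left
    rw [mul_one] at h1
    exact cj_eq_iff.mp h1
  · rw [h.rd, hkd] at key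
    exact absurd key hedne
  · right; exact h1
  · rw [h.r_de, hkde] at key
    exact absurd key.symm hedne

theorem iff_mul (h : Blk B d e r) {k b b' : G} (hk : k ∈ B) (hke : k * e = d * (e * k))
    (hb : b ∈ B) (hbe : b * e = e * b) (hbk : b * k = k * b)
    (hb' : b' ∈ B) (hbe' : b' * e = e * b') (hbk' : b' * k = k * b') :
    (b * b' * r = r * (b * b')) ↔ (b * r = r * b ↔ b' * r = r * b') := by
  have hee : e * e = 1 := h.ee
  by_cases h1 : b * r = r * b
  · have h3 : (b * b' * r = r * (b * b')) ↔ b' * r = r * b' := by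
      rw [mul_assoc, ← mul_assoc r b b', ← h1, mul_assoc b r b']
      exact mul_right_inj b
    rw [h3]
    tauto
  · have h1' := (h.dich hk hke hb hbe hbk).resolve_left h1
    by_cases h2 : b' * r = r * b'
    · have h3 : ¬ (b * b' * r = r * (b * b')) := by
        intro h4
        apply h1
        have h5 : b * r * b' = r * b * b' := by
          rw [mul_assoc, ← h2, ← mul_assoc, h4, mul_assoc]
        exact mul_right_cancel h5
      tauto
    · have h2' := (h.dich hk hke hb' hbe' hbk').resolve_left h2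
      have h3 : b * b' * r = r * (b * b') := by
        apply cj_eq_iff.mp
        rw [mul_cj, h2', cj_mul, h1', cj_eq_iff.mpr hbe, mul_assoc, hee, mul_one]
      tauto

/-- Elements of `B` commuting with `e` are centralised by `r` modulo `V`. -/
theorem cj_r (h : Blk B d e r) {b : G} (hb : b ∈ B) (hbe : b * e = e * b) :
    ∃ w, InV d e w ∧ cj r b = w * b := by
  obtain ⟨v, hv, h1⟩ := h.inner b hb hbe
  refine ⟨cj r v⁻¹, ?_, ?_⟩
  · rw [inv_eq_of_mul_eq_one_right (hv.sq h)]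
    exact h.cj_inv_r hv
  · have h2 : b * r = r * v * b := by rw [← h1]; unfold cj; group
    unfold cj
    calc r * b * r⁻¹ = r * v⁻¹ * r⁻¹ * (r * v * b) * r⁻¹ := by group
      _ = r * v⁻¹ * r⁻¹ * b := by rw [← h2]; group

theorem cj_ri (h : Blk B d e r) {b : G} (hb : b ∈ B) (hbe : b * e = e * b) :
    ∃ w, InV d e w ∧ cj r⁻¹ b = w * b := by
  obtain ⟨v, hv, h1⟩ := h.inner b hb hbe
  refine ⟨v, hv, ?_⟩
  have h2 : b * r = r * v * b := by rw [← h1]; unfold cj; group
  unfold cj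
  calc r⁻¹ * b * r⁻¹⁻¹ = r⁻¹ * (b * r) := by group
    _ = v * b := by rw [h2]; group

end Blk

end Cfsg.Agent.Omega.SQ1.TwistBase

end

section


/-!
# SQ1, `q = 2`: the blocks of `MIn` contain subgroups `A₄` normalised by `B` (L7)

If `|V i : Z| = 2` (field `h2`), then there are `d ∈ D i`, `e ∈ V i`, `r ∈ O²(L i)` of order 3 with
`Blk B d e r`, and `C_B(r) = C_B(O²(L i))`.
-/

set_option autoImplicit false

namespace Cfsg.Agent.Omega.SQ1.TwistBlk

open Cfsg.Agent.MinSimple.PushUp Cfsg.Agent.Omega.PushUp Cfsg.Agent.Omega.SQ1.Match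
open Cfsg.Agent.Omega.SQ1.BlockO Cfsg.Agent.Omega.SQ1.Block Subgroup
open Cfsg.Agent.Omega.SQ1.TwistBase (Blk InV)

variable {G : Type*} [Group G] {ι : Type*}

/-- the elements of `V` outside `Z` form one coset -/
def Small (Z V : Subgroup G) : Prop := ∀ v ∈ V, ∀ w ∈ V, v ∉ Z → w ∉ Z → v * w ∈ Z

section dat

variable {A T L B Q V Z D : Subgroup G}

theorem index_two (h : Dat A T L B Q V Z D) [Finite G] (h2 : Small Z V) : Q.relIndex B = 2 := by
  rw [← idx_eq h, Subgroup.relIndex, Subgroup.index_eq_two_iff]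
  obtain ⟨l, hl, d, hd, hdZ⟩ := h.moves
  have he : cj l d ∈ V := h.cjV hl (h.DV hd)
  refine ⟨⟨cj l d, he⟩, fun b => ?_⟩
  rw [mem_subgroupOf, mem_subgroupOf]
  change Xor ((b : G) * cj l d ∈ Z) ((b : G) ∈ Z)
  by_cases hb : (b : G) ∈ Z
  · right
    refine ⟨hb, fun h3 => hdZ ?_⟩
    have : cj l d = (b : G)⁻¹ * (b * cj l d) := by group
    rw [this]
    exact Z.mul_mem (Z.inv_mem hb) h3
  · left
    exact ⟨h2 _ b.2 _ he hb hdZ, hb⟩

theorem coset_Q (h : Dat A T L B Q V Z D) [Finite G] (h2 : Small Z V) {b b' : G} (hb : b ∈ B)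
    (hb' : b' ∈ B) (hbQ : b ∉ Q) (hbQ' : b' ∉ Q) : b⁻¹ * b' ∈ Q := by
  have h1 : (Q.subgroupOf B).index = 2 := index_two h h2
  have h3 := Subgroup.mul_mem_iff_of_index_two h1 (a := (⟨b, hb⟩ : B)⁻¹) (b := ⟨b', hb'⟩)
  rw [inv_mem_iff, mem_subgroupOf, mem_subgroupOf, mem_subgroupOf] at h3
  exact h3.2 (iff_of_false hbQ hbQ')

theorem exists_f (h : Dat A T L B Q V Z D) [Finite G] (h2 : Small Z V) : ∃ f ∈ B, f ∉ Q := by
  by_contra hno
  push Not at hno
  have h1 : Q.relIndex B = 1 := relIndex_eq_one.2 fun b hb => hno b hb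
  rw [index_two h h2] at h1
  omega

/-- the action of `B \ Q` on `V \ Z` -/
theorem exists_d (h : Dat A T L B Q V Z D) [Finite G] (h2 : Small Z V) :
    ∃ d ∈ D, d ≠ 1 ∧ (∀ x ∈ D, x = 1 ∨ x = d) ∧
      ∀ v ∈ V, v ∉ Z → ∀ b ∈ B, b ∉ Q → cj b v = d * v := by
  obtain ⟨l, hl, d₀, hd₀, hdZ⟩ := h.moves
  obtain ⟨f, hf, hfQ⟩ := exists_f h h2
  set e := cj l d₀ with he
  have heV : e ∈ V := h.cjV hl (h.DV hd₀)
  obtain ⟨d, hd, hde⟩ := h.commB heV hf
  have hdd : d * d = 1 := h.Vsq d (h.DV hd)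
  have hd1 : d ≠ 1 := by
    rintro rfl
    rw [one_mul, cj_eq_self] at hde
    exact h.ncomm e heV hdZ f hf hfQ hde.symm
  have key : ∀ v ∈ V, v ∉ Z → ∀ b ∈ B, b ∉ Q → cj b v = d * v := by
    intro v hv hvZ b hb hbQ
    have hz : e * v ∈ Z := h2 e heV v hv hdZ hvZ
    have hee : e * e = 1 := h.Vsq e heV
    have hve : v = e * (e * v) := by rw [← mul_assoc, hee, one_mul]
    have hq := coset_Q h h2 hf hb hfQ hbQ
    have h1 : cj b v = cj f (cj (f⁻¹ * b) v) := by rw [← cj_mul]; congr 1; group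
    have h3 : cj (f⁻¹ * b) v = v := cj_eq_self.2 (h.VcQ _ hq v hv)
    rw [h1, h3]
    conv_lhs => rw [hve, cj_prod, hde, cj_eq_self.2 (h.BcZ f hf _ hz)]
    rw [mul_assoc, ← hve]
  refine ⟨d, hd, hd1, ?_, key⟩
  let W : Subgroup G :=
    { carrier := {x | x = 1 ∨ x = d}
      one_mem' := Or.inl rfl
      mul_mem' := by
        rintro a b (rfl | rfl) (rfl | rfl)
        · left; simp
        · right; simp
        · right; simp
        · left; exact hdd
      inv_mem' := by
        rintro a (rfl | rfl)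
        · left; simp
        · right; exact inv_eq_of_mul_eq_one_left hdd }
  have hDW : D ≤ W := by
    refine h.Dgen.trans ((closure_le _).2 ?_)
    rintro _ ⟨v, hv, b, hb, rfl⟩
    have e1 : v * b * v⁻¹ * b⁻¹ = v * (cj b v)⁻¹ := by simp [cj, mul_assoc]
    rw [e1]
    by_cases hvZ : v ∈ Z
    · left
      rw [cj_eq_self.2 (h.BcZ b hb v hvZ), mul_inv_cancel]
    · by_cases hbQ : b ∈ Q
      · left
        rw [cj_eq_self.2 (h.VcQ b hbQ v hv), mul_inv_cancel]
      · right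
        rw [key v hv hvZ b hb hbQ, mul_inv_rev, ← mul_assoc, mul_inv_cancel, one_mul]
        exact inv_eq_of_mul_eq_one_left hdd
  exact fun x hx => hDW hx

/-- elements of `Z` modulo `C_Z(L)` -/
theorem Z_split (h : Dat A T L B Q V Z D) [Finite G] (h2 : Small Z V) {l d : G} (hl : l ∈ L)
    (hmv : Mv D Z l) (hd : d ∈ D) (hdl : cj l⁻¹ d ∉ Z) {z : G} (hz : z ∈ Z) :
    ∃ c ∈ Z, (∀ y ∈ L, y * c = c * y) ∧ (z = c ∨ z = d * c) := by
  by_cases h1 : cj l⁻¹ z ∈ Z
  · exact ⟨z, hz, fun y hy => cent_inter h hl hmv hz h1 hy, Or.inl rfl⟩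
  · have hdZ := h.DZ hd
    have hdd : d * d = 1 := h.Vsq d (h.DV hd)
    refine ⟨d * z, Z.mul_mem hdZ hz, ?_, Or.inr ?_⟩
    · have h3 : cj l⁻¹ (d * z) ∈ Z := by
        rw [cj_prod]
        exact h2 _ (h.cjV (L.inv_mem hl) (h.ZV hdZ)) _ (h.cjV (L.inv_mem hl) (h.ZV hz)) hdl h1
      exact fun y hy => cent_inter h hl hmv (Z.mul_mem hdZ hz) h3 hy
    · rw [← mul_assoc, hdd, one_mul]

end dat

theorem odd_pow_four (n : ℕ) (hn : 0 < n) : ∃ k m : ℕ, Odd (n / Nat.gcd n (4 ^ k)) ∧ 4 ^ k = 1 + 3 * m := by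
  obtain ⟨k, m, hm, he⟩ := Nat.exists_eq_two_pow_mul_odd (n := n) hn.ne'
  have h4 : ∀ k : ℕ, ∃ m, 4 ^ k = 1 + 3 * m := by
    intro k
    induction k with
    | zero => exact ⟨0, by norm_num⟩
    | succ k ih =>
      obtain ⟨m, hm⟩ := ih
      exact ⟨4 * m + 1, by rw [pow_succ, hm]; ring⟩
  obtain ⟨m', hm'⟩ := h4 k
  refine ⟨k, m', ?_, hm'⟩
  have h5 : Nat.gcd n (4 ^ k) = 2 ^ k := by
    have e : (4 : ℕ) ^ k = 2 ^ k * 2 ^ k := by rw [← mul_pow]; norm_num
    rw [he, e, Nat.gcd_mul_left]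
    have : Nat.gcd m (2 ^ k) = 1 := Nat.Coprime.pow_right _ (Nat.coprime_two_right.2 hm)
    rw [this, mul_one]
  rw [h5, he, Nat.mul_div_cancel_left _ (by positivity)]
  exact hm

variable {A T B Z P : Subgroup G} {s : G} {L Q V D : ι → Subgroup G}

/-- an element of `O²(L i)` which centralises `V i` lies in `P` -/
theorem mem_P (h : MIn A T B Z P s L Q V D) [Finite G] (hB2 : IsPGroup 2 B)
    (hself : centralizer (P : Set G) ≤ P) {i j : ι} (hp : Par s V i j) {u : G}
    (hu : u ∈ O2 (L i)) (huV : ∀ v ∈ V i, u * v = v * u) : u ∈ P ∧ ∀ x ∈ Q i, u * x = x * u := by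
  obtain ⟨l, hl, hmv⟩ := (h.dat i).moves
  have hQ : ∀ x ∈ Q i, u * x = x * u := by
    intro x hx
    obtain ⟨v, hv, c, hc, rfl⟩ := dec h hp hl hmv hx
    have h1 : Commute u v := huV v hv
    have h2 : Commute u c := O2_cent h hp hB2 hl hmv hu hc
    exact (h1.mul_right h2).eq
  refine ⟨hself ?_, hQ⟩
  rw [mem_centralizer_iff]
  intro x hx
  exact (hQ x (((h.Pmem x).1 hx).2 i)).symm

theorem eq_one_of_odd {B : Subgroup G} (hB2 : IsPGroup 2 B) {u : G} (hu : u ∈ B)
    (hodd : Odd (orderOf u)) : u = 1 := by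
  obtain ⟨k, hk⟩ := hB2 ⟨u, hu⟩
  have h4 : orderOf u ∣ 2 ^ k := by
    apply orderOf_dvd_of_pow_eq_one
    simpa using congrArg Subtype.val hk
  have h5 : Nat.Coprime (2 ^ k) (orderOf u) := Nat.Coprime.pow_left _ (Nat.coprime_two_left.2 hodd)
  exact orderOf_eq_one_iff.1 (Nat.eq_one_of_dvd_coprimes h5 h4 dvd_rfl)

/-- The block data of `MIn` for `q = 2`. -/
structure BlkD (B Z V D L : Subgroup G) (d e r : G) : Prop where
  blk : Blk B d e r
  dD : d ∈ D
  Deq : ∀ x ∈ D, x = 1 ∨ x = d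
  eV : e ∈ V
  eZ : e ∉ Z
  rO : r ∈ O2 L
  rB : ∀ b ∈ B, b * r = r * b → ∀ y ∈ O2 L, y * b = b * y

/-- **The block `A₄`** for `q = 2`. -/
theorem exists_blk (h : MIn A T B Z P s L Q V D) [Finite ι] [Finite G] (hB2 : IsPGroup 2 B)
    (hself : centralizer (P : Set G) ≤ P) {i j : ι} (hp : Par s V i j) (h2 : Small Z (V i)) :
    ∃ d e r, BlkD B Z (V i) (D i) (L i) d e r := by
  have hd := h.dat i
  obtain ⟨f, hf, hfQ⟩ := exists_f hd h2
  obtain ⟨d, hdD, hd1, hDeq, hact⟩ := exists_d hd h2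
  obtain ⟨l, hl, hmv⟩ := hd.moves
  have hlinv := (L i).inv_mem hl
  -- the element `e`
  have hdl : cj l d ∉ Z := by
    obtain ⟨x, hx, hxZ⟩ := hmv
    rcases hDeq x hx with rfl | rfl
    · exfalso; apply hxZ; simp [cj]
    · exact hxZ
  have hdl' : cj l⁻¹ d ∉ Z := by
    obtain ⟨x, hx, hxZ⟩ := hd.mvinv l hl hmv
    rcases hDeq x hx with rfl | rfl
    · exfalso; apply hxZ; simp [cj]
    · exact hxZ
  set e := cj l d with he
  have hdZ : d ∈ Z := hd.DZ hdD
  have hdV : d ∈ V i := hd.ZV hdZ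
  have hdB : d ∈ B := hd.VB hdV
  have heV : e ∈ V i := hd.cjV hl hdV
  have heB : e ∈ B := hd.VB heV
  have hdd : d * d = 1 := hd.Vsq d hdV
  have hee : e * e = 1 := hd.Vsq e heV
  have hde : d * e = e * d := (hd.BcZ e heB d hdZ).symm
  have hdB' : ∀ b ∈ B, d * b = b * d := fun b hb => (hd.BcZ b hb d hdZ).symm
  -- `V i = ⟨d, e⟩ C_Z(L i)`
  have hsplit : ∀ v ∈ V i, ∃ w c, InV d e w ∧ c ∈ Z ∧ (∀ y ∈ L i, y * c = c * y) ∧ v = w * c := by
    intro v hv
    by_cases hvZ : v ∈ Z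
    · obtain ⟨c, hc, hcL, h1 | h1⟩ := Z_split hd h2 hl hmv hdD hdl' hvZ
      · exact ⟨1, c, Or.inl rfl, hc, hcL, by rw [h1, one_mul]⟩
      · exact ⟨d, c, Or.inr (Or.inl rfl), hc, hcL, h1⟩
    · have hz : e * v ∈ Z := h2 e heV v hv hdl hvZ
      have hve : v = e * (e * v) := by rw [← mul_assoc, hee, one_mul]
      obtain ⟨c, hc, hcL, h1 | h1⟩ := Z_split hd h2 hl hmv hdD hdl' hz
      · exact ⟨e, c, Or.inr (Or.inr (Or.inl rfl)), hc, hcL, by rw [hve, h1]⟩
      · exact ⟨d * e, c, Or.inr (Or.inr (Or.inr rfl)), hc, hcL, by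
          rw [hve, h1, hde, mul_assoc]⟩
  -- the actions
  have fd : cj f d = d := cj_eq_self.2 (hd.BcZ f hf d hdZ)
  have fe : cj f e = d * e := hact e heV hdl f hf hfQ
  set g := cj l f with hg
  have ge : cj g e = e := by
    have e1 : cj g e = cj l (cj f (cj l⁻¹ e)) := by rw [hg, cj_cj]
    rw [e1, he, cj_inv_cj, fd]
  have gd : cj g d = e * d := by
    have e1 : cj g d = cj l (cj f (cj l⁻¹ d)) := by rw [hg, cj_cj]
    rw [e1, hact _ (hd.cjV hlinv hdV) hdl' f hf hfQ, cj_prod, cj_cj_inv]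
  set r₀ := f * g with hr₀
  have hfL : f ∈ L i := hd.BL hf
  have hgL : g ∈ L i := (L i).mul_mem ((L i).mul_mem hl hfL) hlinv
  have hr₀L : r₀ ∈ L i := (L i).mul_mem hfL hgL
  have rd₀ : cj r₀ d = e := by
    rw [hr₀, cj_mul, gd, cj_prod, fe, fd, mul_assoc, ← hde, ← mul_assoc, hdd, one_mul]
  have re₀ : cj r₀ e = d * e := by rw [hr₀, cj_mul, ge, fe]
  have rde₀ : cj r₀ (d * e) = d := by
    rw [cj_prod, rd₀, re₀, ← mul_assoc, ← hde, mul_assoc, hee, mul_one]
  -- `r₀³` centralises `V i`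
  have cL : ∀ {c y : G}, (∀ y ∈ L i, y * c = c * y) → y ∈ L i → cj y c = c := fun hc hy =>
    cj_eq_self.2 (hc _ hy)
  have tri : ∀ {y : G}, y ∈ L i → cj y d = d → cj y e = e → ∀ v ∈ V i, y * v = v * y := by
    intro y hy h1 h3 v hv
    obtain ⟨w, c, hw, -, hcL, rfl⟩ := hsplit v hv
    apply cj_eq_self.1
    rw [cj_prod, cL hcL hy]
    congr 1
    rcases hw with rfl | rfl | rfl | rfl
    · simp [cj]
    · exact h1
    · exact h3
    · rw [cj_prod, h1, h3]
  have r3₀ : ∀ v ∈ V i, (r₀ * r₀ * r₀) * v = v * (r₀ * r₀ * r₀) := by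
    apply tri ((L i).mul_mem ((L i).mul_mem hr₀L hr₀L) hr₀L)
    · rw [cj_mul, cj_mul, rd₀, re₀, rde₀]
    · rw [cj_mul, cj_mul, re₀, rde₀, rd₀]
  -- the element `r`
  obtain ⟨k, m, hodd, h4⟩ := odd_pow_four (orderOf r₀) (orderOf_pos r₀)
  set r := r₀ ^ 4 ^ k with hr
  have hrL : r ∈ L i := (L i).pow_mem hr₀L _
  have hrodd : Odd (orderOf r) := by
    rw [hr, orderOf_pow]
    exact hodd
  have hr0 : ∀ v ∈ V i, cj r v = cj r₀ v := by
    intro v hv
    have e1 : r = r₀ * (r₀ * r₀ * r₀) ^ m := by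
      have e2 : r₀ * r₀ * r₀ = r₀ ^ 3 := by rw [pow_succ, pow_two]
      rw [hr, h4, pow_add, pow_one, pow_mul, e2]
    have h5 : Commute ((r₀ * r₀ * r₀) ^ m) v := (show Commute _ v from r3₀ v hv).pow_left m
    rw [e1, cj_mul, cj_eq_self.2 h5.eq]
  have rd : cj r d = e := by rw [hr0 d hdV, rd₀]
  have re : cj r e = d * e := by rw [hr0 e heV, re₀]
  have rde : cj r (d * e) = d := by rw [hr0 _ ((V i).mul_mem hdV heV), rde₀]
  have hrO : r ∈ O2 (L i) := mem_O2 hrL hrodd
  have r3 : r * r * r = 1 := by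
    have h5 : r * r * r = r ^ 3 := by rw [pow_succ, pow_two]
    have h6 : ∀ v ∈ V i, (r * r * r) * v = v * (r * r * r) := by
      apply tri ((L i).mul_mem ((L i).mul_mem hrL hrL) hrL)
      · rw [cj_mul, cj_mul, rd, re, rde]
      · rw [cj_mul, cj_mul, re, rde, rd]
    have h7 := mem_P h hB2 hself hp (mul_mem (mul_mem hrO hrO) hrO) h6
    refine eq_one_of_odd hB2 ((h.Pmem _).1 h7.1).1 ?_
    rw [h5, orderOf_pow]
    exact Odd.of_dvd_nat hrodd (Nat.div_dvd_of_dvd (Nat.gcd_dvd_left _ _))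
  -- elements of `Q i` act on `r` like elements of `⟨d, e⟩`
  have vr : ∀ w, InV d e w → ∃ w', InV d e w' ∧ cj w r = r * w' := by
    have ri : ∀ {x y : G}, cj r x = y → r⁻¹ * y = x * r⁻¹ := by
      intro x y hxy
      rw [← hxy]; simp [cj, mul_assoc]
    have key : ∀ {x y : G}, cj r x = y → cj y r = r * (x * y⁻¹) := by
      intro x y hxy
      have : y = r * x * r⁻¹ := hxy.symm
      have e1 : cj y r = y * r * y⁻¹ := rfl
      rw [e1]
      nth_rw 1 [this]
      group
    rintro w (rfl | rfl | rfl | rfl)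
    · exact ⟨1, Or.inl rfl, by simp [cj]⟩
    · refine ⟨e, Or.inr (Or.inr (Or.inl rfl)), ?_⟩
      rw [key rde, inv_eq_of_mul_eq_one_left hdd, hde, mul_assoc, hdd, mul_one]
    · refine ⟨d * e, Or.inr (Or.inr (Or.inr rfl)), ?_⟩
      rw [key rd, inv_eq_of_mul_eq_one_left hee]
    · refine ⟨d, Or.inr (Or.inl rfl), ?_⟩
      have h5 : (d * e)⁻¹ = d * e := inv_eq_of_mul_eq_one_left (hd.Vsq _ ((V i).mul_mem hdV heV))
      have h6 : e * (d * e) = d := by rw [hde, ← mul_assoc, hee, one_mul]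
      rw [key re, h5, h6]
  have inQ : ∀ b ∈ B, b * e = e * b → b ∈ Q i := by
    intro b hb hbe
    by_contra hbQ
    exact hd.ncomm e heV hdl b hb hbQ hbe.symm
  have decQ : ∀ b ∈ Q i, ∃ w c, InV d e w ∧ (∀ y ∈ O2 (L i), y * c = c * y) ∧ b = w * c := by
    intro b hb
    obtain ⟨v, hv, c, hc, rfl⟩ := dec h hp hl hmv hb
    obtain ⟨w, c', hw, -, hc'L, rfl⟩ := hsplit v hv
    refine ⟨w, c' * c, hw, fun y hy => ?_, by rw [mul_assoc]⟩
    have h5 : Commute y c' := hc'L y (O2_le _ hy)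
    have h6 : Commute y c := O2_cent h hp hB2 hl hmv hy hc
    exact (h5.mul_right h6).eq
  have inner : ∀ b ∈ B, b * e = e * b → ∃ v, InV d e v ∧ cj b r = r * v := by
    intro b hb hbe
    obtain ⟨w, c, hw, hc, rfl⟩ := decQ b (inQ b hb hbe)
    have h5 : cj c r = r := cj_eq_self.2 (hc r hrO).symm
    rw [cj_mul, h5]
    exact vr w hw
  have fV : ∀ v, InV d e v → InV d e (cj f v) := by
    rintro v (rfl | rfl | rfl | rfl)
    · left; simp [cj]
    · right; left; exact fd
    · right; right; right; exact fe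
    · right; right; left; rw [cj_prod, fd, fe, ← mul_assoc, hdd, one_mul]
  have mulV : ∀ v w, InV d e v → InV d e w → InV d e (v * w) := by
    intro v w hv hw
    rcases hv with rfl | rfl | rfl | rfl <;> rcases hw with rfl | rfl | rfl | rfl
    · left; rw [one_mul]
    · right; left; rw [one_mul]
    · right; right; left; rw [one_mul]
    · right; right; right; rw [one_mul]
    · right; left; rw [mul_one]
    · left; exact hdd
    · right; right; right; rfl
    · right; right; left; rw [← mul_assoc, hdd, one_mul]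
    · right; right; left; rw [mul_one]
    · right; right; right; exact hde.symm
    · left; exact hee
    · right; left; rw [hde, ← mul_assoc, hee, one_mul]
    · right; right; right; rw [mul_one]
    · right; right; left; rw [hde, mul_assoc, hdd, mul_one]
    · right; left; rw [mul_assoc, hee, mul_one]
    · left; exact hd.Vsq _ ((V i).mul_mem hdV heV)
  have rV : ∀ v, InV d e v → InV d e (cj r v) := by
    rintro v (rfl | rfl | rfl | rfl)
    · left; simp [cj]
    · right; right; left; exact rd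
    · right; right; right; exact re
    · right; left; exact rde
  have memVi : ∀ v, InV d e v → v ∈ V i := by
    rintro v (rfl | rfl | rfl | rfl)
    · exact (V i).one_mem
    · exact hdV
    · exact heV
    · exact (V i).mul_mem hdV heV
  -- `f` inverts `r` modulo `⟨d, e⟩`
  have finv : ∃ w, InV d e w ∧ cj f r = w * r⁻¹ := by
    set u := cj f r * r with hu
    have huO : u ∈ O2 (L i) := mul_mem (O2_norm hfL hrO) hrO
    have huL : u ∈ L i := O2_le _ huO
    have fi : ∀ {x y : G}, cj f x = y → cj f⁻¹ y = x := by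
      intro x y hxy; rw [← hxy, cj_inv_cj]
    have fde : cj f (d * e) = e := by rw [cj_prod, fd, fe, ← mul_assoc, hdd, one_mul]
    have hud : cj u d = d := by
      rw [hu, cj_mul, rd, cj_cj, fi fde, rde, fd]
    have hue : cj u e = e := by
      rw [hu, cj_mul, re, cj_cj, fi fe, re, fde]
    obtain ⟨huP, huQ⟩ := mem_P h hB2 hself hp huO (tri huL hud hue)
    refine ⟨u, ?_, by rw [hu, mul_assoc, mul_inv_cancel, mul_one]⟩
    -- `u = w c`
    obtain ⟨w, c, hw, hc, huw⟩ := decQ u (((h.Pmem u).1 huP).2 i)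
    have hwV := memVi w hw
    have hcu : c = w⁻¹ * u := by rw [huw]; group
    have huw' : u * w = w * u := huQ w (hd.VQ hwV)
    -- `(cj f r)³ = 1`
    have h5 : cj f r * cj f r * cj f r = 1 := by
      rw [← cj_prod, ← cj_prod, r3]; simp [cj]
    have h6 : cj f r = u * r⁻¹ := by rw [hu, mul_assoc, mul_inv_cancel, mul_one]
    rw [h6] at h5
    -- powers
    have hcr : r⁻¹ * c = c * r⁻¹ := hc _ (inv_mem hrO)
    have e1 : u * r⁻¹ * (u * r⁻¹) * (u * r⁻¹) =
        (w * cj r⁻¹ w * cj (r⁻¹ * r⁻¹) w) * (c * c * c) * (r⁻¹ * r⁻¹ * r⁻¹) := by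
      have c1 : Commute c r⁻¹ := (show Commute r⁻¹ c from hcr).symm
      -- `c` commutes with conjugates of `w`
      have c2 : ∀ y : G, y ∈ L i → Commute c (cj y w) := by
        intro y hy
        have h7 : cj y w ∈ V i := hd.cjV hy hwV
        have h8 : Commute u (cj y w) := huQ _ (hd.VQ h7)
        have h9 : Commute w (cj y w) := hd.VcQ w (hd.VQ hwV) _ h7
        rw [hcu]
        exact h9.inv_left.mul_left h8
      have hri : r⁻¹ ∈ L i := (L i).inv_mem hrL
      have hrii : r⁻¹ * r⁻¹ ∈ L i := (L i).mul_mem hri hri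
      have s1 : r⁻¹ * w = cj r⁻¹ w * r⁻¹ := by simp [cj, mul_assoc]
      have s2 : r⁻¹ * cj r⁻¹ w = cj (r⁻¹ * r⁻¹) w * r⁻¹ := by simp [cj, mul_assoc]
      have c3 := (c2 _ hri).eq
      have c4 := (c2 _ hrii).eq
      rw [huw]
      calc w * c * r⁻¹ * (w * c * r⁻¹) * (w * c * r⁻¹)
          = w * c * (r⁻¹ * w) * c * r⁻¹ * w * c * r⁻¹ := by simp only [mul_assoc]
        _ = w * c * (cj r⁻¹ w * r⁻¹) * c * r⁻¹ * w * c * r⁻¹ := by rw [s1]
        _ = w * (c * cj r⁻¹ w) * (r⁻¹ * c) * (r⁻¹ * w) * c * r⁻¹ := by simp only [mul_assoc]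
        _ = w * (cj r⁻¹ w * c) * (c * r⁻¹) * (cj r⁻¹ w * r⁻¹) * c * r⁻¹ := by
          rw [c3, hcr, s1]
        _ = w * cj r⁻¹ w * c * c * (r⁻¹ * cj r⁻¹ w) * (r⁻¹ * c) * r⁻¹ := by
          simp only [mul_assoc]
        _ = w * cj r⁻¹ w * c * c * (cj (r⁻¹ * r⁻¹) w * r⁻¹) * (c * r⁻¹) * r⁻¹ := by
          rw [s2, hcr]
        _ = w * cj r⁻¹ w * c * (c * cj (r⁻¹ * r⁻¹) w) * (r⁻¹ * c) * r⁻¹ * r⁻¹ := by
          simp only [mul_assoc]
        _ = w * cj r⁻¹ w * c * (cj (r⁻¹ * r⁻¹) w * c) * (c * r⁻¹) * r⁻¹ * r⁻¹ := by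
          rw [c4, hcr]
        _ = w * cj r⁻¹ w * (c * cj (r⁻¹ * r⁻¹) w) * c * c * r⁻¹ * r⁻¹ * r⁻¹ := by
          simp only [mul_assoc]
        _ = w * cj r⁻¹ w * (cj (r⁻¹ * r⁻¹) w * c) * c * c * r⁻¹ * r⁻¹ * r⁻¹ := by rw [c4]
        _ = _ := by simp only [mul_assoc]
    have hri3 : r⁻¹ * r⁻¹ * r⁻¹ = 1 := by
      calc r⁻¹ * r⁻¹ * r⁻¹ = (r * r * r)⁻¹ := by group
        _ = 1 := by rw [r3, inv_one]
    have hrr : r⁻¹ * r⁻¹ = r := by
      rw [← mul_inv_rev, inv_eq_iff_mul_eq_one]; exact r3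
    -- the norm of `w`
    have ri_d : cj r⁻¹ d = d * e := by
      have h7 := congrArg (cj r⁻¹) rde
      rw [cj_inv_cj] at h7
      exact h7.symm
    have ri_e : cj r⁻¹ e = d := by
      have h7 := congrArg (cj r⁻¹) rd
      rw [cj_inv_cj] at h7
      exact h7.symm
    have hnorm : w * cj r⁻¹ w * cj (r⁻¹ * r⁻¹) w = 1 := by
      rw [hrr]
      rcases hw with rfl | rfl | rfl | rfl
      · simp [cj]
      · rw [ri_d, rd, ← mul_assoc, hdd, one_mul, hee]
      · rw [ri_e, re, ← hde, hd.Vsq _ ((V i).mul_mem hdV heV)]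
      · have ri_de : cj r⁻¹ (d * e) = e := by
          have h7 := congrArg (cj r⁻¹) re
          rw [cj_inv_cj] at h7
          exact h7.symm
        rw [ri_de, rde, mul_assoc d e e, hee, mul_one, hdd]
    rw [e1, hnorm, hri3, one_mul, mul_one] at h5
    -- `c² = 1`
    have hcc : c * c = 1 := by
      have huu : u * u = 1 := h.Psq i huP
      have hww : w * w = 1 := hd.Vsq w hwV
      rw [hcu, inv_eq_of_mul_eq_one_left hww]
      calc w * u * (w * u) = w * (u * w) * u := by group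
        _ = (w * w) * (u * u) := by rw [huw']; group
        _ = 1 := by rw [hww, huu, one_mul]
    rw [hcc, one_mul] at h5
    rw [huw, h5, mul_one]
    exact hw
  have outer : ∀ b ∈ B, b * e ≠ e * b → ∃ v, InV d e v ∧ cj b r = r⁻¹ * v := by
    intro b hb hbe
    have hbQ : b ∉ Q i := fun hq => hbe (hd.VcQ b hq e heV)
    have hq := coset_Q hd h2 hf hb hfQ hbQ
    obtain ⟨v, hv, h5⟩ := inner _ (hd.QB hq) (hd.VcQ _ hq e heV)
    obtain ⟨w, hw, h6⟩ := finv
    refine ⟨cj r w * cj f v, mulV _ _ (rV w hw) (fV v hv), ?_⟩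
    have e1 : cj b r = cj f (cj (f⁻¹ * b) r) := by rw [← cj_mul]; congr 1; group
    rw [e1, h5, cj_prod, h6]
    simp [cj, mul_assoc]
  refine ⟨d, e, r, ⟨hdB, heB, hdB', hdd, hee, hd1, rd, re, r3, inner, outer⟩, hdD, hDeq, heV, hdl,
    hrO, ?_⟩
  intro b hb hbr y hy
  -- `b` commutes with `e`
  have hbe : b * e = e * b := by
    have h5 : Commute b r := hbr
    have h6 : Commute b d := (hdB' b hb).symm
    rw [← rd]
    exact ((h5.mul_right h6).mul_right h5.inv_right).eq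
  obtain ⟨w, c, hw, hc, rfl⟩ := decQ b (inQ b hb hbe)
  -- `w` commutes with `r`
  have hwr : w * r = r * w := by
    have h5 : Commute (w * c) r := hbr
    have h6 : Commute c r := (hc r hrO).symm
    have h7 : w = (w * c) * c⁻¹ := by group
    have h8 : Commute ((w * c) * c⁻¹) r := h5.mul_left h6.inv_left
    rw [← h7] at h8
    exact h8.eq
  have hw1 : w = 1 := by
    have h5 : cj r w = w := cj_eq_self.2 hwr.symm
    have hne1 : e ≠ d := by
      intro h6
      rw [h6] at re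
      rw [h6] at rd
      rw [rd] at re
      exact hd1 (by simpa using re.symm)
    rcases hw with rfl | rfl | rfl | rfl
    · rfl
    · rw [rd] at h5; exact absurd h5 hne1
    · rw [re] at h5
      exact absurd (by simpa using h5) hd1
    · rw [rde] at h5
      exfalso
      apply hdl
      have : e = 1 := by simpa using h5.symm
      rw [this]; exact Z.one_mem
  rw [hw1, one_mul]
  exact hc y hy

end Cfsg.Agent.Omega.SQ1.TwistBlk

end

section


/-!
# Transvections and intrinsic blocks (project OMEGA, SQ1, L7; step (e) of #11855)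

`V` is an elementary abelian 2-group, `X` a subgroup of `MulAut V`, `t l` (`l ∈ ι`, `ι` finite) are pairwise
commuting, different transvections; every 2-subgroup of `X` has a conjugate in which the `X`-conjugates of the
`t l` are among the `t l`.  Then a subgroup of order 3 of `X` which is inverted by `t l` and centralised by the other
`t k` is unique (`unique_block`).
-/

set_option autoImplicit false

namespace Cfsg.Agent.Omega.SQ1.Transv

open Subgroup

universe u v

/-- A group generated by commuting involutions is a 2-group. -/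
theorem isPGroup_closure {M : Type u} [Group M] {S : Set M} (h2 : ∀ s ∈ S, s * s = 1)
    (hc : ∀ s ∈ S, ∀ t ∈ S, s * t = t * s) : IsPGroup 2 (closure S) := by
  have h1 : closure S ≤ centralizer (closure S : Set M) := by
    have h3 : S ⊆ centralizer S := fun s hs => mem_centralizer_iff.mpr fun t ht => hc t ht s hs
    have h4 : closure S ≤ centralizer S := (closure_le _).mpr h3
    have h5 : S ⊆ centralizer (closure S : Set M) := fun s hs =>
      mem_centralizer_iff.mpr fun t ht => (mem_centralizer_iff.mp (h4 ht) s hs).symm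
    exact (closure_le _).mpr h5
  have h3 : ∀ a ∈ closure S, a * a = 1 := by
    intro a ha
    induction ha using closure_induction with
    | mem x hx => exact h2 x hx
    | one => simp
    | mul x y hx hy ihx ihy =>
      have h6 : x * y = y * x := (mem_centralizer_iff.mp (h1 hy) x hx)
      calc x * y * (x * y) = x * (y * x) * y := by group
        _ = x * (x * y) * y := by rw [h6]
        _ = (x * x) * (y * y) := by group
        _ = 1 := by rw [ihx, ihy, one_mul]
    | inv x hx ih => rw [← mul_inv_rev, ih, inv_one]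
  rintro ⟨a, ha⟩
  refine ⟨1, Subtype.ext ?_⟩
  rw [pow_one, pow_two]
  exact h3 a ha

variable {V : Type u} [Group V]

/-- `σ` is a transvection with centre `c`. -/
structure IsTv (σ : MulAut V) (c : V) : Prop where
  ne : c ≠ 1
  act : ∀ v, σ v = v ∨ σ v = v * c
  mov : ∃ v, σ v ≠ v

theorem comm_of_sq (hV : ∀ v : V, v * v = 1) (v w : V) : v * w = w * v := by
  have h : (v * w)⁻¹ = v * w := inv_eq_of_mul_eq_one_right (hV _)
  rw [← h, mul_inv_rev, inv_eq_of_mul_eq_one_right (hV v), inv_eq_of_mul_eq_one_right (hV w)]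

section

variable {σ τ : MulAut V} {c b : V}

theorem IsTv.fix (hV : ∀ v : V, v * v = 1) (h : IsTv σ c) : σ c = c := by
  rcases h.act c with h1 | h1
  · exact h1
  · rw [hV c] at h1
    exact absurd ((map_eq_one_iff σ σ.injective).mp h1) h.ne

theorem IsTv.apply_apply (hV : ∀ v : V, v * v = 1) (h : IsTv σ c) (v : V) : σ (σ v) = v := by
  rcases h.act v with h1 | h1
  · rw [h1, h1]
  · rw [h1, map_mul, h1, h.fix hV, mul_assoc, hV c, mul_one]

theorem IsTv.sq (hV : ∀ v : V, v * v = 1) (h : IsTv σ c) : σ * σ = 1 := by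
  ext v
  exact h.apply_apply hV v

theorem IsTv.inv (hV : ∀ v : V, v * v = 1) (h : IsTv σ c) : σ⁻¹ = σ :=
  inv_eq_of_mul_eq_one_right (h.sq hV)

theorem IsTv.conj (h : IsTv σ c) (g : MulAut V) : IsTv (g * σ * g⁻¹) (g c) := by
  refine ⟨fun h1 => h.ne ((map_eq_one_iff g g.injective).mp h1), fun v => ?_, ?_⟩
  · have e : (g * σ * g⁻¹) v = g (σ (g⁻¹ v)) := rfl
    have e2 : g (g⁻¹ v) = v := by
      have : (g * g⁻¹) v = v := by rw [mul_inv_cancel]; rfl
      exact this
    rcases h.act (g⁻¹ v) with h1 | h1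
    · left; rw [e, h1, e2]
    · right; rw [e, h1, map_mul, e2]
  · obtain ⟨v, hv⟩ := h.mov
    refine ⟨g v, fun h1 => hv ?_⟩
    have e : (g * σ * g⁻¹) (g v) = g (σ v) := by
      have : (g⁻¹ * g) v = v := by rw [inv_mul_cancel]; rfl
      change g (σ (g⁻¹ (g v))) = _
      change g (σ ((g⁻¹ * g) v)) = _
      rw [this]
    rw [e] at h1
    exact g.injective h1

theorem IsTv.comm_of_fix (hV : ∀ v : V, v * v = 1) (h : IsTv σ c) (h' : IsTv τ b)
    (h1 : σ b = b) (h2 : τ c = c) : σ * τ = τ * σ := by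
  ext v
  change σ (τ v) = τ (σ v)
  rcases h.act v with h3 | h3 <;> rcases h'.act v with h4 | h4
  · rw [h3, h4, h3]
  · rw [h3, h4, map_mul, h3, h1]
  · rw [h3, h4, map_mul, h4, h2, h3]
  · rw [h3, h4, map_mul, h3, h1, map_mul, h4, h2, mul_assoc, mul_assoc, comm_of_sq hV c b]

theorem isPGroup_closure_pair_of_fix (hV : ∀ v : V, v * v = 1) (h : IsTv σ c) (h' : IsTv τ b)
    (h2 : τ c = c) : IsPGroup 2 (closure ({σ, τ} : Set (MulAut V))) := by
  have : Fact (Nat.Prime 2) := ⟨Nat.prime_two⟩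
  have hτ := h'.inv hV
  have hs : IsTv (τ * σ * τ⁻¹) c := by
    have := h.conj τ
    rwa [h2] at this
  have hcomm : σ * (τ * σ * τ⁻¹) = (τ * σ * τ⁻¹) * σ :=
    h.comm_of_fix hV hs (h.fix hV) (hs.fix hV)
  have h3 : IsPGroup 2 (closure ({σ, τ * σ * τ⁻¹} : Set (MulAut V))) := by
    refine isPGroup_closure ?_ ?_
    · rintro s (rfl | rfl)
      · exact h.sq hV
      · exact hs.sq hV
    · rintro s (rfl | rfl) t (rfl | rfl)
      · rfl
      · exact hcomm
      · exact hcomm.symm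
      · rfl
  have h4 : IsPGroup 2 (closure ({τ} : Set (MulAut V))) :=
    isPGroup_closure (by
        intro s hs
        rw [Set.mem_singleton_iff] at hs
        rw [hs]
        exact h'.sq hV)
      (by
        intro s hs t ht
        rw [Set.mem_singleton_iff] at hs ht
        rw [hs, ht])
  have hττ := h'.sq hV
  have h5 : closure ({τ} : Set (MulAut V)) ≤
      normalizer (closure ({σ, τ * σ * τ⁻¹} : Set (MulAut V)) : Set (MulAut V)) := by
    rw [closure_le]
    intro s hs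
    rw [Set.mem_singleton_iff] at hs
    rw [hs]
    have key : ∀ x ∈ closure ({σ, τ * σ * τ⁻¹} : Set (MulAut V)),
        τ * x * τ⁻¹ ∈ closure ({σ, τ * σ * τ⁻¹} : Set (MulAut V)) := by
      intro x hx
      have h6 : closure ({σ, τ * σ * τ⁻¹} : Set (MulAut V)) ≤
          (closure ({σ, τ * σ * τ⁻¹} : Set (MulAut V))).comap (MulAut.conj τ).toMonoidHom := by
        rw [closure_le]
        rintro s (rfl | rfl)
        · exact subset_closure (by simp)
        · change τ * (τ * σ * τ⁻¹) * τ⁻¹ ∈ Subgroup.closure ({σ, τ * σ * τ⁻¹} : Set (MulAut V))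
          have e : τ * (τ * σ * τ⁻¹) * τ⁻¹ = σ := by
            calc τ * (τ * σ * τ⁻¹) * τ⁻¹ = (τ * τ) * σ * (τ * τ)⁻¹ := by group
              _ = σ := by rw [hττ]; group
          rw [e]
          exact subset_closure (by simp)
      exact h6 hx
    rw [SetLike.mem_coe, mem_normalizer_iff]
    intro x
    refine ⟨key x, fun hx => ?_⟩
    have h7 := key _ hx
    have e : τ * (τ * x * τ⁻¹) * τ⁻¹ = x := by
      calc τ * (τ * x * τ⁻¹) * τ⁻¹ = (τ * τ) * x * (τ * τ)⁻¹ := by group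
        _ = x := by rw [hττ]; group
    rwa [e] at h7
  have h6 := IsPGroup.to_sup_of_normal_left' h3 h4 h5
  refine h6.to_le ((closure_le _).mpr ?_)
  intro s hs
  rcases hs with hs | hs
  · rw [hs]
    have h7 : σ ∈ Subgroup.closure ({σ, τ * σ * τ⁻¹} : Set (MulAut V)) := subset_closure (by simp)
    exact (le_sup_left : _ ≤ Subgroup.closure ({σ, τ * σ * τ⁻¹} : Set (MulAut V)) ⊔
      Subgroup.closure ({τ} : Set (MulAut V))) h7
  · rw [Set.mem_singleton_iff] at hs
    rw [hs]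
    have h7 : τ ∈ Subgroup.closure ({τ} : Set (MulAut V)) := subset_closure (by simp)
    exact (le_sup_right : _ ≤ Subgroup.closure ({σ, τ * σ * τ⁻¹} : Set (MulAut V)) ⊔
      Subgroup.closure ({τ} : Set (MulAut V))) h7

end

/-! ### The setting -/

/-- the `X`-conjugates of the `t l` -/
def Tc {ι : Type v} (X : Subgroup (MulAut V)) (t : ι → MulAut V) (σ : MulAut V) : Prop :=
  ∃ h ∈ X, ∃ l, σ = h * t l * h⁻¹

/-- `X` acts on `V`; every 2-subgroup of `X` has an `X`-conjugate in which the conjugates of the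
different commuting transvections `t l` are among the `t l`. -/
structure Sit {ι : Type v} (X : Subgroup (MulAut V)) (t : ι → MulAut V) (c : ι → V) : Prop where
  sq : ∀ v : V, v * v = 1
  tX : ∀ l, t l ∈ X
  tv : ∀ l, IsTv (t l) (c l)
  comm : ∀ k l, t k * t l = t l * t k
  inj : Function.Injective t
  syl : ∀ P : Subgroup (MulAut V), IsPGroup 2 P → P ≤ X →
    ∃ g ∈ X, ∀ σ ∈ P, Tc X t σ → ∃ l, g * σ * g⁻¹ = t l

variable {ι : Type v} {X : Subgroup (MulAut V)} {t : ι → MulAut V} {c : ι → V}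

theorem Sit.exists_tv (S : Sit X t c) {σ : MulAut V} (hσ : Tc X t σ) : ∃ b, IsTv σ b := by
  obtain ⟨h, -, l, rfl⟩ := hσ
  exact ⟨_, (S.tv l).conj h⟩

theorem Sit.mem_X (S : Sit X t c) {σ : MulAut V} (hσ : Tc X t σ) : σ ∈ X := by
  obtain ⟨h, hh, l, rfl⟩ := hσ
  exact X.mul_mem (X.mul_mem hh (S.tX l)) (X.inv_mem hh)

theorem Tc.conj {σ g : MulAut V} (hg : g ∈ X) (hσ : Tc X t σ) : Tc X t (g * σ * g⁻¹) := by
  obtain ⟨h, hh, l, rfl⟩ := hσ
  exact ⟨g * h, X.mul_mem hg hh, l, by group⟩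

theorem Tc.self (l : ι) : Tc X t (t l) := ⟨1, X.one_mem, l, by group⟩

theorem Sit.comm_of_isPGroup (S : Sit X t c) {σ τ : MulAut V} (hσ : Tc X t σ) (hτ : Tc X t τ)
    (hP : IsPGroup 2 (closure ({σ, τ} : Set (MulAut V)))) :
    σ * τ = τ * σ := by
  obtain ⟨g, -, hg⟩ := S.syl _ hP (by
    rw [closure_le]
    rintro s (rfl | rfl)
    · exact S.mem_X hσ
    · exact S.mem_X hτ)
  obtain ⟨l, hl⟩ := hg σ (subset_closure (by simp)) hσ
  obtain ⟨m, hm⟩ := hg τ (subset_closure (by simp)) hτ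
  have h1 : g * (σ * τ) * g⁻¹ = g * (τ * σ) * g⁻¹ := by
    calc g * (σ * τ) * g⁻¹ = (g * σ * g⁻¹) * (g * τ * g⁻¹) := by group
      _ = (g * τ * g⁻¹) * (g * σ * g⁻¹) := by rw [hl, hm, S.comm]
      _ = g * (τ * σ) * g⁻¹ := by group
  exact mul_left_cancel (mul_right_cancel h1)

/-- Noncommuting transvections move each other's centre. -/
theorem Sit.moves (S : Sit X t c) {σ τ : MulAut V} {a b : V} (hσ : Tc X t σ) (hτ : Tc X t τ)
    (h : IsTv σ a) (h' : IsTv τ b) (hne : σ * τ ≠ τ * σ) : σ b = b * a ∧ τ a = a * b := by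
  have hV := S.sq
  have h1 : ¬ σ b = b := by
    intro h1
    refine hne (S.comm_of_isPGroup hτ hσ ?_).symm
    exact isPGroup_closure_pair_of_fix hV h' h h1
  have h2 : ¬ τ a = a := by
    intro h2
    refine hne (S.comm_of_isPGroup hσ hτ ?_)
    exact isPGroup_closure_pair_of_fix hV h h' h2
  exact ⟨(h.act b).resolve_left h1, (h'.act a).resolve_left h2⟩

theorem Sit.mem_family (S : Sit X t c) [Finite ι] {s : ι → MulAut V} (hs : ∀ k, Tc X t (s k))
    (hsc : ∀ k l, s k * s l = s l * s k)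
    (hinj : Function.Injective s) {τ : MulAut V} (hτ : Tc X t τ)
    (hc : ∀ k, τ * s k = s k * τ) : ∃ k, τ = s k := by
  have hP : IsPGroup 2 (closure (Set.insert τ (Set.range s))) := by
    refine isPGroup_closure ?_ ?_
    · rintro x (rfl | ⟨k, rfl⟩)
      · obtain ⟨b, hb⟩ := S.exists_tv hτ
        exact hb.sq S.sq
      · obtain ⟨b, hb⟩ := S.exists_tv (hs k)
        exact hb.sq S.sq
    · rintro x (rfl | ⟨k, rfl⟩) y (rfl | ⟨l, rfl⟩)
      · rfl
      · exact hc l
      · exact (hc k).symm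
      · exact hsc k l
  obtain ⟨g, -, hg⟩ := S.syl _ hP (by
    rw [closure_le]
    rintro x (rfl | ⟨k, rfl⟩)
    · exact S.mem_X hτ
    · exact S.mem_X (hs k))
  have h1 : ∀ k, ∃ l, g * s k * g⁻¹ = t l := by
    intro k
    exact hg _ (subset_closure (Or.inr ⟨k, rfl⟩)) (hs k)
  choose p hp using h1
  have hpinj : Function.Injective p := by
    intro k l hkl
    refine hinj ?_
    have h2 : g * s k * g⁻¹ = g * s l * g⁻¹ := by rw [hp, hp, hkl]
    exact mul_left_cancel (mul_right_cancel h2)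
  have hpsurj := Finite.surjective_of_injective hpinj
  obtain ⟨m, hm⟩ := hg τ (subset_closure (Or.inl rfl)) hτ
  obtain ⟨k, hk⟩ := hpsurj m
  refine ⟨k, ?_⟩
  have h2 : g * τ * g⁻¹ = g * s k * g⁻¹ := by rw [hm, hp, hk]
  exact mul_left_cancel (mul_right_cancel h2)

/-- The block of order 3 inverted by `t l` and centralised by the other `t k` is unique. -/
theorem Sit.unique_block (S : Sit X t c) [Finite ι] {r y : MulAut V} (l : ι) (hr : r ∈ X)
    (hy : y ∈ X) (hr3 : r * r * r = 1) (hr1 : r ≠ 1) (hy3 : y * y * y = 1) (hy1 : y ≠ 1)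
    (hrl : t l * r * (t l)⁻¹ = r⁻¹) (hyl : t l * y * (t l)⁻¹ = y⁻¹)
    (hrk : ∀ k, k ≠ l → t k * r = r * t k) (hyk : ∀ k, k ≠ l → t k * y = y * t k) :
    y = r ∨ y = r⁻¹ := by
  classical
  have hV := S.sq
  have htt : t l * t l = 1 := (S.tv l).sq hV
  have hti : (t l)⁻¹ = t l := (S.tv l).inv hV
  -- general facts on the transvection `z t z⁻¹` for `z = r, y`
  have gen : ∀ z : MulAut V, z ∈ X → z * z * z = 1 → z ≠ 1 → t l * z * (t l)⁻¹ = z⁻¹ →
      (∀ k, k ≠ l → t k * z = z * t k) →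
      t l * (z * t l * z⁻¹) = z ∧ Tc X t (z * t l * z⁻¹) ∧ IsTv (z * t l * z⁻¹) (z (c l)) ∧
      (∀ k, k ≠ l → t k * (z * t l * z⁻¹) = (z * t l * z⁻¹) * t k) ∧
      (∀ k, k ≠ l → z * t l * z⁻¹ ≠ t k) ∧ t l * (z * t l * z⁻¹) ≠ (z * t l * z⁻¹) * t l := by
    intro z hz h3 h1 hl hk
    have hz2 : z⁻¹ * z⁻¹ = z := by
      have : z * z * z * (z⁻¹ * z⁻¹) = z⁻¹ * z⁻¹ := by rw [h3, one_mul]
      rw [← this]; group
    have e1 : t l * (z * t l * z⁻¹) = z := by
      have : t l * z * t l = z⁻¹ := by rw [← hl, hti]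
      calc t l * (z * t l * z⁻¹) = (t l * z * t l) * z⁻¹ := by group
        _ = z := by rw [this, hz2]
    refine ⟨e1, ⟨z, hz, l, rfl⟩, (S.tv l).conj z, ?_, ?_, ?_⟩
    · intro k hkl
      have h4 := hk k hkl
      have h5 : t k * z⁻¹ = z⁻¹ * t k := by
        rw [eq_inv_mul_iff_mul_eq, ← mul_assoc, ← h4, mul_assoc, mul_inv_cancel, mul_one]
      calc t k * (z * t l * z⁻¹) = (t k * z) * t l * z⁻¹ := by group
        _ = z * (t k * t l) * z⁻¹ := by rw [h4]; group
        _ = z * t l * (t k * z⁻¹) := by rw [S.comm]; group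
        _ = z * t l * z⁻¹ * t k := by rw [h5]; group
    · intro k hkl h4
      have h5 : z * t l = t k * z := by rw [← h4]; group
      rw [hk k hkl] at h5
      exact hkl (S.inj (mul_left_cancel h5)).symm
    · intro h4
      have h6 : z⁻¹ = z := by
        conv_lhs => rw [← e1, mul_inv_rev, ((S.tv l).conj z).inv hV, hti, ← h4]
        exact e1
      have h5 : z * z = 1 := by
        nth_rw 1 [← h6]
        rw [inv_mul_cancel]
      exact h1 (by rw [h5, one_mul] at h3; exact h3)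
  obtain ⟨ar, Xr, tvr, kr, ner, ncr⟩ := gen r hr hr3 hr1 hrl hrk
  obtain ⟨ay, Xy, tvy, ky, ney, ncy⟩ := gen y hy hy3 hy1 hyl hyk
  set τ : MulAut V := r * t l * r⁻¹ with hτ
  set τ' : MulAut V := y * t l * y⁻¹ with hτ'
  -- the family with `t l` replaced by `τ`
  have fam : ∀ ρ : MulAut V, Tc X t ρ → (∀ k, k ≠ l → t k * ρ = ρ * t k) →
      (∀ k, k ≠ l → ρ ≠ t k) → ρ * τ = τ * ρ → ρ = τ := by
    intro ρ hρ hρk hρne hρτ
    obtain ⟨k, hk⟩ := S.mem_family (s := fun k => if k = l then τ else t k)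
      (by intro k; split_ifs; exacts [Xr, Tc.self k])
      (by
        intro k m
        try dsimp only
        split_ifs with h1 h2 h2
        · rfl
        · exact (kr m h2).symm
        · exact kr k h1
        · exact S.comm k m)
      (by
        intro k m hkm
        try dsimp only at hkm
        split_ifs at hkm with h1 h2 h2
        · rw [h1, h2]
        · exact absurd hkm (ner m h2)
        · exact absurd hkm.symm (ner k h1)
        · exact S.inj hkm) hρ
      (by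
        intro k
        try dsimp only
        split_ifs with h1
        · exact hρτ
        · exact (hρk k h1).symm)
    try dsimp only at hk
    split_ifs at hk with h1
    · exact hk
    · exact absurd hk (hρne k h1)
  by_cases hc : τ' * τ = τ * τ'
  · left
    have h1 := fam τ' Xy ky ney hc
    rw [← ay, h1, ar]
  · right
    have m1 := S.moves (Tc.self l) Xr (S.tv l) tvr ncr
    have m2 := S.moves (Tc.self l) Xy (S.tv l) tvy ncy
    have m3 := S.moves Xy Xr tvy tvr hc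
    set c0 := c l
    set a := r c0
    set b := y c0
    -- `t l τ' t l`
    have hXρ : Tc X t (t l * τ' * (t l)⁻¹) := Xy.conj (S.tX l)
    have htvρ : IsTv (t l * τ' * (t l)⁻¹) (t l b) := tvy.conj (t l)
    have h1 : t l * τ' * (t l)⁻¹ = τ := by
      refine fam _ hXρ ?_ ?_ ?_
      · intro k hk
        rw [hti]
        calc t k * (t l * τ' * t l) = (t k * t l) * τ' * t l := by group
          _ = t l * (t k * τ') * t l := by rw [S.comm k l]; group
          _ = t l * τ' * (t k * t l) := by rw [ky k hk]; group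
          _ = t l * τ' * t l * t k := by rw [S.comm k l]; group
      · intro k hk h2
        refine ney k hk ?_
        have h3 : t l * τ' = t k * t l := by rw [← h2]; group
        rw [S.comm k l] at h3
        exact mul_left_cancel h3
      · refine htvρ.comm_of_fix hV tvr ?_ ?_
        · -- `t τ' t` fixes `a`
          change t l (τ' ((t l)⁻¹ a)) = a
          rw [hti, m1.1, map_mul, m3.1, m2.2, map_mul, map_mul, m1.1, m2.1, map_mul,
            (S.tv l).fix hV, m2.1]
          have hcm := comm_of_sq hV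
          calc a * c0 * (b * c0) * (c0 * (b * c0)) = a * (c0 * b) * (c0 * c0) * (b * c0) := by group
            _ = a * (b * c0) * (b * c0) := by rw [hV c0, hcm c0 b]; group
            _ = a := by rw [mul_assoc, hV, mul_one]
        · -- `τ` fixes `t b`
          rw [m2.1, map_mul, m3.2, m1.2]
          have hcm := comm_of_sq hV
          calc b * a * (c0 * a) = b * (a * c0) * a := by group
            _ = b * c0 * (a * a) := by rw [hcm a c0]; group
            _ = b * c0 := by rw [hV a, mul_one]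
    rw [← ay]
    have h2 : τ' = (t l)⁻¹ * τ * t l := by rw [← h1]; group
    rw [h2, ← ar, hti, mul_inv_rev, tvr.inv hV, hti]
    calc t l * (t l * τ * t l) = (t l * t l) * τ * t l := by group
      _ = τ * t l := by rw [htt, one_mul]

end Cfsg.Agent.Omega.SQ1.Transv

end

section


/-!
# The twisted Killing Lemma for `q = 2` (project OMEGA, SQ1, L7; #11855 (a)-(f)): algebra in `B`

`Tw B Q₁ Q₂ D e f d r r'` : `B = Q₁ Q₂`, `Q₁ = ⟨e k⟩ D`, `Q₂ = ⟨f k⟩ D` elementary abelian, `D = Z(B)`,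
`[e k, f l] = (d k)^{δ_kl}`; the blocks `⟨d k, e k, r k⟩`, `⟨d k, f k, r' k⟩` are isomorphic to `A₄` and
normalised by `B`.
-/

set_option autoImplicit false

namespace Cfsg.Agent.Omega.SQ1.TwistAlg

open Subgroup Cfsg.Agent.Omega.SQ1.TwistBase

universe u v

variable {G : Type u} [Group G] {ι : Type v}

/-- The group `B = Q₁ Q₂` with its blocks. -/
structure Tw (B Q₁ Q₂ D : Subgroup G) (e f d r r' : ι → G) : Prop where
  Q1B : Q₁ ≤ B
  Q2B : Q₂ ≤ B
  DQ1 : D ≤ Q₁
  DQ2 : D ≤ Q₂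
  eQ : ∀ k, e k ∈ Q₁
  fQ : ∀ k, f k ∈ Q₂
  dD : ∀ k, d k ∈ D
  gen : ∀ P : Subgroup G, Q₁ ≤ P → Q₂ ≤ P → B ≤ P
  gen1 : ∀ P : Subgroup G, (∀ k, e k ∈ P) → D ≤ P → Q₁ ≤ P
  gen2 : ∀ P : Subgroup G, (∀ k, f k ∈ P) → D ≤ P → Q₂ ≤ P
  Dc : ∀ z ∈ D, ∀ b ∈ B, z * b = b * z
  cent : ∀ b ∈ B, (∀ k, b * e k = e k * b) → (∀ k, b * f k = f k * b) → b ∈ D
  sq1 : ∀ a ∈ Q₁, a * a = 1
  sq2 : ∀ a ∈ Q₂, a * a = 1
  dinj : Function.Injective d
  fe : ∀ k, f k * e k = d k * (e k * f k)
  fec : ∀ k l, k ≠ l → f l * e k = e k * f l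
  blk : ∀ k, Blk B (d k) (e k) (r k)
  blk' : ∀ k, Blk B (d k) (f k) (r' k)

variable {B Q₁ Q₂ D : Subgroup G} {e f d r r' : ι → G}

/-- centraliser of `e i`, `f i` in `B` -/
def InC (B : Subgroup G) (a a' b : G) : Prop := b ∈ B ∧ b * a = a * b ∧ b * a' = a' * b

/-- the elements which act on the blocks in the same way -/
def Lm (r r' b : G) : Prop := (b * r = r * b ↔ b * r' = r' * b)

theorem inC_mul {a a' b b' : G} (hb : InC B a a' b) (hb' : InC B a a' b') :
    InC B a a' (b * b') :=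
  ⟨B.mul_mem hb.1 hb'.1, by rw [mul_assoc, hb'.2.1, ← mul_assoc, hb.2.1, mul_assoc],
    by rw [mul_assoc, hb'.2.2, ← mul_assoc, hb.2.2, mul_assoc]⟩

namespace Tw

theorem eB (h : Tw B Q₁ Q₂ D e f d r r') (k : ι) : e k ∈ B := h.Q1B (h.eQ k)
theorem fB (h : Tw B Q₁ Q₂ D e f d r r') (k : ι) : f k ∈ B := h.Q2B (h.fQ k)
theorem DB (h : Tw B Q₁ Q₂ D e f d r r') : D ≤ B := h.DQ1.trans h.Q1B
theorem dB (h : Tw B Q₁ Q₂ D e f d r r') (k : ι) : d k ∈ B := h.DB (h.dD k)
theorem dd (h : Tw B Q₁ Q₂ D e f d r r') (k : ι) : d k * d k = 1 := h.sq1 _ (h.DQ1 (h.dD k))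
theorem ee (h : Tw B Q₁ Q₂ D e f d r r') (k : ι) : e k * e k = 1 := h.sq1 _ (h.eQ k)
theorem ff (h : Tw B Q₁ Q₂ D e f d r r') (k : ι) : f k * f k = 1 := h.sq2 _ (h.fQ k)
theorem dc (h : Tw B Q₁ Q₂ D e f d r r') (k : ι) {b : G} (hb : b ∈ B) : d k * b = b * d k :=
  h.Dc _ (h.dD k) b hb
theorem dne (h : Tw B Q₁ Q₂ D e f d r r') (k : ι) : d k ≠ 1 := (h.blk k).dne
theorem di (h : Tw B Q₁ Q₂ D e f d r r') (k : ι) : (d k)⁻¹ = d k :=
  inv_eq_of_mul_eq_one_right (h.dd k)

theorem comm1 (h : Tw B Q₁ Q₂ D e f d r r') {a b : G} (ha : a ∈ Q₁) (hb : b ∈ Q₁) :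
    a * b = b * a := by
  have h1 : (a * b)⁻¹ = a * b := inv_eq_of_mul_eq_one_right (h.sq1 _ (Q₁.mul_mem ha hb))
  rw [← h1, mul_inv_rev, inv_eq_of_mul_eq_one_right (h.sq1 a ha),
    inv_eq_of_mul_eq_one_right (h.sq1 b hb)]

theorem comm2 (h : Tw B Q₁ Q₂ D e f d r r') {a b : G} (ha : a ∈ Q₂) (hb : b ∈ Q₂) :
    a * b = b * a := by
  have h1 : (a * b)⁻¹ = a * b := inv_eq_of_mul_eq_one_right (h.sq2 _ (Q₂.mul_mem ha hb))
  rw [← h1, mul_inv_rev, inv_eq_of_mul_eq_one_right (h.sq2 a ha),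
    inv_eq_of_mul_eq_one_right (h.sq2 b hb)]

theorem ef (h : Tw B Q₁ Q₂ D e f d r r') (k : ι) : e k * f k = d k * (f k * e k) := by
  rw [h.fe, ← mul_assoc, h.dd, one_mul]

/-- The two sides can be exchanged. -/
theorem symm (h : Tw B Q₁ Q₂ D e f d r r') : Tw B Q₂ Q₁ D f e d r' r where
  Q1B := h.Q2B
  Q2B := h.Q1B
  DQ1 := h.DQ2
  DQ2 := h.DQ1
  eQ := h.fQ
  fQ := h.eQ
  dD := h.dD
  gen := fun P h1 h2 => h.gen P h2 h1
  gen1 := h.gen2
  gen2 := h.gen1
  Dc := h.Dc
  cent := fun b hb h1 h2 => h.cent b hb h2 h1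
  sq1 := h.sq2
  sq2 := h.sq1
  dinj := h.dinj
  fe := h.ef
  fec := fun k l hkl => (h.fec l k hkl.symm).symm
  blk := h.blk'
  blk' := h.blk

/-- induction over `B` -/
theorem gen3 (h : Tw B Q₁ Q₂ D e f d r r') (P : Subgroup G) (h1 : ∀ k, e k ∈ P)
    (h2 : ∀ k, f k ∈ P) (h3 : D ≤ P) : B ≤ P := h.gen P (h.gen1 P h1 h3) (h.gen2 P h2 h3)

/-- `B / D` is abelian -/
theorem ab (h : Tw B Q₁ Q₂ D e f d r r') {a b : G} (ha : a ∈ B) (hb : b ∈ B) :
    cj b a * a⁻¹ ∈ D := by
  -- first for `b` arbitrary and `a` a generator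
  have hee : ∀ k l, cj (e l) (e k) = e k := fun k l => cj_eq_iff.mpr (h.comm1 (h.eQ l) (h.eQ k))
  have hff : ∀ k l, cj (f l) (f k) = f k := fun k l => cj_eq_iff.mpr (h.comm2 (h.fQ l) (h.fQ k))
  have gena : ∀ a ∈ B, (∀ l, cj (e l) a * a⁻¹ ∈ D) → (∀ l, cj (f l) a * a⁻¹ ∈ D) →
      ∀ b ∈ B, cj b a * a⁻¹ ∈ D := by
    intro a ha h1 h2
    let P : Subgroup G :=
      { carrier := {b | b ∈ B ∧ cj b a * a⁻¹ ∈ D}
        mul_mem' := by
          rintro x y ⟨hx, hx'⟩ ⟨hy, hy'⟩
          refine ⟨B.mul_mem hx hy, ?_⟩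
          have e1 : cj (x * y) a * a⁻¹ = (cj y a * a⁻¹) * (cj x a * a⁻¹) := by
            have h3 : cj x (cj y a * a⁻¹) = cj y a * a⁻¹ := cj_eq_iff.mpr (h.Dc _ hy' x hx).symm
            have h4 : cj y a = (cj y a * a⁻¹) * a := by group
            rw [mul_cj]
            nth_rw 1 [h4]
            rw [cj_mul, h3, mul_assoc]
          rw [e1]
          exact D.mul_mem hy' hx'
        one_mem' := ⟨B.one_mem, by
          have : cj (1 : G) a * a⁻¹ = 1 := by unfold cj; group
          rw [this]; exact D.one_mem⟩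
        inv_mem' := by
          rintro x ⟨hx, hx'⟩
          refine ⟨B.inv_mem hx, ?_⟩
          have h3 : cj x⁻¹ (cj x a * a⁻¹) = cj x a * a⁻¹ :=
            cj_eq_iff.mpr (h.Dc _ hx' x⁻¹ (B.inv_mem hx)).symm
          rw [cj_mul, cj_inv_cj, cj_inv] at h3
          have h4 : cj x⁻¹ a * a⁻¹ = (cj x a * a⁻¹)⁻¹ := by
            rw [← h3, mul_inv_rev, inv_inv]
          rw [h4]
          exact D.inv_mem hx' }
    have hle : B ≤ P := by
      refine h.gen3 P (fun k => ⟨h.eB k, h1 k⟩) (fun k => ⟨h.fB k, h2 k⟩) fun z hz => ⟨h.DB hz, ?_⟩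
      have : cj z a * a⁻¹ = 1 := by
        rw [cj_eq_iff.mpr (h.Dc z hz a ha), mul_inv_cancel]
      rw [this]
      exact D.one_mem
    exact fun b hb => (hle hb).2
  have he : ∀ k, ∀ b ∈ B, cj b (e k) * (e k)⁻¹ ∈ D := by
    intro k
    refine gena _ (h.eB k) (fun l => ?_) fun l => ?_
    · rw [hee, mul_inv_cancel]; exact D.one_mem
    · by_cases hkl : k = l
      · subst hkl
        have : cj (f k) (e k) * (e k)⁻¹ = d k := by
          unfold cj; rw [h.fe]; group
        rw [this]; exact h.dD k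
      · rw [cj_eq_iff.mpr (h.fec k l hkl), mul_inv_cancel]; exact D.one_mem
  have hf : ∀ k, ∀ b ∈ B, cj b (f k) * (f k)⁻¹ ∈ D := by
    intro k
    refine gena _ (h.fB k) (fun l => ?_) fun l => ?_
    · by_cases hkl : k = l
      · subst hkl
        have : cj (e k) (f k) * (f k)⁻¹ = d k := by
          unfold cj; rw [h.ef]; group
        rw [this]; exact h.dD k
      · rw [cj_eq_iff.mpr (h.fec l k (Ne.symm hkl)).symm, mul_inv_cancel]; exact D.one_mem
    · rw [hff, mul_inv_cancel]; exact D.one_mem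
  let P : Subgroup G :=
    { carrier := {a | a ∈ B ∧ ∀ b ∈ B, cj b a * a⁻¹ ∈ D}
      mul_mem' := by
        rintro x y ⟨hx, hx'⟩ ⟨hy, hy'⟩
        refine ⟨B.mul_mem hx hy, fun b hb => ?_⟩
        have e1 : cj b (x * y) * (x * y)⁻¹ = cj b x * (cj b y * y⁻¹) * x⁻¹ := by
          rw [cj_mul]; group
        have e2 : cj b x * (cj b y * y⁻¹) * x⁻¹ = (cj b y * y⁻¹) * (cj b x * x⁻¹) := by
          rw [← h.Dc _ (hy' b hb) (cj b x) (B.mul_mem (B.mul_mem hb hx) (B.inv_mem hb)), mul_assoc]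
        rw [e1, e2]
        exact D.mul_mem (hy' b hb) (hx' b hb)
      one_mem' := ⟨B.one_mem, fun b _ => by rw [cj_one]; simp⟩
      inv_mem' := by
        rintro x ⟨hx, hx'⟩
        refine ⟨B.inv_mem hx, fun b hb => ?_⟩
        have e1 : cj b x⁻¹ * x⁻¹⁻¹ = x⁻¹ * (x * (cj b x)⁻¹) * x := by
          rw [cj_inv]; group
        have e2 : x * (cj b x)⁻¹ = (cj b x * x⁻¹)⁻¹ := by group
        rw [e1, e2]
        have h3 := h.Dc _ (D.inv_mem (hx' b hb)) x hx
        rw [mul_assoc, h3]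
        have : x⁻¹ * (x * (cj b x * x⁻¹)⁻¹) = (cj b x * x⁻¹)⁻¹ := by group
        rw [this]
        exact D.inv_mem (hx' b hb) }
  have hle : B ≤ P := by
    refine h.gen3 P (fun k => ⟨h.eB k, he k⟩) (fun k => ⟨h.fB k, hf k⟩) fun z hz => ⟨h.DB hz, ?_⟩
    intro b hb
    rw [cj_eq_iff.mpr (h.Dc z hz b hb).symm, mul_inv_cancel]
    exact D.one_mem
  exact (hle ha).2 b hb

/-- `B` acts on `e k` by `d k`. -/
theorem diche (h : Tw B Q₁ Q₂ D e f d r r') (k : ι) {b : G} (hb : b ∈ B) :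
    cj b (e k) = e k ∨ cj b (e k) = d k * e k := by
  let P : Subgroup G :=
    { carrier := {b | b ∈ B ∧ (cj b (e k) = e k ∨ cj b (e k) = d k * e k)}
      mul_mem' := by
        rintro x y ⟨hx, hx'⟩ ⟨hy, hy'⟩
        refine ⟨B.mul_mem hx hy, ?_⟩
        have h3 : cj x (d k) = d k := cj_eq_iff.mpr (h.dc k hx).symm
        rcases hx' with h1 | h1 <;> rcases hy' with h2 | h2
        · left; rw [mul_cj, h2, h1]
        · right; rw [mul_cj, h2, cj_mul, h3, h1]
        · right; rw [mul_cj, h2, h1]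
        · left; rw [mul_cj, h2, cj_mul, h3, h1, ← mul_assoc, h.dd, one_mul]
      one_mem' := ⟨B.one_mem, Or.inl (by unfold cj; group)⟩
      inv_mem' := by
        rintro x ⟨hx, hx'⟩
        refine ⟨B.inv_mem hx, ?_⟩
        have h3 : cj x⁻¹ (d k) = d k := cj_eq_iff.mpr (h.dc k (B.inv_mem hx)).symm
        rcases hx' with h1 | h1
        · left; nth_rw 1 [← h1]; rw [cj_inv_cj]
        · right
          have h2 : e k = d k * cj x⁻¹ (e k) := by
            nth_rw 1 [← cj_inv_cj x (e k)]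
            rw [h1, cj_mul, h3]
          nth_rw 2 [h2]
          rw [← mul_assoc, h.dd, one_mul] }
  have hle : B ≤ P := by
    refine h.gen3 P (fun l => ⟨h.eB l, Or.inl (cj_eq_iff.mpr (h.comm1 (h.eQ l) (h.eQ k)))⟩)
      (fun l => ⟨h.fB l, ?_⟩) fun z hz => ⟨h.DB hz, Or.inl (cj_eq_iff.mpr (h.Dc z hz _ (h.eB k)))⟩
    by_cases hkl : k = l
    · subst hkl; right; unfold cj; rw [h.fe]; group
    · left; exact cj_eq_iff.mpr (h.fec k l hkl)
  exact (hle hb).2

theorem dichf (h : Tw B Q₁ Q₂ D e f d r r') (k : ι) {b : G} (hb : b ∈ B) :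
    cj b (f k) = f k ∨ cj b (f k) = d k * f k := h.symm.diche k hb

theorem mulR (h : Tw B Q₁ Q₂ D e f d r r') {i : ι} {b b' : G} (hb : InC B (e i) (f i) b)
    (hb' : InC B (e i) (f i) b') :
    (b * b' * r i = r i * (b * b')) ↔ (b * r i = r i * b ↔ b' * r i = r i * b') :=
  (h.blk i).iff_mul (h.fB i) (h.fe i) hb.1 hb.2.1 hb.2.2 hb'.1 hb'.2.1 hb'.2.2

theorem mulR' (h : Tw B Q₁ Q₂ D e f d r r') {i : ι} {b b' : G} (hb : InC B (e i) (f i) b)
    (hb' : InC B (e i) (f i) b') :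
    (b * b' * r' i = r' i * (b * b')) ↔ (b * r' i = r' i * b ↔ b' * r' i = r' i * b') :=
  (h.blk' i).iff_mul (h.eB i) (h.ef i) hb.1 hb.2.2 hb.2.1 hb'.1 hb'.2.2 hb'.2.1

theorem mulLm (h : Tw B Q₁ Q₂ D e f d r r') {i : ι} {b b' : G} (hb : InC B (e i) (f i) b)
    (hb' : InC B (e i) (f i) b') : Lm (r i) (r' i) (b * b') ↔
      (Lm (r i) (r' i) b ↔ Lm (r i) (r' i) b') := by
  unfold Lm
  rw [h.mulR hb hb', h.mulR' hb hb']
  tauto

theorem inC_of_D (h : Tw B Q₁ Q₂ D e f d r r') {z : G} (hz : z ∈ D) (i : ι) :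
    InC B (e i) (f i) z := ⟨h.DB hz, h.Dc z hz _ (h.eB i), h.Dc z hz _ (h.fB i)⟩

theorem inC_e (h : Tw B Q₁ Q₂ D e f d r r') {i k : ι} (hik : k ≠ i) :
    InC B (e i) (f i) (e k) := ⟨h.eB k, h.comm1 (h.eQ k) (h.eQ i), (h.fec k i hik).symm⟩

theorem inC_f (h : Tw B Q₁ Q₂ D e f d r r') {i k : ι} (hik : k ≠ i) :
    InC B (e i) (f i) (f k) := ⟨h.fB k, h.fec i k hik.symm, h.comm2 (h.fQ k) (h.fQ i)⟩

/-- an element with trivial `λ_i` is in `B^` up to `d i` -/
theorem exists_bh (h : Tw B Q₁ Q₂ D e f d r r') {i : ι} {b : G} (hb : InC B (e i) (f i) b)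
    (hL : Lm (r i) (r' i) b) :
    ∃ z ∈ D, b * z * r i = r i * (b * z) ∧ b * z * r' i = r' i * (b * z) := by
  by_cases h1 : b * r i = r i * b
  · refine ⟨1, D.one_mem, ?_⟩
    rw [mul_one]
    exact ⟨h1, hL.mp h1⟩
  · have h2 : ¬ b * r' i = r' i * b := fun h3 => h1 (hL.mpr h3)
    have hd := h.inC_of_D (h.dD i) i
    refine ⟨d i, h.dD i, ?_, ?_⟩
    · rw [h.mulR hb hd]
      have := (h.blk i).not_comm_d
      tauto
    · rw [h.mulR' hb hd]
      have := (h.blk' i).not_comm_d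
      tauto

/-- an element of `B` which commutes with `r i`, `r' i` is in `InC`. -/
theorem inC_of_comm (h : Tw B Q₁ Q₂ D e f d r r') {i : ι} {b : G} (hb : b ∈ B)
    (h1 : b * r i = r i * b) (h2 : b * r' i = r' i * b) : InC B (e i) (f i) b := by
  have key : ∀ s c : G, b * s = s * b → cj s (d i) = c → b * c = c * b := by
    intro s c h3 h4
    have h5 := h.dc i hb
    rw [← h4]
    unfold cj
    have h6 : b * s⁻¹ = s⁻¹ * b := by
      rw [eq_inv_mul_iff_mul_eq, ← mul_assoc, ← h3, mul_assoc, mul_inv_cancel, mul_one]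
    calc b * (s * d i * s⁻¹) = (b * s) * d i * s⁻¹ := by group
      _ = s * (b * d i) * s⁻¹ := by rw [h3]; group
      _ = s * d i * (b * s⁻¹) := by rw [← h5]; group
      _ = s * d i * s⁻¹ * b := by rw [h6]; group
  exact ⟨hb, key _ _ h1 (h.blk i).rd, key _ _ h2 (h.blk' i).rd⟩

/-- the elements of `B^` are determined modulo `D`; `g ∈ Z(B^)` commutes with the elements with `Lm` -/
theorem comm_of_Lm (h : Tw B Q₁ Q₂ D e f d r r') {i : ι} {g : G} (hg : g ∈ B)
    (hc : ∀ c ∈ B, c * r i = r i * c → c * r' i = r' i * c → g * c = c * g) {b : G}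
    (hb : InC B (e i) (f i) b) (hL : Lm (r i) (r' i) b) : g * b = b * g := by
  obtain ⟨z, hz, h1, h2⟩ := h.exists_bh hb hL
  have h3 := hc (b * z) (B.mul_mem hb.1 (h.DB hz)) h1 h2
  have h4 : g * b * z = b * g * z := by
    rw [mul_assoc, h3, mul_assoc, h.Dc z hz g hg, mul_assoc]
  exact mul_right_cancel h4

end Tw

end Cfsg.Agent.Omega.SQ1.TwistAlg

end

section


/-!
# The twisted Killing Lemma for `q = 2` (project OMEGA, SQ1, L7; #11855 (a)-(f)): the twist `λ_i`

If `λ_i` vanishes on `D` and there is an element `g ∈ Z(B^)` outside `D`, then `λ_i` is supported on one index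
`j`, and by symmetry `λ_i(e j) = λ_i(f j) = 1`, `g ∈ e j f j D`.
-/

set_option autoImplicit false

namespace Cfsg.Agent.Omega.SQ1.TwistSym

open Subgroup Cfsg.Agent.Omega.SQ1.TwistBase Cfsg.Agent.Omega.SQ1.TwistAlg

universe u v

variable {G : Type u} [Group G] {ι : Type v}

/-- `x` maps the blocks `(e, r)` to the blocks `(e', r')`, with the permutation `p` of the indices. -/
structure Half (D : Subgroup G) (d e r e' r' : ι → G) (x : G) (p : ι → ι) : Prop where
  xe : ∀ k, ∃ z ∈ D, cj x (e k) = e' (p k) * z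
  xr : ∀ k, ∃ v, InV (d (p k)) (e' (p k)) v ∧
    (cj x (r k) = r' (p k) * v ∨ cj x (r k) = (r' (p k))⁻¹ * v)

/-- a symmetry of the configuration preserving the sides -/
structure Sym (B D : Subgroup G) (e f d r r' : ι → G) (x : G) (p : ι → ι) : Prop where
  xB : x ∈ normalizer (B : Set G)
  xD : x ∈ normalizer (D : Set G)
  h1 : Half D d e r e r x p
  h2 : Half D d f r' f r' x p

/-- a symmetry of the configuration which exchanges the sides -/
structure Anti (B D : Subgroup G) (e f d r r' : ι → G) (x : G) (p : ι → ι) : Prop where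
  xB : x ∈ normalizer (B : Set G)
  xD : x ∈ normalizer (D : Set G)
  h1 : Half D d e r f r' x p
  h2 : Half D d f r' e r x p

variable {B Q₁ Q₂ D : Subgroup G} {e f d r r' : ι → G}

theorem norm_mem {A : Subgroup G} {x a : G} (hx : x ∈ normalizer (A : Set G)) (ha : a ∈ A) :
    cj x a ∈ A := (mem_normalizer_iff.1 hx a).1 ha

theorem norm_mem_iff {A : Subgroup G} {x a : G} (hx : x ∈ normalizer (A : Set G)) :
    cj x a ∈ A ↔ a ∈ A := ((mem_normalizer_iff.1 hx a)).symm

/-- `cj x b` commutes with `r' (p k)` iff `b` commutes with `r k`. -/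
theorem Half.comm_iff {e₁ r₁ e₂ r₂ : ι → G} {x : G} {p : ι → ι}
    (H : Half D d e₁ r₁ e₂ r₂ x p) (hblk : ∀ k, Blk B (d k) (e₂ k) (r₂ k))
    (hD : ∀ z ∈ D, ∀ b ∈ B, z * b = b * z)
    (hx : x ∈ normalizer (B : Set G)) (k : ι) {b : G} (hb : b ∈ B)
    (hbe : b * e₁ k = e₁ k * b) :
    (cj x b * r₂ (p k) = r₂ (p k) * cj x b) ↔ b * r₁ k = r₁ k * b := by
  obtain ⟨z, hz, hxe⟩ := H.xe k
  obtain ⟨v, hv, hxr⟩ := H.xr k
  have hcB : cj x b ∈ B := norm_mem hx hb
  -- `cj x b` commutes with `e₂ (p k)`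
  have h1 : cj x b * e₂ (p k) = e₂ (p k) * cj x b := by
    have h2 : cj x b * cj x (e₁ k) = cj x (e₁ k) * cj x b := cj_comm_iff.mpr hbe
    rw [hxe] at h2
    have h3 := hD z hz _ hcB
    have h4 : cj x b * e₂ (p k) * z = e₂ (p k) * cj x b * z := by
      rw [mul_assoc, h2, mul_assoc, h3, mul_assoc]
    exact mul_right_cancel h4
  have h2 : cj x b * v = v * cj x b := hv.comm (hblk (p k)) hcB h1
  have h3 : (b * r₁ k = r₁ k * b) ↔ cj x b * cj x (r₁ k) = cj x (r₁ k) * cj x b :=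
    cj_comm_iff.symm
  rw [h3]
  have key : ∀ s : G, (cj x b * (s * v) = (s * v) * cj x b) ↔ cj x b * s = s * cj x b := by
    intro s
    constructor
    · intro h4
      have h5 : cj x b * s * v = s * cj x b * v := by
        rw [mul_assoc, h4, mul_assoc, ← h2, mul_assoc]
      exact mul_right_cancel h5
    · intro h4
      rw [← mul_assoc, h4, mul_assoc, h2, mul_assoc]
  have kinv : ∀ s : G, (cj x b * s⁻¹ = s⁻¹ * cj x b) ↔ cj x b * s = s * cj x b := by
    intro s
    constructor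
    · intro h4
      have h5 : Commute (cj x b) s⁻¹ := h4
      exact (Commute.inv_right_iff.mp h5).eq
    · intro h4
      have h5 : Commute (cj x b) s := h4
      exact h5.inv_right.eq
  rcases hxr with h4 | h4
  · rw [h4, key]
  · rw [h4, key, kinv]

theorem conj_d (hDB : D ≤ B) (hD : ∀ z ∈ D, ∀ b ∈ B, z * b = b * z) {x F E F' E' δ δ' z z' : G}
    (hF : F * E = δ * (E * F)) (hF' : F' * E' = δ' * (E' * F')) (hE'B : E' ∈ B) (hF'B : F' ∈ B)
    (hz : z ∈ D) (hz' : z' ∈ D) (hE : cj x E = E' * z) (hFx : cj x F = F' * z') :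
    cj x δ = δ' := by
  have h1 := congrArg (cj x) hF
  rw [cj_mul, cj_mul, cj_mul, hFx, hE] at h1
  have c1 := hD z' hz' _ hE'B
  have c2 := hD z hz _ hF'B
  have c3 := hD z hz _ (hDB hz')
  have e1 : F' * z' * (E' * z) = F' * E' * (z' * z) := by
    calc F' * z' * (E' * z) = F' * (z' * E') * z := by group
      _ = F' * E' * (z' * z) := by rw [c1]; group
  have e2 : E' * z * (F' * z') = E' * F' * (z' * z) := by
    calc E' * z * (F' * z') = E' * (z * F') * z' := by group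
      _ = E' * F' * (z * z') := by rw [c2]; group
      _ = E' * F' * (z' * z) := by rw [c3]
  rw [e1, e2, ← mul_assoc (cj x δ)] at h1
  have h2 := mul_right_cancel h1
  rw [hF'] at h2
  exact (mul_right_cancel h2).symm

namespace Sym

variable {x : G} {p : ι → ι}

theorem xd (S : Sym B D e f d r r' x p) (h : Tw B Q₁ Q₂ D e f d r r') (k : ι) :
    cj x (d k) = d (p k) := by
  obtain ⟨z, hz, h1⟩ := S.h1.xe k
  obtain ⟨z', hz', h2⟩ := S.h2.xe k
  exact conj_d h.DB h.Dc (h.fe k) (h.fe (p k)) (h.eB _) (h.fB _) hz hz' h1 h2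

theorem inj (S : Sym B D e f d r r' x p) (h : Tw B Q₁ Q₂ D e f d r r') : Function.Injective p := by
  intro k l hkl
  apply h.dinj
  have h1 := S.xd h k
  rw [hkl, ← S.xd h l] at h1
  exact cj_inj h1

/-- transfer of `InC` -/
theorem inC (S : Sym B D e f d r r' x p) (h : Tw B Q₁ Q₂ D e f d r r') {k : ι} {b : G}
    (hb : InC B (e k) (f k) b) : InC B (e (p k)) (f (p k)) (cj x b) := by
  have hcB : cj x b ∈ B := norm_mem S.xB hb.1
  refine ⟨hcB, ?_, ?_⟩
  · obtain ⟨z, hz, h1⟩ := S.h1.xe k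
    have h2 : cj x b * cj x (e k) = cj x (e k) * cj x b := cj_comm_iff.mpr hb.2.1
    rw [h1] at h2
    have h3 := h.Dc z hz _ hcB
    have h4 : cj x b * e (p k) * z = e (p k) * cj x b * z := by
      rw [mul_assoc, h2, mul_assoc, h3, mul_assoc]
    exact mul_right_cancel h4
  · obtain ⟨z, hz, h1⟩ := S.h2.xe k
    have h2 : cj x b * cj x (f k) = cj x (f k) * cj x b := cj_comm_iff.mpr hb.2.2
    rw [h1] at h2
    have h3 := h.Dc z hz _ hcB
    have h4 : cj x b * f (p k) * z = f (p k) * cj x b * z := by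
      rw [mul_assoc, h2, mul_assoc, h3, mul_assoc]
    exact mul_right_cancel h4

/-- transfer of `Lm` -/
theorem lm (S : Sym B D e f d r r' x p) (h : Tw B Q₁ Q₂ D e f d r r') {k : ι} {b : G}
    (hb : InC B (e k) (f k) b) :
    Lm (r (p k)) (r' (p k)) (cj x b) ↔ Lm (r k) (r' k) b := by
  unfold Lm
  rw [S.h1.comm_iff h.blk h.Dc S.xB k hb.1 hb.2.1, S.h2.comm_iff h.blk' h.Dc S.xB k hb.1 hb.2.2]

theorem lmD (S : Sym B D e f d r r' x p) (h : Tw B Q₁ Q₂ D e f d r r') {k : ι}
    (hk : ∀ z ∈ D, Lm (r k) (r' k) z) : ∀ z ∈ D, Lm (r (p k)) (r' (p k)) z := by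
  intro z hz
  have h1 : cj x⁻¹ z ∈ D := norm_mem (inv_mem S.xD) hz
  have h2 := (S.lm h (h.inC_of_D h1 k)).mpr (hk _ h1)
  rwa [cj_cj_inv] at h2

theorem lme (S : Sym B D e f d r r' x p) (h : Tw B Q₁ Q₂ D e f d r r') {k l : ι} (hkl : l ≠ k)
    (hk : ∀ z ∈ D, Lm (r (p k)) (r' (p k)) z) :
    Lm (r (p k)) (r' (p k)) (e (p l)) ↔ Lm (r k) (r' k) (e l) := by
  obtain ⟨z, hz, h1⟩ := S.h1.xe l
  rw [← S.lm h (h.inC_e hkl), h1,
    h.mulLm (h.inC_e (fun h2 => hkl (S.inj h h2))) (h.inC_of_D hz _)]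
  have := hk z hz
  tauto

theorem lmf (S : Sym B D e f d r r' x p) (h : Tw B Q₁ Q₂ D e f d r r') {k l : ι} (hkl : l ≠ k)
    (hk : ∀ z ∈ D, Lm (r (p k)) (r' (p k)) z) :
    Lm (r (p k)) (r' (p k)) (f (p l)) ↔ Lm (r k) (r' k) (f l) := by
  obtain ⟨z, hz, h1⟩ := S.h2.xe l
  rw [← S.lm h (h.inC_f hkl), h1,
    h.mulLm (h.inC_f (fun h2 => hkl (S.inj h h2))) (h.inC_of_D hz _)]
  have := hk z hz
  tauto

end Sym

namespace Anti

variable {x : G} {p : ι → ι}

theorem xd (S : Anti B D e f d r r' x p) (h : Tw B Q₁ Q₂ D e f d r r') (k : ι) :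
    cj x (d k) = d (p k) := by
  obtain ⟨z, hz, h1⟩ := S.h1.xe k
  obtain ⟨z', hz', h2⟩ := S.h2.xe k
  exact conj_d h.DB h.Dc (h.fe k) (h.ef (p k)) (h.fB _) (h.eB _) hz hz' h1 h2

theorem inj (S : Anti B D e f d r r' x p) (h : Tw B Q₁ Q₂ D e f d r r') : Function.Injective p := by
  intro k l hkl
  apply h.dinj
  have h1 := S.xd h k
  rw [hkl, ← S.xd h l] at h1
  exact cj_inj h1

theorem lm (S : Anti B D e f d r r' x p) (h : Tw B Q₁ Q₂ D e f d r r') {k : ι} {b : G}
    (hb : InC B (e k) (f k) b) :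
    Lm (r (p k)) (r' (p k)) (cj x b) ↔ Lm (r k) (r' k) b := by
  unfold Lm
  rw [S.h1.comm_iff h.blk' h.Dc S.xB k hb.1 hb.2.1, S.h2.comm_iff h.blk h.Dc S.xB k hb.1 hb.2.2]
  tauto

theorem lme (S : Anti B D e f d r r' x p) (h : Tw B Q₁ Q₂ D e f d r r') {k l : ι} (hkl : l ≠ k)
    (hk : ∀ z ∈ D, Lm (r (p k)) (r' (p k)) z) :
    Lm (r (p k)) (r' (p k)) (f (p l)) ↔ Lm (r k) (r' k) (e l) := by
  obtain ⟨z, hz, h1⟩ := S.h1.xe l
  rw [← S.lm h (h.inC_e hkl), h1,
    h.mulLm (h.inC_f (fun h2 => hkl (S.inj h h2))) (h.inC_of_D hz _)]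
  have := hk z hz
  tauto

theorem lmf (S : Anti B D e f d r r' x p) (h : Tw B Q₁ Q₂ D e f d r r') {k l : ι} (hkl : l ≠ k)
    (hk : ∀ z ∈ D, Lm (r (p k)) (r' (p k)) z) :
    Lm (r (p k)) (r' (p k)) (e (p l)) ↔ Lm (r k) (r' k) (f l) := by
  obtain ⟨z, hz, h1⟩ := S.h2.xe l
  rw [← S.lm h (h.inC_f hkl), h1,
    h.mulLm (h.inC_e (fun h2 => hkl (S.inj h h2))) (h.inC_of_D hz _)]
  have := hk z hz
  tauto

end Anti

/-- The symmetric situation: `λ_i` vanishes on `D` for all `i`. -/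
structure Hom (B Q₁ Q₂ D : Subgroup G) (e f d r r' : ι → G) : Prop
    extends Tw B Q₁ Q₂ D e f d r r' where
  sym : ∀ i i', ∃ x p, Sym B D e f d r r' x p ∧ p i = i'
  anti : ∃ x p, Anti B D e f d r r' x p

namespace Hom

/-- `λ_i` vanishes on `D` for one `i`, hence for all `i`. -/
theorem lmD (h : Hom B Q₁ Q₂ D e f d r r') {i : ι} (hi : ∀ z ∈ D, Lm (r i) (r' i) z) (k : ι) :
    ∀ z ∈ D, Lm (r k) (r' k) z := by
  obtain ⟨x, p, S, rfl⟩ := h.sym i k
  exact S.lmD h.toTw hi

variable [Finite ι]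

/-- If `λ_i` is supported on `j`, then `λ_i(e j) = λ_i(f j) = 1`. -/
theorem both (h : Hom B Q₁ Q₂ D e f d r r') {i j : ι} (hi : ∀ z ∈ D, Lm (r i) (r' i) z)
    (hij : j ≠ i) (hs : ∀ k, k ≠ i → k ≠ j → Lm (r i) (r' i) (e k) ∧ Lm (r i) (r' i) (f k))
    (hj : ¬ Lm (r i) (r' i) (e j) ∨ ¬ Lm (r i) (r' i) (f j)) :
    ¬ Lm (r i) (r' i) (e j) ∧ ¬ Lm (r i) (r' i) (f j) := by
  obtain ⟨x, p, A⟩ := h.anti
  obtain ⟨y, q, S, hqp⟩ := h.sym i (p i)
  have hD := h.lmD hi (p i)
  have hD' := h.lmD hi (q i)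
  have a1 := A.lme h.toTw hij hD
  have a2 := A.lmf h.toTw hij hD
  have s1 := S.lme h.toTw hij hD'
  have s2 := S.lmf h.toTw hij hD'
  have hpq : q j = p j := by
    obtain ⟨m, hm⟩ := (Finite.surjective_of_injective (A.inj h.toTw)) (q j)
    by_cases hmj : m = j
    · rw [← hm, hmj]
    · exfalso
      have hmi : m ≠ i := by
        intro hmi
        rw [hmi, ← hqp] at hm
        exact hij (S.inj h.toTw hm).symm
      have b1 := A.lme h.toTw hmi hD
      have b2 := A.lmf h.toTw hmi hD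
      have b3 := hs m hmi hmj
      rw [hm, ← hqp] at b1 b2
      rw [hqp] at s1 s2
      rw [hqp] at b1 b2
      tauto
  rw [hqp, hpq] at s1 s2
  tauto

/-- Analysis of an element `g ∈ Z(B^)`, `g ∉ D`. -/
theorem support (h : Hom B Q₁ Q₂ D e f d r r') {i : ι} (hi : ∀ z ∈ D, Lm (r i) (r' i) z)
    {g : G} (hg : g ∈ B) (hgD : g ∉ D) (hgr : g * r i = r i * g) (hgr' : g * r' i = r' i * g)
    (hc : ∀ c ∈ B, c * r i = r i * c → c * r' i = r' i * c → g * c = c * g) :
    ∃ j, j ≠ i ∧ ¬ Lm (r i) (r' i) (e j) ∧ ¬ Lm (r i) (r' i) (f j) ∧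
      (∀ k, k ≠ i → k ≠ j → Lm (r i) (r' i) (e k) ∧ Lm (r i) (r' i) (f k)) ∧
      ∃ z ∈ D, g = e j * f j * z := by
  classical
  have hT := h.toTw
  have hgi := hT.inC_of_comm hg hgr hgr'
  -- a generator moved by `g`
  have hex : ∃ j, j ≠ i ∧ (g * e j ≠ e j * g ∨ g * f j ≠ f j * g) := by
    by_contra hno
    push Not at hno
    refine hgD (hT.cent g hg (fun k => ?_) fun k => ?_)
    · by_cases hk : k = i
      · rw [hk]; exact hgi.2.1
      · exact (hno k hk).1
    · by_cases hk : k = i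
      · rw [hk]; exact hgi.2.2
      · exact (hno k hk).2
  obtain ⟨j, hji, hj⟩ := hex
  -- the two generators with index `j`
  have cL : ∀ b, InC B (e i) (f i) b → Lm (r i) (r' i) b → g * b = b * g := fun b hb hL =>
    hT.comm_of_Lm hg hc hb hL
  have cLL : ∀ b b', InC B (e i) (f i) b → InC B (e i) (f i) b' → ¬ Lm (r i) (r' i) b →
      ¬ Lm (r i) (r' i) b' → g * (b * b') = b * b' * g := by
    intro b b' hb hb' hL hL'
    refine cL _ (inC_mul hb hb') ?_
    rw [hT.mulLm hb hb']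
    tauto
  have hej := hT.inC_e hji
  have hfj := hT.inC_f hji
  have hj' : ¬ Lm (r i) (r' i) (e j) ∨ ¬ Lm (r i) (r' i) (f j) := by
    rcases hj with h1 | h1
    · left; exact fun h2 => h1 (cL _ hej h2)
    · right; exact fun h2 => h1 (cL _ hfj h2)
  -- a generator moved by `g`, as `u`
  obtain ⟨u, hu, huL, hug, huD⟩ : ∃ u, InC B (e i) (f i) u ∧ ¬ Lm (r i) (r' i) u ∧
      g * u ≠ u * g ∧ cj g u = d j * u := by
    rcases hj with h1 | h1
    · exact ⟨e j, hej, fun h2 => h1 (cL _ hej h2), h1,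
        (hT.diche j hg).resolve_left fun h2 => h1 (cj_eq_iff.mp h2)⟩
    · exact ⟨f j, hfj, fun h2 => h1 (cL _ hfj h2), h1,
        (hT.dichf j hg).resolve_left fun h2 => h1 (cj_eq_iff.mp h2)⟩
  -- the other indices
  have hs : ∀ k, k ≠ i → k ≠ j → Lm (r i) (r' i) (e k) ∧ Lm (r i) (r' i) (f k) := by
    intro k hki hkj
    have key : ∀ w, InC B (e i) (f i) w → (cj g w = w ∨ cj g w = d k * w) →
        Lm (r i) (r' i) w := by
      intro w hw hwd
      by_contra hL
      have h1 := cj_eq_iff.mpr (cLL u w hu hw huL hL)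
      rw [cj_mul, huD] at h1
      rcases hwd with h2 | h2
      · rw [h2, mul_assoc] at h1
        exact hT.dne j (by simpa using h1)
      · rw [h2] at h1
        have h3 : d j * u * (d k * w) = (d j * d k) * (u * w) := by
          calc d j * u * (d k * w) = d j * (u * d k) * w := by group
            _ = (d j * d k) * (u * w) := by rw [← hT.dc k hu.1]; group
        rw [h3] at h1
        have h4 : d j * d k = 1 := by simpa using h1
        have h5 : d j = d k := by
          rw [mul_eq_one_iff_eq_inv.mp h4, hT.di]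
        exact hkj (hT.dinj h5).symm
    exact ⟨key _ (hT.inC_e hki) (hT.diche k hg), key _ (hT.inC_f hki) (hT.dichf k hg)⟩
  obtain ⟨be, bf⟩ := h.both hi hji hs hj'
  refine ⟨j, hji, be, bf, hs, ?_⟩
  -- `g` moves `e j` and `f j`
  have hmv : ∀ w, InC B (e i) (f i) w → ¬ Lm (r i) (r' i) w → g * w ≠ w * g := by
    intro w hw hL h1
    have h2 := cLL u w hu hw huL hL
    refine hug (mul_right_cancel (b := w) ?_)
    rw [mul_assoc, h2, mul_assoc, ← h1, mul_assoc]
  have ge : cj g (e j) = d j * e j :=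
    (hT.diche j hg).resolve_left fun h2 => hmv _ hej be (cj_eq_iff.mp h2)
  have gf : cj g (f j) = d j * f j :=
    (hT.dichf j hg).resolve_left fun h2 => hmv _ hfj bf (cj_eq_iff.mp h2)
  -- the action of `e j * f j`
  have hB : e j * f j ∈ B := B.mul_mem (hT.eB j) (hT.fB j)
  have we : cj (e j * f j) (e j) = d j * e j := by
    have h1 : cj (f j) (e j) = d j * e j := by unfold cj; rw [hT.fe]; group
    rw [mul_cj, h1, cj_mul, cj_eq_iff.mpr (hT.dc j (hT.eB j)).symm, cj_eq_iff.mpr rfl]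
  have wf : cj (e j * f j) (f j) = d j * f j := by
    have h1 : cj (e j) (f j) = d j * f j := by unfold cj; rw [hT.ef]; group
    have h2 : cj (f j) (f j) = f j := cj_eq_iff.mpr rfl
    rw [mul_cj, h2, h1]
  refine ⟨(e j * f j)⁻¹ * g, ?_, by group⟩
  have key : ∀ w, cj g w = cj (e j * f j) w → ((e j * f j)⁻¹ * g) * w = w * ((e j * f j)⁻¹ * g) := by
    intro w hw
    apply cj_eq_iff.mp
    rw [mul_cj, hw, cj_inv_cj]
  refine hT.cent _ (B.mul_mem (B.inv_mem hB) hg) (fun k => key _ ?_) fun k => key _ ?_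
  · by_cases hkj : k = j
    · rw [hkj, ge, we]
    · have h1 : cj (e j * f j) (e k) = e k := by
        rw [mul_cj, cj_eq_iff.mpr (hT.fec k j hkj), cj_eq_iff.mpr (hT.comm1 (hT.eQ j) (hT.eQ k))]
      rw [h1]
      apply cj_eq_iff.mpr
      by_cases hki : k = i
      · rw [hki]; exact hgi.2.1
      · exact cL _ (hT.inC_e hki) (hs k hki hkj).1
  · by_cases hkj : k = j
    · rw [hkj, gf, wf]
    · have h1 : cj (e j * f j) (f k) = f k := by
        rw [mul_cj, cj_eq_iff.mpr (hT.comm2 (hT.fQ j) (hT.fQ k)),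
          cj_eq_iff.mpr (hT.fec j k (Ne.symm hkj)).symm]
      rw [h1]
      apply cj_eq_iff.mpr
      by_cases hki : k = i
      · rw [hki]; exact hgi.2.2
      · exact cL _ (hT.inC_f hki) (hs k hki hkj).2

end Hom

end Cfsg.Agent.Omega.SQ1.TwistSym

end

section


/-!
# The twisted Killing Lemma for `q = 2` (project OMEGA, SQ1, L7; #11855 (a)-(f)): intrinsic blocks

The block `r l` is determined modulo `Q₁` by `N_G(Q₁)`, `Q₁` and the elements `f k` (`unique`).
-/

set_option autoImplicit false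

namespace Cfsg.Agent.Omega.SQ1.TwistLoc

open Subgroup Cfsg.Agent.Omega.SQ1.TwistBase Cfsg.Agent.Omega.SQ1.TwistAlg
open Cfsg.Agent.Omega.SQ1.TwistSym Cfsg.Agent.Omega.SQ1.Transv

universe u v

variable {G : Type u} [Group G] {ι : Type v}

/-- The local structure of `N_G(Q₁)`: every 2-subgroup has a conjugate in `T`, and the involutions of `T`
acting as transvections on `Q₁` act like the `f l`. -/
structure Loc (Q₁ T : Subgroup G) (f : ι → G) : Prop where
  CQ : ∀ g : G, (∀ a ∈ Q₁, g * a = a * g) → g ∈ Q₁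
  syl : ∀ P : Subgroup G, IsPGroup 2 P → P ≤ normalizer (Q₁ : Set G) →
    ∃ g ∈ normalizer (Q₁ : Set G), ∀ a ∈ P, g * a * g⁻¹ ∈ T
  trv : ∀ t ∈ T, t * t = 1 → t ∈ normalizer (Q₁ : Set G) → ∀ c ∈ Q₁, c ≠ 1 →
    (∀ a ∈ Q₁, cj t a = a ∨ cj t a = a * c) → (∃ a ∈ Q₁, cj t a ≠ a) →
    ∃ l, ∀ a ∈ Q₁, cj t a = cj (f l) a

variable {B Q₁ Q₂ D T : Subgroup G} {e f d r r' : ι → G}

theorem mem_norm {A : Subgroup G} {x : G} (h1 : ∀ a ∈ A, cj x a ∈ A)
    (h2 : ∀ a ∈ A, cj x⁻¹ a ∈ A) : x ∈ normalizer (A : Set G) := by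
  rw [mem_normalizer_iff]
  intro a
  refine ⟨h1 a, fun h => ?_⟩
  have h3 := h2 _ h
  have e : cj x⁻¹ (x * a * x⁻¹) = a := by unfold cj; group
  rwa [e] at h3

/-- `B` normalises `Q₁`. -/
theorem B_norm (h : Tw B Q₁ Q₂ D e f d r r') : B ≤ normalizer (Q₁ : Set G) := by
  have key : ∀ b ∈ B, ∀ a ∈ Q₁, cj b a ∈ Q₁ := by
    intro b hb a ha
    have h1 := h.ab (h.Q1B ha) hb
    have h2 : cj b a = (cj b a * a⁻¹) * a := by group
    rw [h2]
    exact Q₁.mul_mem (h.DQ1 h1) ha
  exact fun b hb => mem_norm (key b hb) (key b⁻¹ (B.inv_mem hb))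

theorem phi_apply {n : normalizer (Q₁ : Set G)} (a : Q₁) :
    ((Q₁.normalizerMonoidHom n a : Q₁) : G) = cj (n : G) (a : G) := rfl

theorem phi_eq_iff {n m : normalizer (Q₁ : Set G)} :
    Q₁.normalizerMonoidHom n = Q₁.normalizerMonoidHom m ↔
      ∀ a ∈ Q₁, cj (n : G) a = cj (m : G) a := by
  constructor
  · intro h1 a ha
    have h2 := congrArg (fun σ : MulAut Q₁ => ((σ ⟨a, ha⟩ : Q₁) : G)) h1
    exact h2
  · intro h1
    ext a
    exact h1 a a.2

/-- `f l` acts on `Q₁` as a transvection with centre `d l`. -/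
theorem tvf (h : Tw B Q₁ Q₂ D e f d r r') (l : ι) :
    IsTv (V := Q₁) (Q₁.normalizerMonoidHom ⟨f l, B_norm h (h.fB l)⟩) ⟨d l, h.DQ1 (h.dD l)⟩ := by
  have hcomm : ∀ v ∈ Q₁, cj (f l) v = v ∨ cj (f l) v = v * d l := by
    intro v hv
    let P : Subgroup G :=
      { carrier := {v | v ∈ Q₁ ∧ (cj (f l) v = v ∨ cj (f l) v = v * d l)}
        mul_mem' := by
          rintro a b ⟨ha, ha'⟩ ⟨hb, hb'⟩
          refine ⟨Q₁.mul_mem ha hb, ?_⟩
          have hdb := h.comm1 (h.DQ1 (h.dD l)) hb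
          rcases ha' with h1 | h1 <;> rcases hb' with h2 | h2
          · left; rw [cj_mul, h1, h2]
          · right; rw [cj_mul, h1, h2, mul_assoc]
          · right; rw [cj_mul, h1, h2, mul_assoc, hdb, mul_assoc]
          · left
            rw [cj_mul, h1, h2]
            calc a * d l * (b * d l) = a * (d l * b) * d l := by group
              _ = a * b * (d l * d l) := by rw [hdb]; group
              _ = a * b := by rw [h.dd, mul_one]
        one_mem' := ⟨Q₁.one_mem, Or.inl (cj_one _)⟩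
        inv_mem' := by
          rintro a ⟨ha, ha'⟩
          have h3 : a⁻¹ = a := inv_eq_of_mul_eq_one_right (h.sq1 a ha)
          rw [h3]
          exact ⟨ha, ha'⟩ }
    have hle : Q₁ ≤ P := by
      refine h.gen1 P (fun k => ⟨h.eQ k, ?_⟩) fun z hz => ⟨h.DQ1 hz, Or.inl
        (cj_eq_iff.mpr (h.Dc z hz _ (h.fB l)).symm)⟩
      by_cases hkl : k = l
      · subst hkl
        right
        rw [← h.dc k (h.eB k)]
        unfold cj; rw [h.fe]; group
      · left; exact cj_eq_iff.mpr (h.fec k l hkl)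
    exact (hle hv).2
  refine ⟨fun h1 => h.dne l (congrArg Subtype.val h1), fun v => ?_, ?_⟩
  · rcases hcomm v v.2 with h1 | h1
    · left; exact Subtype.ext h1
    · right; exact Subtype.ext h1
  · refine ⟨⟨e l, h.eQ l⟩, fun h1 => ?_⟩
    have h2 : cj (f l) (e l) = e l := congrArg Subtype.val h1
    have h3 := cj_eq_iff.mp h2
    rw [h.fe] at h3
    exact h.dne l (by simpa using h3)

/-- The transvection setting on `Q₁`. -/
theorem sit (h : Tw B Q₁ Q₂ D e f d r r') (hL : Loc Q₁ T f) :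
    Sit (V := Q₁) (Q₁.normalizerMonoidHom).range
      (fun l => Q₁.normalizerMonoidHom ⟨f l, B_norm h (h.fB l)⟩)
      (fun l => ⟨d l, h.DQ1 (h.dD l)⟩) where
  sq := fun v => Subtype.ext (h.sq1 v v.2)
  tX := fun l => ⟨_, rfl⟩
  tv := tvf h
  comm := fun k l => by
    rw [← map_mul, ← map_mul]
    congr 1
    exact Subtype.ext (h.comm2 (h.fQ k) (h.fQ l))
  inj := fun k l hkl => by
    by_contra hne
    have h1 := (phi_eq_iff.mp hkl) (e k) (h.eQ k)
    have h2 : cj (f l) (e k) = e k := cj_eq_iff.mpr (h.fec k l hne)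
    have h3 : cj (f k) (e k) = d k * e k := by unfold cj; rw [h.fe]; group
    change cj (f k) (e k) = cj (f l) (e k) at h1
    rw [h2, h3] at h1
    exact h.dne k (by simpa using h1)
  syl := fun P hP hPX => by
    have : Fact (Nat.Prime 2) := ⟨Nat.prime_two⟩
    have hQ : IsPGroup 2 Q₁ := by
      intro a
      refine ⟨1, ?_⟩
      rw [pow_one, pow_two]
      exact Subtype.ext (h.sq1 a a.2)
    have hker : IsPGroup 2 (Q₁.normalizerMonoidHom).ker := by
      rintro ⟨n, hn⟩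
      have h1 : (n : G) ∈ Q₁ := by
        apply hL.CQ
        intro a ha
        have h2 : Q₁.normalizerMonoidHom n = Q₁.normalizerMonoidHom 1 := by
          rw [map_one]; exact hn
        have h3 := phi_eq_iff.mp h2 a ha
        have h4 : cj ((1 : normalizer (Q₁ : Set G)) : G) a = a := by
          rw [OneMemClass.coe_one]; unfold cj; group
        rw [h4] at h3
        exact cj_eq_iff.mp h3
      obtain ⟨k, hk⟩ := hQ ⟨n, h1⟩
      have h5 : (n : G) ^ 2 ^ k = 1 := by simpa using congrArg Subtype.val hk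
      refine ⟨k, ?_⟩
      apply Subtype.ext
      apply Subtype.ext
      simpa using h5
    have h1 : IsPGroup 2 (P.comap Q₁.normalizerMonoidHom) := hP.comap_of_ker_isPGroup _ hker
    have h2 : IsPGroup 2 ((P.comap Q₁.normalizerMonoidHom).map (normalizer (Q₁ : Set G)).subtype) :=
      h1.map _
    obtain ⟨g, hg, h3⟩ := hL.syl _ h2 (by
      rintro _ ⟨n, -, rfl⟩
      exact n.2)
    refine ⟨Q₁.normalizerMonoidHom ⟨g, hg⟩, ⟨_, rfl⟩, ?_⟩
    rintro σ hσ ⟨_, ⟨m, rfl⟩, k, rfl⟩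
    -- the representative `m (f k) m⁻¹`
    set fk : normalizer (Q₁ : Set G) := ⟨f k, B_norm h (h.fB k)⟩ with hfk
    have e0 : Q₁.normalizerMonoidHom m * Q₁.normalizerMonoidHom fk * (Q₁.normalizerMonoidHom m)⁻¹ =
        Q₁.normalizerMonoidHom (m * fk * m⁻¹) := by
      rw [map_mul, map_mul, map_inv]
    set n : normalizer (Q₁ : Set G) := m * fk * m⁻¹ with hn
    have hnn : (n : G) * n = 1 := by
      have h6 : (fk : G) * fk = 1 := h.ff k
      have h7 : (n : G) = m * fk * (m : G)⁻¹ := by rw [hn]; rfl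
      rw [h7]
      calc (m : G) * fk * (m : G)⁻¹ * (m * fk * (m : G)⁻¹) = m * (fk * fk) * (m : G)⁻¹ := by group
        _ = 1 := by rw [h6]; group
    change Q₁.normalizerMonoidHom m * Q₁.normalizerMonoidHom fk * (Q₁.normalizerMonoidHom m)⁻¹ ∈ P
      at hσ
    rw [e0] at hσ
    have h4 : g * (n : G) * g⁻¹ ∈ T := h3 _ ⟨n, hσ, rfl⟩
    have h4' : (g * (n : G) * g⁻¹) * (g * (n : G) * g⁻¹) = 1 := by
      calc (g * (n : G) * g⁻¹) * (g * (n : G) * g⁻¹) = g * (n * n) * g⁻¹ := by group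
        _ = 1 := by rw [hnn]; group
    have hgn : g * (n : G) * g⁻¹ ∈ normalizer (Q₁ : Set G) :=
      mul_mem (mul_mem hg n.2) (inv_mem hg)
    have e1 : Q₁.normalizerMonoidHom ⟨g, hg⟩ * Q₁.normalizerMonoidHom n *
        (Q₁.normalizerMonoidHom ⟨g, hg⟩)⁻¹ = Q₁.normalizerMonoidHom ⟨_, hgn⟩ := by
      rw [← map_inv, ← map_mul, ← map_mul]
      rfl
    have hb : IsTv (Q₁.normalizerMonoidHom n)
        (Q₁.normalizerMonoidHom m ⟨d k, h.DQ1 (h.dD k)⟩) := by
      rw [← e0]
      exact (tvf h k).conj _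
    have h5 := hb.conj (Q₁.normalizerMonoidHom ⟨g, hg⟩)
    rw [e1] at h5
    set c : Q₁ := Q₁.normalizerMonoidHom ⟨g, hg⟩ (Q₁.normalizerMonoidHom m ⟨d k, h.DQ1 (h.dD k)⟩)
    obtain ⟨l, hl⟩ := hL.trv _ h4 h4' hgn c c.2 (fun h6 => h5.ne (Subtype.ext h6)) (by
        intro a ha
        rcases h5.act ⟨a, ha⟩ with h6 | h6
        · left; exact congrArg Subtype.val h6
        · right; exact congrArg Subtype.val h6) (by
        obtain ⟨v, hv⟩ := h5.mov
        exact ⟨v, v.2, fun h6 => hv (Subtype.ext h6)⟩)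
    refine ⟨l, ?_⟩
    change Q₁.normalizerMonoidHom ⟨g, hg⟩ * (Q₁.normalizerMonoidHom m * Q₁.normalizerMonoidHom fk *
      (Q₁.normalizerMonoidHom m)⁻¹) * (Q₁.normalizerMonoidHom ⟨g, hg⟩)⁻¹ = _
    rw [e0, e1]
    exact phi_eq_iff.mpr hl

/-- a block on `Q₁` -/
structure Bl (Q₁ : Subgroup G) (e f d : ι → G) (l : ι) (y : G) : Prop where
  yN : y ∈ normalizer (Q₁ : Set G)
  y3 : y * y * y = 1
  yd : cj y (d l) ≠ d l
  yl : ∃ a ∈ Q₁, cj (f l) y = y⁻¹ * a
  yk : ∀ k, k ≠ l → ∃ a ∈ Q₁, cj (f k) y = y * a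

theorem Blk.edne {d e r : G} (h : Blk B d e r) : e ≠ d := by
  intro h1
  have h2 := h.re
  rw [h1, h.dd] at h2
  have h3 : cj r d = cj r 1 := by rw [h2, cj_one]
  exact h.dne (cj_inj h3)

theorem Bl.of (h : Tw B Q₁ Q₂ D e f d r r') {x E ρ z δ : G} {l : ι}
    (hx : x ∈ normalizer (B : Set G))
    (hxD : x ∈ normalizer (D : Set G)) (hB : Blk B δ E ρ) (hz : z ∈ D)
    (he : cj x (e l) = E * z) (hd : cj x (d l) = δ) : Bl Q₁ e f d l (cj x⁻¹ ρ) := by
  have hdi : cj x⁻¹ δ = d l := by rw [← hd, cj_inv_cj]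
  have hEi : cj x⁻¹ E ∈ Q₁ := by
    have h1 : E = cj x (e l) * z⁻¹ := by rw [he]; group
    rw [h1, cj_mul, cj_inv_cj]
    exact Q₁.mul_mem (h.eQ l) (h.DQ1 (norm_mem (inv_mem hxD) (D.inv_mem hz)))
  have hV : ∀ v, InV δ E v → cj x⁻¹ v ∈ Q₁ := by
    rintro v (rfl | rfl | rfl | rfl)
    · rw [cj_one]; exact Q₁.one_mem
    · rw [hdi]; exact h.DQ1 (h.dD l)
    · exact hEi
    · rw [cj_mul, hdi]; exact Q₁.mul_mem (h.DQ1 (h.dD l)) hEi
  -- an element of `B` commutes with `E` if its preimage commutes with `e l`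
  have hcE : ∀ b ∈ B, (cj x b * E = E * cj x b ↔ b * e l = e l * b) := by
    intro b hb
    have hcB : cj x b ∈ B := norm_mem hx hb
    have h0 : (cj x b * (E * z) = (E * z) * cj x b) ↔ b * e l = e l * b := by
      rw [← he]; exact cj_comm_iff
    rw [← h0]
    have h3 := h.Dc z hz _ hcB
    constructor
    · intro h4
      rw [← mul_assoc, h4, mul_assoc, ← h3, mul_assoc]
    · intro h4
      have h5 : cj x b * E * z = E * cj x b * z := by
        rw [mul_assoc, h4, mul_assoc, h3, mul_assoc]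
      exact mul_right_cancel h5
  have hyi : (cj x⁻¹ ρ)⁻¹ = cj x⁻¹ ρ⁻¹ := (cj_inv _ _).symm
  have hact : ∀ s a : G, cj (cj x⁻¹ s) a = cj x⁻¹ (cj s (cj x a)) := by
    intro s a; unfold cj; group
  refine ⟨?_, ?_, ?_, ?_, ?_⟩
  · refine mem_norm (fun a ha => ?_) fun a ha => ?_
    · have haB := h.Q1B ha
      have h1 := (hcE a haB).mpr (h.comm1 ha (h.eQ l))
      obtain ⟨w, hw, h2⟩ := hB.cj_r (norm_mem hx haB) h1
      rw [hact, h2, cj_mul, cj_inv_cj]
      exact Q₁.mul_mem (hV w hw) ha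
    · have haB := h.Q1B ha
      have h1 := (hcE a haB).mpr (h.comm1 ha (h.eQ l))
      obtain ⟨w, hw, h2⟩ := hB.cj_ri (norm_mem hx haB) h1
      rw [hyi, hact, h2, cj_mul, cj_inv_cj]
      exact Q₁.mul_mem (hV w hw) ha
  · rw [← cj_mul, ← cj_mul, hB.r3, cj_one]
  · rw [hact, hd, hB.rd]
    intro h1
    rw [← hdi] at h1
    exact Blk.edne hB (cj_inj h1)
  · have hfB := h.fB l
    have h1 : cj x (f l) * E ≠ E * cj x (f l) := by
      intro h2
      have h3 := (hcE _ hfB).mp h2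
      rw [h.fe] at h3
      exact h.dne l (by simpa using h3)
    obtain ⟨v, hv, h2⟩ := hB.outer _ (norm_mem hx hfB) h1
    refine ⟨cj x⁻¹ v, hV v hv, ?_⟩
    have e1 : cj (f l) (cj x⁻¹ ρ) = cj x⁻¹ (cj (cj x (f l)) ρ) := by unfold cj; group
    rw [e1, h2, cj_mul, hyi]
  · intro k hk
    have hfB := h.fB k
    have h1 := (hcE _ hfB).mpr (h.fec l k hk.symm)
    obtain ⟨v, hv, h2⟩ := hB.inner _ (norm_mem hx hfB) h1
    refine ⟨cj x⁻¹ v, hV v hv, ?_⟩
    have e1 : cj (f k) (cj x⁻¹ ρ) = cj x⁻¹ (cj (cj x (f k)) ρ) := by unfold cj; group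
    rw [e1, h2, cj_mul]

/-- Two blocks with the same index agree modulo `Q₁`. -/
theorem unique [Finite ι] (h : Tw B Q₁ Q₂ D e f d r r') (hL : Loc Q₁ T f) {l : ι} {y s : G}
    (hy : Bl Q₁ e f d l y) (hs : Bl Q₁ e f d l s) :
    (∀ a ∈ Q₁, cj y a = cj s a) ∨ (∀ a ∈ Q₁, cj y a = cj s⁻¹ a) := by
  have S := sit h hL
  -- elements of `Q₁` act trivially
  have hQ : ∀ a (ha : a ∈ Q₁), Q₁.normalizerMonoidHom ⟨a, le_normalizer ha⟩ = 1 := by
    intro a ha
    rw [← map_one Q₁.normalizerMonoidHom]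
    rw [phi_eq_iff]
    intro b hb
    have h4 : cj ((1 : normalizer (Q₁ : Set G)) : G) b = b := by
      rw [OneMemClass.coe_one]; unfold cj; group
    rw [h4]
    exact cj_eq_iff.mpr (h.comm1 ha hb)
  have key : ∀ {y : G} (hy : Bl Q₁ e f d l y),
      Q₁.normalizerMonoidHom ⟨y, hy.yN⟩ * Q₁.normalizerMonoidHom ⟨y, hy.yN⟩ *
        Q₁.normalizerMonoidHom ⟨y, hy.yN⟩ = 1 ∧
      Q₁.normalizerMonoidHom ⟨y, hy.yN⟩ ≠ 1 ∧
      Q₁.normalizerMonoidHom ⟨f l, B_norm h (h.fB l)⟩ * Q₁.normalizerMonoidHom ⟨y, hy.yN⟩ *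
        (Q₁.normalizerMonoidHom ⟨f l, B_norm h (h.fB l)⟩)⁻¹ =
          (Q₁.normalizerMonoidHom ⟨y, hy.yN⟩)⁻¹ ∧
      ∀ k, k ≠ l → Q₁.normalizerMonoidHom ⟨f k, B_norm h (h.fB k)⟩ *
        Q₁.normalizerMonoidHom ⟨y, hy.yN⟩ =
          Q₁.normalizerMonoidHom ⟨y, hy.yN⟩ * Q₁.normalizerMonoidHom ⟨f k, B_norm h (h.fB k)⟩ := by
    intro y hy
    refine ⟨?_, ?_, ?_, ?_⟩
    · rw [← map_mul, ← map_mul, ← map_one Q₁.normalizerMonoidHom]
      congr 1
      exact Subtype.ext hy.y3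
    · intro h1
      rw [← map_one Q₁.normalizerMonoidHom, phi_eq_iff] at h1
      have h2 := h1 (d l) (h.DQ1 (h.dD l))
      have h4 : cj ((1 : normalizer (Q₁ : Set G)) : G) (d l) = d l := by
        rw [OneMemClass.coe_one]; unfold cj; group
      rw [h4] at h2
      exact hy.yd h2
    · obtain ⟨a, ha, h1⟩ := hy.yl
      have h2 : (⟨f l, B_norm h (h.fB l)⟩ : normalizer (Q₁ : Set G)) * ⟨y, hy.yN⟩ *
          (⟨f l, B_norm h (h.fB l)⟩)⁻¹ = (⟨y, hy.yN⟩)⁻¹ * ⟨a, le_normalizer ha⟩ :=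
        Subtype.ext h1
      rw [← map_inv, ← map_mul, ← map_mul, h2, map_mul, hQ a ha, mul_one, map_inv]
    · intro k hk
      obtain ⟨a, ha, h1⟩ := hy.yk k hk
      have h2 : (⟨f k, B_norm h (h.fB k)⟩ : normalizer (Q₁ : Set G)) * ⟨y, hy.yN⟩ =
          ⟨y, hy.yN⟩ * ⟨a, le_normalizer ha⟩ * ⟨f k, B_norm h (h.fB k)⟩ := by
        apply Subtype.ext
        change f k * y = y * a * f k
        rw [← h1]; unfold cj; group
      rw [← map_mul, h2, map_mul, map_mul, hQ a ha, mul_one]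
  obtain ⟨y3, y1, yl, yk⟩ := key hy
  obtain ⟨s3, s1, sl, sk⟩ := key hs
  rcases S.unique_block l ⟨_, rfl⟩ ⟨_, rfl⟩ s3 s1 y3 y1 sl yl sk yk with h1 | h1
  · left
    exact phi_eq_iff.mp h1
  · right
    rw [← map_inv] at h1
    exact phi_eq_iff.mp h1

/-- the block `r l` itself -/
theorem own (h : Tw B Q₁ Q₂ D e f d r r') (k : ι) : Bl Q₁ e f d k (r k) := by
  have h3 := Bl.of (x := 1) (E := e k) (ρ := r k) (z := 1) (l := k) (δ := d k) h (one_mem _)
    (one_mem _) (h.blk k) D.one_mem (by unfold cj; group) (by unfold cj; group)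
  have e1 : cj (1 : G)⁻¹ (r k) = r k := by unfold cj; group
  rwa [e1] at h3

theorem InV_mul {δ E ρ v w : G} (h : Blk B δ E ρ) (hv : InV δ E v) (hw : InV δ E w) :
    InV δ E (v * w) := by
  have h1 := h.dd
  have h2 := h.ee
  have h3 := h.de
  rcases hv with rfl | rfl | rfl | rfl <;> rcases hw with rfl | rfl | rfl | rfl
  · left; rw [one_mul]
  · right; left; rw [one_mul]
  · right; right; left; rw [one_mul]
  · right; right; right; rw [one_mul]
  · right; left; rw [mul_one]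
  · left; exact h1
  · right; right; right; rfl
  · right; right; left; rw [← mul_assoc, h1, one_mul]
  · right; right; left; rw [mul_one]
  · right; right; right; exact h3.symm
  · left; exact h2
  · right; left; rw [h3, ← mul_assoc, h2, one_mul]
  · right; right; right; rw [mul_one]
  · right; right; left; rw [h3, mul_assoc, h1, mul_one]
  · right; left; rw [mul_assoc, h2, mul_one]
  · left
    calc δ * E * (δ * E) = δ * (E * δ) * E := by group
      _ = (δ * δ) * (E * E) := by rw [← h3]; group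
      _ = 1 := by rw [h1, h2, one_mul]

/-- `(s a)³ = 1` with `s = r^{±1}` implies `a ∈ ⟨d, e⟩`. -/
theorem mem_V {δ E ρ a : G} (h : Blk B δ E ρ) (ha : a ∈ B) (haE : a * E = E * a)
    (haa : a * a = 1) {s : G} (hs : s = ρ ∨ s = ρ⁻¹) (h3 : s * a * (s * a) * (s * a) = 1) :
    InV δ E a := by
  obtain ⟨w, hw, h1⟩ := h.cj_r ha haE
  obtain ⟨w', hw', h2⟩ := h.cj_ri ha haE
  have hr3 := h.r3
  have key : ∀ {u u' : G}, InV δ E u → InV δ E u' → cj s a = u * a → cj (s * s) a = u' * a →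
      s * s * s = 1 → InV δ E a := by
    intro u u' hu hu' h4 h5 h6
    have e1 : s * a * (s * a) * (s * a) = cj s a * cj (s * s) a * (s * s * s) * a := by
      unfold cj; group
    rw [e1, h4, h5, h6] at h3
    have e2 : u * a * (u' * a) * 1 * a = u * (a * u') * (a * a) := by group
    rw [e2, haa, mul_one, hu'.comm h ha haE, ← mul_assoc] at h3
    have h7 : a = (u * u')⁻¹ := (inv_eq_of_mul_eq_one_right h3).symm
    have h8 := InV_mul h hu hu'
    rw [h7, inv_eq_of_mul_eq_one_right (h8.sq h)]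
    exact h8
  rcases hs with rfl | rfl
  · refine key hw hw' h1 ?_ hr3
    have e1 : s * s = s⁻¹ := by rw [eq_inv_iff_mul_eq_one]; exact hr3
    rw [e1]; exact h2
  · refine key hw' hw h2 ?_ ?_
    · have e1 : ρ⁻¹ * ρ⁻¹ = ρ := by
        rw [← mul_inv_rev, inv_eq_iff_mul_eq_one]; exact hr3
      rw [e1]; exact h1
    · calc ρ⁻¹ * ρ⁻¹ * ρ⁻¹ = (ρ * ρ * ρ)⁻¹ := by group
        _ = 1 := by rw [hr3, inv_one]

/-- A block with index `l` on `Q₁` is conjugate to `⟨r l⟩` under `⟨d l, e l⟩`. -/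
theorem xr_of [Finite ι] (h : Tw B Q₁ Q₂ D e f d r r') (hL : Loc Q₁ T f) {l : ι} {y : G}
    (hy : Bl Q₁ e f d l y) :
    ∃ v, InV (d l) (e l) v ∧ (y = r l * v ∨ y = (r l)⁻¹ * v) := by
  have key : ∀ s : G, (s = r l ∨ s = (r l)⁻¹) → (∀ a ∈ Q₁, cj y a = cj s a) →
      ∃ v, InV (d l) (e l) v ∧ y = s * v := by
    intro s hs h1
    have h2 : s⁻¹ * y ∈ Q₁ := by
      apply hL.CQ
      intro a ha
      apply cj_eq_iff.mp
      rw [mul_cj, h1 a ha, cj_inv_cj]
    refine ⟨s⁻¹ * y, ?_, by group⟩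
    refine mem_V (h.blk l) (h.Q1B h2) (h.comm1 h2 (h.eQ l)) (h.sq1 _ h2) hs ?_
    have e1 : s * (s⁻¹ * y) = y := by group
    rw [e1]
    exact hy.y3
  rcases unique h hL hy (own h l) with h1 | h1
  · obtain ⟨v, hv, h2⟩ := key _ (Or.inl rfl) h1
    exact ⟨v, hv, Or.inl h2⟩
  · obtain ⟨v, hv, h2⟩ := key _ (Or.inr rfl) h1
    exact ⟨v, hv, Or.inr h2⟩

end Cfsg.Agent.Omega.SQ1.TwistLoc

end

section


/-!
# The twisted Killing Lemma for `q = 2` (project OMEGA, SQ1, L7; #11855 (a)-(f)): the theorem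

`Hom.tw` : an element `x ∈ N_G(B)` which centralises `B^ = C_B(r i, r' i)` and satisfies `[x, B] ≤ B^`
normalises `Q₁` and `Q₂`.
-/

set_option autoImplicit false

namespace Cfsg.Agent.Omega.SQ1.Twist

open Subgroup Cfsg.Agent.Omega.SQ1.TwistBase Cfsg.Agent.Omega.SQ1.TwistAlg
open Cfsg.Agent.Omega.SQ1.TwistSym Cfsg.Agent.Omega.SQ1.TwistLoc

universe u v

variable {G : Type u} [Group G] {ι : Type v}

variable {B Q₁ Q₂ D T : Subgroup G} {e f d r r' : ι → G}

/-- `x` exchanges the sides of the index `j` only. -/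
structure Swap (B D : Subgroup G) (e f : ι → G) (x : G) (j : ι) : Prop where
  xB : x ∈ normalizer (B : Set G)
  xD : x ∈ normalizer (D : Set G)
  xe : ∀ k, k ≠ j → ∃ z ∈ D, cj x (e k) = e k * z
  xf : ∀ k, k ≠ j → ∃ z ∈ D, cj x (f k) = f k * z
  xej : ∃ z ∈ D, cj x (e j) = f j * z
  xfj : ∃ z ∈ D, cj x (f j) = e j * z

/-- `r k` centralises `d l` for `l ≠ k`. -/
theorem comm_r_d (h : Tw B Q₁ Q₂ D e f d r r') {k l : ι} (hkl : l ≠ k) :
    d l * r k = r k * d l := by
  obtain ⟨w, hw, h1⟩ := (h.blk k).cj_r (h.eB l) (h.comm1 (h.eQ l) (h.eQ k))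
  obtain ⟨w', hw', h2⟩ := (h.blk k).cj_r (h.fB l) (h.fec k l hkl.symm)
  have h3 := congrArg (cj (r k)) (h.fe l)
  rw [cj_mul, cj_mul, cj_mul, h1, h2] at h3
  have c1 := hw.comm (h.blk k) (h.fB l) (h.fec k l hkl.symm)
  have c2 := hw'.comm (h.blk k) (h.eB l) (h.comm1 (h.eQ l) (h.eQ k))
  have hwe : w' * e k = e k * w' := by
    rcases hw' with rfl | rfl | rfl | rfl
    · rw [one_mul, mul_one]
    · exact (h.blk k).de
    · rfl
    · rw [mul_assoc, ← mul_assoc (e k), ← (h.blk k).de, mul_assoc]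
  have c3 := hw.comm (h.blk k) (hw'.mem (h.blk k)) hwe
  have e1 : w' * f l * (w * e l) = w' * w * (f l * e l) := by
    calc w' * f l * (w * e l) = w' * (f l * w) * e l := by group
      _ = w' * w * (f l * e l) := by rw [c1]; group
  have e2 : w * e l * (w' * f l) = w' * w * (e l * f l) := by
    calc w * e l * (w' * f l) = w * (e l * w') * f l := by group
      _ = (w * w') * (e l * f l) := by rw [c2]; group
      _ = w' * w * (e l * f l) := by rw [c3]
  rw [e1, e2, h.fe, ← mul_assoc, ← mul_assoc (cj (r k) (d l))] at h3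
  have h4 := mul_right_cancel h3
  -- `w' w d = (cj d) w' w`
  have h5 : w' * w * d l = d l * (w' * w) := by
    rw [← h.dc l (B.mul_mem (hw'.mem (h.blk k)) (hw.mem (h.blk k)))]
  rw [h5] at h4
  exact (cj_eq_iff.mp (mul_right_cancel h4).symm).symm

/-- A swap is impossible if `λ_j(e l) = 1` for some `l ≠ j`. -/
theorem swap_false [Finite ι] (h : Tw B Q₁ Q₂ D e f d r r') (hL : Loc Q₁ T f) {x : G} {j l : ι}
    (S : Swap B D e f x j) (hlj : l ≠ j) (hl : ¬ Lm (r j) (r' j) (e l)) : False := by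
  -- `x` centralises the `d k`
  have hd : ∀ k, k ≠ j → cj x (d k) = d k := by
    intro k hk
    obtain ⟨z, hz, h1⟩ := S.xe k hk
    obtain ⟨z', hz', h2⟩ := S.xf k hk
    exact conj_d h.DB h.Dc (h.fe k) (h.fe k) (h.eB _) (h.fB _) hz hz' h1 h2
  have hdj : cj x (d j) = d j := by
    obtain ⟨z, hz, h1⟩ := S.xej
    obtain ⟨z', hz', h2⟩ := S.xfj
    exact conj_d h.DB h.Dc (h.fe j) (h.ef j) (h.fB _) (h.eB _) hz hz' h1 h2
  -- the block `j`
  obtain ⟨z, hz, h1⟩ := S.xej
  have Bj := Bl.of h S.xB S.xD (h.blk' j) hz h1 hdj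
  obtain ⟨z', hz', h2⟩ := S.xe l hlj
  have Bl' := Bl.of h S.xB S.xD (h.blk l) hz' h2 (hd l hlj)
  have uj := unique h hL Bj (own h j)
  have ul := unique h hL Bl' (own h l)
  have hact : ∀ s a : G, cj (cj x⁻¹ s) a = cj x⁻¹ (cj s (cj x a)) := by
    intro s a; unfold cj; group
  -- `x⁻¹ (e l) x`
  have hel : cj x⁻¹ (e l) = e l ∨ cj x⁻¹ (e l) = d l * e l := by
    have h3 : cj (cj x⁻¹ (r l)) (d l) = cj x⁻¹ (e l) := by rw [hact, hd l hlj, (h.blk l).rd]
    rw [← h3]
    rcases ul with h4 | h4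
    · left; rw [h4 _ (h.DQ1 (h.dD l)), (h.blk l).rd]
    · right; rw [h4 _ (h.DQ1 (h.dD l)), (h.blk l).ri_d]
  have helQ : cj x⁻¹ (e l) ∈ Q₁ := by
    rcases hel with h3 | h3
    · rw [h3]; exact h.eQ l
    · rw [h3]; exact Q₁.mul_mem (h.DQ1 (h.dD l)) (h.eQ l)
  apply hl
  have h3 : (e l * r' j = r' j * e l) ↔
      cj (cj x⁻¹ (r' j)) (cj x⁻¹ (e l)) = cj x⁻¹ (e l) := by
    rw [cj_eq_iff, cj_comm_iff]
    exact eq_comm
  have h4 : cj (cj x⁻¹ (r' j)) (cj x⁻¹ (e l)) = cj x⁻¹ (e l) ↔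
      cj x⁻¹ (e l) * r j = r j * cj x⁻¹ (e l) := by
    rcases uj with h5 | h5
    · rw [h5 _ helQ, cj_eq_iff]
      exact eq_comm
    · rw [h5 _ helQ, cj_eq_iff]
      constructor
      · intro h6
        have h7 : Commute (r j)⁻¹ (cj x⁻¹ (e l)) := h6
        exact (Commute.inv_left_iff.mp h7).eq.symm
      · intro h6
        have h7 : Commute (cj x⁻¹ (e l)) (r j) := h6
        exact h7.symm.inv_left.eq
  have h5 : cj x⁻¹ (e l) * r j = r j * cj x⁻¹ (e l) ↔ e l * r j = r j * e l := by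
    have hdr := comm_r_d h hlj
    rcases hel with h6 | h6
    · rw [h6]
    · rw [h6]
      constructor
      · intro h7
        have h8 : d l * (e l * r j) = d l * (r j * e l) := by
          rw [← mul_assoc, h7, ← mul_assoc, ← hdr, mul_assoc]
        exact mul_left_cancel h8
      · intro h7
        rw [mul_assoc, h7, ← mul_assoc, hdr, mul_assoc]
  unfold Lm
  rw [h3, h4, h5]

/-- `D = Z(B)` is normalised by `N_G(B)`. -/
theorem norm_D (h : Tw B Q₁ Q₂ D e f d r r') {x : G} (hx : x ∈ normalizer (B : Set G)) :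
    x ∈ normalizer (D : Set G) := by
  have key : ∀ y ∈ normalizer (B : Set G), ∀ z ∈ D, cj y z ∈ D := by
    intro y hy z hz
    have h1 : ∀ b ∈ B, cj y z * b = b * cj y z := by
      intro b hb
      have h2 : cj y⁻¹ b ∈ B := norm_mem (inv_mem hy) hb
      have h3 := (cj_comm_iff (x := y)).mpr (h.Dc z hz _ h2)
      rwa [cj_cj_inv] at h3
    exact h.cent _ (norm_mem hy (h.DB hz)) (fun k => h1 _ (h.eB k)) fun k => h1 _ (h.fB k)
  exact mem_norm (key x hx) (key x⁻¹ (inv_mem hx))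

/-- `x` normalises `Q₁` if it fixes the `e k` modulo `D`. -/
theorem norm_Q [Finite G] (h : Tw B Q₁ Q₂ D e f d r r') {x : G} (hx : x ∈ normalizer (D : Set G))
    (he : ∀ k, cj x (e k) * (e k)⁻¹ ∈ D) : x ∈ normalizer (Q₁ : Set G) := by
  have hle : Q₁ ≤ Q₁.comap (MulAut.conj x).toMonoidHom := by
    refine h.gen1 _ (fun k => ?_) fun z hz => ?_
    · rw [mem_comap]
      change cj x (e k) ∈ Q₁
      have h1 : cj x (e k) = (cj x (e k) * (e k)⁻¹) * e k := by group
      rw [h1]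
      exact Q₁.mul_mem (h.DQ1 (he k)) (h.eQ k)
    · rw [mem_comap]
      exact h.DQ1 (norm_mem hx hz)
  have hinj : Function.Injective (fun a : Q₁ => (⟨cj x a, hle a.2⟩ : Q₁)) := by
    intro a b hab
    exact Subtype.ext (cj_inj (congrArg Subtype.val hab))
  have hsurj := Finite.surjective_of_injective hinj
  refine mem_norm (fun a ha => hle ha) fun a ha => ?_
  obtain ⟨b, hb⟩ := hsurj ⟨a, ha⟩
  have h1 : cj x b = a := congrArg Subtype.val hb
  rw [← h1, cj_inv_cj]
  exact b.2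

/-- **The twisted Killing Lemma, `q = 2`**: splitting of `B` over `B^`. -/
theorem tw [Finite G] [Finite ι] (h : Hom B Q₁ Q₂ D e f d r r') (hL : Loc Q₁ T f) {i : ι} {x : G}
    (hx : x ∈ normalizer (B : Set G))
    (hc : ∀ c ∈ B, c * r i = r i * c → c * r' i = r' i * c → x * c = c * x)
    (hb : ∀ b ∈ B, (x * b * x⁻¹ * b⁻¹) * r i = r i * (x * b * x⁻¹ * b⁻¹) ∧
      (x * b * x⁻¹ * b⁻¹) * r' i = r' i * (x * b * x⁻¹ * b⁻¹)) :
    x ∈ normalizer (Q₁ : Set G) ∧ x ∈ normalizer (Q₂ : Set G) := by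
  classical
  have hT := h.toTw
  have hxD := norm_D hT hx
  have gB : ∀ b ∈ B, cj x b * b⁻¹ ∈ B := fun b hb => B.mul_mem (norm_mem hx hb) (B.inv_mem hb)
  -- `B` normalises `B^`
  have hconj : ∀ c ∈ B, c * r i = r i * c → c * r' i = r' i * c → ∀ b ∈ B,
      cj b c * r i = r i * cj b c ∧ cj b c * r' i = r' i * cj b c := by
    intro c hcB h1 h2 b hb'
    have hI := hT.inC_of_comm hcB h1 h2
    have aux : ∀ {E ρ : G}, Blk B (d i) E ρ → c * E = E * c → c * ρ = ρ * c →
        cj b c * ρ = ρ * cj b c := by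
      intro E ρ hB hcE hcρ
      have h3 : cj b⁻¹ (cj b c) * cj b⁻¹ ρ = cj b⁻¹ ρ * cj b⁻¹ (cj b c) := by
        rw [cj_inv_cj]
        have hb'' := B.inv_mem hb'
        by_cases h4 : b⁻¹ * E = E * b⁻¹
        · obtain ⟨v, hv, h5⟩ := hB.inner _ hb'' h4
          have h6 := hv.comm hB hcB hcE
          rw [h5, ← mul_assoc, hcρ, mul_assoc, h6, mul_assoc]
        · obtain ⟨v, hv, h5⟩ := hB.outer _ hb'' h4
          have h6 := hv.comm hB hcB hcE
          have h7 : c * ρ⁻¹ = ρ⁻¹ * c := by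
            have : Commute c ρ := hcρ
            exact this.inv_right.eq
          rw [h5, ← mul_assoc, h7, mul_assoc, h6, mul_assoc]
      exact cj_comm_iff.mp h3
    exact ⟨aux (h.blk i) hI.2.1 h1, aux (h.blk' i) hI.2.2 h2⟩
  -- `[x, b] ∈ Z(B^)`
  have gZ : ∀ b ∈ B, ∀ c ∈ B, c * r i = r i * c → c * r' i = r' i * c →
      (cj x b * b⁻¹) * c = c * (cj x b * b⁻¹) := by
    intro b hb' c hcB h1 h2
    obtain ⟨h3, h4⟩ := hconj c hcB h1 h2 b⁻¹ (B.inv_mem hb')
    have h5 := hc _ (norm_mem (le_normalizer (B.inv_mem hb')) hcB) h3 h4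
    have h6 := hc c hcB h1 h2
    have h7 : cj b⁻¹ c = b⁻¹ * c * b := by unfold cj; group
    rw [h7] at h5
    unfold cj
    have h8 : x⁻¹ * (b⁻¹ * c * b) = b⁻¹ * c * b * x⁻¹ := by
      have : Commute x (b⁻¹ * c * b) := h5
      exact this.inv_left.eq
    calc x * b * x⁻¹ * b⁻¹ * c = x * b * (x⁻¹ * (b⁻¹ * c * b)) * b⁻¹ := by group
      _ = (x * c) * b * x⁻¹ * b⁻¹ := by rw [h8]; group
      _ = c * (x * b * x⁻¹ * b⁻¹) := by rw [h6]; group
  -- the conclusion from `[x, B] ≤ D`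
  have fin : (∀ k, cj x (e k) * (e k)⁻¹ ∈ D) → (∀ k, cj x (f k) * (f k)⁻¹ ∈ D) →
      x ∈ normalizer (Q₁ : Set G) ∧ x ∈ normalizer (Q₂ : Set G) := fun h1 h2 =>
    ⟨norm_Q hT hxD h1, norm_Q hT.symm hxD h2⟩
  by_cases hD : ∀ z ∈ D, Lm (r i) (r' i) z
  swap
  · push Not at hD
    obtain ⟨δ, hδ, hδL⟩ := hD
    have key : ∀ b ∈ B, cj x b * b⁻¹ ∈ D := by
      intro b hb'
      set g := cj x b * b⁻¹ with hg
      have hgB : g ∈ B := gB b hb'
      have hI : InC B (e i) (f i) g := hT.inC_of_comm hgB (hb b hb').1 (hb b hb').2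
      have hall : ∀ w, InC B (e i) (f i) w → g * w = w * g := by
        intro w hw
        by_cases hL' : Lm (r i) (r' i) w
        · exact hT.comm_of_Lm hgB (gZ b hb') hw hL'
        · have hw' := inC_mul hw (hT.inC_of_D hδ i)
          have h1 : g * (w * δ) = w * δ * g := hT.comm_of_Lm hgB (gZ b hb') hw' (by
            rw [hT.mulLm hw (hT.inC_of_D hδ i)]
            tauto)
          have h2 : g * w * δ = w * g * δ := by
            calc g * w * δ = g * (w * δ) := mul_assoc _ _ _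
              _ = w * (δ * g) := by rw [h1, mul_assoc]
              _ = w * (g * δ) := by rw [hT.Dc δ hδ g hgB]
              _ = w * g * δ := (mul_assoc _ _ _).symm
          exact mul_right_cancel h2
      refine hT.cent g hgB (fun k => ?_) fun k => ?_
      · by_cases hk : k = i
        · rw [hk]; exact hI.2.1
        · exact hall _ (hT.inC_e hk)
      · by_cases hk : k = i
        · rw [hk]; exact hI.2.2
        · exact hall _ (hT.inC_f hk)
    exact fin (fun k => key _ (h.eB k)) fun k => key _ (h.fB k)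
  · by_contra hno
    have hex : ∃ b ∈ B, cj x b * b⁻¹ ∉ D := by
      by_contra hne
      push Not at hne
      exact hno (fin (fun k => hne _ (h.eB k)) fun k => hne _ (h.fB k))
    obtain ⟨b₀, hb₀, hb₀D⟩ := hex
    obtain ⟨j, hji, hej, hfj, hs, -⟩ := h.support hD (gB b₀ hb₀) hb₀D (hb b₀ hb₀).1 (hb b₀ hb₀).2
      (gZ b₀ hb₀)
    -- the form of the commutators
    have form : ∀ b ∈ B, cj x b * b⁻¹ ∈ D ∨ ∃ z ∈ D, cj x b * b⁻¹ = e j * f j * z := by
      intro b hb'
      by_cases h1 : cj x b * b⁻¹ ∈ D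
      · left; exact h1
      · right
        obtain ⟨j', hji', hej', -, -, h2⟩ := h.support hD (gB b hb') h1 (hb b hb').1 (hb b hb').2
          (gZ b hb')
        have hjj : j' = j := by
          by_contra hne
          exact hej' (hs j' hji' hne).1
        rw [hjj] at h2
        exact h2
    -- generators with index `≠ j`
    have off : ∀ w ∈ B, w * w = 1 → w * e j = e j * w → w * f j = f j * w →
        cj x w * w⁻¹ ∈ D := by
      intro w hw hww h1 h2
      refine (form w hw).resolve_right ?_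
      rintro ⟨z, hz, h3⟩
      have h4 : cj x w = e j * f j * z * w := by rw [← h3]; group
      have h5 : cj x w * cj x w = 1 := by rw [← cj_mul, hww, cj_one]
      rw [h4] at h5
      have hzz : z * z = 1 := h.sq1 z (h.DQ1 hz)
      have c1 := h.Dc z hz w hw
      have c2 := h.Dc z hz _ (h.eB j)
      have c3 := h.Dc z hz _ (h.fB j)
      have h6 : e j * f j * z * w * (e j * f j * z * w) = d j := by
        calc e j * f j * z * w * (e j * f j * z * w)
            = e j * f j * (z * w) * (e j * f j * (z * w)) := by group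
          _ = e j * f j * (w * z) * (e j * f j * (w * z)) := by rw [c1]
          _ = e j * f j * w * (z * e j) * f j * w * z := by group
          _ = e j * f j * w * e j * (z * f j) * w * z := by rw [c2]; group
          _ = e j * f j * w * e j * f j * (z * w) * z := by rw [c3]; group
          _ = e j * f j * (w * e j) * f j * w * (z * z) := by rw [c1]; group
          _ = e j * f j * e j * (w * f j) * w := by rw [h1, hzz]; group
          _ = e j * (f j * e j) * f j * (w * w) := by rw [h2]; group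
          _ = (e j * d j) * e j * f j * f j := by rw [h.fe, hww]; group
          _ = d j * (e j * e j) * (f j * f j) := by rw [← hT.dc j (h.eB j)]; group
          _ = d j := by rw [hT.ee, hT.ff]; group
      rw [h6] at h5
      exact hT.dne j h5
    have offe : ∀ k, k ≠ j → cj x (e k) * (e k)⁻¹ ∈ D := fun k hk =>
      off _ (h.eB k) (hT.ee k) (hT.comm1 (h.eQ k) (h.eQ j)) (h.fec k j hk).symm
    have offf : ∀ k, k ≠ j → cj x (f k) * (f k)⁻¹ ∈ D := fun k hk =>
      off _ (h.fB k) (hT.ff k) (h.fec j k (Ne.symm hk)) (hT.comm2 (h.fQ k) (h.fQ j))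
    have toR : ∀ {w : G}, w ∈ B → cj x w * w⁻¹ ∈ D → ∃ z ∈ D, cj x w = w * z := by
      intro w hw h1
      refine ⟨_, h1, ?_⟩
      rw [← h.Dc _ h1 w hw]; group
    -- `cj x (e j)` and `cj x (f j)` do not commute
    have hnc : cj x (e j) * cj x (f j) ≠ cj x (f j) * cj x (e j) := by
      rw [Ne, cj_comm_iff, h.ef]
      intro h1
      exact hT.dne j (by simpa using h1)
    have fe_eq : ∀ z ∈ D, e j * f j * z * f j = e j * z := by
      intro z hz
      calc e j * f j * z * f j = e j * f j * (z * f j) := by group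
        _ = e j * (f j * f j) * z := by rw [h.Dc z hz _ (h.fB j)]; group
        _ = e j * z := by rw [hT.ff]; group
    have ee_eq : ∀ z ∈ D, e j * f j * z * e j = f j * (d j * z) := by
      intro z hz
      calc e j * f j * z * e j = e j * f j * (z * e j) := by group
        _ = e j * (f j * e j) * z := by rw [h.Dc z hz _ (h.eB j)]; group
        _ = (e j * d j) * e j * f j * z := by rw [h.fe]; group
        _ = d j * (e j * e j) * f j * z := by rw [← hT.dc j (h.eB j)]; group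
        _ = (d j * f j) * z := by rw [hT.ee]; group
        _ = f j * (d j * z) := by rw [hT.dc j (h.fB j)]; group
    -- commuting criterion for `u z`, `u' z'`
    have hcm : ∀ {u u' z z' : G}, u ∈ B → u' ∈ B → z ∈ D → z' ∈ D → u * u' = u' * u →
        (u * z) * (u' * z') = (u' * z') * (u * z) := by
      intro u u' z z' hu hu' hz hz' huu
      have c1 : Commute u u' := huu
      have c2 : Commute z u' := h.Dc z hz u' hu'
      have c3 : Commute z' u := h.Dc z' hz' u hu
      have c4 : Commute z z' := h.Dc z hz z' (hT.DB hz')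
      exact ((c1.mul_left c2).mul_right (c3.symm.mul_left c4)).eq
    have Sw : Swap B D e f x j := by
      refine ⟨hx, hxD, fun k hk => toR (h.eB k) (offe k hk), fun k hk => toR (h.fB k) (offf k hk),
        ?_, ?_⟩
      · rcases form _ (h.eB j) with h1 | ⟨z, hz, h1⟩
        · exfalso
          obtain ⟨z₁, hz₁, h2⟩ := toR (h.eB j) h1
          rcases form _ (h.fB j) with h3 | ⟨z, hz, h3⟩
          · refine hno (fin (fun k => ?_) fun k => ?_)
            · by_cases hk : k = j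
              · rw [hk]; exact h1
              · exact offe k hk
            · by_cases hk : k = j
              · rw [hk]; exact h3
              · exact offf k hk
          · have h4 : cj x (f j) = e j * z := by
              rw [← fe_eq z hz, ← h3]; group
            apply hnc
            rw [h2, h4]
            exact hcm (h.eB j) (h.eB j) hz₁ hz rfl
        · refine ⟨d j * z, D.mul_mem (h.dD j) hz, ?_⟩
          rw [← ee_eq z hz, ← h1]; group
      · rcases form _ (h.fB j) with h1 | ⟨z, hz, h1⟩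
        · exfalso
          obtain ⟨z₁, hz₁, h2⟩ := toR (h.fB j) h1
          rcases form _ (h.eB j) with h3 | ⟨z, hz, h3⟩
          · refine hno (fin (fun k => ?_) fun k => ?_)
            · by_cases hk : k = j
              · rw [hk]; exact h3
              · exact offe k hk
            · by_cases hk : k = j
              · rw [hk]; exact h1
              · exact offf k hk
          · have h4 : cj x (e j) = f j * (d j * z) := by
              rw [← ee_eq z hz, ← h3]; group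
            apply hnc
            rw [h2, h4]
            exact hcm (h.fB j) (h.fB j) (D.mul_mem (h.dD j) hz) hz₁ rfl
        · refine ⟨z, hz, ?_⟩
          rw [← fe_eq z hz, ← h1]; group
    obtain ⟨y, p, S, hpi⟩ := h.sym i j
    have hpj : p j ≠ j := by
      intro h1
      rw [← hpi] at h1
      have h2 : p j = p i := by rw [hpi]; rw [← hpi]; exact h1
      exact hji (S.inj hT h2)
    refine swap_false hT hL Sw hpj ?_
    have h1 := S.lme hT hji (h.lmD hD (p i))
    rw [hpi] at h1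
    exact fun h2 => hej (h1.mp h2)

end Cfsg.Agent.Omega.SQ1.Twist

end
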