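import Cfsg.Agent.Mrg.Omega.SQ1.EndFin
import Cfsg.Agent.Mrg.Omega.SQ1.NSOf
import Cfsg.Agent.Mrg.Omega.SQ1.End3


/-!
# The end `k = 1`, `q ≥ 4` (SQ1.7): plugs

* `tor_of`: `Tor` from `Base`, `LK` and faithfulness of `T/B` on `D/C₁`;
* `Blk.conj`: the block `L₂ = L₁^s`;
* `Base.false_of_LK`: the end given `T ≤ B`, from `Base`, `Glob`, `LK` and faithfulness;
* `Base.false`: **the end**.
-/

set_option autoImplicit false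
set_option Elab.async false

namespace Cfsg.Agent.Omega.SQ1.End

open Subgroup Cfsg Cfsg.Agent.ZN Cfsg.Agent.Omega.MinPar
open Cfsg.Agent.Lib.GoldschmidtFusion (mem_map_conj card_map_conj)

universe u

variable {G : Type u} [Group G]

section

variable {P T B Q₁ Q₂ D C₁ C₂ L K N : Subgroup G} {s : G} {q : ℕ}

namespace Base

variable [Finite G]

section

variable (h : Base P T B Q₁ Q₂ D C₁ C₂ s q)

include h

/-- `|D : C₁| ≥ 3`: two classes different from `C₁`. -/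
theorem exists_two : ∃ x ∈ D, ∃ y ∈ D, x ∉ C₁ ∧ y ∉ C₁ ∧ x⁻¹ * y ∉ C₁ := by
  obtain ⟨a, ha, haD⟩ := h.exists_a
  obtain ⟨b, hb, hbD⟩ := h.exists_b
  -- an element of `Q₂` outside `D ∪ bD`
  obtain ⟨c, hc, hcD, hbc⟩ : ∃ c ∈ Q₂, c ∉ D ∧ b⁻¹ * c ∉ D := by
    by_contra hcon
    push Not at hcon
    have h1 : Nat.card Q₂ ≤ 2 * Nat.card D := by
      apply card_le_two_mul hb
      intro e he
      by_cases heD : e ∈ D
      · exact Or.inl heD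
      · exact Or.inr (hcon e he heD)
    have h2 := h.card2
    have h3 := h.hq
    have h4 : 0 < Nat.card D := Nat.card_pos
    rw [h2] at h1
    nlinarith
  have hb1 := h.good a ha haD b hb hbD
  have hc1 := h.good a ha haD c hc hcD
  have hbc1 := h.good a ha haD _ (Q₂.mul_mem (Q₂.inv_mem hb) hc) hbc
  refine ⟨_, hb1.1, _, hc1.1, hb1.2.1, hc1.2.1, ?_⟩
  have h2 : a * (b⁻¹ * c) * a⁻¹ * (b⁻¹ * c)⁻¹ =
      b⁻¹ * ((a * b * a⁻¹ * b⁻¹)⁻¹ * (a * c * a⁻¹ * c⁻¹)) * b := by group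
  have h3 : (a * b * a⁻¹ * b⁻¹)⁻¹ * (a * c * a⁻¹ * c⁻¹) ∈ D := D.mul_mem (D.inv_mem hb1.1) hc1.1
  have h4 := h.centD h3 (h.Q2B hb)
  rw [h2, mul_assoc, h4, inv_mul_cancel_left] at hbc1
  exact hbc1.2.1

/-- The torus data from a block with torus. -/
theorem tor_of (k : NSOf.LK B Q₁ D C₁ L K)
    (faith : ∀ t ∈ T, (∀ d ∈ D, d⁻¹ * (t * d * t⁻¹) ∈ C₁) → t ∈ B) : Tor T B D C₁ K where
  KB := k.KB
  KC := by
    intro x hx c hc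
    rw [((k.memC c).1 hc).2 x (k.KL hx), mul_inv_cancel_right]
  C1D := by
    intro c hc
    by_contra hcD
    obtain ⟨b, hb, hbD⟩ := h.exists_b
    apply h.good_ne (h.good c ((k.memC c).1 hc).1 hcD b hb hbD)
    rw [← ((k.memC c).1 hc).2 b (k.BL (h.Q2B hb)), mul_inv_cancel_right, mul_inv_cancel]
  fix := by
    intro d hd hfix
    by_contra hdC
    obtain ⟨x, hx, y, hy, hxC, hyC, hxy⟩ := h.exists_two
    obtain ⟨a, ha, h1⟩ := k.Ktr d hd hdC x hx hxC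
    obtain ⟨b, hb, h2⟩ := k.Ktr d hd hdC y hy hyC
    rw [hfix a ha] at h1
    rw [hfix b hb] at h2
    apply hxy
    have h3 := C₁.mul_mem (C₁.inv_mem h2) h1
    have h4 : (d * y⁻¹)⁻¹ * (d * x⁻¹) = x⁻¹ * y := by
      have h5 := h.c1 y (h.D1 hy) x⁻¹ (Q₁.inv_mem (h.D1 hx))
      rw [← h5]; group
    rwa [h4] at h3
  irr := by
    intro E hED hE hEC d hd
    obtain ⟨e, he, heC⟩ := Set.not_subset.1 hEC
    by_cases hdC : d ∈ C₁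
    · exact ⟨1, E.one_mem, by simpa using hdC⟩
    obtain ⟨a, ha, h1⟩ := k.Ktr e (hED he) heC d hd hdC
    refine ⟨a * e * a⁻¹, hE a ha e he, ?_⟩
    have h2 : (a * e * a⁻¹)⁻¹ * d = (a * e * a⁻¹ * d⁻¹)⁻¹ := by
      have h3 := h.c1 d (h.D1 hd) (a * e * a⁻¹)⁻¹ (Q₁.inv_mem (h.D1 (hED (hE a ha e he))))
      rw [← h3]; group
    rw [h2]; exact C₁.inv_mem h1
  faith := faith

end

section

variable {S : Sylow 2 G} {M : Subgroup G} (h : Base (S : Subgroup G) T B Q₁ Q₂ D C₁ C₂ s q)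

include h

/-- `N_G(B)` is transitive on the good elements. -/
theorem go1_of (g : Glob S M) (k : NSOf.LK B Q₁ D C₁ L K)
    (faith : ∀ t ∈ T, (∀ d ∈ D, d⁻¹ * (t * d * t⁻¹) ∈ C₁) → t ∈ B) (d e : G)
    (hd : Gd D C₁ C₂ d) (he : Gd D C₁ C₂ e) : ∃ n ∈ normalizer (B : Set G), n * d * n⁻¹ = e := by
  have hM := h.M_eq g (h.tor_of k faith)
  exact NSOf.go1 h k (NSOf.hM_of (B := B) (S := S) fun X hX => hM ▸ g.uni X hX) hd he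

omit [Finite G] in
/-- Freeness on `D` from the types. -/
theorem freeD_of (types : (C₁ = ⊥ ∧ C₂ = ⊥) ∨ ∀ d ∈ D, ∃ c₁ ∈ C₁, ∃ c₂ ∈ C₂, d = c₁ * c₂) :
    ∀ t ∈ T, t ∉ B → t * t ∈ B → Free t D ⊥ := by
  intro t ht htB ht2
  rcases types with ⟨h1, -⟩ | htyp
  · have h2 := h.freeC1 t ht htB ht2
    rwa [h1] at h2
  have hcomm : ∀ x ∈ D, ∀ y ∈ D, x * y = y * x := fun x hx y hy => h.c1 x (h.D1 hx) y (h.D1 hy)
  have htD : ∀ x ∈ D, t * x * t⁻¹ ∈ D := fun x hx =>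
    (h.memD _).2 ⟨h.T1 t ht x (h.D1 hx), h.T2 t ht x (h.D2 hx)⟩
  have hnorm : ∀ x ∈ D, ∀ y ∈ D, x * y * (t * (x * y) * t⁻¹) = x * (t * x * t⁻¹) * (y * (t * y * t⁻¹)) := by
    intro x hx y hy
    have e := hcomm y hy _ (htD x hx)
    calc x * y * (t * (x * y) * t⁻¹) = x * (y * (t * x * t⁻¹)) * (t * y * t⁻¹) := by group
      _ = _ := by rw [e]; group
  intro d hd hfix
  rw [mem_bot, inv_mul_eq_one] at hfix
  obtain ⟨c₁, hc₁, c₂, hc₂, rfl⟩ := htyp d hd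
  have hc₁D := h.C1D hc₁
  have hc₂D := h.C2D hc₂
  have k1 := h.TC1 t ht c₁ hc₁
  have k2 := h.TC2 t ht c₂ hc₂
  -- both components are fixed
  have e1 : c₁⁻¹ * (t * c₁ * t⁻¹) ∈ C₁ ⊓ C₂ := by
    refine ⟨C₁.mul_mem (C₁.inv_mem hc₁) k1, ?_⟩
    have e2 : c₁⁻¹ * (t * c₁ * t⁻¹) = c₂ * (t * c₂ * t⁻¹)⁻¹ := by
      rw [inv_mul_eq_iff_eq_mul, eq_comm, ← mul_assoc, hfix]
      group
    rw [e2]
    exact C₂.mul_mem hc₂ (C₂.inv_mem k2)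
  rw [h.C12, mem_bot, inv_mul_eq_one] at e1
  have e2 : c₂ = t * c₂ * t⁻¹ := by
    have e3 : c₁ * c₂ = (t * c₁ * t⁻¹) * (t * c₂ * t⁻¹) := by rw [hfix]; group
    rw [← e1] at e3
    exact mul_left_cancel e3
  obtain ⟨u, hu, hu2⟩ := h.freeC2 t ht htB ht2 c₁ hc₁D (by rw [← e1, inv_mul_cancel]; exact one_mem _)
  obtain ⟨v, hv, hv2⟩ := h.freeC1 t ht htB ht2 c₂ hc₂D (by rw [← e2, inv_mul_cancel]; exact one_mem _)
  obtain ⟨u₁, hu₁, u₂, hu₂, rfl⟩ := htyp u hu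
  obtain ⟨v₁, hv₁, v₂, hv₂, rfl⟩ := htyp v hv
  have f1 : c₁⁻¹ * (u₁ * (t * u₁ * t⁻¹)) ∈ C₁ ⊓ C₂ := by
    refine ⟨C₁.mul_mem (C₁.inv_mem hc₁) (C₁.mul_mem hu₁ (h.TC1 t ht _ hu₁)), ?_⟩
    have f2 := hnorm u₁ (h.C1D hu₁) u₂ (h.C2D hu₂)
    rw [f2] at hu2
    have f3 : u₂ * (t * u₂ * t⁻¹) ∈ C₂ := C₂.mul_mem hu₂ (h.TC2 t ht _ hu₂)
    have f4 := C₂.mul_mem hu2 (C₂.inv_mem f3)
    have f5 : c₁⁻¹ * (u₁ * (t * u₁ * t⁻¹) * (u₂ * (t * u₂ * t⁻¹))) * (u₂ * (t * u₂ * t⁻¹))⁻¹ =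
      c₁⁻¹ * (u₁ * (t * u₁ * t⁻¹)) := by group
    rwa [f5] at f4
  have f2 : c₂⁻¹ * (v₂ * (t * v₂ * t⁻¹)) ∈ C₁ ⊓ C₂ := by
    refine ⟨?_, C₂.mul_mem (C₂.inv_mem hc₂) (C₂.mul_mem hv₂ (h.TC2 t ht _ hv₂))⟩
    have g2 := hnorm v₂ (h.C2D hv₂) v₁ (h.C1D hv₁)
    rw [hcomm v₂ (h.C2D hv₂) v₁ (h.C1D hv₁)] at g2
    rw [g2] at hv2
    have f3 : v₁ * (t * v₁ * t⁻¹) ∈ C₁ := C₁.mul_mem hv₁ (h.TC1 t ht _ hv₁)
    have f4 := C₁.mul_mem hv2 (C₁.inv_mem f3)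
    have f5 : c₂⁻¹ * (v₂ * (t * v₂ * t⁻¹) * (v₁ * (t * v₁ * t⁻¹))) * (v₁ * (t * v₁ * t⁻¹))⁻¹ =
      c₂⁻¹ * (v₂ * (t * v₂ * t⁻¹)) := by group
    rwa [f5] at f4
  rw [h.C12, mem_bot, inv_mul_eq_one] at f1 f2
  refine ⟨u₁ * v₂, D.mul_mem (h.C1D hu₁) (h.C2D hv₂), ?_⟩
  rw [hnorm u₁ (h.C1D hu₁) v₂ (h.C2D hv₂), ← f1, ← f2, inv_mul_cancel]
  exact one_mem _

/-- Freeness on `D`. -/
theorem freeD (g : Glob S M) (k : NSOf.LK B Q₁ D C₁ L K)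
    (faith : ∀ t ∈ T, (∀ d ∈ D, d⁻¹ * (t * d * t⁻¹) ∈ C₁) → t ∈ B) :
    ∀ t ∈ T, t ∉ B → t * t ∈ B → Free t D ⊥ := by
  have hM := h.M_eq g (h.tor_of k faith)
  exact h.freeD_of (NSOf.types h k (NSOf.hM_of (B := B) (S := S) fun X hX => hM ▸ g.uni X hX))

/-- The end, given `T ≤ B`. -/
theorem false_of_LK [IsSimpleGroup G] (g : Glob S M) (k : NSOf.LK B Q₁ D C₁ L K)
    (faith : ∀ t ∈ T, (∀ d ∈ D, d⁻¹ * (t * d * t⁻¹) ∈ C₁) → t ∈ B) (hTB : T ≤ B) : False := by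
  have fus1 : ∀ x ∈ Q₁, ∃ l : G, l * x * l⁻¹ ∈ D := fun x hx => by
    obtain ⟨l, -, hl⟩ := k.fus x hx
    exact ⟨l, hl⟩
  have fus2 : ∀ x ∈ Q₂, ∃ l : G, l * x * l⁻¹ ∈ D := fun x hx => by
    obtain ⟨l, hl⟩ := fus1 _ (h.s2 x hx)
    refine ⟨l * s, ?_⟩
    have h1 : l * (s * x * s⁻¹) * l⁻¹ = l * s * x * (l * s)⁻¹ := by group
    rwa [h1] at hl
  exact h.false_of_T g (h.tor_of k faith) hTB (h.go1_of g k faith) fus1 fus2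

end

end Base

/-- The conjugate by `s` of a block. -/
theorem Blk.conj [Finite G] (h : Base P T B Q₁ Q₂ D C₁ C₂ s q) (b : Blk T B Q₁ D C₁ L N) :
    Blk T B Q₂ D C₂ (L.map (MulAut.conj s).toMonoidHom) (N.map (MulAut.conj s).toMonoidHom) := by
  have hB : ∀ x ∈ B, s * x * s⁻¹ ∈ B := fun x hx => h.S_B h.sS hx
  have hB' := inv_conj_mem hB
  have hD : ∀ x ∈ D, s * x * s⁻¹ ∈ D := fun x hx => (h.memD _).2 ⟨h.s2 x (h.D2 hx), h.s1 x (h.D1 hx)⟩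
  have hD' := inv_conj_mem hD
  refine ⟨?_, map_mono b.NL, ?_, ?_, ?_, ?_, ?_, ?_, ?_, ?_, ?_, ?_⟩
  · intro x hx
    exact mem_map_conj.2 (b.BN (hB' x hx))
  · rintro _ ⟨l, hl, rfl⟩ x hx
    have h1 := h.s1 _ (b.QL l hl _ (h.s1' hx))
    have h2 : s * (l * (s⁻¹ * x * s) * l⁻¹) * s⁻¹ = s * l * s⁻¹ * x * (s * l * s⁻¹)⁻¹ := by group
    rwa [h2] at h1
  · rintro t ht _ ⟨l, hl, rfl⟩
    rw [mem_map_conj]
    have h1 := b.TL _ (h.sT' ht) l hl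
    have h2 : s⁻¹ * (t * (s * l * s⁻¹) * t⁻¹) * s = s⁻¹ * t * s * l * (s⁻¹ * t * s)⁻¹ := by group
    show s⁻¹ * (t * (s * l * s⁻¹) * t⁻¹) * s ∈ L
    rw [h2]; exact h1
  · rintro t ht _ ⟨l, hl, rfl⟩
    rw [mem_map_conj]
    have h1 := b.TN _ (h.sT' ht) l hl
    have h2 : s⁻¹ * (t * (s * l * s⁻¹) * t⁻¹) * s = s⁻¹ * t * s * l * (s⁻¹ * t * s)⁻¹ := by group
    show s⁻¹ * (t * (s * l * s⁻¹) * t⁻¹) * s ∈ N
    rw [h2]; exact h1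
  · intro R hR hBR hRL
    have h1 : R.map (MulAut.conj s⁻¹).toMonoidHom = B := by
      apply b.syl _ (hR.map _)
      · intro x hx
        rw [mem_map_conj, inv_inv]
        exact hBR (hB x hx)
      · rintro _ ⟨r, hr, rfl⟩
        have h2 := mem_map_conj.1 (hRL hr)
        show s⁻¹ * r * s⁻¹⁻¹ ∈ L
        rw [inv_inv]; exact h2
    have h2 : Nat.card R = Nat.card B := by rw [← h1, card_map_conj]
    exact (Subgroup.eq_of_le_of_card_ge hBR h2.le).symm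
  · obtain ⟨l, hl, hlN⟩ := b.ne
    refine ⟨s * l * s⁻¹, ⟨l, hl, rfl⟩, fun h1 => hlN ?_⟩
    have h2 := mem_map_conj.1 h1
    have h3 : s⁻¹ * (s * l * s⁻¹) * s = l := by group
    rwa [h3] at h2
  · rintro _ ⟨l, hl, rfl⟩ hlN _ ⟨l', hl', rfl⟩ hlN'
    have hl0 : l ∉ N := fun h1 => hlN ⟨l, h1, rfl⟩
    have hl0' : l' ∉ N := fun h1 => hlN' ⟨l', h1, rfl⟩
    obtain ⟨c, hc, hcN⟩ := b.tr l hl hl0 l' hl' hl0'
    refine ⟨s * c * s⁻¹, hB c hc, ?_⟩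
    rw [mem_map_conj]
    have h1 : s⁻¹ * ((s * l * s⁻¹)⁻¹ * (s * c * s⁻¹)⁻¹ * (s * l' * s⁻¹)) * s = l⁻¹ * c⁻¹ * l' := by
      group
    show s⁻¹ * ((s * l * s⁻¹)⁻¹ * (s * c * s⁻¹)⁻¹ * (s * l' * s⁻¹)) * s ∈ N
    rw [h1]; exact hcN
  · rintro x hx _ ⟨l, hl, rfl⟩ hlN hxN
    have hl0 : l ∉ N := fun h1 => hlN ⟨l, h1, rfl⟩
    have h1 : l⁻¹ * (s⁻¹ * x * s) * l ∈ N := by
      have h2 := mem_map_conj.1 hxN
      have h3 : s⁻¹ * ((s * l * s⁻¹)⁻¹ * x * (s * l * s⁻¹)) * s = l⁻¹ * (s⁻¹ * x * s) * l := by group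
      have h4 : s⁻¹ * ((s * l * s⁻¹)⁻¹ * x * (s * l * s⁻¹)) * s ∈ N := h2
      rwa [h3] at h4
    have h5 := h.s1 _ (b.st _ (hB' x hx) l hl hl0 h1)
    have h6 : s * (s⁻¹ * x * s) * s⁻¹ = x := by group
    rwa [h6] at h5
  · rintro x hx hxQ y hy hyQ _ ⟨l, hl, rfl⟩ hlN R hR hxR hyR
    have hl0 : l ∉ N := fun h1 => hlN ⟨l, h1, rfl⟩
    have e1 : s⁻¹ * x * s ∉ Q₁ := fun h1 => hxQ (by
      have h2 := h.s1 _ h1
      have h3 : s * (s⁻¹ * x * s) * s⁻¹ = x := by group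
      rwa [h3] at h2)
    have e2 : s⁻¹ * y * s ∉ Q₁ := fun h1 => hyQ (by
      have h2 := h.s1 _ h1
      have h3 : s * (s⁻¹ * y * s) * s⁻¹ = y := by group
      rwa [h3] at h2)
    refine b.ti _ (hB' x hx) e1 _ (hB' y hy) e2 l hl hl0 (R.map (MulAut.conj s⁻¹).toMonoidHom) (hR.map _)
      ?_ ?_
    · rw [mem_map_conj, inv_inv]
      have h3 : s * (s⁻¹ * x * s) * s⁻¹ = x := by group
      rw [h3]; exact hxR
    · rw [mem_map_conj, inv_inv]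
      have h3 : s * (l * (s⁻¹ * y * s) * l⁻¹) * s⁻¹ = s * l * s⁻¹ * y * (s * l * s⁻¹)⁻¹ := by group
      rw [h3]; exact hyR
  · rintro d hd hdC _ ⟨l, hl, rfl⟩ hlN hD2
    have hl0 : l ∉ N := fun h1 => hlN ⟨l, h1, rfl⟩
    have e1 : s⁻¹ * d * s ∉ C₁ := fun h1 => hdC (by
      have h2 := h.sC1 _ h1
      have h3 : s * (s⁻¹ * d * s) * s⁻¹ = d := by group
      rwa [h3] at h2)
    refine b.line _ (hD' d hd) e1 l hl hl0 ?_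
    have h1 := hD' _ hD2
    have h2 : s⁻¹ * (s * l * s⁻¹ * d * (s * l * s⁻¹)⁻¹) * s = l * (s⁻¹ * d * s) * l⁻¹ := by group
    have h3 : s⁻¹ * (s * l * s⁻¹ * d * (s * l * s⁻¹)⁻¹) * s ∈ D := h1
    rwa [h2] at h3
  · intro x hx
    obtain ⟨l, hl, hlD⟩ := b.fus _ (h.s1' hx)
    refine ⟨s * l * s⁻¹, ⟨l, hl, rfl⟩, ?_⟩
    have h1 := hD _ hlD
    have h2 : s * (l * (s⁻¹ * x * s) * l⁻¹) * s⁻¹ = s * l * s⁻¹ * x * (s * l * s⁻¹)⁻¹ := by group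
    rwa [h2] at h1

/-- **The end of the case `k = 1`, `q ≥ 4`** of the unique maximal 2-local case: the configuration does
not occur in a simple group of characteristic 2 type. -/
theorem Base.false [Finite G] [IsSimpleGroup G] {S : Sylow 2 G} {M : Subgroup G}
    (h : Base (S : Subgroup G) T B Q₁ Q₂ D C₁ C₂ s q) (g : Glob S M) (k : NSOf.LK B Q₁ D C₁ L K)
    (b : Blk T B Q₁ D C₁ L N) (faith : ∀ t ∈ T, (∀ d ∈ D, d⁻¹ * (t * d * t⁻¹) ∈ C₁) → t ∈ B) :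
    False :=
  h.false_of_LK g k faith (End3.T_le_B_of g.c2t h (h.freeD g k faith) b (b.conj h)
    (h.cent g (h.tor_of k faith) (h.go1_of g k faith)))

end

end Cfsg.Agent.Omega.SQ1.End
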