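import Cfsg.Agent.Mrg.Omega.SQ1.MidBase
import Cfsg.Agent.Mrg.Omega.SQ1.EndAll
import Cfsg.Agent.Mrg.Omega.SQ1.Main
import Cfsg.Agent.Mrg.Omega.SQ1.BauL

section


/-!
# SQ1, one block, `b = 1`, `q ≥ 4`: the producer of `End.Base`, `End.Blk`, `NSOf.LK`
-/

set_option autoImplicit false
set_option linter.unusedSectionVars false
set_option linter.unusedVariables false

namespace Cfsg.Agent.Omega.SQ1.MidOne

open Subgroup Cfsg Cfsg.Agent.ZN Cfsg.Agent.ZN.ChoiceBase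
open Cfsg.Agent.Omega.NatPair Cfsg.Agent.Lib.SL2Mat
open Cfsg.Agent.Omega.SQ1.FFOne Cfsg.Agent.Omega.SQ1.End
open scoped Pointwise

universe u

variable {G : Type u} [Group G]

/-- the stabiliser of the line `Z` -/
def NN (L Z : Subgroup G) : Subgroup G := L ⊓ normalizer (Z : Set G)

section

variable {F : Type*} [Field F] (x : Matrix.SpecialLinearGroup (Fin 2) F)

theorem inv_00 : ent x⁻¹ 0 0 = ent x 1 1 := by rw [ent_inv, mk_00]
theorem inv_01 : ent x⁻¹ 0 1 = - ent x 0 1 := by rw [ent_inv, mk_01]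
theorem inv_10 : ent x⁻¹ 1 0 = - ent x 1 0 := by rw [ent_inv, mk_10]
theorem inv_11 : ent x⁻¹ 1 1 = ent x 0 0 := by rw [ent_inv, mk_11]

end

namespace Mid

variable {F : Type*} [Field F] {H T B Y Z C L : Subgroup G} {s : G}
variable (M : Mid F H T B Y Z C L s)

include M

theorem smem {X : Subgroup G} {x : G} (hx : x ∈ X) : s * x * s⁻¹ ∈ cj s X := by
  rw [mem_cj]
  have e : s⁻¹ * (s * x * s⁻¹) * s = x := by group
  rwa [e]

theorem ssY {y : G} (hy : y ∈ Y) : s * s * y * (s * s)⁻¹ ∈ Y := M.TY M.ss hy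

theorem ssC {y : G} (hy : y ∈ C) : s * s * y * (s * s)⁻¹ ∈ C := M.V0n _ (M.TH M.ss) y hy

/-- `Y ∩ Y^s = Z` -/
theorem mem_Z_iff [Finite G] {x : G} : x ∈ Z ↔ x ∈ Y ∧ x ∈ cj s Y := by
  constructor
  · intro hx
    exact ⟨M.ZY hx, by rw [mem_cj]; exact M.ZY (M.sZ' hx)⟩
  · rintro ⟨h1, h2⟩
    rw [mem_cj] at h2
    have h3 := M.inf _ h2 (by
      have e : s * (s⁻¹ * x * s) * s⁻¹ = x := by group
      rwa [e])
    have h4 := M.sZ _ h3
    have e : s * (s⁻¹ * x * s) * s⁻¹ = x := by group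
    rwa [e] at h4

theorem comm_YB {a b : G} (ha : a ∈ Y) (hb : b ∈ B) :
    M.π (a * b * a⁻¹ * b⁻¹) = ![- (M.β b * M.π a 1), 0] := by
  have e : a * b * a⁻¹ * b⁻¹ = a * (b * a⁻¹ * b⁻¹) := by group
  have h1 := M.LY (M.BL hb) (inv_mem ha)
  rw [e, M.map_mul a ha _ h1, M.β_spec hb (inv_mem ha), M.map_inv ha]
  apply NatPair.ext2
  · rw [Pi.add_apply, M.ap_up_zero, Pi.neg_apply, Pi.neg_apply]
    show _ = - (M.β b * M.π a 1)
    ring
  · rw [Pi.add_apply, M.ap_up_one, Pi.neg_apply]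
    show _ = (0 : F)
    ring

theorem comm_YB_mem {a b : G} (ha : a ∈ Y) (hb : b ∈ B) : a * b * a⁻¹ * b⁻¹ ∈ Z := by
  have e : a * b * a⁻¹ * b⁻¹ = a * (b * a⁻¹ * b⁻¹) := by group
  have h1 : a * b * a⁻¹ * b⁻¹ ∈ Y := by
    rw [e]; exact mul_mem ha (M.LY (M.BL hb) (inv_mem ha))
  apply M.π_mem_Z h1
  rw [M.comm_YB ha hb]
  rfl

theorem comm_notMem {a b : G} (ha : a ∈ Y) (haZ : a ∉ Z) (hb : b ∈ B) (hbY : b ∉ Y) :
    a * b * a⁻¹ * b⁻¹ ∉ C := by
  intro h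
  have h1 := M.comm_YB ha hb
  rw [(M.ker _ (M.CY h)).2 h] at h1
  have h2 := congrFun h1 0
  simp only [Pi.zero_apply, Matrix.cons_val_zero] at h2
  have h3 : M.β b * M.π a 1 = 0 := by linear_combination h2
  rcases mul_eq_zero.1 h3 with h4 | h4
  · exact hbY ((M.β_zero_iff hb).1 h4)
  · exact haZ (M.π_mem_Z ha h4)

theorem card_YZ [Finite G] : Nat.card Y = Nat.card F * Nat.card Z := by
  rw [mul_comm]
  refine card_of_map (fun v => M.π v 1) ?_ M.ZY ?_ ?_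
  · intro v hv w hw
    show M.π (v * w) 1 = _
    rw [M.map_mul v hv w hw]; rfl
  · intro v hv
    exact (M.Zpi v hv).symm
  · intro c
    obtain ⟨v, hv, e⟩ := M.surj ![0, c]
    exact ⟨v, hv, by show M.π v 1 = c; rw [e]; rfl⟩

theorem card_ZC [Finite G] : Nat.card Z = Nat.card F * Nat.card C := by
  rw [mul_comm]
  refine card_of_map (fun v => M.π v 0) ?_ M.CZ ?_ ?_
  · intro v hv w hw
    show M.π (v * w) 0 = _
    rw [M.map_mul v (M.ZY hv) w (M.ZY hw)]; rfl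
  · intro v hv
    rw [← M.ker v (M.ZY hv)]
    constructor
    · intro h
      exact NatPair.ext2 h ((M.Zpi v (M.ZY hv)).1 hv)
    · intro h
      show M.π v 0 = 0
      rw [h]; rfl
  · intro c
    obtain ⟨v, hv, e⟩ := M.surj ![c, 0]
    exact ⟨v, M.π_mem_Z hv (by rw [e]; rfl), by show M.π v 0 = c; rw [e]; rfl⟩

theorem prod' [Finite G] (x : G) (hx : x ∈ B) : ∃ a ∈ Y, ∃ b ∈ cj s Y, x = a * b := by
  obtain ⟨y, hy, y', hy', rfl⟩ := M.prod x hx
  exact ⟨y, hy, _, M.smem hy', rfl⟩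

theorem cjYB [Finite G] : cj s Y ≤ B := by
  rw [← M.cjB]
  exact cj_mono s M.YB

theorem sY2 [Finite G] {x : G} (hx : x ∈ cj s Y) : s * x * s⁻¹ ∈ Y := by
  rw [mem_cj] at hx
  have h1 := M.ssY hx
  have e : s * s * (s⁻¹ * x * s) * (s * s)⁻¹ = s * x * s⁻¹ := by group
  rwa [e] at h1

theorem sC2 [Finite G] {x : G} (hx : x ∈ cj s C) : s * x * s⁻¹ ∈ C := by
  rw [mem_cj] at hx
  have h1 := M.ssC hx
  have e : s * s * (s⁻¹ * x * s) * (s * s)⁻¹ = s * x * s⁻¹ := by group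
  rwa [e] at h1

theorem sY1' [Finite G] {x : G} (hx : x ∈ Y) : s⁻¹ * x * s ∈ cj s Y := by
  rw [mem_cj]
  have h1 := M.TY (inv_mem M.ss) hx
  have e : (s * s)⁻¹ * x * (s * s)⁻¹⁻¹ = s⁻¹ * (s⁻¹ * x * s) * s := by
    simp only [mul_inv_rev, inv_inv, mul_assoc]
  rwa [e] at h1

theorem good' [Finite G] {a b : G} (ha : a ∈ Y) (haZ : a ∉ Z) (hb : b ∈ cj s Y) (hbZ : b ∉ Z) :
    Gd Z C (cj s C) (a * b * a⁻¹ * b⁻¹) := by
  have hbB := M.cjYB hb
  refine ⟨M.comm_YB_mem ha hbB, M.comm_notMem ha haZ hbB ?_, ?_⟩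
  · intro h
    exact hbZ (M.mem_Z_iff.2 ⟨h, hb⟩)
  · rw [mem_cj] at hb ⊢
    intro h
    have h1 : s⁻¹ * b * s ∉ Z := fun h2 => hbZ (by
      have h3 := M.sZ _ h2
      have e : s * (s⁻¹ * b * s) * s⁻¹ = b := by group
      rwa [e] at h3)
    have ha' := M.sY1' ha
    have h2 : s⁻¹ * a * s ∉ Y := by
      intro h3
      apply haZ
      have h4 := M.mem_Z_iff.2 ⟨h3, ha'⟩
      have h5 := M.sZ _ h4
      have e : s * (s⁻¹ * a * s) * s⁻¹ = a := by group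
      rwa [e] at h5
    have h3 := M.comm_notMem hb h1 (M.cjYB ha') h2
    apply h3
    have h4 := inv_mem h
    have e : (s⁻¹ * (a * b * a⁻¹ * b⁻¹) * s)⁻¹ =
      s⁻¹ * b * s * (s⁻¹ * a * s) * (s⁻¹ * b * s)⁻¹ * (s⁻¹ * a * s)⁻¹ := by group
    rwa [e] at h4

/-- **`End.Base`** -/
theorem base [Finite G] [Finite F] [CharP F 2] {S : Subgroup G} (hS : IsPGroup 2 S) (hTS : T ≤ S)
    (hs : s ∈ S) (hNS : ∀ x ∈ S, (∀ a ∈ Y, x * a * x⁻¹ ∈ Y) → x ∈ T) (hq : 4 ≤ Nat.card F) :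
    Base S T B Y (cj s Y) Z C (cj s C) s (Nat.card F) where
  two := hS
  c1 := M.Ycomm
  c2 := by
    rintro _ ⟨x, hx, rfl⟩ _ ⟨y, hy, rfl⟩
    rw [← map_mul, M.Ycomm x hx y hy, map_mul]
  sq1 := M.Ysq
  sq2 := by
    rintro _ ⟨x, hx, rfl⟩
    rw [← map_mul, M.Ysq x hx, map_one]
  memD := fun x => M.mem_Z_iff
  Q1B := M.YB
  Q2B := M.cjYB
  prod := M.prod'
  good := fun a ha haD b hb hbD => M.good' ha haD hb hbD
  C12 := by
    rw [eq_bot_iff]
    rintro x ⟨h1, h2⟩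
    rw [mem_bot]
    have h3 := M.CC x h1 (M.sC2 h2)
    exact h3
  card1 := M.card_YZ
  card2 := by rw [card_cj]; exact M.card_YZ
  hq := hq
  BT := M.BT
  TS := hTS
  sS := hs
  s1 := fun x hx => M.smem hx
  s2 := fun x hx => M.sY2 hx
  sC1 := fun x hx => M.smem hx
  sC2 := fun x hx => M.sC2 hx
  T1 := fun t ht x hx => M.TY ht hx
  T2 := by
    intro t ht x hx
    rw [mem_cj] at hx ⊢
    have h1 := M.TY (M.sT' ht) hx
    have e : s⁻¹ * t * s * (s⁻¹ * x * s) * (s⁻¹ * t * s)⁻¹ = s⁻¹ * (t * x * t⁻¹) * s := by group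
    rwa [e] at h1
  TC1 := fun t ht x hx => M.V0n t (M.TH ht) x hx
  TC2 := by
    intro t ht x hx
    rw [mem_cj] at hx ⊢
    have h1 := M.V0n _ (M.TH (M.sT' ht)) _ hx
    have e : s⁻¹ * t * s * (s⁻¹ * x * s) * (s⁻¹ * t * s)⁻¹ = s⁻¹ * (t * x * t⁻¹) * s := by group
    rwa [e] at h1
  memT := hNS
  free1 := fun t ht h1 h2 => M.free_BY ht h1 h2
  free2 := fun t ht h1 h2 => M.free_BY' ht h1 h2
  free1D := fun t ht h1 h2 => M.free_YZ ht h1 h2
  free2D := fun t ht h1 h2 => M.free_YZ' ht h1 h2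
  freeC1 := fun t ht h1 h2 => M.free_ZC ht h1 h2
  freeC2 := fun t ht h1 h2 => M.free_ZC' ht h1 h2
  C1D := M.CZ
  C2D := by
    rw [← M.cjZ]
    exact cj_mono s M.CZ
  cardC1 := M.card_ZC
  cardC2 := by rw [card_cj]; exact M.card_ZC
  cenD := by
    intro t ht h
    exact M.cent t ht fun z hz => mul_inv_eq_iff_eq_mul.1 (h z hz)
  uniq := M.uniq

/-- `T` acts faithfully on `Z / C` modulo `B`. -/
theorem faith [Finite G] [Finite F] [CharP F 2] (t : G) (ht : t ∈ T)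
    (h : ∀ d ∈ Z, d⁻¹ * (t * d * t⁻¹) ∈ C) : t ∈ B := by
  obtain ⟨σ, a, d, hw⟩ := M.exists_tw ht
  have key : ∀ x : F, a * σ x = x := by
    intro x
    obtain ⟨z, hz, e⟩ := M.surj ![x, 0]
    have hzZ : z ∈ Z := M.π_mem_Z hz (by rw [e]; rfl)
    have htz := M.TY ht hz
    have h1 := congrFun ((M.ker _ (mul_mem (inv_mem hz) htz)).2 (h z hzZ)) 0
    rw [M.map_mul _ (inv_mem hz) _ htz, M.map_inv hz, Pi.add_apply, Pi.neg_apply, hw.zero z hzZ, e] at h1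
    have h2 : -x + a * σ x = 0 := h1
    linear_combination h2
  have h1 := key 1
  rw [map_one, mul_one] at h1
  subst h1
  have h2 : σ = RingEquiv.refl F := by
    ext x
    have h3 := key x
    rw [one_mul] at h3
    exact h3
  subst h2
  exact M.mem_B ht hw

/-! ### The block -/

theorem ind_conj {l x : G} (hl : l ∈ L) (hx : x ∈ L) {A X : Matrix.SpecialLinearGroup (Fin 2) F}
    (hA : M.Ind l A) (hX : M.Ind x X) : M.Ind (l * x * l⁻¹) (A * X * A⁻¹) :=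
  M.ind_mul (M.LH (mul_mem hl hx)) (M.LH (inv_mem hl)) (M.ind_mul (M.LH hl) (M.LH hx) hA hX)
    (M.ind_inv (M.LH hl) hA)

theorem mem_of_ind {l l' : G} (hl : l ∈ L) (hl' : l' ∈ L) {A : Matrix.SpecialLinearGroup (Fin 2) F}
    (hA : M.Ind l A) (hA' : M.Ind l' A) : l⁻¹ * l' ∈ Y := by
  have h1 := M.ind_mul (M.LH (inv_mem hl)) (M.LH hl') (M.ind_inv (M.LH hl) hA) hA'
  rw [inv_mul_cancel] at h1
  apply M.kerL _ (mul_mem (inv_mem hl) hl')
  intro v hv
  rw [h1 v hv, ap_one]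

theorem mem_B_of_ind {l : G} (hl : l ∈ L) {c : F} (hA : M.Ind l (up c)) : l ∈ B := by
  obtain ⟨b, hb, h⟩ := M.cup c
  have h1 := mul_mem hb (M.YB (M.mem_of_ind (M.BL hb) hl h hA))
  rwa [mul_inv_cancel_left] at h1


theorem mem_NN_iff [Finite G] {l : G} (hl : l ∈ L) {A : Matrix.SpecialLinearGroup (Fin 2) F}
    (hA : M.Ind l A) : l ∈ (NN L Z) ↔ ent A 1 0 = 0 := by
  constructor
  · intro h
    obtain ⟨z, hz, e⟩ := M.surj ![1, 0]
    have hzZ : z ∈ Z := M.π_mem_Z hz (by rw [e]; rfl)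
    have h1 : l * z * l⁻¹ ∈ Z := (mem_normalizer_iff.1 (mem_inf.1 h).2 z).1 hzZ
    have h2 := (M.Zpi _ (M.ZY h1)).1 h1
    rw [hA z hz, e, ap_one'] at h2
    simpa using h2
  · intro h
    refine ⟨hl, End.mem_normalizer_of fun z hz => ?_⟩
    apply M.π_mem_Z (M.LY hl (M.ZY hz))
    rw [hA z (M.ZY hz), ap_one', h, (M.Zpi z (M.ZY hz)).1 hz, mul_zero, zero_mul, add_zero]

theorem ind_pow {l : G} (hl : l ∈ L) {A : Matrix.SpecialLinearGroup (Fin 2) F}
    (hA : M.Ind l A) (n : ℕ) : M.Ind (l ^ n) (A ^ n) := by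
  induction n with
  | zero =>
    rw [pow_zero, pow_zero]
    exact M.ind_one
  | succ n ih =>
    rw [pow_succ, pow_succ]
    exact M.ind_mul (M.LH (pow_mem hl n)) (M.LH hl) ih hA

omit M in
theorem trace_sq [CharP F 2] (A : Matrix.SpecialLinearGroup (Fin 2) F) :
    ent (A ^ 2) 0 0 + ent (A ^ 2) 1 1 = (ent A 0 0 + ent A 1 1) ^ 2 := by
  have h := det_eq A
  have h2 : (2 : F) = 0 := CharTwo.two_eq_zero
  rw [pow_two, ent_mul, ent_mul]
  linear_combination (-2) * h + h2 * (-1 + 0 * ent A 0 0)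

omit M in
theorem trace_pow [CharP F 2] (A : Matrix.SpecialLinearGroup (Fin 2) F) (k : ℕ) :
    ent (A ^ 2 ^ k) 0 0 + ent (A ^ 2 ^ k) 1 1 = (ent A 0 0 + ent A 1 1) ^ 2 ^ k := by
  induction k with
  | zero => simp
  | succ k ih => rw [pow_succ, pow_mul, trace_sq, ih, pow_mul]

/-- 2-elements have trace zero. -/
theorem trace_zero [CharP F 2] {P : Subgroup G} (hP : IsPGroup 2 P) {x : G} (hx : x ∈ P) (hxL : x ∈ L)
    {A : Matrix.SpecialLinearGroup (Fin 2) F} (hA : M.Ind x A) : ent A 0 0 + ent A 1 1 = 0 := by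
  obtain ⟨k, hk⟩ := hP ⟨x, hx⟩
  have hk' : x ^ 2 ^ k = 1 := by simpa using congrArg Subtype.val hk
  have h1 := M.ind_pow hxL hA (2 ^ k)
  rw [hk'] at h1
  have h2 := M.ind_unique (one_mem H) h1 M.ind_one
  have h3 := trace_pow A k
  rw [h2, ent_one_00, ent_one_11] at h3
  have h4 : (1 : F) + 1 = 0 := CharTwo.add_self_eq_zero 1
  rw [h4] at h3
  exact (pow_eq_zero_iff (pow_ne_zero k two_ne_zero)).1 h3.symm

theorem exists_ind {l : G} (hl : l ∈ L) : ∃ A, M.Ind l A := M.ind l hl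

theorem B_le_NN [Finite G] : B ≤ (NN L Z) := by
  intro b hb
  rw [M.mem_NN_iff (M.BL hb) (M.ind_β hb), up_10]

theorem fus (x : G) (hx : x ∈ Y) : ∃ l ∈ L, l * x * l⁻¹ ∈ Z := by
  by_cases h1 : M.π x 1 = 0
  · exact ⟨1, one_mem L, by simpa using M.π_mem_Z hx h1⟩
  · obtain ⟨l, hl, hA⟩ := M.liftL (Cfsg.Agent.Lib.SL2Mat.mk 0 1 (-1) (M.π x 0 / M.π x 1) (by ring))
    refine ⟨l, hl, M.π_mem_Z (M.LY hl hx) ?_⟩
    rw [hA x hx, ap_one', mk_10, mk_11]
    field_simp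
    ring

/-- **`End.Blk`** -/
theorem blk [Finite G] [Finite F] [CharP F 2] : Blk T B Y Z C L (NN L Z) where
  BN := M.B_le_NN
  NL := inf_le_left
  QL := fun l hl x hx => M.LY hl hx
  TL := M.TL
  TN := by
    intro t ht n hn
    obtain ⟨hnL, hnZ⟩ := mem_inf.1 hn
    refine ⟨M.TL t ht n hnL, ?_⟩
    have h1 : t ∈ normalizer (Z : Set G) := End.mem_normalizer_of (M.TZ t ht)
    exact (normalizer (Z : Set G)).mul_mem ((normalizer (Z : Set G)).mul_mem h1 hnZ)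
      ((normalizer (Z : Set G)).inv_mem h1)
  syl := by
    intro P hP hBP hPL
    refine le_antisymm (fun x hx => ?_) hBP
    have hxL := hPL hx
    obtain ⟨A, hA⟩ := M.exists_ind hxL
    have hc : ent A 1 0 = 0 := by
      by_contra hc
      obtain ⟨b, hb, hbu⟩ := M.cup ((1 - ent A 0 0 - ent A 1 1) / ent A 1 0)
      have h1 := M.trace_zero hP (mul_mem (hBP hb) hx) (mul_mem (M.BL hb) hxL)
        (M.ind_mul (M.LH (M.BL hb)) (M.LH hxL) hbu hA)
      rw [ent_mul, ent_mul, up_00, up_01, up_10, up_11, div_mul_cancel₀ _ hc] at h1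
      have h2 : (1 : F) = 0 := by linear_combination h1
      exact one_ne_zero h2
    have h1 := M.trace_zero hP hx hxL hA
    have h2 := det_eq A
    rw [hc, mul_zero, sub_zero] at h2
    have h3 : ent A 0 0 = ent A 1 1 := by
      have := eq_neg_of_add_eq_zero_left h1
      rwa [CharTwo.neg_eq] at this
    have h4 : ent A 0 0 = 1 := by
      rw [← h3] at h2
      have h5 : (ent A 0 0 - 1) * (ent A 0 0 + 1) = 0 := by linear_combination h2
      rcases mul_eq_zero.1 h5 with h6 | h6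
      · linear_combination h6
      · have := eq_neg_of_add_eq_zero_left h6
        rwa [CharTwo.neg_eq] at this
    have h5 : A = up (ent A 0 1) := ext_ent h4 rfl hc (by rw [← h3, h4]; rfl)
    rw [h5] at hA
    exact M.mem_B_of_ind hxL hA
  ne := by
    obtain ⟨l, hl, hA⟩ := M.liftL (wm 1 one_ne_zero)
    refine ⟨l, hl, fun h => ?_⟩
    have h1 := (M.mem_NN_iff hl hA).1 h
    rw [wm_10] at h1
    simp at h1
  tr := by
    intro l hl hlN l' hl' hlN'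
    obtain ⟨A, hA⟩ := M.exists_ind hl
    obtain ⟨A', hA'⟩ := M.exists_ind hl'
    rw [M.mem_NN_iff hl hA] at hlN
    rw [M.mem_NN_iff hl' hA'] at hlN'
    obtain ⟨b, hb, hbu⟩ := M.cup ((ent A 1 0 * ent A' 0 0 - ent A 0 0 * ent A' 1 0) /
      (ent A 1 0 * ent A' 1 0))
    refine ⟨b, hb, ?_⟩
    have hbL := M.BL hb
    have h1 := M.ind_mul (M.LH (mul_mem (inv_mem hl) (inv_mem hbL))) (M.LH hl')
      (M.ind_mul (M.LH (inv_mem hl)) (M.LH (inv_mem hbL)) (M.ind_inv (M.LH hl) hA)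
        (M.ind_inv (M.LH hbL) hbu)) hA'
    rw [M.mem_NN_iff (mul_mem (mul_mem (inv_mem hl) (inv_mem hbL)) hl') h1]
    rw [ent_mul, ent_mul, ent_mul, up_inv, up_00, up_01, up_10, up_11, inv_10, inv_11]
    field_simp
    ring
  st := by
    intro b hb l hl hlN hN
    obtain ⟨A, hA⟩ := M.exists_ind hl
    rw [M.mem_NN_iff hl hA] at hlN
    have hbL := M.BL hb
    have h1 := M.ind_mul (M.LH (mul_mem (inv_mem hl) hbL)) (M.LH hl)
      (M.ind_mul (M.LH (inv_mem hl)) (M.LH hbL) (M.ind_inv (M.LH hl) hA) (M.ind_β hb)) hA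
    rw [M.mem_NN_iff (mul_mem (mul_mem (inv_mem hl) hbL) hl) h1, ent_mul, ent_mul, ent_mul, up_00,
      up_01, up_10, up_11, inv_10, inv_11] at hN
    have h2 : M.β b * ent A 1 0 ^ 2 = 0 := by linear_combination -hN
    rw [← M.β_zero_iff hb]
    rcases mul_eq_zero.1 h2 with h3 | h3
    · exact h3
    · exact absurd (pow_eq_zero_iff two_ne_zero |>.1 h3) hlN
  ti := by
    intro b hb hbY b' hb' hbY' l hl hlN P hP hbP hcon
    obtain ⟨A, hA⟩ := M.exists_ind hl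
    rw [M.mem_NN_iff hl hA] at hlN
    have hbL := M.BL hb
    have h1 := M.trace_zero hP (mul_mem hbP hcon)
      (mul_mem hbL (mul_mem (mul_mem hl (M.BL hb')) (inv_mem hl)))
      (M.ind_mul (M.LH hbL) (M.LH (mul_mem (mul_mem hl (M.BL hb')) (inv_mem hl))) (M.ind_β hb)
        (M.ind_conj hl (M.BL hb') hA (M.ind_β hb')))
    rw [← M.β_zero_iff hb] at hbY
    rw [← M.β_zero_iff hb'] at hbY'
    have h2 := det_eq A
    simp only [ent_mul, up_00, up_01, up_10, up_11, inv_00, inv_01, inv_10, inv_11] at h1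
    have h3 : (1 : F) + 1 = 0 := CharTwo.add_self_eq_zero 1
    have h4 : M.β b * M.β b' * ent A 1 0 ^ 2 = 0 := by
      linear_combination -h1 + 2 * h2 + h3
    rcases mul_eq_zero.1 h4 with h5 | h5
    · rcases mul_eq_zero.1 h5 with h6 | h6
      · exact hbY h6
      · exact hbY' h6
    · exact hlN (pow_eq_zero_iff two_ne_zero |>.1 h5)
  line := by
    intro d hd hdC l hl hlN hcon
    obtain ⟨A, hA⟩ := M.exists_ind hl
    rw [M.mem_NN_iff hl hA] at hlN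
    have hdY := M.ZY hd
    have h1 := (M.Zpi _ (M.ZY hcon)).1 hcon
    rw [hA d hdY, ap_one', (M.Zpi d hdY).1 hd, mul_zero, add_zero] at h1
    rcases mul_eq_zero.1 h1 with h2 | h2
    · exact hlN h2
    · exact hdC ((M.ker d hdY).1 (NatPair.ext2 h2 ((M.Zpi d hdY).1 hd)))
  fus := M.fus

/-! ### The torus -/

/-- `L = ⟨B^L⟩` -/
theorem gen [Finite G] (N : Subgroup G) (hN : ∀ l ∈ L, ∀ b ∈ B, l * b * l⁻¹ ∈ N) : L ≤ N := by
  have hBN : B ≤ N := fun b hb => by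
    have h1 := hN 1 (one_mem L) b hb
    simpa using h1
  have hup : ∀ c : F, ∃ x ∈ N, x ∈ L ∧ M.Ind x (up c) := by
    intro c
    obtain ⟨b, hb, h⟩ := M.cup c
    exact ⟨b, hBN hb, M.BL hb, h⟩
  have hlo : ∀ c : F, ∃ x ∈ N, x ∈ L ∧ M.Ind x (lo c) := by
    intro c
    obtain ⟨w, hw, hwA⟩ := M.liftL (wm 1 one_ne_zero)
    obtain ⟨b, hb, h⟩ := M.cup (-c)
    refine ⟨w * b * w⁻¹, hN w hw b hb, mul_mem (mul_mem hw (M.BL hb)) (inv_mem hw), ?_⟩
    have h1 := M.ind_conj hw (M.BL hb) hwA h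
    have e : wm (1 : F) one_ne_zero * up (-c) * (wm 1 one_ne_zero)⁻¹ = lo c := by
      rw [wm_up, mul_inv_cancel_right]
      congr 1
      ring
    rwa [e] at h1
  intro x hx
  obtain ⟨A, hA⟩ := M.exists_ind hx
  obtain ⟨a, b, c, d, e⟩ := exists_up_lo A
  obtain ⟨x₁, h₁, l₁, i₁⟩ := hup a
  obtain ⟨x₂, h₂, l₂, i₂⟩ := hlo b
  obtain ⟨x₃, h₃, l₃, i₃⟩ := hup c
  obtain ⟨x₄, h₄, l₄, i₄⟩ := hlo d
  have hl12 := mul_mem l₁ l₂
  have hl123 := mul_mem hl12 l₃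
  have hl := mul_mem hl123 l₄
  have hi := M.ind_mul (M.LH hl123) (M.LH l₄) (M.ind_mul (M.LH hl12) (M.LH l₃)
    (M.ind_mul (M.LH l₁) (M.LH l₂) i₁ i₂) i₃) i₄
  rw [← e] at hi
  have h1 := M.mem_of_ind hl hx hi hA
  have h2 := N.mul_mem (N.mul_mem (N.mul_mem (N.mul_mem h₁ h₂) h₃) h₄) (hBN (M.YB h1))
  rwa [mul_inv_cancel_left] at h2

/-- the torus -/
theorem exists_torus [Finite G] [Finite F] [CharP F 2] : ∃ k ∈ L, k ^ (Nat.card F - 1) = 1 ∧
    (∀ b ∈ B, k * b * k⁻¹ ∈ B) ∧ ∀ c : F, c ≠ 0 → ∃ (n : ℕ) (a d : F), a = c ∧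
      ∀ v ∈ Y, M.π (k ^ n * v * (k ^ n)⁻¹) = ![a * M.π v 0, d * M.π v 1] := by
  classical
  have := Fintype.ofFinite F
  obtain ⟨ω, hω⟩ := IsCyclic.exists_generator (α := Fˣ)
  obtain ⟨l, hl, hA⟩ := M.liftL (Cfsg.Agent.Lib.SL2Mat.dg (ω : F) ω.ne_zero)
  have hdgpow : ∀ n : ℕ, ent ((Cfsg.Agent.Lib.SL2Mat.dg (ω : F) ω.ne_zero) ^ n) 0 0 = (ω : F) ^ n ∧
      ent ((Cfsg.Agent.Lib.SL2Mat.dg (ω : F) ω.ne_zero) ^ n) 0 1 = 0 ∧
      ent ((Cfsg.Agent.Lib.SL2Mat.dg (ω : F) ω.ne_zero) ^ n) 1 0 = 0 ∧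
      ent ((Cfsg.Agent.Lib.SL2Mat.dg (ω : F) ω.ne_zero) ^ n) 1 1 = ((ω : F)⁻¹) ^ n := by
    intro n
    induction n with
    | zero => simp
    | succ n ih =>
      obtain ⟨h1, h2, h3, h4⟩ := ih
      simp only [pow_succ, ent_mul, h1, h2, h3, h4, dg_00, dg_01, dg_10, dg_11]
      simp
  have hcard : (ω : F) ^ (Nat.card F - 1) = 1 := by
    have h1 : (ω : Fˣ) ^ (Nat.card F - 1) = 1 := by
      rw [Nat.card_eq_fintype_card, ← Fintype.card_units, pow_card_eq_one]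
    have h2 := congrArg Units.val h1
    simpa using h2
  have hl1 : l ^ (Nat.card F - 1) ∈ Y := by
    apply M.kerL _ (pow_mem hl _)
    intro v hv
    have h1 := M.ind_pow hl hA (Nat.card F - 1) v hv
    obtain ⟨e1, e2, e3, e4⟩ := hdgpow (Nat.card F - 1)
    rw [h1]
    apply NatPair.ext2
    · rw [ap_zero', e1, e2, hcard]; ring
    · rw [ap_one', e3, e4, inv_pow, hcard]; simp
  have hK : (l ^ 2) ^ (Nat.card F - 1) = 1 := by
    rw [← pow_mul, mul_comm 2, pow_mul, pow_two]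
    exact M.Ysq _ hl1
  refine ⟨l ^ 2, pow_mem hl 2, hK, ?_, ?_⟩
  · have hn : l ∈ normalizer (B : Set G) := End.mem_normalizer_of fun b hb => by
      have h1 := M.ind_conj hl (M.BL hb) hA (M.ind_β hb)
      have e : Cfsg.Agent.Lib.SL2Mat.dg (ω : F) ω.ne_zero * up (M.β b) *
          (Cfsg.Agent.Lib.SL2Mat.dg (ω : F) ω.ne_zero)⁻¹ = up ((ω : F) ^ 2 * M.β b) := by
        rw [Cfsg.Agent.Lib.SL2Mat.dg_up, mul_inv_cancel_right]
      rw [e] at h1
      exact M.mem_B_of_ind (mul_mem (mul_mem hl (M.BL hb)) (inv_mem hl)) h1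
    intro b hb
    exact (mem_normalizer_iff.1 (pow_mem hn 2) b).1 hb
  · intro c hc
    obtain ⟨v, hv⟩ : IsSquare c := FiniteField.isSquare_of_char_two (ringChar.eq F 2) c
    have hv0 : v ≠ 0 := by
      rintro rfl
      exact hc (by rw [hv, mul_zero])
    obtain ⟨n, hn⟩ := mem_powers_iff_mem_zpowers.2 (hω (Units.mk0 v hv0))
    have hn' : (ω : F) ^ n = v := by
      have := congrArg Units.val hn
      simpa using this
    refine ⟨n, (ω : F) ^ (2 * n), ((ω : F)⁻¹) ^ (2 * n), ?_, ?_⟩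
    · rw [two_mul, pow_add, hn', hv]
    · intro w hw
      have h1 := M.ind_pow hl hA (2 * n) w hw
      obtain ⟨e1, e2, e3, e4⟩ := hdgpow (2 * n)
      rw [← pow_mul, h1]
      apply NatPair.ext2
      · rw [ap_zero', e1, e2]
        show _ = (ω : F) ^ (2 * n) * M.π w 0
        ring
      · rw [ap_one', e3, e4]
        show _ = ((ω : F)⁻¹) ^ (2 * n) * M.π w 1
        ring

omit M in
theorem odd_card_sub_one (F : Type*) [Field F] [Finite F] [CharP F 2] : Odd (Nat.card F - 1) := by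
  have := Fintype.ofFinite F
  have h1 : Even (Fintype.card F) := by
    obtain ⟨n, hp, h2⟩ := FiniteField.card F 2
    rw [h2]
    exact (even_two).pow_of_ne_zero n.ne_zero
  rw [Nat.card_eq_fintype_card]
  have h2 : 1 < Fintype.card F := Fintype.one_lt_card
  rcases h1 with ⟨m, hm⟩
  exact ⟨m - 1, by omega⟩

/-- **`NSOf.LK`** -/
theorem lk [Finite G] [Finite F] [CharP F 2] : ∃ K : Subgroup G, NSOf.LK B Y Z C L K := by
  obtain ⟨k, hk, hk1, hkB, hkt⟩ := M.exists_torus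
  have hn : k ∈ normalizer (B : Set G) := End.mem_normalizer_of hkB
  refine ⟨zpowers k, ?_⟩
  exact
  { BL := M.BL
    LQ := fun l hl x hx => M.LY hl hx
    gen := M.gen
    fus := M.fus
    memC := M.cC
    KL := by rwa [zpowers_le]
    KB := by
      intro x hx b hb
      have h1 : x ∈ normalizer (B : Set G) := (zpowers_le.2 hn) hx
      exact (mem_normalizer_iff.1 h1 b).1 hb
    Kodd := by
      rw [Nat.card_zpowers]
      exact (odd_card_sub_one F).of_dvd_nat (orderOf_dvd_of_pow_eq_one hk1)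
    Ktr := by
      intro z hz hzC w hw hwC
      have hzY := M.ZY hz
      have hwY := M.ZY hw
      have hz0 : M.π z 0 ≠ 0 := fun h =>
        hzC ((M.ker z hzY).1 (NatPair.ext2 h ((M.Zpi z hzY).1 hz)))
      have hw0 : M.π w 0 ≠ 0 := fun h =>
        hwC ((M.ker w hwY).1 (NatPair.ext2 h ((M.Zpi w hwY).1 hw)))
      obtain ⟨n, a, d, ha, h⟩ := hkt (M.π w 0 / M.π z 0) (div_ne_zero hw0 hz0)
      refine ⟨k ^ n, pow_mem (mem_zpowers k) n, ?_⟩
      have hkz := M.LY (pow_mem hk n) hzY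
      rw [← M.ker _ (mul_mem hkz (inv_mem hwY)), M.map_mul _ hkz _ (inv_mem hwY), h z hzY,
        M.map_inv hwY, ha]
      apply NatPair.ext2
      · show M.π w 0 / M.π z 0 * M.π z 0 + -(M.π w 0) = 0
        rw [div_mul_cancel₀ _ hz0]
        ring
      · show d * M.π z 1 + -(M.π w 1) = 0
        rw [(M.Zpi z hzY).1 hz, (M.Zpi w hwY).1 hw]
        ring }

/-- **The end for one block, `q ≥ 4`.** -/
theorem false_of [Finite G] [IsSimpleGroup G] [Finite F] [CharP F 2] {S : Sylow 2 G}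
    {N : Subgroup G} (hTS : T ≤ (S : Subgroup G)) (hs : s ∈ (S : Subgroup G))
    (hNS : ∀ x ∈ (S : Subgroup G), (∀ a ∈ Y, x * a * x⁻¹ ∈ Y) → x ∈ T) (hq : 4 ≤ Nat.card F)
    (g : Glob S N) : False := by
  obtain ⟨K, hK⟩ := M.lk
  exact (M.base S.isPGroup' hTS hs hNS hq).false g hK M.blk M.faith

end Mid

end Cfsg.Agent.Omega.SQ1.MidOne

end

section


/-!
# SQ1: one natural summand, `q ≥ 4` (`Main.EndOne`)

* `memT`: `N_S(Y) = T`;
* `NodeA`: node (A): every member of `L(S)` normalises `B`;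
* `glob`: `Glob S N_G(B)`;
* `endOne_of`: `NodeA → Main.EndOne`.
-/

set_option autoImplicit false

namespace Cfsg.Agent.Omega.SQ1.EndOneOf

open Subgroup Cfsg Cfsg.Agent.ZN Cfsg.Agent.ZN.ChoiceBase Cfsg.Agent.Omega.MinPar
open Cfsg.Agent.MinSimple.Choice97 (loc2_normalizer)
open Cfsg.Agent.Omega.SQ1.Choice (Config)
open Cfsg.Agent.Omega.SQ1.Bau
open Cfsg.Agent.Omega.SQ1.Bau.In (Y Z_le_Y V_le_Y)
open Cfsg.Agent.Omega.SQ1.FFOne Cfsg.Agent.Omega.SQ1.MatchL Cfsg.Agent.Omega.SQ1.MidOne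
open Cfsg.Agent.Omega.SQ1.End (Base Glob)

universe u

variable {G : Type u} [Group G] {F : Type} [Field F] {M₀ H T V V0 : Subgroup G} {s : G}

/-- `N_S(Y) = T` for every 2-subgroup `S` over `T`. -/
theorem memT [Finite G] [Finite F] [CharP F 2] (c : Config M₀ T H s) {M : FFOne.FF F H T V V0}
    (h : LSit M s) {S : Subgroup G} (hS : IsPGroup 2 S) (hTS : T ≤ S) :
    ∀ x ∈ S, (∀ a ∈ Y T V, x * a * x⁻¹ ∈ Y T V) → x ∈ T := by
  intro x hx hn
  have hY2 : IsPGroup 2 (Y T V) := c.two.to_le (h.sit.Y_le_B.trans (ChoiceBase.bau_le T))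
  have hY0 : Y T V ≠ ⊥ := by
    obtain ⟨v, hv, e⟩ := M.surj ![1, 0]
    intro h0
    have h1 : v ∈ Y T V := V_le_Y T V hv
    rw [h0, mem_bot] at h1
    subst h1
    rw [(M.ker 1 hv).2 (one_mem _)] at e
    have := congrFun e 0
    simp at this
  have hH : H ≤ normalizer (Y T V : Set G) := fun g hg => mem_norm_of (h.sit.dd.Y_norm g hg)
  have hsyl := c.syl_of_loc (h.TH.trans hH) (loc2_normalizer hY2 hY0) fun hle => c.notM (hH.trans hle)
  have hP : IsPGroup 2 (S ⊓ normalizer (Y T V : Set G) : Subgroup G) := hS.to_le inf_le_left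
  rw [← hsyl.2.2 _ inf_le_right hP (le_inf hTS (h.TH.trans hH))]
  exact ⟨hx, mem_norm_of hn⟩

/-- **Node (A)**: every member of `L(S)` normalises `B`. -/
def NodeA : Prop :=
  ∀ (G : Type u) [Group G] [Finite G] [IsSimpleGroup G], IsCharacteristicTwoType G →
    ¬ SectionalPRankLE 2 4 G → ∀ (F : Type) [Field F] [Finite F] [CharP F 2] (S : Sylow 2 G)
    (H T B Y Z C L : Subgroup G) (s : G), Mid F H T B Y Z C L s → T ≤ (S : Subgroup G) →
    s ∈ (S : Subgroup G) → (∀ x ∈ (S : Subgroup G), (∀ a ∈ Y, x * a * x⁻¹ ∈ Y) → x ∈ T) →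
    4 ≤ Nat.card F → ∀ X : Subgroup G, IsLoc (S : Subgroup G) X → X ≤ normalizer (B : Set G)

/-- `Glob` for `N_G(B)`. -/
theorem glob [Finite G] [Finite F] [CharP F 2] {B Y Z C L : Subgroup G} (M : Mid F H T B Y Z C L s)
    (hc : IsCharacteristicTwoType G) {S : Sylow 2 G} (hTS : T ≤ (S : Subgroup G))
    (hs : s ∈ (S : Subgroup G))
    (hNS : ∀ x ∈ (S : Subgroup G), (∀ a ∈ Y, x * a * x⁻¹ ∈ Y) → x ∈ T) (hF : 4 ≤ Nat.card F)
    (hA : ∀ X : Subgroup G, IsLoc (S : Subgroup G) X → X ≤ normalizer (B : Set G)) :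
    Glob S (normalizer (B : Set G)) where
  c2t := hc
  loc := by
    have hb := M.base S.isPGroup' hTS hs hNS hF
    have hB2 : IsPGroup 2 B := M.two.to_le M.BT
    have hB0 : B ≠ ⊥ := by
      obtain ⟨v, hv, e⟩ := M.surj ![1, 0]
      intro h0
      have h1 : v ∈ B := M.YB hv
      rw [h0, mem_bot] at h1
      subst h1
      rw [(M.ker 1 hv).2 (one_mem _)] at e
      have := congrFun e 0
      simp at this
    refine isLoc_normalizer S hB2 hB0 ?_
    have hTB : T ≤ normalizer (B : Set G) := fun t ht => mem_norm_of (M.TB t ht)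
    have hsB : s ∈ normalizer (B : Set G) := mem_norm_of M.sB
    intro x hx
    rcases hb.mem_S hx with h1 | h1
    · exact hTB h1
    · have h2 := mul_mem hsB (hTB h1)
      rwa [mul_inv_cancel_left] at h2
  uni := hA

/-- **One natural summand, `q ≥ 4`: contradiction.** -/
theorem endOne_of (hA : NodeA.{u}) : Main.EndOne.{u} := by
  intro G _ _ S M T H s h F _ _ _ hF N hN
  have := h.simple
  obtain ⟨S₁, hS₁M, hTS₁, hsS₁⟩ := h.cfg.exists_sylow
  have hNS := memT h.cfg hN S₁.isPGroup' hTS₁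
  have mid := hN.mid hF
  exact mid.false_of hTS₁ hsS₁ hNS hF (glob mid h.char2 hTS₁ hsS₁ hNS hF
    (hA G h.char2 h.rank F S₁ _ _ _ _ _ _ _ _ mid hTS₁ hsS₁ hNS hF))

end Cfsg.Agent.Omega.SQ1.EndOneOf

end
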