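import Cfsg.Agent.Mrg.Omega.SQ1.End1


/-!
# NODE (A) / (h4) of project OMEGA (blueprints/OMEGA-NodeA-helper603.md (i), (iii), (iv))

`Base` (helper69): `S` a Sylow 2-subgroup with `J(S) = B = Q₁Q₂` of type `L₃(q)` (`c = 1`) or `Sp₄(q)`
(`c = 2`), `D = Q₁ ∩ Q₂`, `s ∈ S` swaps `Q₁`, `Q₂`.  `Ty … c`: the facts which depend on the type.

* `card_D_le` = (iii): `|D| ≤ c |D ∩ R|` for `R = O₂(X)`, `X ∈ L(S)`;
* `exists_of_not_le` = (iv): if `X ∈ L(S)` does not normalise `B`, there is an involution `x ∈ O₂(X)`, `x ∉ C(D)`, with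
  `|D ∩ O₂(X)| ≤ 2 |D ∩ O₂(X) ∩ C(x)|`;
* `card_le_of_not_le`: then `|D| ≤ 4 c²` (so `q = 4`);
* `le_normalizer_of_two`: type `Sp₄(q)`, all `q ≥ 4`: every `X ∈ L(S)` normalises `B`;
* `le_normalizer_of_lt`: `|D| > 4 c²`: every `X ∈ L(S)` normalises `B`.
-/

set_option autoImplicit false
set_option Elab.async false

namespace Cfsg.Agent.Omega.SQ1.NodeA

open Subgroup Cfsg Cfsg.Agent.ZN Cfsg.Agent.Omega.MinPar Cfsg.Agent.Omega.SQ1.End

universe u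

variable {G : Type u} [Group G]

/-- The facts depending on the type: `L₃(q)` (`c = 1`) or `Sp₄(q)` (`c = 2`). -/
structure Ty (S B Q₁ Q₂ D : Subgroup G) (c : ℕ) : Prop where
  /-- `[xy, B]` has index at most `c` in `D` -/
  big : ∀ x ∈ Q₁, x ∉ D → ∀ y ∈ Q₂, y ∉ D → ∀ K : Subgroup G, K ≤ D →
    (∀ b ∈ B, (x * y) * b * (x * y)⁻¹ * b⁻¹ ∈ K) → Nat.card D ≤ c * Nat.card K
  /-- a proper subgroup `K` of `D` of index at most `c` has `C_S(K) ≤ B` (void for `c = 1`) -/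
  fix : ∀ K : Subgroup G, K < D → Nat.card D ≤ c * Nat.card K → ∀ u ∈ S,
    (∀ d ∈ K, u * d = d * u) → u ∈ B
  /-- `S/C_S(D)` is cyclic -/
  cyc : ∀ x ∈ S, x * x = 1 → ∀ y ∈ S, y * y = 1 → x ∉ centralizer (D : Set G) →
    y ∉ centralizer (D : Set G) → x * y ∈ centralizer (D : Set G)
  /-- `|C_D(x)| = √|D|` for an involution of `S` acting nontrivially on `D` -/
  mv : ∀ x ∈ S, x * x = 1 → x ∉ centralizer (D : Set G) →
    Nat.card (D ⊓ centralizer ({x} : Set G) : Subgroup G) ^ 2 ≤ Nat.card D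

theorem conj_o2 {L : Subgroup G} {l q : G} (hl : l ∈ L) (hq : q ∈ o2 L) : l * q * l⁻¹ ∈ o2 L :=
  (mem_normalizer_iff.1 (le_normalizer_o2 L hl) q).1 hq

theorem le_norm [Finite G] {M L : Subgroup G} (h : ∀ l ∈ L, ∀ m ∈ M, l * m * l⁻¹ ∈ M) : L ≤ normalizer (M : Set G) :=
  fun l hl => End.mem_normalizer_of (h l hl)

theorem mem_cent {A : Subgroup G} {x : G} : x ∈ centralizer (A : Set G) ↔ ∀ a ∈ A, a * x = x * a := Iff.rfl

/-- an odd order element stabilising a chain of length 2 of a 2-group -/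
theorem comm_of_odd {c w : G} (hc : Odd (orderOf c)) {P : Subgroup G} (hP : IsPGroup 2 P)
    (h : c * w * c⁻¹ * w⁻¹ ∈ P) (h2 : c * (c * w * c⁻¹ * w⁻¹) = c * w * c⁻¹ * w⁻¹ * c) : c * w = w * c := by
  set t := c * w * c⁻¹ * w⁻¹ with ht
  have hk : ∀ k : ℕ, c ^ k * w * (c ^ k)⁻¹ = t ^ k * w := by
    intro k
    induction k with
    | zero => simp
    | succ k ih =>
      have hct : c * t ^ k = t ^ k * c := (show Commute c t from h2).pow_right k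
      calc c ^ (k + 1) * w * (c ^ (k + 1))⁻¹ = c * (c ^ k * w * (c ^ k)⁻¹) * c⁻¹ := by
            rw [pow_succ']; group
        _ = (c * t ^ k) * w * c⁻¹ := by rw [ih]; group
        _ = t ^ k * (c * w * c⁻¹ * w⁻¹) * w := by rw [hct]; group
        _ = t ^ (k + 1) * w := by rw [← ht, pow_succ]
  have h1 := hk (orderOf c)
  rw [pow_orderOf_eq_one, one_mul, inv_one, mul_one, eq_comm, mul_eq_right] at h1
  obtain ⟨n, hn⟩ := hP ⟨t, h⟩
  have hn' : t ^ 2 ^ n = 1 := congrArg Subtype.val hn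
  have hd := Nat.dvd_gcd (orderOf_dvd_of_pow_eq_one h1) (orderOf_dvd_of_pow_eq_one hn')
  have hco : Nat.gcd (orderOf c) (2 ^ n) = 1 := (Nat.coprime_two_right.2 hc).pow_right n
  rw [hco, Nat.dvd_one, orderOf_eq_one_iff] at hd
  rw [hd, eq_comm, mul_inv_eq_one, mul_inv_eq_iff_eq_mul] at ht
  exact ht

theorem isPGroup_of_odd [Finite G] {H : Subgroup G} (h : ∀ c ∈ H, Odd (orderOf c) → c = 1) :
    IsPGroup 2 H := by
  rintro ⟨c, hc⟩
  obtain ⟨k, m, hm, hk⟩ := Nat.exists_eq_two_pow_mul_odd (orderOf_pos c).ne'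
  refine ⟨k, Subtype.ext ?_⟩
  change c ^ 2 ^ k = 1
  refine h _ (pow_mem hc _) ?_
  rw [orderOf_pow' c (by positivity), hk, Nat.gcd_mul_right_left, Nat.mul_div_cancel_left _ (by positivity)]
  exact hm

/-- `C_Y(O₂(Y)) ≤ O₂(Y)`, `A ≤ O₂(Y)` normal in `Y`, `U ≤ Y` centralising `A` and `O₂(Y)/A`: `U ≤ O₂(Y)`. -/
theorem le_o2_of_chain [Finite G] {Y A U : Subgroup G} (hY : Y ⊓ centralizer (o2 Y : Set G) ≤ o2 Y)
    (hA : A ≤ o2 Y) (hAn : ∀ y ∈ Y, ∀ a ∈ A, y * a * y⁻¹ ∈ A) (hUY : U ≤ Y) (hUA : ∀ u ∈ U, ∀ a ∈ A, u * a = a * u)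
    (hUR : ∀ u ∈ U, ∀ r ∈ o2 Y, u * r * u⁻¹ * r⁻¹ ∈ A) : U ≤ o2 Y := by
  let K : Subgroup G :=
    { carrier := {u | u ∈ Y ∧ (∀ a ∈ A, u * a = a * u) ∧ ∀ r ∈ o2 Y, u * r * u⁻¹ * r⁻¹ ∈ A}
      one_mem' := ⟨one_mem _, fun a _ => by simp, fun r _ => by simp⟩
      mul_mem' := by
        rintro u v ⟨hu, hu1, hu2⟩ ⟨hv, hv1, hv2⟩
        refine ⟨mul_mem hu hv, fun a ha => ?_, fun r hr => ?_⟩
        · rw [mul_assoc, hv1 a ha, ← mul_assoc, hu1 a ha, mul_assoc]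
        · have h1 : u * v * r * (u * v)⁻¹ * r⁻¹ = (u * (v * r * v⁻¹ * r⁻¹) * u⁻¹) * (u * r * u⁻¹ * r⁻¹) := by group
          rw [h1]
          exact mul_mem (hAn u hu _ (hv2 r hr)) (hu2 r hr)
      inv_mem' := by
        rintro u ⟨hu, hu1, hu2⟩
        refine ⟨inv_mem hu, fun a ha => ?_, fun r hr => ?_⟩
        · rw [inv_mul_eq_iff_eq_mul, ← mul_assoc, hu1 a ha, mul_assoc, mul_inv_cancel, mul_one]
        · have h1 : u⁻¹ * r * u⁻¹⁻¹ * r⁻¹ = u⁻¹ * (u * r * u⁻¹ * r⁻¹)⁻¹ * u⁻¹⁻¹ := by group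
          rw [h1]
          exact hAn _ (inv_mem hu) _ (inv_mem (hu2 r hr)) }
  have hK : ∀ x, x ∈ K ↔ x ∈ Y ∧ (∀ a ∈ A, x * a = a * x) ∧ ∀ r ∈ o2 Y, x * r * x⁻¹ * r⁻¹ ∈ A := fun x => Iff.rfl
  have hKY : K ≤ Y := fun x hx => ((hK x).1 hx).1
  have hKn : Y ≤ normalizer (K : Set G) := by
    refine le_norm fun y hy k hk => ?_
    obtain ⟨h1, h2, h3⟩ := (hK k).1 hk
    refine (hK _).2 ⟨mul_mem (mul_mem hy h1) (inv_mem hy), fun a ha => ?_, fun r hr => ?_⟩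
    · have h4 : y⁻¹ * a * y ∈ A := by
        have := hAn _ (inv_mem hy) a ha
        rwa [inv_inv] at this
      calc y * k * y⁻¹ * a = y * (k * (y⁻¹ * a * y)) * y⁻¹ := by group
        _ = y * (y⁻¹ * a * y * k) * y⁻¹ := by rw [h2 _ h4]
        _ = a * (y * k * y⁻¹) := by group
    · have h4 : y⁻¹ * r * y ∈ o2 Y := by
        have := conj_o2 (inv_mem hy) hr
        rwa [inv_inv] at this
      have h5 : y * k * y⁻¹ * r * (y * k * y⁻¹)⁻¹ * r⁻¹ = y * (k * (y⁻¹ * r * y) * k⁻¹ * (y⁻¹ * r * y)⁻¹) * y⁻¹ := by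
        group
      rw [h5]
      exact hAn y hy _ (h3 _ h4)
  have hK2 : IsPGroup 2 K := by
    refine isPGroup_of_odd fun x hx hodd => ?_
    obtain ⟨h1, h2, h3⟩ := (hK x).1 hx
    have h4 : x ∈ o2 Y := by
      refine hY ⟨h1, mem_cent.2 fun r hr => ?_⟩
      exact (comm_of_odd hodd ((MinSimple.VModule.o2_isPGroup Y).to_le hA) (h3 r hr) (h2 _ (h3 r hr))).symm
    obtain ⟨n, hn⟩ := MinSimple.VModule.o2_isPGroup Y ⟨x, h4⟩
    have hn' : x ^ 2 ^ n = 1 := congrArg Subtype.val hn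
    have hd := orderOf_dvd_of_pow_eq_one hn'
    have hco : (orderOf x).Coprime (2 ^ n) := (Nat.coprime_two_right.2 hodd).pow_right n
    have h6 := Nat.Coprime.eq_one_of_dvd hco hd
    exact orderOf_eq_one_iff.1 h6
  exact fun u hu => ZN.le_o2 hKY hK2 hKn ((hK u).2 ⟨hUY hu, hUA u hu, hUR u hu⟩)

section

variable {P T B Q₁ Q₂ D C₁ C₂ : Subgroup G} {s : G} {q : ℕ}
variable [Finite G] (h : Base P T B Q₁ Q₂ D C₁ C₂ s q)

include h

/-- (f3) `C_S(B/D) = B`. -/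
theorem mem_B_of_comm {u : G} (hu : u ∈ P) (hc : ∀ b ∈ B, u * b * u⁻¹ * b⁻¹ ∈ D) : u ∈ B := by
  classical
  -- the set of these elements is closed under powers
  have hpow : ∀ n : ℕ, ∀ b ∈ B, u ^ n * b * (u ^ n)⁻¹ * b⁻¹ ∈ D := by
    intro n
    induction n with
    | zero => intro b _; simp [one_mem]
    | succ n ih =>
      intro b hb
      have h1 : u ^ (n + 1) * b * (u ^ (n + 1))⁻¹ * b⁻¹ =
          (u * (u ^ n * b * (u ^ n)⁻¹ * b⁻¹) * u⁻¹) * (u * b * u⁻¹ * b⁻¹) := by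
        rw [pow_succ']; group
      rw [h1]
      exact mul_mem (h.P_D hu (ih b hb)) (hc b hb)
  rcases h.mem_S hu with huT | huT
  · by_contra huB
    obtain ⟨m, hm⟩ := h.two ⟨u, hu⟩
    have hm' : u ^ 2 ^ m ∈ B := by
      have : u ^ 2 ^ m = 1 := by simpa using congrArg Subtype.val hm
      rw [this]; exact one_mem _
    have hex : ∃ m : ℕ, u ^ 2 ^ m ∈ B := ⟨m, hm'⟩
    obtain ⟨j, hj⟩ : ∃ j, Nat.find hex = j + 1 := by
      apply Nat.exists_eq_succ_of_ne_zero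
      intro h0
      have h1 := Nat.find_spec hex
      rw [h0, pow_zero, pow_one] at h1
      exact huB h1
    have hj1 : u ^ 2 ^ j ∉ B := Nat.find_min hex (by omega)
    have hj2 : u ^ 2 ^ j * u ^ 2 ^ j ∈ B := by
      have h1 := Nat.find_spec hex
      rw [hj, pow_succ, pow_mul, pow_two] at h1
      exact h1
    set f := u ^ 2 ^ j with hf
    have hcf := hpow (2 ^ j)
    rw [← hf] at hcf
    have hfr := h.free1 f (T.pow_mem huT _) hj1 hj2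
    obtain ⟨b, hb, hbD⟩ := h.exists_b
    have hbB := h.Q2B hb
    have h1 : b⁻¹ * (f * b * f⁻¹) ∈ Q₁ := by
      have h4 : b⁻¹ * (f * b * f⁻¹) = b⁻¹ * (f * b * f⁻¹ * b⁻¹) * b := by group
      rw [h4, mul_assoc, h.centD (hcf b hbB) hbB, inv_mul_cancel_left]
      exact h.D1 (hcf b hbB)
    obtain ⟨v, hv, hv2⟩ := hfr b hbB h1
    have h5 : v * (f * v * f⁻¹) ∈ Q₁ := by
      have h6 : v * (f * v * f⁻¹) = v * (f * v * f⁻¹ * v⁻¹) * v := by group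
      rw [h6, mul_assoc, h.centD (hcf v hv) hv, ← mul_assoc]
      exact h.D1 (D.mul_mem (h.sqB hv) (hcf v hv))
    have h7 : b⁻¹ ∈ Q₁ := by
      have h8 := Q₁.mul_mem hv2 (Q₁.inv_mem h5)
      rwa [mul_inv_cancel_right] at h8
    exact hbD ((h.memD b).2 ⟨by simpa using Q₁.inv_mem h7, hb⟩)
  · exfalso
    obtain ⟨a, ha, haD⟩ := h.exists_a
    have h1 := h.swap1 huT ha
    have h2 := h.D2 (hc a (h.Q1B ha))
    have h3 := Q₂.mul_mem (Q₂.inv_mem h2) h1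
    have h4 : (u * a * u⁻¹ * a⁻¹)⁻¹ * (u * a * u⁻¹) = a := by group
    rw [h4] at h3
    exact haD ((h.memD a).2 ⟨ha, h3⟩)

theorem swap_not {x : G} (hx : x ∉ D) : s * x * s⁻¹ ∉ D := by
  intro h1
  apply hx
  have h2 := h.P_D (P.inv_mem h.sS) h1
  have h3 : s⁻¹ * (s * x * s⁻¹) * s⁻¹⁻¹ = x := by group
  rwa [h3] at h2

theorem not_B_le_D : ¬ B ≤ D := by
  obtain ⟨a, ha, haD⟩ := h.exists_a
  exact fun h1 => haD (h1 (h.Q1B ha))

/-- (iii): `|D| ≤ c |D ∩ R|` -/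
theorem card_D_le {c : ℕ} (t : Ty P B Q₁ Q₂ D c) {R : Subgroup G} (hRS : R ≤ P)
    (hn : ∀ x ∈ P, ∀ r ∈ R, x * r * x⁻¹ ∈ R)
    (hC : ∀ g ∈ B, (∀ r ∈ R, g * r = r * g) → g ∈ R) : Nat.card D ≤ c * Nat.card (D ⊓ R : Subgroup G) := by
  have hBP : B ≤ P := h.BT.trans h.TS
  have h1 : ∃ n ∈ R, n ∈ B ∧ n ∉ D := by
    by_contra hcon
    push Not at hcon
    have h2 : ∀ r ∈ R, r ∈ D := by
      intro r hr
      refine hcon r hr (mem_B_of_comm h (hRS hr) fun b hb => hcon _ ?_ ?_)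
      · have h2 : r * b * r⁻¹ * b⁻¹ = r * (b * r⁻¹ * b⁻¹) := by group
        rw [h2]; exact mul_mem hr (hn b (hBP hb) _ (inv_mem hr))
      · exact mul_mem (h.S_B (hRS hr) hb) (inv_mem hb)
    exact not_B_le_D h fun b hb => h2 b (hC b hb fun r hr => (h.centD (h2 r hr) hb).symm)
  have h2 : ∃ x ∈ Q₁, x ∉ D ∧ ∃ y ∈ Q₂, y ∉ D ∧ x * y ∈ R := by
    obtain ⟨n, hnR, hnB, hnD⟩ := h1
    obtain ⟨x, hx, y, hy, rfl⟩ := h.prod n hnB
    have hs := hn s h.sS _ hnR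
    by_cases hxD : x ∈ D
    · have h3 : x * y ∈ Q₂ := mul_mem (h.D2 hxD) hy
      exact ⟨_, h.s2 _ h3, swap_not h hnD, _, h3, hnD, mul_mem hs hnR⟩
    · by_cases hyD : y ∈ D
      · have h3 : x * y ∈ Q₁ := mul_mem hx (h.D1 hyD)
        exact ⟨_, h3, hnD, _, h.s1 _ h3, swap_not h hnD, mul_mem hnR hs⟩
      · exact ⟨x, hx, hxD, y, hy, hyD, hnR⟩
  obtain ⟨x, hx, hxD, y, hy, hyD, hxy⟩ := h2
  refine t.big x hx hxD y hy hyD _ inf_le_left fun b hb =>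
    ⟨h.commB (mul_mem (h.Q1B hx) (h.Q2B hy)) hb, ?_⟩
  have h4 : x * y * b * (x * y)⁻¹ * b⁻¹ = x * y * (b * (x * y)⁻¹ * b⁻¹) := by group
  rw [h4]; exact mul_mem hxy (hn b (hBP hb) _ (inv_mem hxy))

theorem s_not_mem_B : s ∉ B := fun hs => h.s_notMem (h.BT hs)

end

/-- the subgroup generated by the `X`-conjugates of `D₀` -/
def cl (X D₀ : Subgroup G) : Subgroup G := closure {x | ∃ g ∈ X, ∃ d ∈ D₀, x = g * d * g⁻¹}

theorem le_cl {X D₀ : Subgroup G} : D₀ ≤ cl X D₀ := fun d hd =>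
  subset_closure ⟨1, one_mem _, d, hd, by simp⟩

theorem cl_conj {X D₀ : Subgroup G} {g w : G} (hg : g ∈ X) (hw : w ∈ cl X D₀) : g * w * g⁻¹ ∈ cl X D₀ := by
  have h1 : cl X D₀ ≤ (cl X D₀).comap (MulAut.conj g).toMonoidHom := by
    refine (closure_le _).2 ?_
    rintro _ ⟨k, hk, d, hd, rfl⟩
    refine subset_closure ⟨g * k, mul_mem hg hk, d, hd, ?_⟩
    simp only [MulEquiv.coe_toMonoidHom, MulAut.conj_apply]
    group
  exact h1 hw

theorem cl_le {X D₀ R : Subgroup G} (h : ∀ g ∈ X, ∀ d ∈ D₀, g * d * g⁻¹ ∈ R) : cl X D₀ ≤ R := by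
  refine (closure_le _).2 ?_
  rintro _ ⟨k, hk, d, hd, rfl⟩
  exact h k hk d hd

theorem cl_sq {X D₀ : Subgroup G} (h2 : ∀ d ∈ D₀, d * d = 1)
    (hc : ∀ g ∈ X, ∀ d ∈ D₀, ∀ e ∈ D₀, d * (g * e * g⁻¹) = g * e * g⁻¹ * d) :
    ∀ w ∈ cl X D₀, w * w = 1 := by
  have hcomm : ∀ x ∈ {x | ∃ g ∈ X, ∃ d ∈ D₀, x = g * d * g⁻¹}, ∀ y ∈ {x | ∃ g ∈ X, ∃ d ∈ D₀, x = g * d * g⁻¹},
      x * y = y * x := by
    rintro _ ⟨g, hg, d, hd, rfl⟩ _ ⟨k, hk, e, he, rfl⟩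
    have h1 := hc (g⁻¹ * k) (mul_mem (inv_mem hg) hk) d hd e he
    calc g * d * g⁻¹ * (k * e * k⁻¹) = g * (d * (g⁻¹ * k * e * (g⁻¹ * k)⁻¹)) * g⁻¹ := by group
      _ = g * (g⁻¹ * k * e * (g⁻¹ * k)⁻¹ * d) * g⁻¹ := by rw [h1]
      _ = k * e * k⁻¹ * (g * d * g⁻¹) := by group
  have hcl : ∀ x ∈ cl X D₀, ∀ y ∈ cl X D₀, x * y = y * x := by
    intro x hx y hy
    have h1 : cl X D₀ ≤ centralizer {x | ∃ g ∈ X, ∃ d ∈ D₀, x = g * d * g⁻¹} := by
      refine (closure_le _).2 fun z hz => ?_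
      rw [SetLike.mem_coe, mem_centralizer_iff]
      exact fun w hw => hcomm w hw z hz
    have h2 : cl X D₀ ≤ centralizer (cl X D₀ : Set G) := by
      refine (closure_le _).2 fun z hz => ?_
      rw [SetLike.mem_coe, mem_centralizer_iff]
      exact fun w hw => (mem_centralizer_iff.1 (h1 hw) z hz).symm
    exact mem_centralizer_iff.1 (h2 hy) x hx
  intro w hw
  refine closure_induction (p := fun x _ => x * x = 1) ?_ (by simp) ?_ ?_ hw
  · rintro _ ⟨g, -, d, hd, rfl⟩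
    have : g * d * g⁻¹ * (g * d * g⁻¹) = g * (d * d) * g⁻¹ := by group
    rw [this, h2 d hd]; simp
  · intro x y hx hy hx1 hy1
    calc x * y * (x * y) = x * (y * x) * y := by group
      _ = x * (x * y) * y := by rw [hcl y hy x hx]
      _ = (x * x) * (y * y) := by group
      _ = 1 := by rw [hx1, hy1, one_mul]
  · intro x _ hx1
    rw [← mul_inv_rev, hx1, inv_one]

section

variable {S : Sylow 2 G} {T B Q₁ Q₂ D C₁ C₂ : Subgroup G} {s : G} {q : ℕ}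
variable [Finite G] (h : Base (S : Subgroup G) T B Q₁ Q₂ D C₁ C₂ s q)

include h

/-- (iv), first half: `D ∩ O₂(X)` does not commute with one of its `X`-conjugates. -/
theorem exists_noncomm (hG : IsCharacteristicTwoType G) {c : ℕ} (t : Ty (S : Subgroup G) B Q₁ Q₂ D c)
    (hD : normalizer (D : Set G) ≤ normalizer (B : Set G)) {X : Subgroup G} (hX : IsLoc (S : Subgroup G) X)
    (hXB : ¬ X ≤ normalizer (B : Set G)) :
    ∃ g ∈ X, ∃ d ∈ D ⊓ o2 X, ∃ e ∈ D ⊓ o2 X, d * (g * e * g⁻¹) ≠ g * e * g⁻¹ * d := by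
  by_contra hcon
  push Not at hcon
  set D₀ := D ⊓ o2 X with hD₀
  have hBS : B ≤ S := h.BT.trans h.TS
  have hRS : o2 X ≤ (S : Subgroup G) := hX.o2_le S
  have hcard : Nat.card D ≤ c * Nat.card D₀ := by
    refine card_D_le h t hRS (fun x hx r hr => conj_o2 (hX.le hx) hr) fun g hg hgr => ?_
    exact hX.char2 S hG ⟨hX.le (hBS hg), mem_cent.2 fun r hr => (hgr r hr).symm⟩
  -- `D₀` is normal in `X`
  have h1 : cl X D₀ ≤ D₀ := by
    have h2 : cl X D₀ ≤ o2 X := cl_le fun g hg d hd => conj_o2 hg hd.2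
    refine le_inf ?_ h2
    refine h.normal_elem_le (h2.trans hRS) (fun x hx v hv => cl_conj (hX.le hx) hv) ?_
    exact cl_sq (fun d hd => h.sqD hd.1) hcon
  have hXD₀ : X ≤ normalizer (D₀ : Set G) :=
    le_norm fun x hx d hd => h1 (cl_conj hx (le_cl hd))
  by_cases hDD : D ≤ o2 X
  · have h2 : D₀ = D := inf_eq_left.2 hDD
    rw [h2] at hXD₀
    exact hXB (hXD₀.trans hD)
  -- `D₀ < D`: `C_S(D₀) ≤ B`
  have hlt : D₀ < D := lt_of_le_of_ne inf_le_left fun h2 => hDD (inf_eq_left.1 h2)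
  have hfix := t.fix D₀ hlt hcard
  have hne : D₀ ≠ ⊥ := by
    intro h2
    refine s_not_mem_B h (hfix s h.sS fun d hd => ?_)
    rw [h2, mem_bot] at hd
    subst hd; simp
  have hloc : IsLoc (S : Subgroup G) (normalizer (D₀ : Set G)) :=
    isLoc_normalizer S (h.two.to_le (inf_le_right.trans hRS)) hne (hX.le.trans hXD₀)
  have hDDcomm : ∀ d ∈ D, ∀ e ∈ D, d * e = e * d := fun d hd e he => h.centD hd (h.DB he)
  have hDN : D ≤ normalizer (D₀ : Set G) := by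
    refine le_norm fun x hx d hd => ?_
    rw [hDDcomm x hx d hd.1, mul_inv_cancel_right]; exact hd
  -- `D` stabilises the chain `O₂(N(D₀)) ≥ C(D₀) ∩ O₂(N(D₀)) ≥ 1`
  have h3 : D ≤ o2 (normalizer (D₀ : Set G)) := by
    refine le_o2_of_chain (A := o2 (normalizer (D₀ : Set G)) ⊓ centralizer (D₀ : Set G)) (hloc.char2 S hG)
      inf_le_left ?_ hDN ?_ ?_
    · rintro y hy a ⟨ha1, ha2⟩
      refine ⟨conj_o2 hy ha1, mem_cent.2 fun d hd => ?_⟩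
      have h4 : y⁻¹ * d * y ∈ D₀ := (mem_normalizer_iff''.1 hy d).1 hd
      have h5 := mem_cent.1 ha2 _ h4
      calc d * (y * a * y⁻¹) = y * (y⁻¹ * d * y * a) * y⁻¹ := by group
        _ = y * (a * (y⁻¹ * d * y)) * y⁻¹ := by rw [h5]
        _ = y * a * y⁻¹ * d := by group
    · rintro d hd a ⟨ha1, ha2⟩
      refine h.centD hd (hfix a (hloc.o2_le S ha1) fun e he => ?_)
      exact (mem_centralizer_iff.1 ha2 e he).symm
    · intro d hd r hr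
      refine ⟨?_, ?_⟩
      · have h4 : d * r * d⁻¹ * r⁻¹ = (d * r * d⁻¹) * r⁻¹ := by group
        rw [h4]
        exact (o2 (normalizer (D₀ : Set G))).mul_mem (conj_o2 (hDN hd) hr) (Subgroup.inv_mem _ hr)
      · have h4 : d * r * d⁻¹ * r⁻¹ = d * (r * d⁻¹ * r⁻¹) := by group
        rw [h4]
        have h5 : D ≤ centralizer (D₀ : Set G) := by
          intro x hx
          rw [mem_centralizer_iff]
          exact fun e he => hDDcomm e he.1 x hx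
        refine (centralizer (D₀ : Set G)).mul_mem (h5 hd) (mem_cent.2 fun e he => ?_)
        have h6 : r⁻¹ * e * r ∈ D₀ := (mem_normalizer_iff''.1 (o2_le _ hr) e).1 he
        have h7 := hDDcomm _ h6.1 d⁻¹ (inv_mem hd)
        calc e * (r * d⁻¹ * r⁻¹) = r * (r⁻¹ * e * r * d⁻¹) * r⁻¹ := by group
          _ = r * (d⁻¹ * (r⁻¹ * e * r)) * r⁻¹ := by rw [h7]
          _ = r * d⁻¹ * r⁻¹ * e := by group
  exact hDD (h3.trans (o2_le_o2 S hX.le hXD₀))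

theorem card_inf_le (hG : IsCharacteristicTwoType G) {c : ℕ} (t : Ty (S : Subgroup G) B Q₁ Q₂ D c)
    {X : Subgroup G} (hX : IsLoc (S : Subgroup G) X) : Nat.card D ≤ c * Nat.card (D ⊓ o2 X : Subgroup G) := by
  have hBS : B ≤ S := h.BT.trans h.TS
  refine card_D_le h t (hX.o2_le S) (fun x hx r hr => conj_o2 (hX.le hx) hr) fun g hg hgr => ?_
  exact hX.char2 S hG ⟨hX.le (hBS hg), mem_cent.2 fun r hr => (hgr r hr).symm⟩

/-- (iv) -/
theorem exists_of_not_le (hG : IsCharacteristicTwoType G) {c : ℕ} (t : Ty (S : Subgroup G) B Q₁ Q₂ D c)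
    (hD : normalizer (D : Set G) ≤ normalizer (B : Set G)) {X : Subgroup G} (hX : IsLoc (S : Subgroup G) X)
    (hXB : ¬ X ≤ normalizer (B : Set G)) :
    ∃ x ∈ o2 X, x * x = 1 ∧ x ∉ centralizer (D : Set G) ∧ Nat.card D ≤ c * Nat.card (D ⊓ o2 X : Subgroup G) ∧
      Nat.card (D ⊓ o2 X : Subgroup G) ≤
        2 * Nat.card (D ⊓ o2 X ⊓ centralizer ({x} : Set G) : Subgroup G) := by
  obtain ⟨g, hg, d, hd, e, he, hne⟩ := exists_noncomm h hG t hD hX hXB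
  have hRS : o2 X ≤ (S : Subgroup G) := hX.o2_le S
  set x := g * e * g⁻¹ with hx
  have hxR : x ∈ o2 X := conj_o2 hg he.2
  refine ⟨x, hxR, ?_, fun h1 => hne (mem_cent.1 h1 d hd.1), card_inf_le h hG t hX, ?_⟩
  · have h1 : x * x = g * (e * e) * g⁻¹ := by rw [hx]; group
    rw [h1, h.sqD he.1]; simp
  have hmem : ∀ a, a ∈ centralizer ({x} : Set G) ↔ x * a = a * x :=
    fun a => mem_centralizer_singleton_iff.trans eq_comm
  refine card_le_two_mul (f := d) hd fun a ha => ?_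
  by_cases hax : a ∈ centralizer ({x} : Set G)
  · exact Or.inl ⟨ha, hax⟩
  right
  refine ⟨(D ⊓ o2 X).mul_mem ((D ⊓ o2 X).inv_mem hd) ha, (hmem _).2 ?_⟩
  have key : ∀ b ∈ D ⊓ o2 X, b ∉ centralizer ({x} : Set G) → (g⁻¹ * b * g) ∈ (S : Subgroup G) ∧
      (g⁻¹ * b * g) * (g⁻¹ * b * g) = 1 ∧ g⁻¹ * b * g ∉ centralizer (D : Set G) := by
    intro b hb hbx
    refine ⟨hRS ?_, ?_, fun h1 => hbx ((hmem b).2 ?_)⟩
    · have := conj_o2 (inv_mem hg) hb.2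
      rwa [inv_inv] at this
    · have h1 : (g⁻¹ * b * g) * (g⁻¹ * b * g) = g⁻¹ * (b * b) * g := by group
      rw [h1, h.sqD hb.1]; simp
    · have h2 := mem_cent.1 h1 e he.1
      calc x * b = g * (e * (g⁻¹ * b * g)) * g⁻¹ := by rw [hx]; group
        _ = g * (g⁻¹ * b * g * e) * g⁻¹ := by rw [h2]
        _ = b * x := by rw [hx]; group
  obtain ⟨k1, k2, k3⟩ := key a ha hax
  obtain ⟨l1, l2, l3⟩ := key d hd fun h1 => hne (((hmem d).1 h1).symm)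
  have hdi : d⁻¹ = d := inv_eq_of_mul_eq_one_right (h.sqD hd.1)
  have h2 := mem_cent.1 (t.cyc _ l1 l2 _ k1 k2 l3 k3) e he.1
  rw [hdi]
  calc x * (d * a) = g * (e * (g⁻¹ * d * g * (g⁻¹ * a * g))) * g⁻¹ := by rw [hx]; group
    _ = g * (g⁻¹ * d * g * (g⁻¹ * a * g) * e) * g⁻¹ := by rw [h2]
    _ = d * a * x := by rw [hx]; group

/-- (iv), the order: `q = 4`. -/
theorem card_le_of_not_le (hG : IsCharacteristicTwoType G) {c : ℕ} (t : Ty (S : Subgroup G) B Q₁ Q₂ D c)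
    (hD : normalizer (D : Set G) ≤ normalizer (B : Set G)) {X : Subgroup G} (hX : IsLoc (S : Subgroup G) X)
    (hXB : ¬ X ≤ normalizer (B : Set G)) : Nat.card D ≤ (2 * c) ^ 2 := by
  obtain ⟨x, hxR, hx2, hxD, h1, h2⟩ := exists_of_not_le h hG t hD hX hXB
  have h3 := t.mv x (hX.o2_le S hxR) hx2 hxD
  have h4 : Nat.card (D ⊓ o2 X ⊓ centralizer ({x} : Set G) : Subgroup G) ≤
      Nat.card (D ⊓ centralizer ({x} : Set G) : Subgroup G) :=
    Subgroup.card_le_of_le (inf_le_inf inf_le_left le_rfl)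
  set a := Nat.card (D ⊓ centralizer ({x} : Set G) : Subgroup G)
  have h5 : Nat.card D ≤ 2 * c * a := by
    calc Nat.card D ≤ c * (2 * a) := h1.trans (Nat.mul_le_mul_left c (h2.trans (Nat.mul_le_mul_left 2 h4)))
      _ = 2 * c * a := by ring
  have ha : 0 < a := Nat.card_pos
  have h6 : a ≤ 2 * c := by
    have : a * a ≤ 2 * c * a := by rw [pow_two] at h3; exact h3.trans h5
    exact Nat.le_of_mul_le_mul_right this ha
  calc Nat.card D ≤ 2 * c * a := h5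
    _ ≤ 2 * c * (2 * c) := Nat.mul_le_mul_left _ h6
    _ = (2 * c) ^ 2 := by ring

/-- (vi), all `q`: type `Sp₄(q)`.  `two`: `[n, B] [n', B] = D` for mixed `n`, `n'` different modulo `D`; `idx`: `|T : B| ≤ 2`
(used for `q = 4`). -/
theorem le_normalizer_of_two (hG : IsCharacteristicTwoType G) {c : ℕ} (t : Ty (S : Subgroup G) B Q₁ Q₂ D c)
    (hD : normalizer (D : Set G) ≤ normalizer (B : Set G)) (hcard : 4 < Nat.card D)
    (two : ∀ x ∈ Q₁, x ∉ D → ∀ y ∈ Q₂, y ∉ D → ∀ x' ∈ Q₁, x' ∉ D → ∀ y' ∈ Q₂, y' ∉ D → x⁻¹ * x' ∉ D →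
      ∀ K : Subgroup G, K ≤ D → (∀ b ∈ B, (x * y) * b * (x * y)⁻¹ * b⁻¹ ∈ K) →
        (∀ b ∈ B, (x' * y') * b * (x' * y')⁻¹ * b⁻¹ ∈ K) → D ≤ K)
    (idx : ∀ t ∈ T, t ∉ B → ∀ t' ∈ T, t' ∉ B → t⁻¹ * t' ∈ B) {X : Subgroup G}
    (hX : IsLoc (S : Subgroup G) X) : X ≤ normalizer (B : Set G) := by
  by_contra hXB
  obtain ⟨x, hxR, hx2, hxD, h1, h2⟩ := exists_of_not_le h hG t hD hX hXB
  have hBS : B ≤ S := h.BT.trans h.TS
  have hRS : o2 X ≤ (S : Subgroup G) := hX.o2_le S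
  -- `D ≰ O₂(X)`
  have hDR : ¬ D ≤ o2 X := by
    intro h3
    have h4 := t.mv x (hX.o2_le S hxR) hx2 hxD
    rw [inf_eq_left.2 h3] at h2
    set a := Nat.card (D ⊓ centralizer ({x} : Set G) : Subgroup G)
    nlinarith
  have hxB : x ∉ B := fun h3 => hxD (mem_cent.2 fun d hd => h.centD hd h3)
  -- commutators of `R ∩ B` with `B` lie in `D ∩ R`
  have hcom : ∀ n ∈ o2 X, n ∈ B → ∀ b ∈ B, n * b * n⁻¹ * b⁻¹ ∈ D ⊓ o2 X := by
    intro n hn hnB b hb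
    refine ⟨h.commB hnB hb, ?_⟩
    have h4 : n * b * n⁻¹ * b⁻¹ = n * (b * n⁻¹ * b⁻¹) := by group
    rw [h4]; exact mul_mem hn (conj_o2 (hX.le (hBS hb)) (inv_mem hn))
  -- step A: no swap in `O₂(X)`
  have hRT : ∀ r ∈ o2 X, r ∈ T := by
    intro v hv
    by_contra hvT
    have hsw := (h.mem_S (hRS hv)).resolve_left hvT
    have hna : ∀ a ∈ Q₁, a ∉ D → a⁻¹ ∈ Q₁ ∧ a⁻¹ ∉ D ∧ v * a * v⁻¹ ∈ Q₂ ∧ v * a * v⁻¹ ∉ D ∧
        a⁻¹ * (v * a * v⁻¹) ∈ o2 X := by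
      intro a ha haD
      refine ⟨inv_mem ha, fun h3 => haD (by simpa using D.inv_mem h3), h.swap1 hsw ha, fun h3 => haD ?_, ?_⟩
      · have h4 := h.P_D (inv_mem (hRS hv)) h3
        have h5 : v⁻¹ * (v * a * v⁻¹) * v⁻¹⁻¹ = a := by group
        rwa [h5] at h4
      · have h5 : a⁻¹ * (v * a * v⁻¹) = (a⁻¹ * v * a⁻¹⁻¹) * v⁻¹ := by group
        rw [h5]
        exact mul_mem (conj_o2 (hX.le (hBS (h.Q1B (inv_mem ha)))) hv) (inv_mem hv)
    obtain ⟨a, ha, haD, a', ha', haD', haa⟩ : ∃ a ∈ Q₁, a ∉ D ∧ ∃ a' ∈ Q₁, a' ∉ D ∧ a⁻¹ * a' ∉ D := by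
      obtain ⟨a, ha, haD⟩ := h.exists_a
      by_contra hcon
      push Not at hcon
      have h3 := card_le_two_mul (E := Q₁) (E₀ := D) ha fun e he => by
        by_cases heD : e ∈ D
        · exact Or.inl heD
        · exact Or.inr (hcon a ha haD e he heD)
      rw [h.card1] at h3
      have h4 := h.hq
      have h5 : 0 < Nat.card D := Nat.card_pos
      nlinarith
    obtain ⟨k1, k2, k3, k4, k5⟩ := hna a ha haD
    obtain ⟨l1, l2, l3, l4, l5⟩ := hna a' ha' haD'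
    refine hDR ((two _ k1 k2 _ k3 k4 _ l1 l2 _ l3 l4 ?_ (D ⊓ o2 X) inf_le_left
      (hcom _ k5 (mul_mem (h.Q1B k1) (h.Q2B k3))) (hcom _ l5 (mul_mem (h.Q1B l1) (h.Q2B l3)))).trans inf_le_right)
    rw [inv_inv]
    intro h3
    apply haa
    have h4 : a⁻¹ * a' = a * a' := by rw [h.inv1 ha]
    have h5 : a * a'⁻¹ = a * a' := by rw [h.inv1 ha']
    rw [h4, ← h5]; exact h3
  -- step B
  have hRx : ∀ r ∈ o2 X, r ∉ B → x⁻¹ * r ∈ B := fun r hr hrB => idx x (hRT x hxR) hxB r (hRT r hr) hrB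
  have hxx : x⁻¹ = x := inv_eq_of_mul_eq_one_right hx2
  -- `[R, D] ≤ Z(R)`
  have hcomD : ∀ r ∈ o2 X, ∀ d ∈ D, ∀ r' ∈ o2 X, r' * (d * r * d⁻¹ * r⁻¹) = d * r * d⁻¹ * r⁻¹ * r' := by
    intro r hr d hd r' hr'
    by_cases hrB : r ∈ B
    · have h3 : d * r * d⁻¹ * r⁻¹ = 1 := by rw [h.centD hd hrB]; group
      rw [h3, mul_one, one_mul]
    have h3 := hRx r hr hrB
    -- `r = x n`
    have h4 : d * r * d⁻¹ * r⁻¹ = d * x * d⁻¹ * x⁻¹ := by
      have h5 := h.centD (inv_mem hd) h3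
      calc d * r * d⁻¹ * r⁻¹ = d * x * (x⁻¹ * r * d⁻¹) * r⁻¹ := by group
        _ = d * x * (d⁻¹ * (x⁻¹ * r)) * r⁻¹ := by rw [h5]
        _ = d * x * d⁻¹ * x⁻¹ := by group
    have h6 : d * x * d⁻¹ * x⁻¹ ∈ D := by
      have h7 : d * x * d⁻¹ * x⁻¹ = d * (x * d⁻¹ * x⁻¹) := by group
      rw [h7]; exact mul_mem hd (h.P_D (hRS hxR) (inv_mem hd))
    have h8 : x * (d * x * d⁻¹ * x⁻¹) = d * x * d⁻¹ * x⁻¹ * x := by
      have hdd : d⁻¹ = d := inv_eq_of_mul_eq_one_right (h.sqD hd)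
      have h9 : d * (x * d * x⁻¹) = x * d * x⁻¹ * d := h.centD hd (h.DB (h.P_D (hRS hxR) hd))
      rw [hdd]
      rw [hxx] at h9 ⊢
      calc x * (d * x * d * x) = (x * d * x * d) * x := by group
        _ = d * (x * d * x) * x := by rw [h9]
        _ = d * x * d * x * x := by group
    rw [h4]
    by_cases hr'B : r' ∈ B
    · exact (h.centD h6 hr'B).symm
    · have h9 := hRx r' hr' hr'B
      have h10 : r' = x * (x⁻¹ * r') := by group
      rw [h10]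
      calc x * (x⁻¹ * r') * (d * x * d⁻¹ * x⁻¹) = x * (x⁻¹ * r' * (d * x * d⁻¹ * x⁻¹)) := by group
        _ = x * (d * x * d⁻¹ * x⁻¹ * (x⁻¹ * r')) := by rw [← h.centD h6 h9]
        _ = (x * (d * x * d⁻¹ * x⁻¹)) * (x⁻¹ * r') := by group
        _ = d * x * d⁻¹ * x⁻¹ * x * (x⁻¹ * r') := by rw [h8]
        _ = d * x * d⁻¹ * x⁻¹ * (x * (x⁻¹ * r')) := by group
  have hlt : D ⊓ o2 X < D := lt_of_le_of_ne inf_le_left fun h3 => hDR (inf_eq_left.1 h3)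
  -- the centre of `R` lies in `B`
  have hZB : ∀ z ∈ o2 X, (∀ r ∈ o2 X, r * z = z * r) → z ∈ B := fun z hz hzr =>
    t.fix _ hlt h1 z (hRS hz) fun d hd => (hzr d hd.2).symm
  have hDX : D ≤ X := h.DB.trans (hBS.trans hX.le)
  refine hDR (le_o2_of_chain (A := o2 X ⊓ centralizer (o2 X : Set G)) (hX.char2 S hG) inf_le_left ?_ hDX ?_ ?_)
  · rintro y hy a ⟨ha1, ha2⟩
    refine ⟨conj_o2 hy ha1, mem_cent.2 fun r hr => ?_⟩
    have h4 : y⁻¹ * r * y ∈ o2 X := by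
      have := conj_o2 (inv_mem hy) hr
      rwa [inv_inv] at this
    have h5 := mem_cent.1 ha2 _ h4
    calc r * (y * a * y⁻¹) = y * (y⁻¹ * r * y * a) * y⁻¹ := by group
      _ = y * (a * (y⁻¹ * r * y)) * y⁻¹ := by rw [h5]
      _ = y * a * y⁻¹ * r := by group
  · rintro d hd a ⟨ha1, ha2⟩
    exact h.centD hd (hZB a ha1 fun r hr => mem_cent.1 ha2 r hr)
  · intro d hd r hr
    refine ⟨?_, mem_cent.2 fun r' hr' => hcomD r hr d hd r' hr'⟩
    exact (o2 X).mul_mem (conj_o2 (hDX hd) hr) ((o2 X).inv_mem hr)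

/-- (h4) for `q ≥ 8`. -/
theorem le_normalizer_of_lt (hG : IsCharacteristicTwoType G) {c : ℕ} (t : Ty (S : Subgroup G) B Q₁ Q₂ D c)
    (hD : normalizer (D : Set G) ≤ normalizer (B : Set G)) (hq : (2 * c) ^ 2 < Nat.card D) {X : Subgroup G}
    (hX : IsLoc (S : Subgroup G) X) : X ≤ normalizer (B : Set G) := by
  by_contra hXB
  exact absurd (card_le_of_not_le h hG t hD hX hXB) (not_le.2 hq)

end

end Cfsg.Agent.Omega.SQ1.NodeA
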