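import Cfsg.Agent.Mrg.Omega.SQ1.KillQ
import Cfsg.Agent.MinSimple.Choice97
import Cfsg.Agent.MinSimple.CaseOneAP
import Cfsg.Agent.S1442
import Cfsg.Agent.MinSimple.PushOne
import Cfsg.Agent.MinSimple.SelfCentFour
import Cfsg.Agent.TwoFusion.SectionalRank
import Cfsg.Agent.S0112
import Cfsg.Agent.S0113

section


/-!
# SQ1, `q = 2`: from `MIn` to the twisted Killing Lemma (L7)
-/

set_option autoImplicit false

namespace Cfsg.Agent.Omega.SQ1.TwistOf

open Cfsg.Agent.MinSimple.PushUp Cfsg.Agent.Omega.PushUp Cfsg.Agent.Omega.SQ1.Match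
open Cfsg.Agent.Omega.SQ1.BlockO Cfsg.Agent.Omega.SQ1.Block Subgroup
open Cfsg.Agent.Omega.SQ1.TwistBase (Blk InV)
open Cfsg.Agent.Omega.SQ1.TwistAlg (Tw)
open Cfsg.Agent.Omega.SQ1.TwistSym (Half Sym Anti Hom)
open Cfsg.Agent.Omega.SQ1.TwistLoc (Loc)
open Cfsg.Agent.Omega.SQ1.TwistBlk (Small BlkD)

variable {G : Type*} [Group G] {ι : Type*}

theorem InV_cj {d e v : G} (x : G) (hv : InV d e v) : InV (cj x d) (cj x e) (cj x v) := by
  rcases hv with rfl | rfl | rfl | rfl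
  · left; simp [cj]
  · right; left; rfl
  · right; right; left; rfl
  · right; right; right; exact cj_prod _ _ _

theorem Blk_cj {B : Subgroup G} {d e r x : G} (h : Blk B d e r) (hx : ∀ b ∈ B, cj x b ∈ B)
    (hx' : ∀ b ∈ B, cj x⁻¹ b ∈ B) : Blk B (cj x d) (cj x e) (cj x r) where
  dB := hx _ h.dB
  eB := hx _ h.eB
  dc := by
    intro b hb
    have h1 := (cj_comm (g := x)).2 (h.dc _ (hx' b hb))
    rwa [cj_cj_inv] at h1
  dd := by rw [← cj_prod, h.dd]; simp [cj]
  ee := by rw [← cj_prod, h.ee]; simp [cj]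
  dne := by
    intro h1
    apply h.dne
    have h2 : cj x d = cj x 1 := by rw [h1]; simp [cj]
    exact cj_inj h2
  rd := by
    change cj (cj x r) (cj x d) = cj x e
    rw [cj_cj, cj_inv_cj]
    exact congrArg (cj x) h.rd
  re := by
    change cj (cj x r) (cj x e) = cj x d * cj x e
    rw [cj_cj, cj_inv_cj, ← cj_prod]
    exact congrArg (cj x) h.re
  r3 := by rw [← cj_prod, ← cj_prod, h.r3]; simp [cj]
  inner := by
    intro b hb hbe
    have h1 : cj x⁻¹ b * e = e * cj x⁻¹ b := by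
      have h2 := (cj_comm (g := x⁻¹)).2 hbe
      rwa [cj_inv_cj] at h2
    obtain ⟨v, hv, h2⟩ := h.inner _ (hx' b hb) h1
    refine ⟨cj x v, InV_cj x hv, ?_⟩
    have h3 := congrArg (cj x) h2
    rw [cj_prod] at h3
    rw [← h3]
    change cj b (cj x r) = cj x (cj (cj x⁻¹ b) r)
    simp [cj, mul_assoc]
  outer := by
    intro b hb hbe
    have h1 : cj x⁻¹ b * e ≠ e * cj x⁻¹ b := by
      intro h2
      apply hbe
      have h3 := (cj_comm (g := x)).2 h2
      rwa [cj_cj_inv] at h3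
    obtain ⟨v, hv, h2⟩ := h.outer _ (hx' b hb) h1
    refine ⟨cj x v, InV_cj x hv, ?_⟩
    have h3 := congrArg (cj x) h2
    rw [cj_prod, cj_inv] at h3
    rw [← h3]
    change cj b (cj x r) = cj x (cj (cj x⁻¹ b) r)
    simp [cj, mul_assoc]

variable {A T B Z P : Subgroup G} {s : G} {L Q V D : ι → Subgroup G}

/-- chosen matching and blocks -/
structure Ch (B Z : Subgroup G) (s : G) (L V D : ι → Subgroup G) (m : ι → ι) (d e r : ι → G) :
    Prop where
  par : ∀ i, Par s V i (m i)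
  bd : ∀ i, BlkD B Z (V i) (D i) (L i) (d i) (e i) (r i)

theorem exists_ch (h : MIn A T B Z P s L Q V D) [Finite ι] [Finite G] (hB2 : IsPGroup 2 B)
    (hself : centralizer (P : Set G) ≤ P) (h2 : ∀ i, Small Z (V i)) :
    ∃ m d e r, Ch B Z s L V D m d e r := by
  choose m hm using fun i => h.par_exists i
  choose d e r hb using fun i => TwistBlk.exists_blk h hB2 hself (hm i) (h2 i)
  exact ⟨m, d, e, r, hm, hb⟩

variable {m : ι → ι} {d e r : ι → G}

/-- the elements `f i` of the other side -/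
def ff (s : G) (e : ι → G) (m : ι → ι) (i : ι) : G := cj s (e (m i))

theorem V_split {Z V : Subgroup G} (h2 : Small Z V) (hV : ∀ v ∈ V, v * v = 1) {e v : G} (he : e ∈ V)
    (heZ : e ∉ Z) (hv : v ∈ V) : v ∈ Z ∨ ∃ z ∈ Z, v = e * z := by
  by_cases hvZ : v ∈ Z
  · exact Or.inl hvZ
  · exact Or.inr ⟨e * v, h2 e he v hv heZ hvZ, by rw [← mul_assoc, hV e he, one_mul]⟩

theorem s_d (h : MIn A T B Z P s L Q V D) [Finite G] (c : Ch B Z s L V D m d e r) (i : ι) :
    cj s (d (m i)) = d i := by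
  have h1 := h.par_D (c.par i) (c.bd (m i)).dD
  rcases (c.bd i).Deq _ h1 with h2 | h2
  · exfalso
    apply (c.bd (m i)).blk.dne
    have h3 : cj s (d (m i)) = cj s 1 := by rw [h2]; simp [cj]
    exact cj_inj h3
  · exact h2

theorem d_inj (h : MIn A T B Z P s L Q V D) (c : Ch B Z s L V D m d e r) :
    Function.Injective d := by
  intro i j hij
  apply h.Dinj
  intro x hx
  rcases (c.bd i).Deq x hx with rfl | rfl
  · exact (D j).one_mem
  · rw [hij]; exact (c.bd j).dD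

theorem m_surj (h : MIn A T B Z P s L Q V D) [Finite G] (c : Ch B Z s L V D m d e r) (j : ι) :
    ∃ i, m i = j := by
  obtain ⟨i, hi⟩ := h.par_exists' j
  exact ⟨i, h.par_unique (c.par i) hi⟩

/-- `e i` and `f i` do not commute -/
theorem noncomm (h : MIn A T B Z P s L Q V D) [Finite G] (h2 : ∀ i, Small Z (V i))
    (c : Ch B Z s L V D m d e r) (i : ι) : e i * ff s e m i ≠ ff s e m i * e i := by
  intro hc
  obtain ⟨v, hv, u, hu, hne⟩ := c.par i
  apply hne
  have hZc : ∀ z ∈ Z, ∀ b ∈ B, Commute z b := fun z hz b hb => ((h.dat i).BcZ b hb z hz).symm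
  have huB : cj s u ∈ B := h.cjsB i ((h.dat (m i)).VB hu)
  have hfB : ff s e m i ∈ B := h.cjsB i ((h.dat (m i)).VB (c.bd (m i)).eV)
  have heB : e i ∈ B := (h.dat i).VB (c.bd i).eV
  have h0 : Commute (e i) (ff s e m i) := hc
  have hsz : ∀ z ∈ Z, cj s z ∈ Z := fun z hz => (h.dat i).cjZ h.sA hz
  have h1 : Commute (e i) (cj s u) := by
    rcases V_split (h2 (m i)) (h.dat (m i)).Vsq (c.bd (m i)).eV (c.bd (m i)).eZ hu with h3 |
      ⟨z, hz, rfl⟩
    · exact (hZc _ (hsz _ h3) _ heB).symm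
    · rw [cj_prod]
      exact h0.mul_right (hZc _ (hsz _ hz) _ heB).symm
  rcases V_split (h2 i) (h.dat i).Vsq (c.bd i).eV (c.bd i).eZ hv with h3 | ⟨z, hz, rfl⟩
  · exact (hZc v h3 _ huB).eq
  · exact (h1.mul_left (hZc z hz _ huB)).eq

/-- **The structure `Tw`.** -/
theorem tw_of (h : MIn A T B Z P s L Q V D) [Finite ι] [Finite G] (i₀ : ι)
    (hZ : ∀ x ∈ B, x * x = 1 → (∀ b ∈ B, x * b = b * x) → x ∈ Z)
    (h2 : ∀ i, Small Z (V i)) (c : Ch B Z s L V D m d e r) :
    Tw B P (Dm P s) Z e (ff s e m) d r (ff s r m) where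
  Q1B := fun x hx => ((h.Pmem x).1 hx).1
  Q2B := by
    intro x hx
    have h1 := h.cjsB i₀ ((h.Pmem _).1 (mem_Dm.1 hx)).1
    rwa [cj_cj_inv] at h1
  DQ1 := fun x hx => h.VP ((h.dat i₀).ZV hx)
  DQ2 := by
    intro x hx
    rw [mem_Dm]
    exact h.VP ((h.dat i₀).ZV ((h.dat i₀).cjZ (A.inv_mem h.sA) hx))
  eQ := fun k => h.VP (c.bd k).eV
  fQ := fun k => cj_mem_Dm (h.VP (c.bd (m k)).eV)
  dD := fun k => (h.dat k).DZ (c.bd k).dD
  gen := by
    intro R h1 h3 b hb
    obtain ⟨y, hy, p, hp, rfl⟩ := h.cover hb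
    exact R.mul_mem (h3 (cj_mem_Dm (h.Y_le hy))) (h1 hp)
  gen1 := by
    intro R h1 h3
    rw [h.P_eq i₀ hZ]
    apply iSup_le
    intro k v hv
    rcases V_split (h2 k) (h.dat k).Vsq (c.bd k).eV (c.bd k).eZ hv with h4 | ⟨z, hz, rfl⟩
    · exact h3 h4
    · exact R.mul_mem (h1 k) (h3 hz)
  gen2 := by
    intro R h1 h3
    have h4 : P ≤ R.comap (MulAut.conj s).toMonoidHom := by
      rw [h.P_eq i₀ hZ]
      apply iSup_le
      intro k v hv
      rw [mem_comap]
      change cj s v ∈ R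
      rcases V_split (h2 k) (h.dat k).Vsq (c.bd k).eV (c.bd k).eZ hv with h4 | ⟨z, hz, rfl⟩
      · exact h3 ((h.dat i₀).cjZ h.sA h4)
      · rw [cj_prod]
        obtain ⟨k', rfl⟩ := m_surj h c k
        exact R.mul_mem (h1 k') (h3 ((h.dat i₀).cjZ h.sA hz))
    intro x hx
    have h5 := h4 (mem_Dm.1 hx)
    rw [mem_comap] at h5
    change cj s (cj s⁻¹ x) ∈ R at h5
    rwa [cj_cj_inv] at h5
  Dc := fun z hz b hb => ((h.dat i₀).BcZ b hb z hz).symm
  cent := by
    intro b hb h1 h3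
    have hbV : ∀ k, ∀ v ∈ V k, b * v = v * b := by
      intro k v hv
      rcases V_split (h2 k) (h.dat k).Vsq (c.bd k).eV (c.bd k).eZ hv with h4 | ⟨z, hz, rfl⟩
      · exact (h.dat i₀).BcZ b hb _ h4
      · exact ((show Commute b (e k) from h1 k).mul_right ((h.dat i₀).BcZ b hb _ hz)).eq
    have hbP : b ∈ P := (h.Pmem b).2 ⟨hb, fun k => (h.dat k).QcV b hb (hbV k)⟩
    have hb' : cj s⁻¹ b ∈ B := h.cjsB' i₀ hb
    have hbP' : cj s⁻¹ b ∈ P := by
      refine (h.Pmem _).2 ⟨hb', fun k => (h.dat k).QcV _ hb' ?_⟩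
      intro v hv
      obtain ⟨k', rfl⟩ := m_surj h c k
      rcases V_split (h2 (m k')) (h.dat (m k')).Vsq (c.bd (m k')).eV (c.bd (m k')).eZ hv with h4 |
        ⟨z, hz, rfl⟩
      · exact (h.dat i₀).BcZ _ hb' _ h4
      · have h5 := (cj_comm (g := s⁻¹)).2 (h3 k')
        rw [ff, cj_inv_cj] at h5
        exact ((show Commute _ (e (m k')) from h5).mul_right ((h.dat i₀).BcZ _ hb' _ hz)).eq
    exact h.inter_Z i₀ hZ hbP hbP'
  sq1 := fun a ha => h.Psq i₀ ha
  sq2 := by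
    intro a ha
    have h1 := h.Psq i₀ (mem_Dm.1 ha)
    rw [← cj_prod] at h1
    have h3 : cj s⁻¹ (a * a) = cj s⁻¹ 1 := by rw [h1]; simp [cj]
    exact cj_inj h3
  dinj := d_inj h c
  fe := by
    intro k
    have hfB : ff s e m k ∈ B := h.cjsB k ((h.dat (m k)).VB (c.bd (m k)).eV)
    obtain ⟨x, hx, h1⟩ := (h.dat k).commB (c.bd k).eV hfB
    rcases (c.bd k).Deq x hx with rfl | rfl
    · exfalso
      rw [one_mul, cj_eq_self] at h1
      exact noncomm h h2 c k h1.symm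
    · rw [← mul_assoc, ← h1]; simp [cj]
  fec := by
    intro k l hkl
    have hnp : ¬ Par s V k (m l) := fun hp => hkl (h.par_inj hp (c.par l))
    exact (MIn.not_par hnp (c.bd k).eV (c.bd (m l)).eV).symm
  blk := fun k => (c.bd k).blk
  blk' := by
    intro k
    have h1 := Blk_cj (c.bd (m k)).blk (fun b hb => h.cjsB i₀ hb) fun b hb => h.cjsB' i₀ hb
    rw [s_d h c k] at h1
    exact h1

/-! ### `Loc` -/

/-- `Loc` from the Thompson subgroup. -/
theorem loc_of [Finite G] {B Q₁ Q₂ D T : Subgroup G} {e f d r r' : ι → G}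
    (h : Tw B Q₁ Q₂ D e f d r r') (QT : Q₁ ≤ T)
    (hself : centralizer (Q₁ : Set G) ≤ Q₁)
    (hsyl : ∀ R : Subgroup G, IsPGroup 2 R → R ≤ normalizer (Q₁ : Set G) →
      ∃ g ∈ normalizer (Q₁ : Set G), ∀ a ∈ R, g * a * g⁻¹ ∈ T)
    (hAA : ∀ E : Subgroup G, E ≤ T → (∀ x ∈ E, x * x = 1) → Nat.card Q₁ ≤ Nat.card E → E ≤ B) :
    Loc Q₁ T f where
  CQ := by
    intro g hg
    apply hself
    rw [mem_centralizer_iff]
    exact fun a ha => (hg a ha).symm
  syl := hsyl
  trv := by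
    classical
    intro t ht htt htN c hc hc1 hact ⟨a₀, ha₀, hmov⟩
    have hcc : c * c = 1 := h.sq1 c hc
    have cb : ∀ a ∈ Q₁, ¬ (t * a = a * t) → cj t a = a * c := by
      intro a ha hne
      rcases hact a ha with h1 | h1
      · exact absurd (cj_eq_self.1 h1) hne
      · exact h1
    have ha₀' : ¬ (t * a₀ = a₀ * t) := fun h1 => hmov (cj_eq_self.2 h1)
    have htc : t * c = c * t := by
      by_contra hne
      have h1 := cb c hc hne
      rw [hcc] at h1
      have h3 : cj t c = cj t 1 := by rw [h1]; simp [cj]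
      exact hc1 (cj_inj h3)
    have htQ : t ∉ Q₁ := fun h1 => ha₀' (h.comm1 h1 ha₀)
    -- the elementary abelian group `C_Q(t) ⟨t⟩`
    let C : Subgroup G := Q₁ ⊓ centralizer {t}
    have memC : ∀ a, a ∈ C ↔ a ∈ Q₁ ∧ t * a = a * t := by
      intro a
      change a ∈ Q₁ ⊓ centralizer {t} ↔ _
      rw [mem_inf, mem_centralizer_iff]
      simp
    let E : Subgroup G :=
      { carrier := {x | ∃ a ∈ C, x = a ∨ x = a * t}
        one_mem' := ⟨1, C.one_mem, Or.inl rfl⟩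
        mul_mem' := by
          rintro x y ⟨a, ha, hx⟩ ⟨b, hb, hy⟩
          have hbt := ((memC b).1 hb).2
          rcases hx with rfl | rfl <;> rcases hy with rfl | rfl
          · exact ⟨x * y, C.mul_mem ha hb, Or.inl rfl⟩
          · exact ⟨x * b, C.mul_mem ha hb, Or.inr (by rw [mul_assoc])⟩
          · exact ⟨a * y, C.mul_mem ha hb, Or.inr (by rw [mul_assoc, hbt, mul_assoc])⟩
          · refine ⟨a * b, C.mul_mem ha hb, Or.inl ?_⟩
            calc a * t * (b * t) = a * (t * b) * t := by group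
              _ = a * b * (t * t) := by rw [hbt]; group
              _ = a * b := by rw [htt, mul_one]
        inv_mem' := by
          rintro x ⟨a, ha, hx⟩
          have hat := ((memC a).1 ha).2
          have hai : a⁻¹ = a := inv_eq_of_mul_eq_one_left (h.sq1 a ((memC a).1 ha).1)
          have hti : t⁻¹ = t := inv_eq_of_mul_eq_one_left htt
          rcases hx with rfl | rfl
          · exact ⟨x, ha, Or.inl hai⟩
          · refine ⟨a, ha, Or.inr ?_⟩
            rw [mul_inv_rev, hai, hti, hat] }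
    have memE : ∀ x, x ∈ E ↔ ∃ a ∈ C, x = a ∨ x = a * t := fun x => Iff.rfl
    have hET : E ≤ T := by
      rintro x ⟨a, ha, rfl | rfl⟩
      · exact QT ((memC _).1 ha).1
      · exact T.mul_mem (QT ((memC a).1 ha).1) ht
    have hEsq : ∀ x ∈ E, x * x = 1 := by
      rintro x ⟨a, ha, rfl | rfl⟩
      · exact h.sq1 _ ((memC _).1 ha).1
      · obtain ⟨haQ, hat⟩ := (memC a).1 ha
        calc a * t * (a * t) = a * (t * a) * t := by group
          _ = (a * a) * (t * t) := by rw [hat]; group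
          _ = 1 := by rw [h.sq1 a haQ, htt, one_mul]
    -- `a * a₀ ∈ C` for `a ∉ C`
    have hprod : ∀ a ∈ Q₁, a ∉ C → a * a₀ ∈ C := by
      intro a ha haC
      refine (memC _).2 ⟨Q₁.mul_mem ha ha₀, ?_⟩
      have hna : ¬ (t * a = a * t) := fun h1 => haC ((memC a).2 ⟨ha, h1⟩)
      apply cj_eq_self.1
      rw [cj_prod, cb a ha hna, cb a₀ ha₀ ha₀']
      calc a * c * (a₀ * c) = a * (c * a₀) * c := by group
        _ = a * a₀ * (c * c) := by rw [h.comm1 hc ha₀]; group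
        _ = a * a₀ := by rw [hcc, mul_one]
    have hcard : Nat.card Q₁ ≤ Nat.card E := by
      let φ : Q₁ → E := fun a =>
        if hC : (a : G) ∈ C then ⟨a, (memE _).2 ⟨a, hC, Or.inl rfl⟩⟩
        else ⟨a * a₀ * t, (memE _).2 ⟨a * a₀, hprod a a.2 hC, Or.inr rfl⟩⟩
      apply Nat.card_le_card_of_injective φ
      intro a b hab
      by_cases h1 : (a : G) ∈ C <;> by_cases h3 : (b : G) ∈ C
      · simp only [φ, dif_pos h1, dif_pos h3] at hab
        exact Subtype.ext (congrArg (fun x : E => (x : G)) hab)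
      · exfalso
        simp only [φ, dif_pos h1, dif_neg h3] at hab
        have h4 : (a : G) = b * a₀ * t := congrArg Subtype.val hab
        apply htQ
        have h5 : t = (b * a₀)⁻¹ * a := by rw [h4]; group
        rw [h5]
        exact Q₁.mul_mem (Q₁.inv_mem (Q₁.mul_mem b.2 ha₀)) a.2
      · exfalso
        simp only [φ, dif_neg h1, dif_pos h3] at hab
        have h4 : (a : G) * a₀ * t = b := congrArg Subtype.val hab
        apply htQ
        have h5 : t = (a * a₀)⁻¹ * b := by rw [← h4]; group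
        rw [h5]
        exact Q₁.mul_mem (Q₁.inv_mem (Q₁.mul_mem a.2 ha₀)) b.2
      · simp only [φ, dif_neg h1, dif_neg h3] at hab
        have h4 : (a : G) * a₀ * t = b * a₀ * t := congrArg Subtype.val hab
        exact Subtype.ext (mul_right_cancel (mul_right_cancel h4))
    have htB : t ∈ B := hAA E hET hEsq hcard ((memE t).2 ⟨1, C.one_mem, Or.inr (one_mul t).symm⟩)
    -- the moved generator
    have hex : ∃ l, cj t (e l) ≠ e l := by
      by_contra hno
      push Not at hno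
      let W : Subgroup G :=
        { carrier := {a | cj t a = a}
          one_mem' := by change cj t 1 = 1; simp [cj]
          mul_mem' := by
            intro a b (ha : cj t a = a) (hb : cj t b = b)
            change cj t (a * b) = a * b
            rw [cj_prod, ha, hb]
          inv_mem' := by
            intro a (ha : cj t a = a)
            change cj t a⁻¹ = a⁻¹
            rw [cj_inv, ha] }
      have hW : Q₁ ≤ W := h.gen1 W hno fun z hz => cj_eq_self.2 (h.Dc z hz t htB).symm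
      exact hmov (hW ha₀)
    obtain ⟨l, hl⟩ := hex
    have hl1 : cj t (e l) = d l * e l := (h.diche l htB).resolve_left hl
    have hcl : c = d l := by
      have h1 : cj t (e l) = e l * c := (hact _ (h.eQ l)).resolve_left hl
      rw [hl1, h.dc l (h.eB l)] at h1
      exact (mul_left_cancel h1).symm
    refine ⟨l, ?_⟩
    let W : Subgroup G :=
      { carrier := {a | cj t a = cj (f l) a}
        one_mem' := by change cj t 1 = cj (f l) 1; simp [cj]
        mul_mem' := by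
          intro a b (ha : cj t a = cj (f l) a) (hb : cj t b = cj (f l) b)
          change cj t (a * b) = cj (f l) (a * b)
          rw [cj_prod, cj_prod, ha, hb]
        inv_mem' := by
          intro a (ha : cj t a = cj (f l) a)
          change cj t a⁻¹ = cj (f l) a⁻¹
          rw [cj_inv, cj_inv, ha] }
    have hW : Q₁ ≤ W := by
      refine h.gen1 W (fun k => ?_) fun z hz => ?_
      · change cj t (e k) = cj (f l) (e k)
        by_cases hkl : k = l
        · subst hkl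
          rw [hl1]
          have h1 := h.fe k
          have h3 : cj (f k) (e k) = f k * e k * (f k)⁻¹ := rfl
          rw [h3, h1]; group
        · have h1 : cj (f l) (e k) = e k := cj_eq_self.2 (h.fec k l hkl)
          rw [h1]
          rcases h.diche k htB with h3 | h3
          · exact h3
          · exfalso
            rcases hact _ (h.eQ k) with h4 | h4
            · have h5 : d k * e k = e k := h3.symm.trans h4
              exact h.dne k (by simpa using h5)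
            · have h5 : d k * e k = e k * c := h3.symm.trans h4
              rw [h.dc k (h.eB k)] at h5
              have h6 := mul_left_cancel h5
              rw [hcl] at h6
              exact hkl (h.dinj h6)
      · change cj t z = cj (f l) z
        rw [cj_eq_self.2 (h.Dc z hz t htB).symm, cj_eq_self.2 (h.Dc z hz _ (h.fB l)).symm]
    exact fun a ha => hW ha

/-! ### `Sym` and `Anti` -/

section sym

variable (h : MIn A T B Z P s L Q V D)

include h

theorem normB {x : G} (i₀ : ι) [Finite G] (hx : x ∈ A) : x ∈ normalizer (B : Set G) :=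
  mem_norm_of fun _ hy => (h.dat i₀).cjB hx hy

theorem normZ {x : G} (i₀ : ι) [Finite G] (hx : x ∈ A) : x ∈ normalizer (Z : Set G) :=
  mem_norm_of fun _ hy => (h.dat i₀).cjZ hx hy

/-- the action of `x ∈ T` on the blocks of the first side -/
theorem half1 [Finite ι] [Finite G] (i₀ : ι)
    (h2 : ∀ i, Small Z (V i)) (c : Ch B Z s L V D m d e r)
    (hw : Tw B P (Dm P s) Z e (ff s e m) d r (ff s r m)) (hL : Loc P T (ff s e m)) {x : G}
    (hx : x ∈ T) : ∃ p : ι → ι, Half Z d e r e r x p ∧ ∀ k, cj x (d k) = d (p k) := by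
  choose p hpV hpD using h.perm x hx
  have hxA : x ∈ A := h.TA i₀ hx
  have hd : ∀ k, cj x (d k) = d (p k) := by
    intro k
    rcases (c.bd (p k)).Deq _ (hpD k _ (c.bd k).dD) with h1 | h1
    · exfalso
      apply (c.bd k).blk.dne
      have h3 : cj x (d k) = cj x 1 := by
        have : cj x 1 = (1 : G) := by simp [cj]
        rw [this]; exact h1
      exact cj_inj h3
    · exact h1
  have he : ∀ k, ∃ z ∈ Z, cj x (e k) = e (p k) * z := by
    intro k
    have h1 : cj x (e k) ∈ V (p k) := hpV k _ (c.bd k).eV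
    have h3 : cj x (e k) ∉ Z := by
      intro h4
      apply (c.bd k).eZ
      have h5 := (h.dat i₀).cjZ (A.inv_mem hxA) h4
      rwa [cj_inv_cj] at h5
    rcases V_split (h2 (p k)) (h.dat (p k)).Vsq (c.bd (p k)).eV (c.bd (p k)).eZ h1 with h4 | h4
    · exact absurd h4 h3
    · exact h4
  refine ⟨p, ⟨he, fun k => ?_⟩, hd⟩
  obtain ⟨z, hz, h1⟩ := he k
  -- the inverse relations
  have hi : cj x⁻¹ (e (p k)) = e k * cj x⁻¹ z⁻¹ := by
    have h3 : e (p k) = cj x (e k) * z⁻¹ := by rw [h1]; group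
    rw [h3, cj_prod, cj_inv_cj]
  have hdi : cj x⁻¹ (d (p k)) = d k := by rw [← hd k, cj_inv_cj]
  have hzi : cj x⁻¹ z⁻¹ ∈ Z := (h.dat i₀).cjZ (A.inv_mem hxA) (Z.inv_mem hz)
  have hBl := TwistLoc.Bl.of (l := p k) hw (normB h i₀ (A.inv_mem hxA))
    (normZ h i₀ (A.inv_mem hxA)) (c.bd k).blk hzi hi hdi
  rw [inv_inv] at hBl
  exact TwistLoc.xr_of hw hL hBl

/-- `x ∈ T` as a symmetry of both sides -/
theorem sym_of [Finite ι] [Finite G] (i₀ : ι)
    (h2 : ∀ i, Small Z (V i)) (c : Ch B Z s L V D m d e r)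
    (hw : Tw B P (Dm P s) Z e (ff s e m) d r (ff s r m)) (hL : Loc P T (ff s e m)) {x : G}
    (hx : x ∈ T) : ∃ p : ι → ι, Sym B Z e (ff s e m) d r (ff s r m) x p ∧
      ∀ k, cj x (d k) = d (p k) := by
  obtain ⟨p, hp, hpd⟩ := half1 h i₀ h2 c hw hL hx
  have hxA : x ∈ A := h.TA i₀ hx
  have hsA := h.sA
  have hx' : cj s⁻¹ x ∈ T := by
    by_contra hno
    have h1 := (h.dat i₀).idx s hsA (x * s) (A.mul_mem hxA hsA) h.sT (by
      intro h3
      apply h.sT
      have h4 : s = x⁻¹ * (x * s) := by group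
      rw [h4]
      exact T.mul_mem (T.inv_mem hx) h3)
    apply hno
    have e1 : cj s⁻¹ x = s⁻¹ * (x * s) := by simp [cj, mul_assoc]
    rw [e1]; exact h1
  obtain ⟨p', hp', hpd'⟩ := half1 h i₀ h2 c hw hL hx'
  have hact : ∀ a : G, cj x (cj s a) = cj s (cj (cj s⁻¹ x) a) := by
    intro a; simp [cj, mul_assoc]
  -- matching of the permutations
  have hm : ∀ k, p' (m k) = m (p k) := by
    intro k
    obtain ⟨k', hk'⟩ := m_surj h c (p' (m k))
    have h1 : d (p k) = d k' := by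
      rw [← hpd k]
      nth_rw 1 [← s_d h c k]
      rw [hact, hpd', ← hk', s_d h c k']
    rw [← hk', d_inj h c h1]
  refine ⟨p, ⟨normB h i₀ hxA, normZ h i₀ hxA, hp, ⟨fun k => ?_, fun k => ?_⟩⟩, hpd⟩
  · obtain ⟨z, hz, h1⟩ := hp'.xe (m k)
    refine ⟨cj s z, (h.dat i₀).cjZ hsA hz, ?_⟩
    change cj x (cj s (e (m k))) = cj s (e (m (p k))) * cj s z
    rw [hact, ← cj_prod, ← hm k]
    exact congrArg (cj s) h1
  · obtain ⟨v, hv, h1⟩ := hp'.xr (m k)
    rw [hm k] at hv h1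
    refine ⟨cj s v, ?_, ?_⟩
    · have h3 := InV_cj s hv
      rw [s_d h c (p k)] at h3
      exact h3
    · rcases h1 with h1 | h1
      · left
        change cj x (cj s (r (m k))) = cj s (r (m (p k))) * cj s v
        rw [hact, ← cj_prod]
        exact congrArg (cj s) h1
      · right
        change cj x (cj s (r (m k))) = (cj s (r (m (p k))))⁻¹ * cj s v
        rw [hact, ← cj_inv, ← cj_prod]
        exact congrArg (cj s) h1

/-- `s` exchanges the sides -/
theorem anti_of [Finite ι] [Finite G] (i₀ : ι)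
    (h2 : ∀ i, Small Z (V i)) (c : Ch B Z s L V D m d e r)
    (hw : Tw B P (Dm P s) Z e (ff s e m) d r (ff s r m)) (hL : Loc P T (ff s e m)) :
    ∃ p : ι → ι, Anti B Z e (ff s e m) d r (ff s r m) s p := by
  choose p hpm using fun k => m_surj h c k
  have hsA := h.sA
  have hss : s * s ∈ T := by
    have h1 := (h.dat i₀).idx s⁻¹ (A.inv_mem hsA) s hsA (fun h3 => h.sT (by
      simpa using T.inv_mem h3)) h.sT
    rwa [inv_inv] at h1
  obtain ⟨q, hq, hqd⟩ := half1 h i₀ h2 c hw hL hss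
  have hmul : ∀ a : G, cj s (cj s a) = cj (s * s) a := by
    intro a; rw [cj_mul]
  have hqm : ∀ k, q (m k) = p k := by
    intro k
    apply d_inj h c
    rw [← hqd, ← hmul, s_d h c k]
    nth_rw 1 [← hpm k]
    rw [s_d h c (p k)]
  refine ⟨p, ⟨normB h i₀ hsA, normZ h i₀ hsA, ⟨fun k => ?_, fun k => ?_⟩,
    ⟨fun k => ?_, fun k => ?_⟩⟩⟩
  · refine ⟨1, Z.one_mem, ?_⟩
    change cj s (e k) = cj s (e (m (p k))) * 1
    rw [hpm, mul_one]
  · refine ⟨1, Or.inl rfl, Or.inl ?_⟩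
    change cj s (r k) = cj s (r (m (p k))) * 1
    rw [hpm, mul_one]
  · obtain ⟨z, hz, h1⟩ := hq.xe (m k)
    refine ⟨z, hz, ?_⟩
    change cj s (cj s (e (m k))) = e (p k) * z
    rw [hmul, ← hqm]
    exact h1
  · obtain ⟨v, hv, h1⟩ := hq.xr (m k)
    rw [hqm] at hv h1
    refine ⟨v, hv, ?_⟩
    rcases h1 with h1 | h1
    · left
      change cj s (cj s (r (m k))) = r (p k) * v
      rw [hmul]
      exact h1
    · right
      change cj s (cj s (r (m k))) = (r (p k))⁻¹ * v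
      rw [hmul]
      exact h1

/-- **The structure `Hom`.** -/
theorem hom_of [Finite ι] [Finite G] (i₀ : ι)
    (hZ : ∀ x ∈ B, x * x = 1 → (∀ b ∈ B, x * b = b * x) → x ∈ Z)
    (h2 : ∀ i, Small Z (V i)) (c : Ch B Z s L V D m d e r) (hL : Loc P T (ff s e m)) :
    Hom B P (Dm P s) Z e (ff s e m) d r (ff s r m) where
  toTw := tw_of h i₀ hZ h2 c
  sym := by
    intro i i'
    obtain ⟨x, hx, h1⟩ := h.trans i i'
    obtain ⟨p, hp, hpd⟩ := sym_of h i₀ h2 c (tw_of h i₀ hZ h2 c) hL hx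
    refine ⟨x, p, hp, ?_⟩
    apply d_inj h c
    rw [← hpd]
    rcases (c.bd i').Deq _ (h1 _ (c.bd i).dD) with h3 | h3
    · exfalso
      apply (c.bd i).blk.dne
      have h4 : cj x (d i) = cj x 1 := by
        have : cj x 1 = (1 : G) := by simp [cj]
        rw [this]; exact h3
      exact cj_inj h4
    · exact h3
  anti := by
    obtain ⟨p, hp⟩ := anti_of h i₀ h2 c (tw_of h i₀ hZ h2 c) hL
    exact ⟨s, p, hp⟩

end sym

end Cfsg.Agent.Omega.SQ1.TwistOf

end

section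


/-!
# SQ1: there is only one block, all `q` (L6 + L7)

`one_block_two` : `q = 2` (twisted Killing Lemma, #11855); `one_block_all` : all `q`.
-/

set_option autoImplicit false

namespace Cfsg.Agent.Omega.SQ1.KillTwo

open Cfsg.Agent.MinSimple.PushUp Cfsg.Agent.Omega.PushUp Cfsg.Agent.Omega.SQ1.Match
open Cfsg.Agent.Omega.SQ1.BlockO Cfsg.Agent.Omega.SQ1.Block Subgroup
open Cfsg.Agent.Omega.SQ1.Kill (bh mem_bh)
open Cfsg.Agent.Omega.SQ1.TwistBlk (Small)
open Cfsg.Agent.Omega.SQ1.TwistOf (Ch ff exists_ch tw_of loc_of hom_of)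
open scoped Pointwise

variable {G : Type*} [Group G] {ι : Type*}
variable {A T B Z P : Subgroup G} {s : G} {L Q V D : ι → Subgroup G}

/-- the two blocks -/
def XX (s : G) (L : ι → Subgroup G) (i j : ι) (b : Bool) : Subgroup G :=
  if b then O2 (L i) else Dm (O2 (L j)) s

/-- the two elementary abelian groups -/
def QQ (s : G) (P : Subgroup G) (b : Bool) : Subgroup G := if b then P else Dm P s

/-- **There are no two blocks**, provided that the splitting `tw` holds. -/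
theorem one_block_of_tw [Finite G] [Finite ι] (hG : Kill.CharTwo G)
    (h : MIn A T B Z P s L Q V D)
    (hZ : ∀ x ∈ B, x * x = 1 → (∀ b ∈ B, x * b = b * x) → x ∈ Z)
    (hB2 : IsPGroup 2 B) (hJC : JCond B Z P) {i i' : ι} (hii : i ≠ i') {j : ι} (hp : Par s V i j)
    (htw : ∀ x ∈ normalizer (B : Set G), (∀ c ∈ bh B (XX s L i j), x * c = c * x) →
      (∀ b ∈ B, x * b * x⁻¹ * b⁻¹ ∈ bh B (XX s L i j)) → ∀ t, x ∈ normalizer (QQ s P t : Set G)) :
    False := by
  obtain ⟨j', hp'⟩ := h.par_exists i'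
  have hjj : j ≠ j' := fun hj => hii (h.par_inj hp (hj ▸ hp'))
  have hPB := P_le_B h
  set X : Bool → Subgroup G := XX s L i j with hXdef
  set Qf : Bool → Subgroup G := QQ s P with hQdef
  have hXt : X true = O2 (L i) := rfl
  have hXf : X false = Dm (O2 (L j)) s := rfl
  have hQt : Qf true = P := rfl
  have hQf : Qf false = Dm P s := rfl
  have hBP : B ≤ normalizer (P : Set G) := fun b hb =>
    mem_norm_of fun y hy => h.LP i b ((h.dat i).BL hb) y hy
  have hLP : ∀ k, L k ≤ normalizer (P : Set G) := fun k l hl =>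
    mem_norm_of fun y hy => h.LP k l hl y hy
  have hBPs : B ≤ normalizer ((Dm P s : Subgroup G) : Set G) := fun b hb =>
    norm_Dm' (hBP (h.cjsB' i hb))
  -- `D i' ≤ Bh`
  have hDB : D i' ≤ bh B X := by
    intro d hd
    rw [mem_bh]
    refine ⟨(h.dat i').VB ((h.dat i').DV hd), fun b x hx => ?_⟩
    cases b with
    | true => exact h.cross i' i hii.symm x (O2_le _ hx) d hd
    | false =>
      have h1 : cj s⁻¹ x ∈ L j := O2_le _ (mem_Dm.1 hx)
      have h2 : cj s⁻¹ d ∈ D j' := h.par_D' hp' hd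
      have h3 := h.cross j' j hjj.symm _ h1 _ h2
      have h4 := (cj_comm (g := s)).2 h3
      rwa [cj_cj_inv, cj_cj_inv] at h4
  have hbne : bh B X ≠ ⊥ := by
    intro hbot
    obtain ⟨d, hd, hd1⟩ := (h.dat i').exists_ne
    apply hd1
    have := hDB hd
    rw [hbot] at this
    simpa using this
  have hbh2 : IsPGroup 2 (bh B X) := hB2.to_le inf_le_left
  obtain ⟨R, hR2, hRN, hNR, hbR, hcR⟩ := hG _ hbne hbh2
  -- the blocks normalise `Bh`
  have hXbh : ∀ b, X b ≤ normalizer (bh B X : Set G) := by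
    intro b x hx
    apply mem_norm_of
    intro c hc
    have h1 := (mem_bh.1 hc).2 b x hx
    rw [h1, mul_assoc, mul_inv_cancel, mul_one]; exact hc
  have hBX : ∀ b, ∀ c ∈ B, ∀ x ∈ X b, cj c x ∈ X b := by
    intro b c hc x hx
    cases b with
    | true => exact O2_norm ((h.dat i).BL hc) hx
    | false => exact Dm_O2_norm h hc hx
  have hBbh : B ≤ normalizer (bh B X : Set G) := by
    intro b hb
    apply mem_norm_of
    intro c hc
    obtain ⟨h1, h2⟩ := mem_bh.1 hc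
    refine mem_bh.2 ⟨mul_mem (mul_mem hb h1) (inv_mem hb), fun t x hx => ?_⟩
    have h3 := h2 t _ (hBX t b⁻¹ (inv_mem hb) x hx)
    have h4 := (cj_comm (g := b)).2 h3
    rwa [cj_cj_inv] at h4
  -- the local structure
  have hJC' : ∀ R : Subgroup G, IsPGroup 2 R → B ≤ R → R ≤ normalizer (P : Set G) →
      R ≤ normalizer (B : Set G) := fun R h1 h2 h3 => (hJC R h1 h2 h3).1
  have hDs : ∀ d ∈ D i, cj s⁻¹ d ∈ D j := fun d hd => h.par_D' hp hd
  have data : Kill.Data B R Qf (fun _ => D i) X := by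
    refine ⟨hB2, ?_, ?_, hBbh, hR2, hRN, hNR, hbR, hcR, ?_, ?_, ?_, htw⟩
    · intro t
      cases t with
      | true => exact hBP
      | false => exact hBPs
    · intro t
      cases t with
      | true => exact (O2_le _).trans (hLP i)
      | false =>
        intro x hx
        exact norm_Dm' (hLP j (O2_le _ (mem_Dm.1 hx)))
    · -- loc
      intro t F hF2 hFN hXF hBF
      cases t with
      | true =>
        have hT : Two B P (L i) F := ⟨hF2, hFN, fun y hy r hr => norm_cj (hXF hy) hr,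
          fun b hb r hr => norm_cj (hBF hb) hr⟩
        exact loc h hZ hB2 hJC' hT hp
      | false =>
        have hT : Two B P (L j) (Dm F s⁻¹) := by
          refine ⟨hF2.map _, ?_, ?_, ?_⟩
          · intro x hx
            rw [mem_Dm, inv_inv] at hx
            have h1 := norm_Dm (g := s⁻¹) (hFN hx)
            rw [cj_inv_cj] at h1
            have e : Dm (Qf false) s⁻¹ = P := Dm_inv_Dm s P
            rwa [e] at h1
          · intro y hy r hr
            rw [mem_Dm, inv_inv] at hr ⊢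
            have e : cj s (cj y r) = cj (cj s y) (cj s r) := by simp [cj, mul_assoc]
            rw [e]
            exact norm_cj (hXF (show cj s y ∈ Dm (O2 (L j)) s from cj_mem_Dm hy)) hr
          · intro b hb r hr
            rw [mem_Dm, inv_inv] at hr ⊢
            have e : cj s (cj b r) = cj (cj s b) (cj s r) := by simp [cj, mul_assoc]
            rw [e]
            exact norm_cj (hBF (h.cjsB i hb)) hr
        rcases loc h.inv hZ hB2 hJC' hT (MIn.par_symm hp) with h1 | h1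
        · left
          intro x hx f hf
          have h2 := h1 _ (mem_Dm.1 hx) (cj s⁻¹ f) (by rw [mem_Dm, inv_inv, cj_cj_inv]; exact hf)
          have h3 := (cj_comm (g := s)).2 h2
          rwa [cj_cj_inv, cj_cj_inv] at h3
        · right
          intro d hd
          have h2 := h1 (hDs d hd)
          rwa [mem_Dm, inv_inv, cj_cj_inv] at h2
    · -- kick
      intro _ hDR
      have hT : Two B P (L i) (R ⊓ normalizer (P : Set G)) := by
        refine ⟨hR2.to_le inf_le_left, inf_le_right, ?_, ?_⟩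
        · intro y hy r hr
          have hyP : y ∈ normalizer (P : Set G) := hLP i (O2_le _ hy)
          have h1 : cj y r ∈ normalizer (P : Set G) :=
            mul_mem (mul_mem hyP (mem_inf.1 hr).2) (inv_mem hyP)
          exact mem_inf.2 ⟨norm_cj (hNR (hXbh true hy)) (mem_inf.1 hr).1, h1⟩
        · intro b hb r hr
          have h1 : cj b r ∈ normalizer (P : Set G) :=
            mul_mem (mul_mem (hBP hb) (mem_inf.1 hr).2) (inv_mem (hBP hb))
          exact mem_inf.2 ⟨norm_cj (hNR (hBbh hb)) (mem_inf.1 hr).1, h1⟩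
      obtain ⟨y, hy, d, hd, hdZ⟩ := O2_moves h (i := j)
      apply hdZ
      have h1 : cj s (cj y d) ∈ R := by
        have e : cj s (cj y d) = cj (cj s y) (cj s d) := by simp [cj, mul_assoc]
        rw [e]
        exact norm_cj (hNR (hXbh false (show cj s y ∈ Dm (O2 (L j)) s from cj_mem_Dm hy)))
          (hDR (h.par_D hp hd))
      have hyd : cj y d ∈ V j := (h.dat j).cjV (O2_le _ hy) ((h.dat j).DV hd)
      have h2 : cj s (cj y d) ∈ Dm (V j) s := cj_mem_Dm hyd
      have h3 : cj s (cj y d) ∈ B := V'_le_B h j h2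
      have h4 : cj s (cj y d) ∈ Q i := R_cap h hZ hB2 hJC' hT ⟨h1, hBP h3⟩ h3
      have h5 := V'_cap h hp h2 fun v hv => (h.dat i).VcQ _ h4 v hv
      have h6 := (h.dat i).cjZ (A.inv_mem h.sA) h5
      rwa [cj_inv_cj] at h6
    · -- grow
      intro P' hP' hBP' _ hPQ
      exact (hJC P' hP' hBP' (hPQ true)).2.1
  obtain ⟨x, hx, hodd, hx1⟩ := exists_odd h i
  exact data.false true (mem_O2 hx hodd) (pow_orderOf_eq_one x) hodd hx1

/-- **There are no two blocks** (`q = 2`). -/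
theorem one_block_two [Finite G] [Finite ι] (hG : Kill.CharTwo G) (h : MIn A T B Z P s L Q V D)
    (hZ : ∀ x ∈ B, x * x = 1 → (∀ b ∈ B, x * b = b * x) → x ∈ Z)
    (hB2 : IsPGroup 2 B) (hself : centralizer (P : Set G) ≤ P) (hJC : JCond B Z P)
    (h2 : ∀ i, Small Z (V i))
    (hsyl : ∀ R : Subgroup G, IsPGroup 2 R → R ≤ normalizer (P : Set G) →
      ∃ g ∈ normalizer (P : Set G), ∀ a ∈ R, g * a * g⁻¹ ∈ T)
    (hAA : ∀ E : Subgroup G, E ≤ T → (∀ x ∈ E, x * x = 1) → Nat.card P ≤ Nat.card E → E ≤ B)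
    {i i' : ι} (hii : i ≠ i') : False := by
  obtain ⟨m, d, e, r, c⟩ := exists_ch h hB2 hself h2
  have hw := tw_of h i hZ h2 c
  have hPT : P ≤ T := (P_le_B h).trans (h.dat i).BT
  have hL := loc_of hw hPT hself hsyl hAA
  have hH := hom_of h i hZ h2 c hL
  refine one_block_of_tw hG h hZ hB2 hJC hii (c.par i) ?_
  intro x hx hxc hxb
  have hmain : x ∈ normalizer (P : Set G) ∧ x ∈ normalizer ((Dm P s : Subgroup G) : Set G) := by
    refine Twist.tw hH hL (i := i) hx ?_ ?_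
    · intro b hb h1 h3
      apply hxc
      rw [mem_bh]
      refine ⟨hb, fun t y hy => ?_⟩
      cases t with
      | true => exact (c.bd i).rB b hb h1 y hy
      | false =>
        have hy' : cj s⁻¹ y ∈ O2 (L (m i)) := mem_Dm.1 hy
        have hb' : cj s⁻¹ b ∈ B := h.cjsB' i hb
        have h4 : cj s⁻¹ b * r (m i) = r (m i) * cj s⁻¹ b := by
          have h5 := (cj_comm (g := s⁻¹)).2 h3
          rw [ff, cj_inv_cj] at h5
          exact h5
        have h6 := (c.bd (m i)).rB _ hb' h4 _ hy'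
        have h7 := (cj_comm (g := s)).2 h6
        rwa [cj_cj_inv, cj_cj_inv] at h7
    · intro b hb
      obtain ⟨-, h1⟩ := mem_bh.1 (hxb b hb)
      refine ⟨(h1 true (r i) (c.bd i).rO).symm, (h1 false (ff s r m i) ?_).symm⟩
      exact cj_mem_Dm (c.bd (m i)).rO
  intro t
  cases t with
  | true => exact hmain.1
  | false => exact hmain.2

/-- `|V i : Z| = 2` in terms of the index -/
theorem small_iff [Finite G] (h : MIn A T B Z P s L Q V D) (i : ι) :
    Small Z (V i) ↔ Z.relIndex (V i) = 2 := by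
  constructor
  · intro h2
    rw [idx_eq (h.dat i)]
    exact TwistBlk.index_two (h.dat i) h2
  · intro h2 v hv w hw hvZ hwZ
    have h3 := Subgroup.mul_mem_iff_of_index_two (H := Z.subgroupOf (V i)) h2 (a := ⟨v, hv⟩)
      (b := ⟨w, hw⟩)
    rw [mem_subgroupOf, mem_subgroupOf, mem_subgroupOf] at h3
    exact h3.2 (iff_of_false hvZ hwZ)

/-- **There are no two blocks** (all `q`). -/
theorem one_block_all [Finite G] [Finite ι] (hG : Kill.CharTwo G) (h : MIn A T B Z P s L Q V D)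
    (hZ : ∀ x ∈ B, x * x = 1 → (∀ b ∈ B, x * b = b * x) → x ∈ Z)
    (hB2 : IsPGroup 2 B) (hself : centralizer (P : Set G) ≤ P) (hJC : JCond B Z P)
    (hsyl : ∀ R : Subgroup G, IsPGroup 2 R → R ≤ normalizer (P : Set G) →
      ∃ g ∈ normalizer (P : Set G), ∀ a ∈ R, g * a * g⁻¹ ∈ T)
    (hAA : ∀ E : Subgroup G, E ≤ T → (∀ x ∈ E, x * x = 1) → Nat.card P ≤ Nat.card E → E ≤ B)
    {i i' : ι} (hii : i ≠ i') : False := by
  by_cases h2 : Small Z (V i)
  · refine one_block_two hG h hZ hB2 hself hJC (fun k => ?_) hsyl hAA hii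
    rw [small_iff h, ← idx_ij h i k]
    exact (small_iff h i).1 h2
  · refine one_block hG h hZ hB2 hself hJC (fun k => ?_) hii
    have h3 : ¬ Small Z (V k) := by
      intro h4
      apply h2
      rw [small_iff h, idx_ij h i k]
      exact (small_iff h k).1 h4
    unfold TwistBlk.Small at h3
    push Not at h3
    obtain ⟨v, hv, w, hw, hvZ, hwZ, hvw⟩ := h3
    exact ⟨v, hv, w, hw, hvZ, hwZ, hvw⟩

end Cfsg.Agent.Omega.SQ1.KillTwo

end

section


/-!
# The unique maximal 2-local case, one block, `q = 2` (SQ1, #6862 (6))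

`Hyp T Q s`: `T` is a 2-group, `Q ≤ T` is elementary abelian and normal in `T`, `C_T(Q) = Q`, `T` is a Sylow
2-subgroup of `N_G(Q)`, `s` normalises `T`, `s ^ 2 ∈ T`, `|Q : Q ∩ Q ^ s| = 2`, and the elementary abelian
subgroups of `T` of order `≥ |Q|` lie in `B = Q Q ^ s`.

This file: elementary consequences, the weak closure of `B`, the transvections induced on `Q` by the
conjugates of `B` in `N_G(Q)`.
-/

set_option autoImplicit false

namespace Cfsg.Agent.Omega.SQ1.Two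

open Subgroup Cfsg Cfsg.Agent.ZN Cfsg.Agent.ZN.ChoiceBase Cfsg.Agent.ZN.ChoiceSit
open Cfsg.Agent.MinSimple.CaseOneAP (mul_mem_of_relIndex comm_of_sq)

universe u

variable {G : Type u} [Group G]

/-- The hypotheses without the one on the elementary abelian subgroups. -/
structure Hyp0 (T Q : Subgroup G) (s : G) : Prop where
  syl : Syl T (normalizer (Q : Set G))
  QT : Q ≤ T
  sq : ∀ q ∈ Q, q * q = 1
  cent : ∀ t ∈ T, (∀ q ∈ Q, t * q = q * t) → t ∈ Q
  sT : s ∈ normalizer (T : Set G)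
  ss : s * s ∈ T
  idx : (Q ⊓ cj s Q).relIndex Q = 2

/-- See the module documentation. -/
structure Hyp (T Q : Subgroup G) (s : G) : Prop extends Hyp0 T Q s where
  jt : ∀ A : Subgroup G, A ≤ T → (∀ a ∈ A, a * a = 1) → Nat.card Q ≤ Nat.card A → A ≤ Q ⊔ cj s Q

namespace Hyp0

variable {T Q : Subgroup G} {s : G}

theorem two (h : Hyp0 T Q s) : IsPGroup 2 T := h.syl.2.1

theorem TN (h : Hyp0 T Q s) : T ≤ normalizer (Q : Set G) := h.syl.1

theorem conj (_h : Hyp0 T Q s) {g q : G} (hg : g ∈ normalizer (Q : Set G)) (hq : q ∈ Q) :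
    g * q * g⁻¹ ∈ Q := (mem_normalizer_iff.1 hg q).1 hq

theorem conj' (_h : Hyp0 T Q s) {g q : G} (hg : g ∈ normalizer (Q : Set G)) (hq : q ∈ Q) :
    g⁻¹ * q * g ∈ Q := by
  have := (mem_normalizer_iff.1 (inv_mem hg) q).1 hq
  rwa [inv_inv] at this

theorem comm (h : Hyp0 T Q s) {a b : G} (ha : a ∈ Q) (hb : b ∈ Q) : a * b = b * a :=
  comm_of_sq h.sq ha hb

theorem inv_eq (h : Hyp0 T Q s) {a : G} (ha : a ∈ Q) : a⁻¹ = a := inv_eq_of_mul_eq_one_left (h.sq a ha)

theorem sTc (h : Hyp0 T Q s) {x : G} (hx : x ∈ T) : s * x * s⁻¹ ∈ T := (mem_normalizer_iff.1 h.sT x).1 hx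

theorem sTc' (h : Hyp0 T Q s) {x : G} (hx : x ∈ T) : s⁻¹ * x * s ∈ T := by
  have := (mem_normalizer_iff.1 (inv_mem h.sT) x).1 hx
  rwa [inv_inv] at this

/-- `Q ^ s ≤ T`. -/
theorem Q'T (h : Hyp0 T Q s) : cj s Q ≤ T := by
  intro x hx
  rw [mem_cj] at hx
  have := h.sTc (h.QT hx)
  have e : s * (s⁻¹ * x * s) * s⁻¹ = x := by group
  rwa [e] at this

theorem mem' (_h : Hyp0 T Q s) {q : G} (hq : q ∈ Q) : s * q * s⁻¹ ∈ cj s Q := by
  rw [mem_cj]
  have e : s⁻¹ * (s * q * s⁻¹) * s = q := by group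
  rwa [e]

theorem ssc (h : Hyp0 T Q s) {q : G} (hq : q ∈ Q) : (s * s) * q * (s * s)⁻¹ ∈ Q := h.conj (h.TN h.ss) hq

theorem ssc' (h : Hyp0 T Q s) {q : G} (hq : q ∈ Q) : (s * s)⁻¹ * q * (s * s) ∈ Q := h.conj' (h.TN h.ss) hq

/-- `s` maps `Q ^ s` to `Q`. -/
theorem swap' (h : Hyp0 T Q s) {q : G} (hq : q ∈ cj s Q) : s * q * s⁻¹ ∈ Q := by
  rw [mem_cj] at hq
  have := h.ssc hq
  have e : s * s * (s⁻¹ * q * s) * (s * s)⁻¹ = s * q * s⁻¹ := by group
  rwa [e] at this

/-- `s⁻¹` maps `Q` to `Q ^ s`. -/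
theorem swap'' (h : Hyp0 T Q s) {q : G} (hq : q ∈ Q) : s⁻¹ * q * s ∈ cj s Q := by
  rw [mem_cj]
  have := h.ssc' hq
  have e : (s * s)⁻¹ * q * (s * s) = s⁻¹ * (s⁻¹ * q * s) * s := by group
  rwa [e] at this

/-- `T` normalises `Q ^ s`. -/
theorem TN' (h : Hyp0 T Q s) : T ≤ normalizer ((cj s Q : Subgroup G) : Set G) := by
  intro t ht
  rw [mem_normalizer_iff]
  intro x
  have h1 := h.TN (h.sTc' ht)
  rw [mem_cj, mem_cj, (mem_normalizer_iff.1 h1 (s⁻¹ * x * s))]
  have e : s⁻¹ * t * s * (s⁻¹ * x * s) * (s⁻¹ * t * s)⁻¹ = s⁻¹ * (t * x * t⁻¹) * s := by group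
  rw [e]

theorem sq' (h : Hyp0 T Q s) {q : G} (hq : q ∈ cj s Q) : q * q = 1 := by
  rw [mem_cj] at hq
  have := h.sq _ hq
  calc q * q = s * ((s⁻¹ * q * s) * (s⁻¹ * q * s)) * s⁻¹ := by group
    _ = 1 := by rw [this]; group

theorem comm' (h : Hyp0 T Q s) {a b : G} (ha : a ∈ cj s Q) (hb : b ∈ cj s Q) : a * b = b * a :=
  comm_of_sq (fun _ hq => h.sq' hq) ha hb

/-- `D = Q ∩ Q ^ s`. -/
abbrev D (_h : Hyp0 T Q s) : Subgroup G := Q ⊓ cj s Q

/-- `B = Q Q ^ s`. -/
abbrev B (_h : Hyp0 T Q s) : Subgroup G := Q ⊔ cj s Q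

theorem sD (h : Hyp0 T Q s) {x : G} (hx : x ∈ Q ⊓ cj s Q) : s * x * s⁻¹ ∈ Q ⊓ cj s Q :=
  ⟨h.swap' hx.2, h.mem' hx.1⟩

theorem sD' (h : Hyp0 T Q s) {x : G} (hx : x ∈ Q ⊓ cj s Q) : s⁻¹ * x * s ∈ Q ⊓ cj s Q :=
  ⟨mem_cj.1 hx.2, h.swap'' hx.1⟩

theorem s_notMem (h : Hyp0 T Q s) {x : G} (hx : x ∉ Q ⊓ cj s Q) : s * x * s⁻¹ ∉ Q ⊓ cj s Q := by
  intro hh
  apply hx
  have := h.sD' hh
  have e : s⁻¹ * (s * x * s⁻¹) * s = x := by group
  rwa [e] at this

theorem s_notMem' (h : Hyp0 T Q s) {x : G} (hx : x ∉ Q ⊓ cj s Q) : s⁻¹ * x * s ∉ Q ⊓ cj s Q := by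
  intro hh
  apply hx
  have := h.sD hh
  have e : s * (s⁻¹ * x * s) * s⁻¹ = x := by group
  rwa [e] at this

theorem mulD (h : Hyp0 T Q s) {a b : G} (ha : a ∈ Q) (hb : b ∈ Q) (ha' : a ∉ Q ⊓ cj s Q)
    (hb' : b ∉ Q ⊓ cj s Q) : a * b ∈ Q ⊓ cj s Q := mul_mem_of_relIndex h.idx ha hb ha' hb'

theorem mulD' (h : Hyp0 T Q s) {a b : G} (ha : a ∈ cj s Q) (hb : b ∈ cj s Q) (ha' : a ∉ Q ⊓ cj s Q)
    (hb' : b ∉ Q ⊓ cj s Q) : a * b ∈ Q ⊓ cj s Q := by
  have h1 := h.mulD (mem_cj.1 ha) (mem_cj.1 hb) (h.s_notMem' ha') (h.s_notMem' hb')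
  have h2 := h.sD h1
  have e : s * (s⁻¹ * a * s * (s⁻¹ * b * s)) * s⁻¹ = a * b := by group
  rwa [e] at h2

theorem exists_a (h : Hyp0 T Q s) : ∃ a ∈ Q, a ∉ Q ⊓ cj s Q := by
  obtain ⟨c, hc, h1, -⟩ := relIndex_eq_two_iff_exists_notMem_and.1 h.idx
  exact ⟨c, hc, h1⟩

/-- Elements of `T` commuting with `D` and an element of `Q \ D` lie in `Q`. -/
theorem cent_of (h : Hyp0 T Q s) {t a : G} (ht : t ∈ T) (ha : a ∈ Q) (ha' : a ∉ Q ⊓ cj s Q)
    (hD : ∀ d ∈ Q ⊓ cj s Q, t * d = d * t) (hta : t * a = a * t) : t ∈ Q := by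
  refine h.cent t ht fun q hq => ?_
  by_cases hqD : q ∈ Q ⊓ cj s Q
  · exact hD q hqD
  · have h1 := hD _ (h.mulD ha hq ha' hqD)
    have h2 : t * (a * q) = a * (t * q) := by rw [← mul_assoc, hta, mul_assoc]
    have h3 : a * (t * q) = a * (q * t) := by rw [← h2, h1, mul_assoc]
    exact mul_left_cancel h3

/-- An element of `Q ^ s \ D` and an element of `Q \ D` do not commute. -/
theorem ncomm (h : Hyp0 T Q s) {a b : G} (ha : a ∈ Q) (ha' : a ∉ Q ⊓ cj s Q) (hb : b ∈ cj s Q)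
    (hb' : b ∉ Q ⊓ cj s Q) : b * a ≠ a * b := by
  intro hh
  exact hb' ⟨h.cent_of (h.Q'T hb) ha ha' (fun d hd => h.comm' hb hd.2) hh, hb⟩

/-- The commutator of `a` and `b` lies in `D`. -/
theorem z_mem (h : Hyp0 T Q s) {a b : G} (ha : a ∈ Q) (hb : b ∈ cj s Q) :
    a * b * a * b ∈ Q ⊓ cj s Q := by
  have h1 : a * b * a⁻¹ ∈ cj s Q := (mem_normalizer_iff.1 (h.TN' (h.QT ha)) b).1 hb
  have h2 : b * a * b⁻¹ ∈ Q := h.conj (h.TN (h.Q'T hb)) ha
  have ea : a⁻¹ = a := h.inv_eq ha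
  have eb : b⁻¹ = b := inv_eq_of_mul_eq_one_left (h.sq' hb)
  rw [ea] at h1
  rw [eb] at h2
  refine ⟨?_, mul_mem h1 hb⟩
  have e : a * b * a * b = a * (b * a * b) := by group
  rw [e]
  exact mul_mem ha h2

/-- The commutator of an element of `Q \ D` and one of `Q ^ s \ D` does not depend on the elements. -/
theorem z_eq (h : Hyp0 T Q s) {a b a' b' : G} (ha : a ∈ Q) (ha1 : a ∉ Q ⊓ cj s Q) (hb : b ∈ cj s Q)
    (hb1 : b ∉ Q ⊓ cj s Q) (ha' : a' ∈ Q) (ha1' : a' ∉ Q ⊓ cj s Q) (hb' : b' ∈ cj s Q)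
    (hb1' : b' ∉ Q ⊓ cj s Q) : a' * b' * a' * b' = a * b * a * b := by
  obtain ⟨d, hd, rfl⟩ : ∃ d ∈ Q ⊓ cj s Q, a' = a * d := by
    refine ⟨a * a', h.mulD ha ha' ha1 ha1', ?_⟩
    rw [← mul_assoc, h.sq a ha, one_mul]
  obtain ⟨e, he, rfl⟩ : ∃ e ∈ Q ⊓ cj s Q, b' = b * e := by
    refine ⟨b * b', h.mulD' hb hb' hb1 hb1', ?_⟩
    rw [← mul_assoc, h.sq' hb, one_mul]
  have c1 : d * b = b * d := h.comm' hd.2 hb
  have c2 : e * a = a * e := h.comm he.1 ha
  have c3 : d * e = e * d := h.comm hd.1 he.1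
  have c4 : d * a = a * d := h.comm hd.1 ha
  have c5 : e * b = b * e := h.comm' he.2 hb
  have hdd := h.sq d hd.1
  have hee := h.sq e he.1
  calc a * d * (b * e) * (a * d) * (b * e) = a * (d * b) * (e * a) * (d * b) * e := by group
    _ = a * b * (d * a) * (e * b) * (d * e) := by rw [c1, c2]; group
    _ = a * b * a * d * b * e * (d * e) := by rw [c4, c5]; group
    _ = a * b * a * (d * b) * e * (d * e) := by group
    _ = a * b * a * b * (d * (e * e) * d) := by rw [c1, c3]; group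
    _ = a * b * a * b := by rw [hee, mul_one, hdd, mul_one]

end Hyp0

end Cfsg.Agent.Omega.SQ1.Two

end

section


/-!
# The unique maximal 2-local case, one block, `q = 2`: weak closure and transvections
-/

set_option autoImplicit false

namespace Cfsg.Agent.Omega.SQ1.Two

open Subgroup Cfsg Cfsg.Agent.ZN Cfsg.Agent.ZN.ChoiceBase Cfsg.Agent.ZN.ChoiceSit
open Cfsg.Agent.MinSimple.CaseOneAP (mul_mem_of_relIndex comm_of_sq)

universe u

variable {G : Type u} [Group G]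

namespace Hyp0

variable {T Q : Subgroup G} {s : G}

theorem BT (h : Hyp0 T Q s) : Q ⊔ cj s Q ≤ T := sup_le h.QT h.Q'T

/-- Decomposition of the elements of `B`. -/
theorem exists_mul (h : Hyp0 T Q s) {x : G} (hx : x ∈ Q ⊔ cj s Q) :
    ∃ q ∈ Q, ∃ r ∈ cj s Q, q * r = x :=
  Cfsg.Agent.OddOrderLocal.RankBasics.exists_mul_of_mem_sup (h.QT.trans h.TN') hx

/-- An element of `B \ Q` is a product of an element of `Q` and an element of `Q ^ s \ D`. -/
theorem exists_mul' (h : Hyp0 T Q s) {x : G} (hx : x ∈ Q ⊔ cj s Q) (hxQ : x ∉ Q) :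
    ∃ q ∈ Q, ∃ r ∈ cj s Q, r ∉ Q ⊓ cj s Q ∧ q * r = x := by
  obtain ⟨q, hq, r, hr, rfl⟩ := h.exists_mul hx
  exact ⟨q, hq, r, hr, fun hh => hxQ (mul_mem hq hh.1), rfl⟩

/-- Elements of `D` are centralised by `B`. -/
theorem D_comm (h : Hyp0 T Q s) {x d : G} (hx : x ∈ Q ⊔ cj s Q) (hd : d ∈ Q ⊓ cj s Q) :
    x * d = d * x := by
  obtain ⟨q, hq, r, hr, rfl⟩ := h.exists_mul hx
  have h1 : q * d = d * q := h.comm hq hd.1
  have h2 : r * d = d * r := h.comm' hr hd.2
  rw [mul_assoc, h2, ← mul_assoc, h1, mul_assoc]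

/-- The action of an element of `B \ Q` on `Q \ D`. -/
theorem act (h : Hyp0 T Q s) {a b x q : G} (ha : a ∈ Q) (ha1 : a ∉ Q ⊓ cj s Q) (hb : b ∈ cj s Q)
    (hb1 : b ∉ Q ⊓ cj s Q) (hx : x ∈ Q ⊔ cj s Q) (hxQ : x ∉ Q) (hq : q ∈ Q) (hqD : q ∉ Q ⊓ cj s Q) :
    x * q * x⁻¹ = q * (a * b * a * b) := by
  obtain ⟨y, hy, r, hr, hr1, rfl⟩ := h.exists_mul' hx hxQ
  have h1 := h.z_eq ha ha1 hb hb1 hq hqD hr hr1
  have hrr := h.sq' hr
  have er : r⁻¹ = r := inv_eq_of_mul_eq_one_left hrr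
  have ey : y⁻¹ = y := h.inv_eq hy
  have hz := h.z_mem ha hb
  have hqq := h.sq q hq
  have h2 : r * q * r = q * (a * b * a * b) := by
    rw [← h1]
    calc r * q * r = (q * q) * r * q * r := by rw [hqq, one_mul]
      _ = q * (q * r * q * r) := by group
  have h3 : y * (q * (a * b * a * b)) = q * (a * b * a * b) * y :=
    h.comm hy (mul_mem hq hz.1)
  rw [mul_inv_rev, er, ey]
  calc y * r * q * (r * y) = y * (r * q * r) * y := by group
    _ = q * (a * b * a * b) * (y * y) := by rw [h2, h3]; group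
    _ = q * (a * b * a * b) := by rw [h.sq y hy, mul_one]

theorem act_D (h : Hyp0 T Q s) {x q : G} (hx : x ∈ Q ⊔ cj s Q) (hq : q ∈ Q ⊓ cj s Q) :
    x * q * x⁻¹ = q := by rw [h.D_comm hx hq, mul_inv_cancel_right]

/-- Elements of `B` commuting with an element of `Q \ D` lie in `Q`. -/
theorem mem_Q_of_comm (h : Hyp0 T Q s) {x q : G} (hx : x ∈ Q ⊔ cj s Q) (hq : q ∈ Q)
    (hqD : q ∉ Q ⊓ cj s Q) (hc : x * q = q * x) : x ∈ Q :=
  h.cent_of (h.BT hx) hq hqD (fun _ hd => h.D_comm hx hd) hc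

theorem isPGroup_Q (h : Hyp0 T Q s) : IsPGroup 2 Q := h.two.to_le h.QT

/-- The elementary abelian subgroups of `B` lie in `Q` or in `Q ^ s`. -/
theorem le_or_le (h : Hyp0 T Q s) {A : Subgroup G} (hAB : A ≤ Q ⊔ cj s Q)
    (hA2 : ∀ a ∈ A, a * a = 1) : A ≤ Q ∨ A ≤ cj s Q := by
  by_cases hAQ : A ≤ Q
  · exact Or.inl hAQ
  · right
    obtain ⟨x, hxA, hxQ⟩ := SetLike.not_le_iff_exists.1 hAQ
    have hD : ∀ y ∈ A, y ∈ Q → y ∈ cj s Q := by
      intro y hyA hyQ
      by_contra hyn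
      exact hxQ (h.mem_Q_of_comm (hAB hxA) hyQ (fun hh => hyn hh.2) (comm_of_sq hA2 hxA hyA))
    intro y hyA
    by_cases hyQ : y ∈ Q
    · exact hD y hyA hyQ
    · obtain ⟨q, hq, r, hr, hr1, rfl⟩ := h.exists_mul' (hAB hyA) hyQ
      have h1 := hA2 _ hyA
      have h2 : q ∈ Q ⊓ cj s Q := by
        by_contra hqn
        apply h.ncomm hq hqn hr hr1
        have e1 : r⁻¹ = r := inv_eq_of_mul_eq_one_left (h.sq' hr)
        have e2 : q⁻¹ = q := h.inv_eq hq
        have h3 : q * r = (q * r)⁻¹ := eq_inv_of_mul_eq_one_left h1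
        rw [mul_inv_rev, e1, e2] at h3
        exact h3.symm
      exact mul_mem h2.2 hr

end Hyp0

namespace Hyp

variable {T Q : Subgroup G} {s : G}

/-- The elementary abelian subgroups of `T` of order `≥ |Q|`. -/
theorem eq_or_eq [Finite G] (h : Hyp T Q s) {A : Subgroup G} (hA : A ≤ T) (hA2 : ∀ a ∈ A, a * a = 1)
    (hc : Nat.card Q ≤ Nat.card A) : A = Q ∨ A = cj s Q := by
  rcases h.le_or_le (h.jt A hA hA2 hc) hA2 with h1 | h1
  · exact Or.inl (eq_of_le_of_card_ge h1 hc)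
  · exact Or.inr (eq_of_le_of_card_ge h1 (by rw [card_cj]; exact hc))

/-- Conjugates of `Q` in `T`. -/
theorem cj_Q [Finite G] (h : Hyp T Q s) {g : G} (hg : cj g Q ≤ T) : cj g Q = Q ∨ cj g Q = cj s Q := by
  refine h.eq_or_eq hg ?_ (card_cj g Q).ge
  intro a ha
  rw [mem_cj] at ha
  have := h.sq _ ha
  calc a * a = g * ((g⁻¹ * a * g) * (g⁻¹ * a * g)) * g⁻¹ := by group
    _ = 1 := by rw [this]; group

theorem cj_Q' [Finite G] (h : Hyp T Q s) {g : G} (hg : cj g (cj s Q) ≤ T) :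
    cj g (cj s Q) = Q ∨ cj g (cj s Q) = cj s Q := by
  rw [cj_cj] at hg ⊢
  exact h.cj_Q hg

theorem ne (h : Hyp T Q s) : Q ≠ cj s Q := by
  intro he
  obtain ⟨a, ha, ha'⟩ := h.exists_a
  exact ha' ⟨ha, he ▸ ha⟩

theorem cj_sup (g : G) (H K : Subgroup G) : cj g (H ⊔ K) = cj g H ⊔ cj g K := Subgroup.map_sup _ _ _

/-- `B` is weakly closed in `T`. -/
theorem cj_B [Finite G] (h : Hyp T Q s) {g : G} (hg : cj g (Q ⊔ cj s Q) ≤ T) :
    cj g (Q ⊔ cj s Q) = Q ⊔ cj s Q := by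
  rw [cj_sup] at hg
  have h1 := h.cj_Q (le_sup_left.trans hg)
  have h2 := h.cj_Q' (le_sup_right.trans hg)
  have h3 : cj g (Q ⊔ cj s Q) ≤ Q ⊔ cj s Q := by
    rw [cj_sup]
    refine sup_le ?_ ?_
    · rcases h1 with h1 | h1
      · rw [h1]; exact le_sup_left
      · rw [h1]; exact le_sup_right
    · rcases h2 with h2 | h2
      · rw [h2]; exact le_sup_left
      · rw [h2]; exact le_sup_right
  exact eq_of_le_of_card_ge h3 (card_cj g _).ge

/-- A conjugate of `B` lying with `B` in a 2-subgroup of `N_G(Q)` is equal to `B`. -/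
theorem weak [Finite G] (h : Hyp T Q s) {P : Subgroup G} (hP : IsPGroup 2 P)
    (hPN : P ≤ normalizer (Q : Set G)) (hB : Q ⊔ cj s Q ≤ P) {g : G} (hg : cj g (Q ⊔ cj s Q) ≤ P) :
    cj g (Q ⊔ cj s Q) = Q ⊔ cj s Q := by
  obtain ⟨S, hS, hPS⟩ := exists_syl hP hPN
  obtain ⟨x, -, hx⟩ := syl_conj hS h.syl
  have h1 : cj x (Q ⊔ cj s Q) ≤ T := (cj_mono x (hB.trans hPS)).trans hx.le
  have h2 : cj x (cj g (Q ⊔ cj s Q)) ≤ T := (cj_mono x (hg.trans hPS)).trans hx.le
  have h3 := h.cj_B h1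
  rw [cj_cj] at h2
  have h4 := h.cj_B h2
  rw [← cj_cj] at h4
  have h5 := congrArg (cj x⁻¹) (h4.trans h3.symm)
  rwa [cj_inv_cj, cj_inv_cj] at h5

/-- If `g ∈ N_G(Q)` normalises `B`, it normalises `Q ^ s` and `D`. -/
theorem cj_Q'_eq [Finite G] (h : Hyp T Q s) {g : G} (hg : g ∈ normalizer (Q : Set G))
    (hB : cj g (Q ⊔ cj s Q) = Q ⊔ cj s Q) : cj g (cj s Q) = cj s Q := by
  have h1 : cj g (cj s Q) ≤ T := (cj_mono g le_sup_right).trans (hB.le.trans h.BT)
  rcases h.cj_Q' h1 with h2 | h2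
  · exfalso
    apply h.ne
    have h3 := cj_eq_of_mem_normalizer (inv_mem hg)
    have h4 := congrArg (cj g⁻¹) h2
    rw [cj_inv_cj, h3] at h4
    exact h4.symm
  · exact h2

/-- `C_{N_G(Q)}(Q) ≤ Q`. -/
theorem centQ [Finite G] (hc : IsCharacteristicTwoType G) (h : Hyp T Q s) {x : G}
    (hx : ∀ q ∈ Q, x * q = q * x) : x ∈ Q := by
  have hp : Fact (Nat.Prime 2) := ⟨Nat.prime_two⟩
  obtain ⟨a, ha, ha'⟩ := h.exists_a
  have hQ1 : Q ≠ ⊥ := by
    intro h0
    rw [h0, mem_bot] at ha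
    rw [ha] at ha'
    exact ha' (one_mem _)
  have hloc : IsTwoLocal (normalizer (Q : Set G)) := ⟨Q, h.isPGroup_Q, hQ1, rfl⟩
  set N := normalizer (Q : Set G) with hN
  set W := o2 N with hW
  have hWT : W ≤ T := o2_le_syl h.syl
  have hQW : Q ≤ W := le_o2 h.isPGroup_Q le_normalizer le_rfl
  have hself := self_cent hc hloc
  -- `C` is a 2-group
  have hC2 : IsPGroup 2 (centralizer (Q : Set G)) := by
    intro ⟨y, hy⟩
    obtain ⟨k, m, hm, hkm⟩ := Nat.exists_eq_two_pow_mul_odd (orderOf_pos y).ne'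
    set w := y ^ 2 ^ k with hw
    have hwo : orderOf w = m := by
      rw [hw, orderOf_pow' y (pow_ne_zero k two_ne_zero), hkm,
        Nat.gcd_eq_right (Dvd.intro m rfl), Nat.mul_div_cancel_left m (pow_pos two_pos k)]
    have hwC : w ∈ centralizer (Q : Set G) := pow_mem hy _
    have hwN : zpowers w ≤ N := (zpowers_le.2 (centralizer_le_normalizer _ hwC))
    have hWnil : Group.IsNilpotent W := (h.two.to_le hWT).isNilpotent
    have h1 : zpowers w ≤ centralizer (W : Set G) := by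
      refine S1442.result W (zpowers w) hWnil (hwN.trans (le_normalizer_o2 N)) ?_ ?_
      · rw [Nat.card_zpowers, hwo]
        obtain ⟨j, hj⟩ := IsPGroup.iff_card.1 (h.two.to_le hWT)
        rw [hj]
        exact Nat.Coprime.pow_right j (Nat.coprime_two_right.2 hm)
      · have hsub : Q ≤ W ⊓ centralizer (zpowers w : Set G) := by
          refine le_inf hQW ?_
          intro q hq
          rw [mem_centralizer_iff]
          intro v hv
          obtain ⟨n, rfl⟩ := mem_zpowers_iff.1 hv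
          have : Commute w q := (mem_centralizer_iff.1 hwC q hq).symm
          exact (this.zpow_left n).eq
        rintro v ⟨hvW, hvC⟩
        have hvQ : v ∈ Q := by
          refine h.cent v (hWT hvW) fun q hq => ?_
          exact (mem_centralizer_iff.1 hvC q (hsub hq)).symm
        exact hsub hvQ
    have h2 : w ∈ W := hself ⟨hwN (mem_zpowers w), h1 (mem_zpowers w)⟩
    obtain ⟨j, hj⟩ := (h.two.to_le hWT) ⟨w, h2⟩
    have hj' : w ^ 2 ^ j = 1 := congrArg Subtype.val hj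
    refine ⟨k + j, Subtype.ext ?_⟩
    rw [Subgroup.coe_pow, Subgroup.coe_one]
    change y ^ 2 ^ (k + j) = 1
    rw [pow_add, pow_mul, ← hw, hj']
  have hxC : x ∈ centralizer (Q : Set G) := mem_centralizer_iff.2 fun q hq => (hx q hq).symm
  have hCW : centralizer (Q : Set G) ≤ W := by
    refine le_o2 hC2 (centralizer_le_normalizer _) ?_
    intro g hg
    rw [mem_normalizer_iff_cj, cj_centralizer, cj_eq_of_mem_normalizer hg]
  exact h.cent x (hWT (hCW hxC)) hx

end Hyp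

end Cfsg.Agent.Omega.SQ1.Two

end

section


/-!
# The unique maximal 2-local case, one block, `q = 2`: the transvection group

`Frame T Q s a b z`: `a ∈ Q \ D`, `b ∈ Q ^ s \ D`, `z = [a, b]`.
-/

set_option autoImplicit false

namespace Cfsg.Agent.Omega.SQ1.Two

open Subgroup Cfsg Cfsg.Agent.ZN Cfsg.Agent.ZN.ChoiceBase Cfsg.Agent.ZN.ChoiceSit
open Cfsg.Agent.MinSimple.CaseOneAP (mul_mem_of_relIndex comm_of_sq)

universe u

variable {G : Type u} [Group G]

structure Frame (T Q : Subgroup G) (s a b z : G) : Prop extends Hyp T Q s where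
  aQ : a ∈ Q
  aD : a ∉ Q ⊓ cj s Q
  bQ : b ∈ cj s Q
  bD : b ∉ Q ⊓ cj s Q
  hz : a * b * a * b = z

theorem Hyp.exists_frame {T Q : Subgroup G} {s : G} (h : Hyp T Q s) :
    ∃ a b z : G, Frame T Q s a b z := by
  obtain ⟨a, ha, ha'⟩ := h.exists_a
  exact ⟨a, s * a * s⁻¹, _, ⟨h, ha, ha', h.mem' ha, h.s_notMem ha', rfl⟩⟩

namespace Frame

variable {T Q : Subgroup G} {s a b z : G}

theorem zD (h : Frame T Q s a b z) : z ∈ Q ⊓ cj s Q := h.hz ▸ h.z_mem h.aQ h.bQ

theorem zQ (h : Frame T Q s a b z) : z ∈ Q := h.zD.1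

theorem zz (h : Frame T Q s a b z) : z * z = 1 := h.sq z h.zQ

theorem z1 (h : Frame T Q s a b z) : z ≠ 1 := by
  intro hz
  apply h.ncomm h.aQ h.aD h.bQ h.bD
  have h1 := h.hz
  rw [hz] at h1
  have e1 : a⁻¹ = a := h.inv_eq h.aQ
  have e2 : b⁻¹ = b := inv_eq_of_mul_eq_one_left (h.sq' h.bQ)
  have h2 : a * b = (a * b)⁻¹ := by
    refine eq_inv_of_mul_eq_one_left ?_
    rw [← h1]; group
  rw [mul_inv_rev, e1, e2] at h2
  exact h2.symm

theorem zeq (h : Frame T Q s a b z) {a' b' : G} (ha : a' ∈ Q) (ha1 : a' ∉ Q ⊓ cj s Q)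
    (hb : b' ∈ cj s Q) (hb1 : b' ∉ Q ⊓ cj s Q) : a' * b' * a' * b' = z := by
  rw [← h.hz]
  exact h.z_eq h.aQ h.aD h.bQ h.bD ha ha1 hb hb1

theorem actB (h : Frame T Q s a b z) {x q : G} (hx : x ∈ Q ⊔ cj s Q) (hxQ : x ∉ Q) (hq : q ∈ Q)
    (hqD : q ∉ Q ⊓ cj s Q) : x * q * x⁻¹ = q * z := by
  rw [h.act h.aQ h.aD h.bQ h.bD hx hxQ hq hqD, h.hz]

theorem Bz (h : Frame T Q s a b z) {x : G} (hx : x ∈ Q ⊔ cj s Q) : x * z = z * x := h.D_comm hx h.zD

theorem bB (h : Frame T Q s a b z) : b ∈ Q ⊔ cj s Q := (le_sup_right : cj s Q ≤ _) h.bQ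

theorem bnQ (h : Frame T Q s a b z) : b ∉ Q := fun hb => h.bD ⟨hb, h.bQ⟩

theorem actb (h : Frame T Q s a b z) {q : G} (hq : q ∈ Q) (hqD : q ∉ Q ⊓ cj s Q) :
    b * q * b⁻¹ = q * z := h.actB h.bB h.bnQ hq hqD

theorem bb (h : Frame T Q s a b z) : b * b = 1 := h.sq' h.bQ

/-- An element normalising `Q` and `Q ^ s`, or interchanging them, centralises `z`. -/
theorem z_fix (h : Frame T Q s a b z) {x : G} (hD : ∀ y, x * y * x⁻¹ ∈ Q ⊓ cj s Q → y ∈ Q ⊓ cj s Q)
    (h12 : (∀ y ∈ Q, x * y * x⁻¹ ∈ Q) ∧ (∀ y ∈ cj s Q, x * y * x⁻¹ ∈ cj s Q) ∨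
      (∀ y ∈ Q, x * y * x⁻¹ ∈ cj s Q) ∧ (∀ y ∈ cj s Q, x * y * x⁻¹ ∈ Q)) : x * z * x⁻¹ = z := by
  have e : x * z * x⁻¹ = (x * a * x⁻¹) * (x * b * x⁻¹) * (x * a * x⁻¹) * (x * b * x⁻¹) := by
    rw [← h.hz]; group
  have ha := fun hh => h.aD (hD a hh)
  have hb := fun hh => h.bD (hD b hh)
  rcases h12 with ⟨h1, h2⟩ | ⟨h1, h2⟩
  · rw [e]
    exact h.zeq (h1 a h.aQ) ha (h2 b h.bQ) hb
  · have h3 := h.zeq (h2 b h.bQ) hb (h1 a h.aQ) ha
    have e1 : (x * a * x⁻¹)⁻¹ = x * a * x⁻¹ := by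
      rw [mul_inv_rev, mul_inv_rev, inv_inv, h.inv_eq h.aQ]; group
    have e2 : (x * b * x⁻¹)⁻¹ = x * b * x⁻¹ := by
      rw [mul_inv_rev, mul_inv_rev, inv_inv, inv_eq_of_mul_eq_one_left h.bb]; group
    have h4 := congrArg (fun y => y⁻¹) h3
    simp only [mul_inv_rev, e1, e2] at h4
    rw [e, h.toHyp.inv_eq h.zQ] at *
    rw [← h4]
    group

theorem sz (h : Frame T Q s a b z) : s * z * s⁻¹ = z := by
  refine h.z_fix (fun y hy => ?_) (Or.inr ⟨fun y hy => h.mem' hy, fun y hy => h.swap' hy⟩)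
  by_contra hn
  exact h.s_notMem hn hy

theorem Tz (h : Frame T Q s a b z) {t : G} (ht : t ∈ T) : t * z * t⁻¹ = z := by
  have h1 := h.TN ht
  have h2 := h.TN' ht
  refine h.z_fix (fun y hy => ⟨?_, ?_⟩) (Or.inl ⟨fun y hy => (mem_normalizer_iff.1 h1 y).1 hy,
    fun y hy => (mem_normalizer_iff.1 h2 y).1 hy⟩)
  · exact (mem_normalizer_iff.1 h1 y).2 hy.1
  · exact (mem_normalizer_iff.1 h2 y).2 hy.2

/-- An element of `N_G(Q)` normalising `B` normalises `Q ^ s`. -/
theorem norm_Q' [Finite G] (h : Frame T Q s a b z) {g : G} (hg : g ∈ normalizer (Q : Set G))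
    (hB : cj g (Q ⊔ cj s Q) = Q ⊔ cj s Q) : g ∈ normalizer ((cj s Q : Subgroup G) : Set G) :=
  mem_normalizer_iff_cj.2 (h.cj_Q'_eq hg hB)

theorem norm_D [Finite G] (h : Frame T Q s a b z) {g : G} (hg : g ∈ normalizer (Q : Set G))
    (hB : cj g (Q ⊔ cj s Q) = Q ⊔ cj s Q) (x : G) : g * x * g⁻¹ ∈ Q ⊓ cj s Q ↔ x ∈ Q ⊓ cj s Q := by
  rw [mem_inf, mem_inf, ← mem_normalizer_iff.1 hg x, ← mem_normalizer_iff.1 (h.norm_Q' hg hB) x]

theorem fix_z [Finite G] (h : Frame T Q s a b z) {g : G} (hg : g ∈ normalizer (Q : Set G))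
    (hB : cj g (Q ⊔ cj s Q) = Q ⊔ cj s Q) : g * z * g⁻¹ = z := by
  refine h.z_fix (fun y hy => (h.norm_D hg hB y).1 hy) (Or.inl ⟨fun y hy => ?_, fun y hy => ?_⟩)
  · exact (mem_normalizer_iff.1 hg y).1 hy
  · exact (mem_normalizer_iff.1 (h.norm_Q' hg hB) y).1 hy

/-- Elements of `N_G(Q)` centralising `w` and acting on `Q` modulo `⟨w⟩` trivially. -/
def stab (h : Hyp T Q s) (w : G) (hw : w * w = 1) : Subgroup G where
  carrier := {x | x ∈ normalizer (Q : Set G) ∧ x * w = w * x ∧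
    ∀ q ∈ Q, x * q * x⁻¹ = q ∨ x * q * x⁻¹ = q * w}
  one_mem' := ⟨one_mem _, by rw [one_mul, mul_one], fun q _ => Or.inl (by group)⟩
  mul_mem' := by
    rintro x y ⟨hx1, hx2, hx3⟩ ⟨hy1, hy2, hy3⟩
    refine ⟨mul_mem hx1 hy1, ?_, fun q hq => ?_⟩
    · rw [mul_assoc, hy2, ← mul_assoc, hx2, mul_assoc]
    · have hwx : x * w * x⁻¹ = w := by rw [hx2, mul_inv_cancel_right]
      have e : x * y * q * (x * y)⁻¹ = x * (y * q * y⁻¹) * x⁻¹ := by group
      rw [e]
      rcases hy3 q hq with h1 | h1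
      · rw [h1]; exact hx3 q hq
      · rw [h1]
        have e2 : x * (q * w) * x⁻¹ = (x * q * x⁻¹) * (x * w * x⁻¹) := by group
        rw [e2, hwx]
        rcases hx3 q hq with h2 | h2
        · right; rw [h2]
        · left; rw [h2, mul_assoc, hw, mul_one]
  inv_mem' := by
    rintro x ⟨hx1, hx2, hx3⟩
    refine ⟨inv_mem hx1, ?_, fun q hq => ?_⟩
    · calc x⁻¹ * w = x⁻¹ * (w * x) * x⁻¹ := by group
        _ = x⁻¹ * (x * w) * x⁻¹ := by rw [hx2]
        _ = w * x⁻¹ := by group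
    · rw [inv_inv]
      have hq' := h.conj' hx1 hq
      rcases hx3 _ hq' with h1 | h1
      · left
        have e : x * (x⁻¹ * q * x) * x⁻¹ = q := by group
        rw [e] at h1
        exact h1.symm
      · right
        have e : x * (x⁻¹ * q * x) * x⁻¹ = q := by group
        rw [e] at h1
        calc x⁻¹ * q * x = x⁻¹ * q * x * (w * w) := by rw [hw, mul_one]
          _ = (x⁻¹ * q * x * w) * w := by group
          _ = q * w := by rw [← h1]

theorem isPGroup_stab [Finite G] (hc : IsCharacteristicTwoType G) (h : Hyp T Q s) {w : G}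
    (hw : w * w = 1) : IsPGroup 2 (stab h w hw) := by
  rintro ⟨x, hx1, hx2, hx3⟩
  have hwx : x * w * x⁻¹ = w := by rw [hx2, mul_inv_cancel_right]
  have h1 : x * x ∈ Q := by
    refine h.centQ hc fun q hq => ?_
    have h2 : (x * x) * q * (x * x)⁻¹ = q := by
      have e : x * x * q * (x * x)⁻¹ = x * (x * q * x⁻¹) * x⁻¹ := by group
      rw [e]
      rcases hx3 q hq with h3 | h3
      · rw [h3, h3]
      · rw [h3]
        have e2 : x * (q * w) * x⁻¹ = (x * q * x⁻¹) * (x * w * x⁻¹) := by group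
        rw [e2, hwx, h3, mul_assoc, hw, mul_one]
    exact mul_inv_eq_iff_eq_mul.1 h2
  refine ⟨2, Subtype.ext ?_⟩
  rw [Subgroup.coe_pow, Subgroup.coe_one]
  have := h.sq _ h1
  change x ^ 2 ^ 2 = 1
  rw [← this]
  norm_num [pow_succ, mul_assoc]

/-- If `z ^ g ∈ D` then `g` normalises `B`. -/
theorem cj_eq_of_mem [Finite G] (hc : IsCharacteristicTwoType G) (h : Frame T Q s a b z) {g : G}
    (hg : g ∈ normalizer (Q : Set G)) (hzg : g * z * g⁻¹ ∈ Q ⊓ cj s Q) :
    cj g (Q ⊔ cj s Q) = Q ⊔ cj s Q := by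
  have hp : Fact (Nat.Prime 2) := ⟨Nat.prime_two⟩
  set w := g * z * g⁻¹ with hw
  have hww : w * w = 1 := h.sq w hzg.1
  set A := stab h.toHyp w hww with hA
  have hBN : Q ⊔ cj s Q ≤ normalizer (Q : Set G) := h.BT.trans h.TN
  -- `B` normalises `A`
  have hBA : Q ⊔ cj s Q ≤ normalizer (A : Set G) := by
    have key : ∀ y ∈ Q ⊔ cj s Q, ∀ x ∈ A, y * x * y⁻¹ ∈ A := by
      rintro y hy x ⟨hx1, hx2, hx3⟩
      have hyw : y * w = w * y := h.D_comm hy hzg
      have hyw' : y⁻¹ * w = w * y⁻¹ := by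
        calc y⁻¹ * w = y⁻¹ * (w * y) * y⁻¹ := by group
          _ = y⁻¹ * (y * w) * y⁻¹ := by rw [hyw]
          _ = w * y⁻¹ := by group
      refine ⟨mul_mem (mul_mem (hBN hy) hx1) (inv_mem (hBN hy)), ?_, fun q hq => ?_⟩
      · calc y * x * y⁻¹ * w = y * x * (y⁻¹ * w) := by group
          _ = y * (x * w) * y⁻¹ := by rw [hyw']; group
          _ = (y * w) * x * y⁻¹ := by rw [hx2]; group
          _ = w * (y * x * y⁻¹) := by rw [hyw]; group
      · have hq' := h.conj' (hBN hy) hq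
        have e : y * x * y⁻¹ * q * (y * x * y⁻¹)⁻¹ = y * (x * (y⁻¹ * q * y) * x⁻¹) * y⁻¹ := by group
        rw [e]
        rcases hx3 _ hq' with h1 | h1
        · left; rw [h1]; group
        · right
          rw [h1]
          calc y * (y⁻¹ * q * y * w) * y⁻¹ = q * (y * w) * y⁻¹ := by group
            _ = q * w := by rw [hyw]; group
    intro y hy
    rw [mem_normalizer_iff]
    intro x
    refine ⟨fun hx => key y hy x hx, fun hx => ?_⟩
    have := key y⁻¹ (inv_mem hy) _ hx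
    have e : y⁻¹ * (y * x * y⁻¹) * y⁻¹⁻¹ = x := by group
    rwa [e] at this
  have hP : IsPGroup 2 (A ⊔ (Q ⊔ cj s Q) : Subgroup G) := by
    rw [sup_comm]
    exact IsPGroup.to_sup_of_normal_right' (h.two.to_le h.BT) (isPGroup_stab hc h.toHyp hww) hBA
  refine h.weak hP (sup_le (fun x hx => hx.1) hBN) le_sup_right ?_
  refine le_trans ?_ le_sup_left
  -- `B ^ g ≤ A`
  intro x hx
  rw [mem_cj] at hx
  have hxN : x ∈ normalizer (Q : Set G) := by
    have h1 := mul_mem (mul_mem hg (hBN hx)) (inv_mem hg)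
    have e : g * (g⁻¹ * x * g) * g⁻¹ = x := by group
    rwa [e] at h1
  refine ⟨hxN, ?_, fun q hq => ?_⟩
  · have h1 := h.Bz hx
    calc x * w = g * ((g⁻¹ * x * g) * z) * g⁻¹ := by rw [hw]; group
      _ = g * (z * (g⁻¹ * x * g)) * g⁻¹ := by rw [h1]
      _ = w * x := by rw [hw]; group
  · have hq' := h.conj' hg hq
    have e : x * q * x⁻¹ = g * ((g⁻¹ * x * g) * (g⁻¹ * q * g) * (g⁻¹ * x * g)⁻¹) * g⁻¹ := by group
    by_cases hqD : g⁻¹ * q * g ∈ Q ⊓ cj s Q
    · left; rw [e, h.act_D hx hqD]; group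
    · by_cases hxQ : g⁻¹ * x * g ∈ Q
      · left; rw [e, h.comm hxQ hq']; group
      · right; rw [e, h.actB hx hxQ hq' hqD, hw]; group

/-- If `z ∈ D ^ g` then `g` normalises `B`. -/
theorem cj_eq_of_mem' [Finite G] (hc : IsCharacteristicTwoType G) (h : Frame T Q s a b z) {g : G}
    (hg : g ∈ normalizer (Q : Set G)) (hzg : g⁻¹ * z * g ∈ Q ⊓ cj s Q) :
    cj g (Q ⊔ cj s Q) = Q ⊔ cj s Q := by
  have h1 := h.cj_eq_of_mem hc (inv_mem hg) (by rwa [inv_inv])
  have h2 := congrArg (cj g) h1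
  rw [cj_cj_inv] at h2
  exact h2.symm

end Frame

end Cfsg.Agent.Omega.SQ1.Two

end

section


/-!
# The unique maximal 2-local case, one block, `q = 2`: the block

`Blk T Q s a b z g x`: `g ∈ N_G(Q)` does not normalise `B`.  Then `V = ⟨z, z ^ g⟩` and `R = C_Q(L)` are normal in
`N_G(Q)` and there is an element `x` of order `3` in `N_G(Q)` with `z → z ^ g → z z ^ g → z`, centralising `R`.
-/

set_option autoImplicit false

namespace Cfsg.Agent.Omega.SQ1.Two

open Subgroup Cfsg Cfsg.Agent.ZN Cfsg.Agent.ZN.ChoiceBase Cfsg.Agent.ZN.ChoiceSit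
open Cfsg.Agent.MinSimple.CaseOneAP (mul_mem_of_relIndex comm_of_sq)

universe u

variable {G : Type u} [Group G] {T Q : Subgroup G} {s a b z : G}

namespace Frame

theorem cj_trans {g k : G} (h1 : cj (g⁻¹ * k) (Q ⊔ cj s Q) = Q ⊔ cj s Q) :
    cj k (Q ⊔ cj s Q) = cj g (Q ⊔ cj s Q) := by
  have h2 := congrArg (cj g) h1
  rw [cj_cj] at h2
  have e : g * (g⁻¹ * k) = k := by group
  rwa [e] at h2

theorem cj_trans' {g k : G} (h1 : cj k (Q ⊔ cj s Q) = cj g (Q ⊔ cj s Q)) :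
    cj (g⁻¹ * k) (Q ⊔ cj s Q) = Q ⊔ cj s Q := by
  have h2 := congrArg (cj g⁻¹) h1
  rwa [cj_cj, cj_inv_cj] at h2

/-- Equal conjugates of `B` have the same `z` and the same `D`. -/
theorem data_eq [Finite G] (h : Frame T Q s a b z) {g k : G} (hg : g ∈ normalizer (Q : Set G))
    (hk : k ∈ normalizer (Q : Set G)) (he : cj k (Q ⊔ cj s Q) = cj g (Q ⊔ cj s Q)) :
    k * z * k⁻¹ = g * z * g⁻¹ ∧ ∀ y, k⁻¹ * y * k ∈ Q ⊓ cj s Q ↔ g⁻¹ * y * g ∈ Q ⊓ cj s Q := by
  have h1 := cj_trans' he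
  have hgk := mul_mem (inv_mem hg) hk
  constructor
  · have h2 := h.fix_z hgk h1
    calc k * z * k⁻¹ = g * (g⁻¹ * k * z * (g⁻¹ * k)⁻¹) * g⁻¹ := by group
      _ = g * z * g⁻¹ := by rw [h2]
  · intro y
    rw [← h.norm_D hgk h1 (k⁻¹ * y * k)]
    have e : g⁻¹ * k * (k⁻¹ * y * k) * (g⁻¹ * k)⁻¹ = g⁻¹ * y * g := by group
    rw [e]

/-- The conjugates of `z` and `D` under `N_G(Q)`. -/
theorem trich [Finite G] (hc : IsCharacteristicTwoType G) (h : Frame T Q s a b z) {g k : G}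
    (hg : g ∈ normalizer (Q : Set G)) (hgB : cj g (Q ⊔ cj s Q) ≠ Q ⊔ cj s Q)
    (hk : k ∈ normalizer (Q : Set G)) :
    (k * z * k⁻¹ = z ∨ k * z * k⁻¹ = g * z * g⁻¹ ∨ k * z * k⁻¹ = g * z * g⁻¹ * z) ∧
      ∀ y ∈ Q ⊓ cj s Q, g⁻¹ * y * g ∈ Q ⊓ cj s Q → k⁻¹ * y * k ∈ Q ⊓ cj s Q := by
  have hbN : b ∈ normalizer (Q : Set G) := h.TN (h.BT h.bB)
  have hz1D : g * z * g⁻¹ ∉ Q ⊓ cj s Q := fun hh => hgB (h.cj_eq_of_mem hc hg hh)
  have hzD1 : g⁻¹ * z * g ∉ Q ⊓ cj s Q := fun hh => hgB (h.cj_eq_of_mem' hc hg hh)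
  have hz1Q : g * z * g⁻¹ ∈ Q := h.conj hg h.zQ
  by_cases hkB : cj k (Q ⊔ cj s Q) = Q ⊔ cj s Q
  · refine ⟨Or.inl (h.fix_z hk hkB), fun y hy _ => ?_⟩
    have h1 := (h.data_eq (one_mem _) hk (by rw [hkB, cj_one])).2 y
    rw [h1]
    simpa using hy
  · have hzkD : k * z * k⁻¹ ∉ Q ⊓ cj s Q := fun hh => hkB (h.cj_eq_of_mem hc hk hh)
    have hzkQ : k * z * k⁻¹ ∈ Q := h.conj hk h.zQ
    by_cases hkg : cj k (Q ⊔ cj s Q) = cj g (Q ⊔ cj s Q)
    · obtain ⟨h1, h2⟩ := h.data_eq hg hk hkg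
      exact ⟨Or.inr (Or.inl h1), fun y _ hy => (h2 y).2 hy⟩
    · -- `k` must be equivalent to `b * g`
      have hbg : b * g ∈ normalizer (Q : Set G) := mul_mem hbN hg
      have hz1b : b * g * z * (b * g)⁻¹ = g * z * g⁻¹ * z := by
        have := h.actb hz1Q hz1D
        rw [← this]; group
      have hkbg : cj k (Q ⊔ cj s Q) = cj (b * g) (Q ⊔ cj s Q) := by
        by_contra hne
        -- `z_k ∉ D_g`
        have n1 : g⁻¹ * (k * z * k⁻¹) * g ∉ Q ⊓ cj s Q := by
          intro hh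
          apply hkg
          refine cj_trans (h.cj_eq_of_mem hc (mul_mem (inv_mem hg) hk) ?_)
          have e : g⁻¹ * k * z * (g⁻¹ * k)⁻¹ = g⁻¹ * (k * z * k⁻¹) * g := by group
          rwa [e]
        have n2 : (b * g)⁻¹ * (k * z * k⁻¹) * (b * g) ∉ Q ⊓ cj s Q := by
          intro hh
          apply hne
          refine cj_trans (h.cj_eq_of_mem hc (mul_mem (inv_mem hbg) hk) ?_)
          have e : (b * g)⁻¹ * k * z * ((b * g)⁻¹ * k)⁻¹ = (b * g)⁻¹ * (k * z * k⁻¹) * (b * g) := by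
            group
          rwa [e]
        apply n2
        have e1 : b⁻¹ * (k * z * k⁻¹) * b = k * z * k⁻¹ * z := by
          have hb' : b⁻¹ = b := inv_eq_of_mul_eq_one_left h.bb
          have := h.actb hzkQ hzkD
          calc b⁻¹ * (k * z * k⁻¹) * b = b * (k * z * k⁻¹) * b⁻¹ := by rw [hb']
            _ = k * z * k⁻¹ * z := this
        have e : (b * g)⁻¹ * (k * z * k⁻¹) * (b * g) =
            (g⁻¹ * (k * z * k⁻¹) * g) * (g⁻¹ * z * g) := by
          calc (b * g)⁻¹ * (k * z * k⁻¹) * (b * g) = g⁻¹ * (b⁻¹ * (k * z * k⁻¹) * b) * g := by group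
            _ = g⁻¹ * (k * z * k⁻¹ * z) * g := by rw [e1]
            _ = _ := by group
        rw [e]
        exact h.mulD (h.conj' hg hzkQ) (h.conj' hg h.zQ) n1 hzD1
      obtain ⟨h1, h2⟩ := h.data_eq hbg hk hkbg
      refine ⟨Or.inr (Or.inr (by rw [h1, hz1b])), fun y hyD hy => ?_⟩
      rw [h2 y]
      have e1 : b⁻¹ * y * b = y := by
        have := h.D_comm h.bB hyD
        calc b⁻¹ * y * b = b⁻¹ * (y * b) := by group
          _ = b⁻¹ * (b * y) := by rw [this]
          _ = y := by group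
      have e : (b * g)⁻¹ * y * (b * g) = g⁻¹ * (b⁻¹ * y * b) * g := by group
      rw [e, e1]
      exact hy

end Frame

/-- The block. -/
structure Blk (T Q : Subgroup G) (s a b z z₁ x : G) (R : Subgroup G) : Prop
    extends Frame T Q s a b z where
  z1Q : z₁ ∈ Q
  z1D : z₁ ∉ Q ⊓ cj s Q
  RD : R ≤ Q ⊓ cj s Q
  zR : z ∉ R
  dec : ∀ q ∈ Q, q ∈ R ∨ q * z ∈ R ∨ q * z₁ ∈ R ∨ q * (z₁ * z) ∈ R
  conjz : ∀ k ∈ normalizer (Q : Set G), k * z * k⁻¹ = z ∨ k * z * k⁻¹ = z₁ ∨ k * z * k⁻¹ = z₁ * z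
  conjz1 : ∀ k ∈ normalizer (Q : Set G), k * z₁ * k⁻¹ = z ∨ k * z₁ * k⁻¹ = z₁ ∨ k * z₁ * k⁻¹ = z₁ * z
  conjR : ∀ k ∈ normalizer (Q : Set G), ∀ r ∈ R, k * r * k⁻¹ ∈ R
  xN : x ∈ normalizer (Q : Set G)
  x3 : x ^ 3 = 1
  xz : x * z * x⁻¹ = z₁
  xz1 : x * z₁ * x⁻¹ = z₁ * z
  xR : ∀ r ∈ R, x * r = r * x

theorem Frame.exists_blk [Finite G] (hc : IsCharacteristicTwoType G) (h : Frame T Q s a b z) {g : G}
    (hg : g ∈ normalizer (Q : Set G)) (hgB : cj g (Q ⊔ cj s Q) ≠ Q ⊔ cj s Q) :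
    ∃ (z₁ x : G) (R : Subgroup G), Blk T Q s a b z z₁ x R := by
  have hbN : b ∈ normalizer (Q : Set G) := h.TN (h.BT h.bB)
  have hb' : b⁻¹ = b := inv_eq_of_mul_eq_one_left h.bb
  have hz1D : g * z * g⁻¹ ∉ Q ⊓ cj s Q := fun hh => hgB (h.cj_eq_of_mem hc hg hh)
  have hzD1 : g⁻¹ * z * g ∉ Q ⊓ cj s Q := fun hh => hgB (h.cj_eq_of_mem' hc hg hh)
  have hz1Q : g * z * g⁻¹ ∈ Q := h.conj hg h.zQ
  have htri := fun {k : G} (hk : k ∈ normalizer (Q : Set G)) => h.trich hc hg hgB hk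
  set z₁ := g * z * g⁻¹ with hz1
  have hz1z1 : z₁ * z₁ = 1 := h.sq _ hz1Q
  have hzz1 : z * z₁ = z₁ * z := h.comm h.zQ hz1Q
  set b₁ := g * b * g⁻¹ with hb1
  have hb1N : b₁ ∈ normalizer (Q : Set G) := mul_mem (mul_mem hg hbN) (inv_mem hg)
  -- action of `b₁`
  have hb1z1 : b₁ * z₁ * b₁⁻¹ = z₁ := by
    have := h.act_D h.bB h.zD
    calc b₁ * z₁ * b₁⁻¹ = g * (b * z * b⁻¹) * g⁻¹ := by rw [hb1, hz1]; group
      _ = z₁ := by rw [this]
  have hb1z : b₁ * z * b₁⁻¹ = z₁ * z := by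
    have := h.actb (h.conj' hg h.zQ) hzD1
    calc b₁ * z * b₁⁻¹ = g * (b * (g⁻¹ * z * g) * b⁻¹) * g⁻¹ := by rw [hb1]; group
      _ = g * (g⁻¹ * z * g * z) * g⁻¹ := by rw [this]
      _ = z * z₁ := by rw [hz1]; group
      _ = z₁ * z := hzz1
  have hbz : b * z * b⁻¹ = z := h.act_D h.bB h.zD
  have hbz1 : b * z₁ * b⁻¹ = z₁ * z := h.actb hz1Q hz1D
  set R : Subgroup G := (Q ⊓ cj s Q) ⊓ cj g (Q ⊓ cj s Q) with hR
  have memR : ∀ {y : G}, y ∈ R ↔ y ∈ Q ⊓ cj s Q ∧ g⁻¹ * y * g ∈ Q ⊓ cj s Q := by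
    intro y
    rw [hR, mem_inf (p := Q ⊓ cj s Q), mem_cj]
  set u := b * b₁ with hu
  have huN : u ∈ normalizer (Q : Set G) := mul_mem hbN hb1N
  have huz : u * z * u⁻¹ = z₁ := by
    calc u * z * u⁻¹ = b * (b₁ * z * b₁⁻¹) * b⁻¹ := by rw [hu]; group
      _ = (b * z₁ * b⁻¹) * (b * z * b⁻¹) := by rw [hb1z]; group
      _ = z₁ := by rw [hbz1, hbz, mul_assoc, h.zz, mul_one]
  have huz1 : u * z₁ * u⁻¹ = z₁ * z := by
    calc u * z₁ * u⁻¹ = b * (b₁ * z₁ * b₁⁻¹) * b⁻¹ := by rw [hu]; group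
      _ = z₁ * z := by rw [hb1z1, hbz1]
  have huR : ∀ r ∈ R, u * r = r * u := by
    intro r hr
    obtain ⟨h1, h2⟩ := memR.1 hr
    have e1 := h.D_comm h.bB h1
    have e2 := h.D_comm h.bB h2
    have e3 : b₁ * r = r * b₁ := by
      calc b₁ * r = g * (b * (g⁻¹ * r * g)) * g⁻¹ := by rw [hb1]; group
        _ = g * (g⁻¹ * r * g * b) * g⁻¹ := by rw [e2]
        _ = r * b₁ := by rw [hb1]; group
    rw [hu, mul_assoc, e3, ← mul_assoc, e1, mul_assoc]
  have hdec : ∀ q ∈ Q, q ∈ R ∨ q * z ∈ R ∨ q * z₁ ∈ R ∨ q * (z₁ * z) ∈ R := by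
    intro q hq
    have hgq := h.conj' hg hq
    have hzg : g⁻¹ * z₁ * g = z := by rw [hz1]; group
    by_cases h1 : q ∈ Q ⊓ cj s Q
    · by_cases h2 : g⁻¹ * q * g ∈ Q ⊓ cj s Q
      · exact Or.inl (memR.2 ⟨h1, h2⟩)
      · refine Or.inr (Or.inl (memR.2 ⟨mul_mem h1 h.zD, ?_⟩))
        have := h.mulD hgq (h.conj' hg h.zQ) h2 hzD1
        have e : g⁻¹ * (q * z) * g = g⁻¹ * q * g * (g⁻¹ * z * g) := by group
        rw [e]; exact this
    · by_cases h2 : g⁻¹ * q * g ∈ Q ⊓ cj s Q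
      · refine Or.inr (Or.inr (Or.inl (memR.2 ⟨h.mulD hq hz1Q h1 hz1D, ?_⟩)))
        have e : g⁻¹ * (q * z₁) * g = g⁻¹ * q * g * (g⁻¹ * z₁ * g) := by group
        rw [e, hzg]
        exact mul_mem h2 h.zD
      · refine Or.inr (Or.inr (Or.inr (memR.2 ⟨?_, ?_⟩)))
        · have := mul_mem (h.mulD hq hz1Q h1 hz1D) h.zD
          rwa [mul_assoc] at this
        · have e : g⁻¹ * (q * (z₁ * z)) * g =
              (g⁻¹ * q * g * (g⁻¹ * z * g)) * (g⁻¹ * z₁ * g) := by
            rw [← hzz1]; group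
          rw [e, hzg]
          exact mul_mem (h.mulD hgq (h.conj' hg h.zQ) h2 hzD1) h.zD
  -- `c = u ^ 3` centralises `Q`
  obtain ⟨c, hcdef⟩ : ∃ c : G, c = u * u * u := ⟨_, rfl⟩
  have hu3z : c * z * c⁻¹ = z := by
    calc c * z * c⁻¹ = u * (u * (u * z * u⁻¹) * u⁻¹) * u⁻¹ := by rw [hcdef]; group
      _ = u * (z₁ * z) * u⁻¹ := by rw [huz, huz1]
      _ = (u * z₁ * u⁻¹) * (u * z * u⁻¹) := by group
      _ = z₁ * z * z₁ := by rw [huz1, huz]
      _ = z := by rw [mul_assoc, hzz1, ← mul_assoc, hz1z1, one_mul]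
  have hcu : c * u = u * c := by rw [hcdef]; group
  have hcu' : c * u * c⁻¹ = u := by rw [hcu, mul_inv_cancel_right]
  have hu3z1 : c * z₁ * c⁻¹ = z₁ := by
    calc c * z₁ * c⁻¹ = (c * u * c⁻¹) * (c * z * c⁻¹) * (c * u * c⁻¹)⁻¹ := by rw [← huz]; group
      _ = z₁ := by rw [hcu', hu3z, huz]
  have hu3R : ∀ r ∈ R, c * r = r * c := fun r hr => by
    have h1 : Commute u r := huR r hr
    rw [hcdef]
    exact ((h1.mul_left h1).mul_left h1).eq
  have hu3 : ∀ q ∈ Q, c * q = q * c := by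
    have c1 : c * z = z * c := mul_inv_eq_iff_eq_mul.1 hu3z
    have c2 : c * z₁ = z₁ * c := mul_inv_eq_iff_eq_mul.1 hu3z1
    have key : ∀ v ∈ Q, c * v = v * c → ∀ q ∈ Q, q * v ∈ R → c * q = q * c := by
      intro v hv hcv q hq hqv
      have h1 := hu3R _ hqv
      have e : q = (q * v) * v := by rw [mul_assoc, h.sq v hv, mul_one]
      calc c * q = (c * (q * v)) * v := by rw [mul_assoc, ← e]
        _ = (q * v) * (c * v) := by rw [h1]; group
        _ = ((q * v) * v) * c := by rw [hcv]; group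
        _ = q * c := by rw [← e]
    intro q hq
    rcases hdec q hq with h1 | h1 | h1 | h1
    · exact hu3R q h1
    · exact key z h.zQ c1 q hq h1
    · exact key z₁ hz1Q c2 q hq h1
    · exact key (z₁ * z) (mul_mem hz1Q h.zQ)
        ((show Commute c z₁ from c2).mul_right (show Commute c z from c1)).eq q hq h1
  have hu3Q : c ∈ Q := h.centQ hc hu3
  have hu6 : c * c = 1 := h.sq _ hu3Q
  have hcN : c ∈ normalizer (Q : Set G) := le_normalizer hu3Q
  have hxa : ∀ q ∈ Q, (u * c) * q * (u * c)⁻¹ = u * q * u⁻¹ := by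
    intro q hq
    have e : (u * c) * q * (u * c)⁻¹ = u * (c * q * c⁻¹) * u⁻¹ := by group
    rw [e, hu3 q hq, mul_inv_cancel_right]
  refine ⟨z₁, u * c, R, ⟨h, hz1Q, hz1D, inf_le_left, fun hh => hzD1 (memR.1 hh).2, hdec,
    fun k hk => (htri hk).1, ?_, ?_, mul_mem huN hcN, ?_, ?_, ?_, ?_⟩⟩
  · intro k hk
    have h1 := (htri (mul_mem hk hg)).1
    have e : k * g * z * (k * g)⁻¹ = k * z₁ * k⁻¹ := by rw [hz1]; group
    rwa [e] at h1
  · intro k hk r hr
    -- `r` lies in all `D_m`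
    have hall : ∀ m ∈ normalizer (Q : Set G), m⁻¹ * r * m ∈ Q ⊓ cj s Q := fun m hm =>
      (htri hm).2 r (memR.1 hr).1 (memR.1 hr).2
    refine memR.2 ⟨?_, ?_⟩
    · have := hall k⁻¹ (inv_mem hk)
      rwa [inv_inv] at this
    · have := hall (k⁻¹ * g) (mul_mem (inv_mem hk) hg)
      have e : (k⁻¹ * g)⁻¹ * r * (k⁻¹ * g) = g⁻¹ * (k * r * k⁻¹) * g := by group
      rwa [e] at this
  · have h1 : Commute u c := hcu.symm
    have e3 : u ^ 3 = c := by rw [hcdef, pow_succ, pow_two]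
    rw [h1.mul_pow, e3]
    calc c * c ^ 3 = (c * c) * (c * c) := by rw [pow_succ, pow_two]; group
      _ = 1 := by rw [hu6, mul_one]
  · rw [hxa z h.zQ, huz]
  · rw [hxa z₁ hz1Q, huz1]
  · intro r hr
    have h1 : Commute u r := huR r hr
    have h2 : Commute c r := hu3R r hr
    exact (h1.mul_left h2).eq

end Cfsg.Agent.Omega.SQ1.Two

end

section


/-!
# The unique maximal 2-local case, one block, `q = 2`: the killing lemma

`R ∩ R ^ s = 1` in a group of characteristic 2 type.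
-/

set_option autoImplicit false

namespace Cfsg.Agent.Omega.SQ1.Two

open Subgroup Cfsg Cfsg.Agent.ZN Cfsg.Agent.ZN.ChoiceBase Cfsg.Agent.ZN.ChoiceSit
open Cfsg.Agent.MinSimple.CaseOneAP (mul_mem_of_relIndex comm_of_sq)

universe u

variable {G : Type u} [Group G] {T Q : Subgroup G} {s a b z z₁ x : G} {R : Subgroup G}

theorem mem_norm_of_forall [Finite G] {H : Subgroup G} {g : G} (h : ∀ y ∈ H, g * y * g⁻¹ ∈ H) :
    g ∈ normalizer (H : Set G) := by
  refine mem_normalizer_of_cj_le ?_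
  rintro _ ⟨y, hy, rfl⟩
  exact h y hy

namespace Blk

theorem z1z1 (h : Blk T Q s a b z z₁ x R) : z₁ * z₁ = 1 := h.sq _ h.z1Q

theorem zz1 (h : Blk T Q s a b z z₁ x R) : z * z₁ = z₁ * z := h.comm h.zQ h.z1Q

theorem z1_ne (h : Blk T Q s a b z z₁ x R) : z₁ ≠ z := fun he => h.z1D (he ▸ h.zD)

theorem xzz1 (h : Blk T Q s a b z z₁ x R) : x * (z₁ * z) * x⁻¹ = z := by
  calc x * (z₁ * z) * x⁻¹ = (x * z₁ * x⁻¹) * (x * z * x⁻¹) := by group
    _ = z₁ * z * z₁ := by rw [h.xz1, h.xz]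
    _ = z := by rw [mul_assoc, h.zz1, ← mul_assoc, h.z1z1, one_mul]

theorem xiz (h : Blk T Q s a b z z₁ x R) : x⁻¹ * z * x = z₁ * z := by
  calc x⁻¹ * z * x = x⁻¹ * (x * (z₁ * z) * x⁻¹) * x := by rw [h.xzz1]
    _ = z₁ * z := by group

theorem xiz1 (h : Blk T Q s a b z z₁ x R) : x⁻¹ * z₁ * x = z := by
  calc x⁻¹ * z₁ * x = x⁻¹ * (x * z * x⁻¹) * x := by rw [h.xz]
    _ = z := by group

theorem RQ (h : Blk T Q s a b z z₁ x R) : R ≤ Q := h.RD.trans inf_le_left

/-- `C_Q(x) ≤ R`. -/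
theorem mem_R (h : Blk T Q s a b z z₁ x R) {q : G} (hq : q ∈ Q) (hc : x * q = q * x) : q ∈ R := by
  have key : ∀ v ∈ Q, q * v ∈ R → x * v * x⁻¹ = v := by
    intro v hv hqv
    have h1 := h.xR _ hqv
    have h2 : x * (q * v) * x⁻¹ = q * v := by rw [h1, mul_inv_cancel_right]
    have h3 : x * q * x⁻¹ = q := by rw [hc, mul_inv_cancel_right]
    have h4 : x * (q * v) * x⁻¹ = (x * q * x⁻¹) * (x * v * x⁻¹) := by group
    rw [h4, h3] at h2
    exact mul_left_cancel h2
  rcases h.dec q hq with h1 | h1 | h1 | h1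
  · exact h1
  · exfalso
    have := key z h.zQ h1
    rw [h.xz] at this
    exact h.z1_ne this
  · exfalso
    have := key z₁ h.z1Q h1
    rw [h.xz1] at this
    exact h.z1 (mul_left_cancel (this.trans (mul_one z₁).symm))
  · exfalso
    have := key _ (mul_mem h.z1Q h.zQ) h1
    rw [h.xzz1] at this
    have h2 : z₁ * z * z = 1 * z * z := by
      rw [← this, h.zz, one_mul]
      rw [this] 
      have := mul_right_cancel (show (1 : G) * z = z₁ * z by rw [one_mul]; exact this)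
      rw [← this, one_mul, h.zz]
    have h3 := mul_right_cancel (mul_right_cancel h2)
    exact h.z1D (h3 ▸ one_mem _)

variable [Finite G]

/-- The killing lemma. -/
theorem killing (hc : IsCharacteristicTwoType G) (h : Blk T Q s a b z z₁ x R) : R ⊓ cj s R = ⊥ := by
  have hp : Fact (Nat.Prime 2) := ⟨Nat.prime_two⟩
  by_contra hne
  set E : Subgroup G := R ⊓ cj s R with hE
  have hEQ : E ≤ Q := inf_le_left.trans h.RQ
  have hE2 : IsPGroup 2 E := h.isPGroup_Q.to_le hEQ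
  set N : Subgroup G := normalizer (E : Set G) with hN
  have hloc : IsTwoLocal N := ⟨E, hE2, hne, rfl⟩
  set W : Subgroup G := o2 N with hW
  have hW2 : IsPGroup 2 W := isPGroup_o2 N
  have hNW : N ≤ normalizer (W : Set G) := le_normalizer_o2 N
  have hEW : E ≤ W := le_o2 hE2 le_normalizer le_rfl
  have hself := self_cent hc hloc
  have hWN : W ≤ N := o2_le N
  have conjW : ∀ {n w : G}, n ∈ N → w ∈ W → n * w * n⁻¹ ∈ W := fun hn hw =>
    (mem_normalizer_iff.1 (hNW hn) _).1 hw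
  -- `B ≤ N`
  have hcentN : ∀ y : G, (∀ e ∈ E, y * e = e * y) → y ∈ N := by
    intro y hy
    refine centralizer_le_normalizer _ (mem_centralizer_iff.2 fun e he => (hy e he).symm)
  have hBN : Q ⊔ cj s Q ≤ N := fun y hy => hcentN y fun e he => h.D_comm hy (h.RD he.1)
  have hxN : x ∈ N := hcentN x fun e he => h.xR e he.1
  -- `s` normalises `E`, `N`, `W`
  have hRs2 : cj (s * s) R = R := by
    refine le_antisymm ?_ ?_
    · rintro _ ⟨r, hr, rfl⟩
      exact h.conjR _ (h.TN h.ss) r hr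
    · intro r hr
      rw [mem_cj]
      have := h.conjR _ (inv_mem (h.TN h.ss)) r hr
      rwa [inv_inv] at this
  have hEs : cj s E = E := by
    rw [hE, cj_inf, cj_cj, hRs2, inf_comm]
  have hNs : cj s N = N := by rw [hN, cj_normalizer, hEs]
  have hWs : cj s W = W := by rw [hW, ← o2_cj, hNs]
  have sN : ∀ {y : G}, y ∈ N → s * y * s⁻¹ ∈ N := by
    intro y hy
    rw [← hNs, mem_cj]
    have e : s⁻¹ * (s * y * s⁻¹) * s = y := by group
    rwa [e]
  have sW : ∀ {y : G}, y ∈ W → s⁻¹ * y * s ∈ W := by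
    intro y hy
    rw [← hWs] at hy
    exact mem_cj.1 hy
  -- (i) `z ∉ W`
  have hzW : z ∉ W := by
    intro hz
    have hx' : s * x * s⁻¹ ∈ N := sN hxN
    set v := s * z₁ * s⁻¹ with hv
    have hvW : v ∈ W := by
      have h1 := conjW hx' hz
      have e : s * x * s⁻¹ * z * (s * x * s⁻¹)⁻¹ = v := by
        have hsz : s⁻¹ * z * s = z := by
          have := h.sz
          calc s⁻¹ * z * s = s⁻¹ * (s * z * s⁻¹) * s := by rw [this]
            _ = z := by group
        calc s * x * s⁻¹ * z * (s * x * s⁻¹)⁻¹ = s * (x * (s⁻¹ * z * s) * x⁻¹) * s⁻¹ := by group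
          _ = v := by rw [hsz, h.xz]
      rwa [e] at h1
    have hvQ' : v ∈ cj s Q := h.mem' h.z1Q
    have hvD : v ∉ Q ⊓ cj s Q := h.s_notMem h.z1D
    have hvB : v ∈ Q ⊔ cj s Q := (le_sup_right : cj s Q ≤ _) hvQ'
    have hvnQ : v ∉ Q := fun hh => hvD ⟨hh, hvQ'⟩
    have hvv : v⁻¹ = v := inv_eq_of_mul_eq_one_left (h.sq' hvQ')
    have hvz : v * z * v⁻¹ = z := h.act_D hvB h.zD
    have hvz1 : v * z₁ * v⁻¹ = z₁ * z := h.actB hvB hvnQ h.z1Q h.z1D
    have hvzz1 : v * (z₁ * z) * v⁻¹ = z₁ := by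
      calc v * (z₁ * z) * v⁻¹ = (v * z₁ * v⁻¹) * (v * z * v⁻¹) := by group
        _ = z₁ := by rw [hvz1, hvz, mul_assoc, h.zz, mul_one]
    obtain ⟨w, hw⟩ : ∃ w : G, w = v * x * v⁻¹ * x⁻¹ := ⟨_, rfl⟩
    have hwW : w ∈ W := by
      rw [hw]
      have h1 := conjW hxN (inv_mem hvW)
      have e : v * x * v⁻¹ * x⁻¹ = v * (x * v⁻¹ * x⁻¹) := by group
      rw [e]
      exact mul_mem hvW h1
    have hxiz := h.xiz
    have hxiz1 := h.xiz1
    have hviz : v⁻¹ * z * v = z := by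
      calc v⁻¹ * z * v = v⁻¹ * (v * z * v⁻¹) * v := by rw [hvz]
        _ = z := by group
    have hvizz1 : v⁻¹ * (z₁ * z) * v = z₁ := by
      rw [← hvz1]; group
    have hwz : w * z * w⁻¹ = z₁ := by
      calc w * z * w⁻¹ = v * (x * (v⁻¹ * (x⁻¹ * z * x) * v) * x⁻¹) * v⁻¹ := by rw [hw]; group
        _ = z₁ := by rw [hxiz, hvizz1, h.xz1, hvzz1]
    have hwz1 : w * z₁ * w⁻¹ = z₁ * z := by
      calc w * z₁ * w⁻¹ = v * (x * (v⁻¹ * (x⁻¹ * z₁ * x) * v) * x⁻¹) * v⁻¹ := by rw [hw]; group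
        _ = z₁ * z := by rw [hxiz1, hviz, h.xz, hvz1]
    have hw3 : w ^ 3 * z = z * w ^ 3 := by
      have e3 : w ^ 3 = w * w * w := by rw [pow_succ, pow_two]
      have : w ^ 3 * z * (w ^ 3)⁻¹ = z := by
        calc w ^ 3 * z * (w ^ 3)⁻¹ = w * (w * (w * z * w⁻¹) * w⁻¹) * w⁻¹ := by rw [e3]; group
          _ = w * (z₁ * z) * w⁻¹ := by rw [hwz, hwz1]
          _ = (w * z₁ * w⁻¹) * (w * z * w⁻¹) := by group
          _ = z₁ * z * z₁ := by rw [hwz1, hwz]
          _ = z := by rw [mul_assoc, h.zz1, ← mul_assoc, h.z1z1, one_mul]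
      exact mul_inv_eq_iff_eq_mul.1 this
    obtain ⟨k, hk⟩ := hW2 ⟨w, hwW⟩
    have hk' : w ^ 2 ^ k = 1 := congrArg Subtype.val hk
    have hcop : Nat.Coprime 3 (orderOf w) := by
      refine Nat.Coprime.coprime_dvd_right (orderOf_dvd_of_pow_eq_one hk') ?_
      exact Nat.Coprime.pow_right k (by norm_num)
    obtain ⟨m, hm⟩ := exists_pow_eq_self_of_coprime hcop
    have h5 : w * z = z * w := by
      have := ((show Commute (w ^ 3) z from hw3).pow_left m).eq
      rwa [hm] at this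
    rw [h5, mul_inv_cancel_right] at hwz
    exact h.z1_ne hwz.symm
  -- `V ∩ W = 1`
  have hz1W : z₁ ∉ W := by
    intro hh
    apply hzW
    have := conjW (inv_mem hxN) hh
    rw [inv_inv] at this
    rwa [h.xiz1] at this
  have hzz1W : z₁ * z ∉ W := by
    intro hh
    apply hzW
    have := conjW hxN hh
    rwa [h.xzz1] at this
  -- (ii)
  have hP : ∀ p ∈ W, p ∈ normalizer (Q : Set G) → p * z = z * p ∧ p * z₁ = z₁ * p ∧
      p * x = x * p := by
    intro p hpW hpQ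
    have hzN : z ∈ N := hBN ((le_sup_left : Q ≤ _) h.zQ)
    have hz1N : z₁ ∈ N := hBN ((le_sup_left : Q ≤ _) h.z1Q)
    have comW : ∀ n ∈ N, p * n * p⁻¹ * n⁻¹ ∈ W := by
      intro n hn
      have h1 := conjW hn (inv_mem hpW)
      have e : p * n * p⁻¹ * n⁻¹ = p * (n * p⁻¹ * n⁻¹) := by group
      rw [e]
      exact mul_mem hpW h1
    have hziz : z⁻¹ = z := h.inv_eq h.zQ
    have hz1iz1 : z₁⁻¹ = z₁ := h.inv_eq h.z1Q
    have c1 : p * z * p⁻¹ = z := by
      have h1 := comW z hzN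
      rw [hziz] at h1
      rcases h.conjz p hpQ with h2 | h2 | h2
      · exact h2
      · exfalso
        rw [h2] at h1
        exact hzz1W h1
      · exfalso
        rw [h2, mul_assoc, h.zz, mul_one] at h1
        exact hz1W h1
    have c2 : p * z₁ * p⁻¹ = z₁ := by
      have h1 := comW z₁ hz1N
      rw [hz1iz1] at h1
      rcases h.conjz1 p hpQ with h2 | h2 | h2
      · exfalso
        rw [h2, h.zz1] at h1
        exact hzz1W h1
      · exact h2
      · exfalso
        rw [h2, mul_assoc, h.zz1, ← mul_assoc, h.z1z1, one_mul] at h1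
        exact hzW h1
    have c1' : p * z = z * p := mul_inv_eq_iff_eq_mul.1 c1
    have c2' : p * z₁ = z₁ * p := mul_inv_eq_iff_eq_mul.1 c2
    refine ⟨c1', c2', ?_⟩
    -- `y = [p, x]` centralises `Q`
    obtain ⟨y, hy⟩ : ∃ y : G, y = p * x * p⁻¹ * x⁻¹ := ⟨_, rfl⟩
    have hxiz := h.xiz
    have hxiz1 := h.xiz1
    have pz : p⁻¹ * z * p = z := by
      calc p⁻¹ * z * p = p⁻¹ * (z * p) := by group
        _ = p⁻¹ * (p * z) := by rw [c1']
        _ = z := by group
    have pz1 : p⁻¹ * z₁ * p = z₁ := by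
      calc p⁻¹ * z₁ * p = p⁻¹ * (z₁ * p) := by group
        _ = p⁻¹ * (p * z₁) := by rw [c2']
        _ = z₁ := by group
    have yz : y * z = z * y := by
      refine mul_inv_eq_iff_eq_mul.1 ?_
      calc y * z * y⁻¹ = p * (x * (p⁻¹ * (x⁻¹ * z * x) * p) * x⁻¹) * p⁻¹ := by rw [hy]; group
        _ = p * (x * ((p⁻¹ * z₁ * p) * (p⁻¹ * z * p)) * x⁻¹) * p⁻¹ := by rw [hxiz]; group
        _ = z := by rw [pz1, pz, h.xzz1, c1]
    have yz1 : y * z₁ = z₁ * y := by
      refine mul_inv_eq_iff_eq_mul.1 ?_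
      calc y * z₁ * y⁻¹ = p * (x * (p⁻¹ * (x⁻¹ * z₁ * x) * p) * x⁻¹) * p⁻¹ := by rw [hy]; group
        _ = z₁ := by rw [hxiz1, pz, h.xz, c2]
    have yR : ∀ r ∈ R, y * r = r * y := by
      intro r hr
      refine mul_inv_eq_iff_eq_mul.1 ?_
      have h1 : x⁻¹ * r * x = r := by
        calc x⁻¹ * r * x = x⁻¹ * (r * x) := by group
          _ = x⁻¹ * (x * r) := by rw [h.xR r hr]
          _ = r := by group
      have h2 : p⁻¹ * r * p ∈ R := by
        have := h.conjR p⁻¹ (inv_mem hpQ) r hr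
        rwa [inv_inv] at this
      have h3 : x * (p⁻¹ * r * p) * x⁻¹ = p⁻¹ * r * p := by
        rw [h.xR _ h2, mul_inv_cancel_right]
      calc y * r * y⁻¹ = p * (x * (p⁻¹ * (x⁻¹ * r * x) * p) * x⁻¹) * p⁻¹ := by rw [hy]; group
        _ = r := by rw [h1, h3]; group
    have hyQ : y ∈ Q := by
      refine h.centQ hc fun q hq => ?_
      have key : ∀ v ∈ Q, y * v = v * y → q * v ∈ R → y * q = q * y := by
        intro v hv hcv hqv
        have h1 := yR _ hqv
        have e : q = (q * v) * v := by rw [mul_assoc, h.sq v hv, mul_one]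
        calc y * q = (y * (q * v)) * v := by rw [mul_assoc, ← e]
          _ = (q * v) * (y * v) := by rw [h1]; group
          _ = ((q * v) * v) * y := by rw [hcv]; group
          _ = q * y := by rw [← e]
      rcases h.dec q hq with h1 | h1 | h1 | h1
      · exact yR q h1
      · exact key z h.zQ yz h1
      · exact key z₁ h.z1Q yz1 h1
      · exact key (z₁ * z) (mul_mem h.z1Q h.zQ)
          ((show Commute y z₁ from yz1).mul_right (show Commute y z from yz)).eq h1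
    have hyW : y ∈ W := hy ▸ comW x hxN
    -- `y ∈ R`
    have hyR : y ∈ R := by
      have key : ∀ v : G, v ∈ N → v ∈ Q → y * v ∈ R → x * v * x⁻¹ * v⁻¹ ∈ W := by
        intro v hvN hv hyv
        -- `[x, v] = [x, y]` up to the centralised part
        have h1 := h.xR _ hyv
        have h2 : x * (y * v) * x⁻¹ = y * v := by rw [h1, mul_inv_cancel_right]
        have h3 := conjW hxN hyW
        have h4 : x * v * x⁻¹ * v⁻¹ = (x * y * x⁻¹)⁻¹ * y := by
          have e : (x * y * x⁻¹) * (x * v * x⁻¹) = y * v := by rw [← h2]; group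
          have e2 : x * v * x⁻¹ = (x * y * x⁻¹)⁻¹ * (y * v) := by rw [← e]; group
          rw [e2]; group
        rw [h4]
        exact mul_mem (inv_mem h3) hyW
      rcases h.dec y hyQ with h1 | h1 | h1 | h1
      · exact h1
      · exfalso
        have := key z hzN h.zQ h1
        rw [h.xz, hziz] at this
        exact hzz1W this
      · exfalso
        have := key z₁ hz1N h.z1Q h1
        rw [h.xz1, hz1iz1, mul_assoc, h.zz1, ← mul_assoc, h.z1z1, one_mul] at this
        exact hzW this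
      · exfalso
        have := key (z₁ * z) (mul_mem hz1N hzN) (mul_mem h.z1Q h.zQ) h1
        rw [h.xzz1, mul_inv_rev, hziz, hz1iz1, ← mul_assoc, h.zz, one_mul] at this
        exact hz1W this
    have hyx := h.xR y hyR
    have h6 : p * x * p⁻¹ = y * x := by rw [hy]; group
    have h7 : (y * x) ^ 3 = 1 := by
      rw [← h6]
      have e3 : (p * x * p⁻¹) ^ 3 = p * (x * x * x) * p⁻¹ := by rw [pow_succ, pow_two]; group
      have e4 : x * x * x = 1 := by rw [← h.x3, pow_succ, pow_two]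
      rw [e3, e4]; group
    have h8 : y ^ 3 = 1 := by
      have := (show Commute y x from hyx.symm).mul_pow 3
      rw [h7, h.x3, mul_one] at this
      exact this.symm
    have h9 : y = 1 := by
      have h10 := h.sq y hyQ
      have e3 : y ^ 3 = y * y * y := by rw [pow_succ, pow_two]
      rw [e3, h10, one_mul] at h8
      exact h8
    rw [h9, one_mul] at h6
    exact mul_inv_eq_iff_eq_mul.1 h6
  -- `B ∩ W ≤ R`
  have hBW : ∀ y ∈ Q ⊔ cj s Q, y ∈ W → y ∈ R := by
    intro y hyB hyW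
    obtain ⟨-, h2, h3⟩ := hP y hyW (h.TN (h.BT hyB))
    exact h.mem_R (h.mem_Q_of_comm hyB h.z1Q h.z1D h2) h3.symm
  have hQW : ∀ y ∈ Q ⊔ cj s Q, y ∈ W → y ∈ E := by
    intro y hyB hyW
    refine ⟨hBW y hyB hyW, mem_cj.2 ?_⟩
    refine hBW _ ?_ (sW hyW)
    -- `s` normalises `B`
    obtain ⟨q, hq, r, hr, rfl⟩ := h.exists_mul hyB
    have e : s⁻¹ * (q * r) * s = (s⁻¹ * q * s) * (s⁻¹ * r * s) := by group
    rw [e]
    exact mul_mem ((le_sup_right : cj s Q ≤ _) (h.swap'' hq)) ((le_sup_left : Q ≤ _) (mem_cj.1 hr))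
  -- (iii)
  have hCB : ∀ c ∈ W, c ∈ normalizer ((Q ⊔ cj s Q : Subgroup G) : Set G) →
      c ∈ normalizer (Q : Set G) := by
    intro c hcW hcB
    refine mem_norm_of_forall fun q hq => ?_
    have hqB : q ∈ Q ⊔ cj s Q := (le_sup_left : Q ≤ _) hq
    have h1 : c * q * c⁻¹ * q⁻¹ ∈ Q ⊔ cj s Q :=
      mul_mem ((mem_normalizer_iff.1 hcB q).1 hqB) (inv_mem hqB)
    have h2 : c * q * c⁻¹ * q⁻¹ ∈ W := by
      have := conjW (hBN hqB) (inv_mem hcW)
      have e : c * q * c⁻¹ * q⁻¹ = c * (q * c⁻¹ * q⁻¹) := by group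
      rw [e]
      exact mul_mem hcW this
    have h3 := h.RQ (hBW _ h1 h2)
    have h4 := mul_mem h3 hq
    rwa [inv_mul_cancel_right] at h4
  -- (iv), (v)
  have hWB : W ≤ normalizer ((Q ⊔ cj s Q : Subgroup G) : Set G) := by
    set C : Subgroup G := W ⊓ normalizer ((Q ⊔ cj s Q : Subgroup G) : Set G) with hC
    set X : Subgroup G := (Q ⊔ cj s Q) ⊔ C with hX
    set U : Subgroup G := (Q ⊔ cj s Q) ⊔ W with hU
    have hU2 : IsPGroup 2 U :=
      IsPGroup.to_sup_of_normal_right' (h.two.to_le h.BT) hW2 (hBN.trans hNW)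
    have hXU : X ≤ U := sup_le_sup_left inf_le_left _
    have hX2 : IsPGroup 2 X := hU2.to_le hXU
    have hXN : X ≤ normalizer (Q : Set G) :=
      sup_le (h.BT.trans h.TN) fun c hc => hCB c hc.1 hc.2
    by_cases hlt : X = U
    · intro w hw
      have h1 : w ∈ X := hlt ▸ (le_sup_right : W ≤ U) hw
      obtain ⟨c, hcC, β, hβ, he⟩ := Cfsg.Agent.OddOrderLocal.RankBasics.exists_mul_of_mem_sup
        (show C ≤ normalizer ((Q ⊔ cj s Q : Subgroup G) : Set G) from inf_le_right)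
        (show w ∈ C ⊔ (Q ⊔ cj s Q) by rw [sup_comm]; exact h1)
      have h2 : β ∈ W := by
        have : β = c⁻¹ * w := by rw [← he]; group
        rw [this]
        exact mul_mem (inv_mem hcC.1) hw
      rw [← he]
      exact mul_mem hcC.2 (le_normalizer hβ)
    · exfalso
      obtain ⟨y, hyU, hyN, hyX, -⟩ := Cfsg.Agent.MinSimple.Choice97.exists_normalizing hU2
        (lt_of_le_of_ne hXU hlt)
      obtain ⟨β, hβ, w, hw, rfl⟩ := Cfsg.Agent.OddOrderLocal.RankBasics.exists_mul_of_mem_sup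
        (hBN.trans hNW) hyU
      have hβX : β ∈ X := (le_sup_left : Q ⊔ cj s Q ≤ X) hβ
      have hwN : w ∈ normalizer (X : Set G) := by
        have h1 := mul_mem (inv_mem (le_normalizer hβX)) hyN
        rwa [inv_mul_cancel_left] at h1
      have hwX : w ∉ X := fun hh => hyX (mul_mem hβX hh)
      apply hwX
      refine (le_sup_right : C ≤ X) ⟨hw, mem_normalizer_iff_cj.2 ?_⟩
      refine h.weak hX2 hXN le_sup_left ?_
      have h1 := cj_mono w (le_sup_left : Q ⊔ cj s Q ≤ X)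
      rwa [cj_eq_of_mem_normalizer hwN] at h1
  -- the contradiction
  have hxC : x ∈ W := by
    refine hself ⟨hxN, mem_centralizer_iff.2 fun w hw => ?_⟩
    exact (hP w hw (hCB w hw (hWB hw))).2.2
  obtain ⟨k, hk⟩ := hW2 ⟨x, hxC⟩
  have hk' : x ^ 2 ^ k = 1 := congrArg Subtype.val hk
  have h1 : orderOf x ∣ Nat.gcd 3 (2 ^ k) :=
    Nat.dvd_gcd (orderOf_dvd_of_pow_eq_one h.x3) (orderOf_dvd_of_pow_eq_one hk')
  have h2 : Nat.gcd 3 (2 ^ k) = 1 := Nat.Coprime.pow_right k (by norm_num)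
  rw [h2, Nat.dvd_one, orderOf_eq_one_iff] at h1
  have h3 := h.xz
  rw [h1] at h3
  exact h.z1_ne (by rw [← h3]; group)

end Blk

end Cfsg.Agent.Omega.SQ1.Two

end

section


/-!
# The unique maximal 2-local case, one block, `q = 2`: the end (SQ1, #6862 (6))

`main`: in a group `G` of characteristic 2 type with a configuration `Hyp T Q s` such that `N_G(Q)` does not
normalise `B = Q Q ^ s`, either `G` has 2-rank at most 2 (Sylow 2-subgroups of maximal class) or `G` has a normal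
subgroup of index 2.
-/

set_option autoImplicit false

namespace Cfsg.Agent.Omega.SQ1.Two

open Subgroup Cfsg Cfsg.Agent.ZN Cfsg.Agent.ZN.ChoiceBase Cfsg.Agent.ZN.ChoiceSit
open Cfsg.Agent.MinSimple.CaseOneAP (mul_mem_of_relIndex comm_of_sq)

universe u

variable {G : Type u} [Group G] {T Q : Subgroup G} {s a b z z₁ x : G} {R : Subgroup G}

namespace Blk

variable [Finite G]

/-- elements of `D` outside `R`, `R ^ s` -/
theorem mul_mem_R (h : Blk T Q s a b z z₁ x R) {c d : G} (hc : c ∈ Q ⊓ cj s Q)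
    (hd : d ∈ Q ⊓ cj s Q) (hcR : c ∉ R) (hdR : d ∉ R) : c * d ∈ R := by
  -- every element of `D` is in `R` or `R z`
  have key : ∀ y ∈ Q ⊓ cj s Q, y ∉ R → y * z ∈ R := by
    intro y hy hyR
    rcases h.dec y hy.1 with h1 | h1 | h1 | h1
    · exact absurd h1 hyR
    · exact h1
    · exfalso
      apply h.z1D
      have := mul_mem (inv_mem hy) (h.RD h1)
      rwa [inv_mul_cancel_left] at this
    · exfalso
      apply h.z1D
      have h2 := mul_mem (inv_mem hy) (h.RD h1)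
      rw [inv_mul_cancel_left] at h2
      have h3 := mul_mem h2 h.zD
      rwa [mul_assoc, h.zz, mul_one] at h3
  have h1 := mul_mem (key c hc hcR) (key d hd hdR)
  have h2 : z * d = d * z := h.comm h.zQ hd.1
  have e : c * z * (d * z) = c * d := by
    calc c * z * (d * z) = c * (z * d) * z := by group
      _ = c * d * (z * z) := by rw [h2]; group
      _ = c * d := by rw [h.zz, mul_one]
  rwa [e] at h1

theorem sR (h : Blk T Q s a b z z₁ x R) (hc : IsCharacteristicTwoType G) {r : G} (hr : r ∈ R)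
    (hsr : s⁻¹ * r * s ∈ R) : r = 1 := by
  have h1 : r ∈ R ⊓ cj s R := ⟨hr, mem_cj.2 hsr⟩
  rw [h.killing hc, mem_bot] at h1
  exact h1

/-- `|R| ≤ 2`. -/
theorem R_unique (h : Blk T Q s a b z z₁ x R) (hc : IsCharacteristicTwoType G) {c d : G}
    (hcR : c ∈ R) (hdR : d ∈ R) (hc1 : c ≠ 1) (hd1 : d ≠ 1) : c = d := by
  have h1 : s⁻¹ * c * s ∉ R := fun hh => hc1 (h.sR hc hcR hh)
  have h2 : s⁻¹ * d * s ∉ R := fun hh => hd1 (h.sR hc hdR hh)
  have h3 := h.mul_mem_R (h.sD' (h.RD hcR)) (h.sD' (h.RD hdR)) h1 h2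
  have e : s⁻¹ * c * s * (s⁻¹ * d * s) = s⁻¹ * (c * d) * s := by group
  rw [e] at h3
  have h4 := h.sR hc (mul_mem hcR hdR) h3
  have h5 := h.sq d (h.RQ hdR)
  calc c = c * (d * d) := by rw [h5, mul_one]
    _ = (c * d) * d := by group
    _ = d := by rw [h4, one_mul]

/-- `T` centralises `R`. -/
theorem TR (h : Blk T Q s a b z z₁ x R) (hc : IsCharacteristicTwoType G) {t r : G} (ht : t ∈ T)
    (hr : r ∈ R) : t * r = r * t := by
  by_cases hr1 : r = 1
  · rw [hr1, mul_one, one_mul]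
  · have h1 := h.conjR t (h.TN ht) r hr
    have h2 : t * r * t⁻¹ ≠ 1 := by
      intro hh
      apply hr1
      have : r = t⁻¹ * (t * r * t⁻¹) * t := by group
      rw [this, hh]; group
    exact mul_inv_eq_iff_eq_mul.1 (h.R_unique hc h1 hr h2 hr1)

/-- `T = B`. -/
theorem T_eq (h : Blk T Q s a b z z₁ x R) (hc : IsCharacteristicTwoType G) : T = Q ⊔ cj s Q := by
  refine le_antisymm (fun t ht => ?_) h.BT
  -- elements of `T` centralising `z₁` lie in `Q`
  have key : ∀ t ∈ T, t * z₁ * t⁻¹ = z₁ → t ∈ Q := by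
    intro t ht h1
    have hz1 : t * z₁ = z₁ * t := mul_inv_eq_iff_eq_mul.1 h1
    have hz : t * z = z * t := mul_inv_eq_iff_eq_mul.1 (h.Tz ht)
    refine h.cent t ht fun q hq => ?_
    have key : ∀ v ∈ Q, t * v = v * t → q * v ∈ R → t * q = q * t := by
      intro v hv hcv hqv
      have h1 := h.TR hc ht hqv
      have e : q = (q * v) * v := by rw [mul_assoc, h.sq v hv, mul_one]
      calc t * q = (t * (q * v)) * v := by rw [mul_assoc, ← e]
        _ = (q * v) * (t * v) := by rw [h1]; group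
        _ = ((q * v) * v) * t := by rw [hcv]; group
        _ = q * t := by rw [← e]
    rcases h.dec q hq with h1 | h1 | h1 | h1
    · exact h.TR hc ht h1
    · exact key z h.zQ hz h1
    · exact key z₁ h.z1Q hz1 h1
    · exact key (z₁ * z) (mul_mem h.z1Q h.zQ)
        ((show Commute t z₁ from hz1).mul_right (show Commute t z from hz)).eq h1
  rcases h.conjz1 t (h.TN ht) with h1 | h1 | h1
  · exfalso
    apply h.z1_ne
    have h2 := h.Tz ht
    rw [← h2] at h1
    exact mul_left_cancel (mul_right_cancel h1)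
  · exact (le_sup_left : Q ≤ _) (key t ht h1)
  · have hbT : b ∈ T := h.BT h.bB
    have h2 : b * t ∈ Q := by
      refine key _ (mul_mem hbT ht) ?_
      have h3 : b * z₁ * b⁻¹ = z₁ * z := h.actb h.z1Q h.z1D
      calc b * t * z₁ * (b * t)⁻¹ = b * (t * z₁ * t⁻¹) * b⁻¹ := by group
        _ = (b * z₁ * b⁻¹) * (b * z * b⁻¹) := by rw [h1]; group
        _ = z₁ := by rw [h3, h.Tz hbT, mul_assoc, h.zz, mul_one]
    have e : t = b⁻¹ * (b * t) := by group
    rw [e]
    exact mul_mem (inv_mem h.bB) ((le_sup_left : Q ≤ _) h2)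

/-- `Q = V × R`. -/
theorem Q_le (h : Blk T Q s a b z z₁ x R) {K : Subgroup G} (hz : z ∈ K) (hz1 : z₁ ∈ K)
    (hR : R ≤ K) : Q ≤ K := by
  intro q hq
  have key : ∀ v ∈ K, q * v ∈ R → q ∈ K := by
    intro v hv h1
    have := mul_mem (hR h1) (inv_mem hv)
    rwa [mul_inv_cancel_right] at this
  rcases h.dec q hq with h1 | h1 | h1 | h1
  · exact hR h1
  · exact key z hz h1
  · exact key z₁ hz1 h1
  · exact key _ (mul_mem hz1 hz) h1

/-- The case `R = 1`. -/
theorem pRankLE (h : Blk T Q s a b z z₁ x R) (S : Sylow 2 G)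
    (hTS : T ≤ S) (hR : R = ⊥) : PRankLE 2 2 G := by
  have hQ : ∀ q ∈ Q, q = 1 ∨ q = z ∨ q = z₁ ∨ q = z₁ * z := by
    intro q hq
    have hi : ∀ v ∈ Q, q * v = 1 → q = v := by
      intro v hv h1
      calc q = (q * v) * v := by rw [mul_assoc, h.sq v hv, mul_one]
        _ = v := by rw [h1, one_mul]
    rcases h.dec q hq with h1 | h1 | h1 | h1
    · left; rwa [hR, mem_bot] at h1
    · right; left
      rw [hR, mem_bot] at h1
      exact hi z h.zQ h1
    · right; right; left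
      rw [hR, mem_bot] at h1
      exact hi z₁ h.z1Q h1
    · right; right; right
      rw [hR, mem_bot] at h1
      exact hi _ (mul_mem h.z1Q h.zQ) h1
  have hz1ne : z₁ ≠ 1 := fun h1 => h.z1D (h1 ▸ one_mem _)
  have hzz1ne : z₁ * z ≠ 1 := by
    intro h1
    apply h.z1_ne
    calc z₁ = z₁ * z * z := by rw [mul_assoc, h.zz, mul_one]
      _ = z := by rw [h1, one_mul]
  have hcard : Nat.card Q = 4 := by
    classical
    have hset : (Q : Set G) = (({1, z, z₁, z₁ * z} : Finset G) : Set G) := by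
      ext q
      simp only [SetLike.mem_coe, Finset.coe_insert, Finset.coe_singleton, Set.mem_insert_iff,
        Set.mem_singleton_iff]
      constructor
      · exact hQ q
      · rintro (rfl | rfl | rfl | rfl)
        · exact one_mem _
        · exact h.zQ
        · exact h.z1Q
        · exact mul_mem h.z1Q h.zQ
    have h1 : Nat.card Q = Nat.card ((Q : Set G)) := rfl
    rw [h1, hset, Nat.card_eq_card_finite_toFinset (Finset.finite_toSet _),
      Finset.finite_toSet_toFinset]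
    have hz1' := h.z1
    have n1 : z ≠ z₁ * z := by
      intro h1
      apply hz1ne
      exact (mul_right_cancel (show 1 * z = z₁ * z by rw [one_mul]; exact h1)).symm
    have n2 : z₁ ≠ z₁ * z := by
      intro h1
      apply h.z1
      exact (mul_left_cancel (show z₁ * 1 = z₁ * z by rw [mul_one]; exact h1)).symm
    rw [Finset.card_insert_of_notMem, Finset.card_insert_of_notMem, Finset.card_insert_of_notMem,
      Finset.card_singleton]
    · simp only [Finset.mem_singleton]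
      exact n2
    · simp only [Finset.mem_insert, Finset.mem_singleton, not_or]
      exact ⟨h.z1_ne.symm, n1⟩
    · simp only [Finset.mem_insert, Finset.mem_singleton, not_or]
      exact ⟨hz1'.symm, hz1ne.symm, hzz1ne.symm⟩
  refine MinSimple.SelfCentFour.pRankLE S (h.QT.trans hTS) hcard (fun v hv => h.sq v hv) ?_
  rintro y ⟨hyS, hyc⟩
  have hyN : y ∈ normalizer (Q : Set G) := centralizer_le_normalizer _ hyc
  have h1 := h.syl.2.2 (T ⊔ zpowers y) (sup_le h.TN (zpowers_le.2 hyN))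
    (S.isPGroup'.to_le (sup_le hTS (zpowers_le.2 hyS))) le_sup_left
  have hyT : y ∈ T := by
    rw [← h1]
    exact (le_sup_right : zpowers y ≤ T ⊔ zpowers y) (mem_zpowers y)
  exact h.cent y hyT fun q hq => (mem_centralizer_iff.1 hyc q hq).symm

/-- `T` is a Sylow 2-subgroup of `C_G(c)`, `1 ≠ c ∈ R`. -/
theorem syl_c (h : Blk T Q s a b z z₁ x R) (hc : IsCharacteristicTwoType G) {c : G} (hcR : c ∈ R)
    (hc1 : c ≠ 1) : Syl T (centralizer ({c} : Set G)) := by
  refine ⟨fun t ht => mem_centralizer_singleton_iff.2 (h.TR hc ht hcR), h.two, fun P hP hP2 hTP => ?_⟩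
  by_contra hne
  obtain ⟨p, hpP, hpN, hpT, -⟩ := Cfsg.Agent.MinSimple.Choice97.exists_normalizing hP2
    (lt_of_le_of_ne hTP (Ne.symm hne))
  have hpc : p * c = c * p := mem_centralizer_singleton_iff.1 (hP hpP)
  -- `p` does not normalise `Q`
  have hpQ : p ∉ normalizer (Q : Set G) := by
    intro hh
    apply hpT
    have h1 := h.syl.2.2 (T ⊔ zpowers p) (sup_le h.TN (zpowers_le.2 hh))
      (hP2.to_le (sup_le hTP (zpowers_le.2 hpP))) le_sup_left
    rw [← h1]
    exact (le_sup_right : zpowers p ≤ T ⊔ zpowers p) (mem_zpowers p)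
  have h1 : cj p Q ≤ T := by
    have := cj_mono p h.QT
    rwa [cj_eq_of_mem_normalizer hpN] at this
  have h2 : cj p Q = cj s Q := by
    rcases h.cj_Q h1 with h2 | h2
    · exact absurd (mem_normalizer_iff_cj.2 h2) hpQ
    · exact h2
  have h3 : s⁻¹ * p ∈ normalizer (Q : Set G) := by
    rw [mem_normalizer_iff_cj, ← cj_cj, h2, cj_inv_cj]
  have h4 := h.conjR _ h3 c hcR
  apply hc1
  refine h.sR hc hcR ?_
  have e : s⁻¹ * p * c * (s⁻¹ * p)⁻¹ = s⁻¹ * c * s := by
    calc s⁻¹ * p * c * (s⁻¹ * p)⁻¹ = s⁻¹ * (p * c) * p⁻¹ * s := by group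
      _ = s⁻¹ * c * s := by rw [hpc]; group
  rwa [e] at h4

theorem card_T (h : Blk T Q s a b z z₁ x R) (hc : IsCharacteristicTwoType G) {c : G} (hcR : c ∈ R)
    (hc1 : c ≠ 1) : Nat.card T ≤ 16 := by
  have hR : R ≤ zpowers c := by
    intro r hr
    by_cases hr1 : r = 1
    · rw [hr1]; exact one_mem _
    · rw [h.R_unique hc hr hcR hr1 hc1]; exact mem_zpowers c
  have hcc : c * c = 1 := h.sq c (h.RQ hcR)
  have card2 : ∀ y : G, y * y = 1 → Nat.card (zpowers y) ≤ 2 := by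
    intro y hy
    rw [Nat.card_zpowers]
    exact Nat.le_of_dvd two_pos (orderOf_dvd_of_pow_eq_one (by rw [pow_two]; exact hy))
  have cardsup : ∀ (H : Subgroup G) (y : G), y ∈ normalizer (H : Set G) → y * y = 1 →
      Nat.card (zpowers y ⊔ H : Subgroup G) ≤ 2 * Nat.card H := by
    intro H y hyn hyy
    have hs : Function.Surjective (fun p : zpowers y × H =>
        (⟨p.1 * p.2, mul_mem ((le_sup_left : zpowers y ≤ _) p.1.2)
          ((le_sup_right : H ≤ _) p.2.2)⟩ : (zpowers y ⊔ H : Subgroup G))) := by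
      rintro ⟨w, hw⟩
      obtain ⟨u, hu, v, hv, rfl⟩ := Cfsg.Agent.OddOrderLocal.RankBasics.exists_mul_of_mem_sup
        (zpowers_le.2 hyn) hw
      exact ⟨(⟨u, hu⟩, ⟨v, hv⟩), rfl⟩
    have h1 := Nat.card_le_card_of_surjective _ hs
    rw [Nat.card_prod] at h1
    exact h1.trans (Nat.mul_le_mul_right _ (card2 y hyy))
  have hcomm : ∀ {H : Subgroup G} {y : G}, (∀ w ∈ H, y * w = w * y) → y ∈ normalizer (H : Set G) := by
    intro H y hy
    exact centralizer_le_normalizer _ (mem_centralizer_iff.2 fun w hw => (hy w hw).symm)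
  have hQle : Q ≤ zpowers z₁ ⊔ (zpowers z ⊔ zpowers c) :=
    h.Q_le ((le_sup_left.trans le_sup_right : zpowers z ≤ _) (mem_zpowers z))
      ((le_sup_left : zpowers z₁ ≤ _) (mem_zpowers z₁))
      ((hR.trans le_sup_right).trans le_sup_right)
  have hzc : (zpowers z ⊔ zpowers c : Subgroup G) ≤ Q :=
    sup_le (zpowers_le.2 h.zQ) (zpowers_le.2 (h.RQ hcR))
  have c1 := card2 c hcc
  have c2 := cardsup (zpowers c) z (hcomm fun w hw => h.comm h.zQ (zpowers_le.2 (h.RQ hcR) hw)) h.zz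
  have c3 := cardsup (zpowers z ⊔ zpowers c) z₁ (hcomm fun w hw => h.comm h.z1Q (hzc hw)) h.z1z1
  have c4 : Nat.card Q ≤ 8 := (card_le_of_le hQle).trans (by omega)
  have hbQ : b ∈ normalizer (Q : Set G) := h.TN (h.BT h.bB)
  have c5 := cardsup Q b hbQ h.bb
  have hTle : T ≤ zpowers b ⊔ Q := by
    rw [h.T_eq hc]
    refine sup_le le_sup_right fun r hr => ?_
    by_cases hrD : r ∈ Q ⊓ cj s Q
    · exact (le_sup_right : Q ≤ _) hrD.1
    · have h1 := (h.mulD' h.bQ hr h.bD hrD).1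
      have e : r = b⁻¹ * (b * r) := by group
      rw [e]
      exact mul_mem (inv_mem ((le_sup_left : zpowers b ≤ _) (mem_zpowers b)))
        ((le_sup_right : Q ≤ _) h1)
  exact (card_le_of_le hTle).trans (by omega)

/-- The case `R ≠ 1`. -/
theorem exists_index_two (h : Blk T Q s a b z z₁ x R) (hc : IsCharacteristicTwoType G) (S : Sylow 2 G)
    (hTS : T ≤ S) (hsS : s ∈ S) {c : G} (hcR : c ∈ R) (hc1 : c ≠ 1) :
    ∃ N : Subgroup G, N.Normal ∧ N.index = 2 := by
  have hR : ∀ r ∈ R, r = 1 ∨ r = c := by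
    intro r hr
    by_cases hr1 : r = 1
    · exact Or.inl hr1
    · exact Or.inr (h.R_unique hc hr hcR hr1 hc1)
  have hb' : s⁻¹ * z₁ * s ∈ cj s Q := h.swap'' h.z1Q
  have hb'D : s⁻¹ * z₁ * s ∉ Q ⊓ cj s Q := h.s_notMem' h.z1D
  have hbB : s⁻¹ * z₁ * s ∈ Q ⊔ cj s Q := (le_sup_right : cj s Q ≤ _) hb'
  have hsz : s⁻¹ * z * s = z := by
    calc s⁻¹ * z * s = s⁻¹ * (s * z * s⁻¹) * s := by rw [h.sz]
      _ = z := by group
  have hcs : s⁻¹ * c * s = c * z := by
    have h1 := h.sD' (h.RD hcR)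
    have h2 : s⁻¹ * c * s ∉ R := fun hh => hc1 (h.sR hc hcR hh)
    have h3 := h.mul_mem_R h1 h.zD h2 h.zR
    rcases hR _ h3 with h4 | h4
    · exfalso
      have h5 : s⁻¹ * c * s = z := by
        calc s⁻¹ * c * s = s⁻¹ * c * s * z * z := by rw [mul_assoc _ z z, h.zz, mul_one]
          _ = z := by rw [h4, one_mul]
      rw [← hsz] at h5
      have h6 : c = z := mul_left_cancel (mul_right_cancel h5)
      exact h.zR (h6 ▸ hcR)
    · calc s⁻¹ * c * s = s⁻¹ * c * s * z * z := by rw [mul_assoc _ z z, h.zz, mul_one]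
        _ = c * z := by rw [h4]
  refine MinSimple.PushOne.exists_index_two S (a := z₁) (c := c) (s := s) (v := z)
    (hTS (h.QT h.z1Q)) (hTS (h.QT (h.RQ hcR))) hsS h.z1z1 (h.sq c (h.RQ hcR))
    (h.comm h.z1Q (h.RQ hcR)) (h.D_comm hbB (h.RD hcR)) (h.zeq h.z1Q h.z1D hb' hb'D ▸ by group)
    h.zz1 h.z1 hcs ?_ ⟨x⁻¹, by rw [inv_inv]; exact h.xiz1⟩ ?_
  · -- `s * s ∈ T = ⟨z₁, z₁ ^ s, c⟩`
    have m1 : z₁ ∈ closure {z₁, s⁻¹ * z₁ * s, c} := subset_closure (by simp)
    have m2 : s⁻¹ * z₁ * s ∈ closure {z₁, s⁻¹ * z₁ * s, c} := subset_closure (by simp)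
    have m3 : c ∈ closure {z₁, s⁻¹ * z₁ * s, c} := subset_closure (by simp)
    have m4 : z ∈ closure {z₁, s⁻¹ * z₁ * s, c} := by
      rw [← h.zeq h.z1Q h.z1D hb' hb'D]
      exact mul_mem (mul_mem (mul_mem m1 m2) m1) m2
    have hQ : Q ≤ closure {z₁, s⁻¹ * z₁ * s, c} := by
      refine h.Q_le m4 m1 fun r hr => ?_
      rcases hR r hr with h1 | h1
      · rw [h1]; exact one_mem _
      · rw [h1]; exact m3
    have hQ' : cj s Q ≤ closure {z₁, s⁻¹ * z₁ * s, c} := by
      intro r hr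
      by_cases hrD : r ∈ Q ⊓ cj s Q
      · exact hQ hrD.1
      · have h1 := (h.mulD' hb' hr hb'D hrD).1
        have e : r = (s⁻¹ * z₁ * s)⁻¹ * (s⁻¹ * z₁ * s * r) := by group
        rw [e]
        exact mul_mem (inv_mem m2) (hQ h1)
    have hTB := h.T_eq hc
    have := h.ss
    rw [hTB] at this
    exact (sup_le hQ hQ') this
  · intro P hP hPc
    have hPX : P ≤ centralizer ({c} : Set G) := fun y hy =>
      mem_centralizer_singleton_iff.2 (hPc y hy)
    obtain ⟨S', hS', hPS'⟩ := exists_syl hP hPX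
    obtain ⟨g, -, hg⟩ := syl_conj (h.syl_c hc hcR hc1) hS'
    calc Nat.card P ≤ Nat.card S' := card_le_of_le hPS'
      _ = Nat.card T := by rw [← hg, card_cj]
      _ ≤ 16 := h.card_T hc hcR hc1

end Blk

/-- **SQ1, one block, `q = 2`.** -/
theorem main [Finite G] (hc : IsCharacteristicTwoType G) (S : Sylow 2 G) (h : Hyp T Q s) (hTS : T ≤ S)
    (hsS : s ∈ S) (hmove : ¬ normalizer (Q : Set G) ≤ normalizer ((Q ⊔ cj s Q : Subgroup G) : Set G)) :
    PRankLE 2 2 G ∨ ∃ N : Subgroup G, N.Normal ∧ N.index = 2 := by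
  obtain ⟨a, b, z, hf⟩ := h.exists_frame
  obtain ⟨g, hg, hgB⟩ := SetLike.not_le_iff_exists.1 hmove
  rw [mem_normalizer_iff_cj] at hgB
  obtain ⟨z₁, x, R, hB⟩ := hf.exists_blk hc hg hgB
  by_cases hR : R = ⊥
  · exact Or.inl (hB.pRankLE S hTS hR)
  · obtain ⟨⟨c, hcR⟩, hc1⟩ := (Subgroup.ne_bot_iff_exists_ne_one).1 hR
    exact Or.inr (hB.exists_index_two hc S hTS hsS hcR fun h1 => hc1 (Subtype.ext h1))

end Cfsg.Agent.Omega.SQ1.Two

end

section


/-!
# The unique maximal 2-local case, one block, `q = 2`: from the pushing up theorem to `Hyp`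

`Push T B Q Y s`: the output of the pushing up theorem for one block and `q = 2`.
-/

set_option autoImplicit false

namespace Cfsg.Agent.Omega.SQ1.Two

open Subgroup Cfsg Cfsg.Agent.ZN Cfsg.Agent.ZN.ChoiceBase Cfsg.Agent.ZN.ChoiceSit
open Cfsg.Agent.MinSimple.CaseOneAP (mul_mem_of_relIndex comm_of_sq)

universe u

variable {G : Type u} [Group G]

/-- The output of the pushing up theorem (one block, `q = 2`): `Q = Q*`, `Y ≤ Z(Q)` elementary abelian,
`C_T(Y) ≤ Q`, `|B : Q| = 2`, `J(T) ≤ B`, `s` normalises `T` and `B`, `Y` and `Y ^ s` do not commute. -/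
structure Push (T B Q Y : Subgroup G) (s : G) : Prop where
  syl : Syl T (normalizer (Q : Set G))
  QB : Q ≤ B
  BT : B ≤ T
  YQ : Y ≤ Q
  Ysq : ∀ y ∈ Y, y * y = 1
  YcQ : ∀ y ∈ Y, ∀ q ∈ Q, y * q = q * y
  cent : ∀ t ∈ T, (∀ y ∈ Y, t * y = y * t) → t ∈ Q
  sT : s ∈ normalizer (T : Set G)
  sB : s ∈ normalizer (B : Set G)
  ss : s * s ∈ T
  J : jj T ≤ B
  idx : Q.relIndex B = 2
  nc : ∃ u ∈ Y, ∃ v ∈ Y, u * (s * v * s⁻¹) ≠ (s * v * s⁻¹) * u
  core : ∀ R : Subgroup G, R ≤ Q → normalizer (Q : Set G) ≤ normalizer (R : Set G) →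
    s ∈ normalizer (R : Set G) → R = ⊥

namespace Push

variable {T B Q Y : Subgroup G} {s : G}

theorem conjB (h : Push T B Q Y s) {b : G} (hb : b ∈ B) : s * b * s⁻¹ ∈ B := (mem_normalizer_iff.1 h.sB b).1 hb

theorem conjB' (h : Push T B Q Y s) {b : G} (hb : b ∈ B) : s⁻¹ * b * s ∈ B := by
  have := (mem_normalizer_iff.1 (inv_mem h.sB) b).1 hb
  rwa [inv_inv] at this

theorem two (h : Push T B Q Y s) : IsPGroup 2 T := h.syl.2.1

/-- Elements of `Q` have square one. -/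
theorem sq [Finite G] (h : Push T B Q Y s) {q : G} (hq : q ∈ Q) : q * q = 1 := by
  obtain ⟨v, hv, u, hu, hne⟩ := h.nc
  have hvQ : v ∈ Q := h.YQ hv
  have huQ : u ∈ Q := h.YQ hu
  have hvv : v * v = 1 := h.Ysq v hv
  have huu : u * u = 1 := h.Ysq u hu
  -- `v ∉ Q ^ s`, `u ^ s ∉ Q`
  have hv' : s⁻¹ * v * s ∉ Q := by
    intro hh
    apply hne
    have h1 := h.YcQ u hu _ hh
    calc v * (s * u * s⁻¹) = s * ((s⁻¹ * v * s) * u) * s⁻¹ := by group
      _ = s * (u * (s⁻¹ * v * s)) * s⁻¹ := by rw [h1]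
      _ = s * u * s⁻¹ * v := by group
  have hu' : s * u * s⁻¹ ∉ Q := fun hh => hne (h.YcQ v hv _ hh)
  set R : Subgroup G := closure {x | ∃ q ∈ Q, x = q * q} with hR
  have hRQ : R ≤ Q := by
    rw [hR, closure_le]
    rintro _ ⟨q, hq, rfl⟩
    exact mul_mem hq hq
  -- squares of `Q` are squares of `Q ^ s`
  have h1 : ∀ q ∈ Q, ∃ p ∈ Q, q * q = s * (p * p) * s⁻¹ := by
    intro q hq
    by_cases hqt : s⁻¹ * q * s ∈ Q
    · exact ⟨_, hqt, by group⟩
    · have h2 : (s⁻¹ * q * s) * (s⁻¹ * v * s) ∈ Q :=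
        mul_mem_of_relIndex h.idx (h.conjB' (h.QB hq)) (h.conjB' (h.QB hvQ)) hqt hv'
      refine ⟨_, h2, ?_⟩
      have h3 := h.YcQ v hv q hq
      calc q * q = q * (v * v) * q := by rw [hvv, mul_one]
        _ = (q * v) * (v * q) := by group
        _ = (q * v) * (q * v) := by rw [h3]
        _ = _ := by group
  have h2 : ∀ q ∈ Q, ∃ p ∈ Q, s * (q * q) * s⁻¹ = p * p := by
    intro q hq
    by_cases hqt : s * q * s⁻¹ ∈ Q
    · exact ⟨_, hqt, by group⟩
    · have h2 : (s * q * s⁻¹) * (s * u * s⁻¹) ∈ Q :=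
        mul_mem_of_relIndex h.idx (h.conjB (h.QB hq)) (h.conjB (h.QB huQ)) hqt hu'
      refine ⟨_, h2, ?_⟩
      have h3 := h.YcQ u hu q hq
      calc s * (q * q) * s⁻¹ = s * (q * (u * u) * q) * s⁻¹ := by rw [huu, mul_one]
        _ = s * ((q * u) * (u * q)) * s⁻¹ := by group
        _ = s * ((q * u) * (q * u)) * s⁻¹ := by rw [h3]
        _ = _ := by group
  have hLR : normalizer (Q : Set G) ≤ normalizer (R : Set G) := by
    intro l hl
    refine mem_norm_of_forall ?_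
    have : R ≤ R.comap (MulAut.conj l).toMonoidHom := by
      conv_lhs => rw [hR]
      rw [closure_le]
      rintro _ ⟨q, hq, rfl⟩
      change l * (q * q) * l⁻¹ ∈ R
      rw [hR]
      exact subset_closure ⟨l * q * l⁻¹, (mem_normalizer_iff.1 hl q).1 hq, by group⟩
    exact fun r hr => this hr
  have htR : s ∈ normalizer (R : Set G) := by
    refine mem_norm_of_forall ?_
    have : R ≤ R.comap (MulAut.conj s).toMonoidHom := by
      conv_lhs => rw [hR]
      rw [closure_le]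
      rintro _ ⟨q, hq, rfl⟩
      change s * (q * q) * s⁻¹ ∈ R
      obtain ⟨p, hp, hqp⟩ := h2 q hq
      rw [hqp, hR]
      exact subset_closure ⟨p, hp, rfl⟩
    exact fun r hr => this hr
  have hbot : R = ⊥ := h.core R hRQ hLR htR
  have : q * q ∈ R := by rw [hR]; exact subset_closure ⟨q, hq, rfl⟩
  rwa [hbot, mem_bot] at this

theorem cjs_le (h : Push T B Q Y s) : cj s Q ≤ B := by
  rintro _ ⟨q, hq, rfl⟩
  exact h.conjB (h.QB hq)

/-- `|Q : Q ∩ Q ^ s| = 2`. -/
theorem idx' [Finite G] (h : Push T B Q Y s) : (Q ⊓ cj s Q).relIndex Q = 2 := by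
  obtain ⟨v, hv, u, hu, hne⟩ := h.nc
  have hv' : v ∉ cj s Q := by
    intro hh
    rw [mem_cj] at hh
    apply hne
    have h1 := h.YcQ u hu _ hh
    calc v * (s * u * s⁻¹) = s * ((s⁻¹ * v * s) * u) * s⁻¹ := by group
      _ = s * (u * (s⁻¹ * v * s)) * s⁻¹ := by rw [h1]
      _ = s * u * s⁻¹ * v := by group
  have hmul : ∀ a ∈ Q, ∀ b ∈ Q, a ∉ cj s Q → b ∉ cj s Q → a * b ∈ cj s Q := by
    intro a ha b hb ha' hb'
    rw [mem_cj] at ha' hb' ⊢
    have := mul_mem_of_relIndex h.idx (h.conjB' (h.QB ha)) (h.conjB' (h.QB hb)) ha' hb'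
    have e : s⁻¹ * a * s * (s⁻¹ * b * s) = s⁻¹ * (a * b) * s := by group
    rwa [e] at this
  have hvQ := h.YQ hv
  rw [relIndex_eq_two_iff_exists_notMem_and]
  refine ⟨v, hvQ, fun hh => hv' hh.2, fun x hx => ?_⟩
  by_cases hxs : x ∈ cj s Q
  · exact Or.inr ⟨hx, hxs⟩
  · exact Or.inl ⟨mul_mem hx hvQ, hmul x hx v hvQ hxs hv'⟩

theorem hyp0 [Finite G] (h : Push T B Q Y s) : Hyp0 T Q s where
  syl := h.syl
  QT := h.QB.trans h.BT
  sq := fun q hq => h.sq hq
  cent := fun t ht hc => h.cent t ht fun y hy => hc y (h.YQ hy)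
  sT := h.sT
  ss := h.ss
  idx := h.idx'

theorem B_eq [Finite G] (h : Push T B Q Y s) : B = Q ⊔ cj s Q := by
  refine le_antisymm (fun b hb => ?_) (sup_le h.QB h.cjs_le)
  obtain ⟨v, hv, u, hu, hne⟩ := h.nc
  have hu' : s * u * s⁻¹ ∉ Q := fun hh => hne (h.YcQ v hv _ hh)
  have huQ' : s * u * s⁻¹ ∈ cj s Q := h.hyp0.mem' (h.YQ hu)
  by_cases hbQ : b ∈ Q
  · exact (le_sup_left : Q ≤ _) hbQ
  · have h1 := mul_mem_of_relIndex h.idx hb (h.cjs_le huQ') hbQ hu'
    have e : b = (b * (s * u * s⁻¹)) * (s * u * s⁻¹)⁻¹ := by group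
    rw [e]
    exact mul_mem ((le_sup_left : Q ≤ _) h1) (inv_mem ((le_sup_right : cj s Q ≤ _) huQ'))

theorem isEA {A : Subgroup G} (hA : ∀ a ∈ A, a * a = 1) : IsElementaryAbelian 2 A := by
  refine ⟨⟨⟨fun x y => Subtype.ext ?_⟩⟩, fun a ha => by rw [pow_two]; exact hA a ha⟩
  exact comm_of_sq hA x.2 y.2

theorem hyp [Finite G] (h : Push T B Q Y s) : Hyp T Q s where
  toHyp0 := h.hyp0
  jt := by
    intro A hAT hA2 hc
    have key : ∀ C : Subgroup G, C ∈ AA T → C ≤ Q ⊔ cj s Q ∧ Nat.card C ≤ Nat.card Q := by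
      intro C hC
      have h1 : C ≤ Q ⊔ cj s Q := by
        rw [← h.B_eq]
        exact (le_jj hC).trans h.J
      refine ⟨h1, ?_⟩
      have hC2 : ∀ a ∈ C, a * a = 1 := fun a ha => by
        have := hC.1.2 a ha
        rwa [pow_two] at this
      rcases h.hyp0.le_or_le h1 hC2 with h2 | h2
      · exact card_le_of_le h2
      · exact (card_le_of_le h2).trans (card_cj s Q).le
    obtain ⟨C, hC⟩ := AA_nonempty T
    have hAA : A ∈ AA T := by
      rw [mem_AA_iff]
      refine ⟨isEA hA2, hAT, ?_⟩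
      rw [mm_eq hC]
      exact (key C hC).2.trans hc
    exact (key A hAA).1

/-- **SQ1, one block, `q = 2`**: from the pushing up theorem to the end. -/
theorem main [Finite G] (hc : IsCharacteristicTwoType G) (S : Sylow 2 G) (h : Push T B Q Y s)
    (hTS : T ≤ S) (hsS : s ∈ S) (hmove : ¬ normalizer (Q : Set G) ≤ normalizer (B : Set G)) :
    PRankLE 2 2 G ∨ ∃ N : Subgroup G, N.Normal ∧ N.index = 2 := by
  refine Two.main hc S h.hyp hTS hsS ?_
  rwa [← h.B_eq]

end Push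

end Cfsg.Agent.Omega.SQ1.Two

end

section


/-!
# The unique maximal 2-local case, one block, `q = 2`: sectional 2-rank at most 4 (SQ1, L9)

`Push.rank`: a simple group of characteristic 2 type with a configuration `Push T B Q Y s` such that `N_G(Q)` does
not normalise `B` has sectional 2-rank at most 4.
-/

set_option autoImplicit false

namespace Cfsg.Agent.Omega.SQ1.Two

open Subgroup Cfsg Cfsg.Agent.ZN Cfsg.Agent.ZN.ChoiceBase Cfsg.Agent.ZN.ChoiceSit

universe u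

variable {G : Type u} [Group G] {T Q : Subgroup G} {s a b z z₁ x : G} {R : Subgroup G}

/-- A finite group whose Sylow 2-subgroup `S` contains a subgroup `Q` of order 4 with `C_S(Q) = Q` has sectional
2-rank at most 4. -/
theorem rank_of_four [Finite G] (S : Sylow 2 G) (hQS : Q ≤ S) (hcard : Nat.card Q = 4)
    (hcomm : ∀ x ∈ Q, ∀ y ∈ Q, x * y = y * x)
    (hc : ∀ y ∈ S, (∀ q ∈ Q, y * q = q * y) → y ∈ Q) : SectionalPRankLE 2 4 G := by
  have : Fact (Nat.Prime 2) := ⟨Nat.prime_two⟩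
  apply TwoFusion.SectionalRank.sectionalPRankLE_of_sylow S
  obtain ⟨n, hn⟩ := IsPGroup.iff_card.mp S.isPGroup'
  by_cases hn4 : n ≤ 4
  · refine TwoFusion.SectionalRank.sectionalPRankLE_of_card_le ?_
    rw [hn]
    exact Nat.pow_le_pow_right (by norm_num) hn4
  obtain ⟨A, hA⟩ : ∃ A : Subgroup S, A = Q.subgroupOf S := ⟨_, rfl⟩
  have hA4 : Nat.card A = 2 ^ 2 := by
    rw [hA, Nat.card_congr (subgroupOfEquivOfLe hQS).toEquiv, hcard]; norm_num
  have hCA : centralizer (A : Set S) = A := by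
    apply le_antisymm
    · rintro ⟨y, hy⟩ hyc
      rw [hA, mem_subgroupOf]
      refine hc y hy fun q hq => ?_
      have h1 := mem_centralizer_iff.1 hyc ⟨q, hQS hq⟩ (by
        rw [hA]; exact mem_subgroupOf.2 hq)
      exact (congrArg Subtype.val h1).symm
    · rintro ⟨y, hy⟩ hyA
      rw [hA, mem_subgroupOf] at hyA
      rw [mem_centralizer_iff]
      rintro ⟨q, hq⟩ hqA
      rw [hA, SetLike.mem_coe, mem_subgroupOf] at hqA
      exact Subtype.ext (hcomm q hqA y hyA)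
  have hclass := Cfsg.Agent.S0112.result (p := 2) n hn A hA4 hCA
  obtain ⟨C, hC, hCidx⟩ := Cfsg.Agent.S0113.result n (by omega) hn hclass
  have h1 := TwoFusion.SectionalRank.sectionalPRankLE_of_cyclic (p := 2) (k := 3) (by norm_num) C
    (by rw [hCidx]; norm_num)
  exact h1

namespace Blk

variable [Finite G]

theorem card_Q (h : Blk T Q s a b z z₁ x R) (hR : R = ⊥) : Nat.card Q = 4 := by
  have hQ : ∀ q ∈ Q, q = 1 ∨ q = z ∨ q = z₁ ∨ q = z₁ * z := by
    intro q hq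
    have hi : ∀ v ∈ Q, q * v = 1 → q = v := by
      intro v hv h1
      calc q = (q * v) * v := by rw [mul_assoc, h.sq v hv, mul_one]
        _ = v := by rw [h1, one_mul]
    rcases h.dec q hq with h1 | h1 | h1 | h1
    · left; rwa [hR, mem_bot] at h1
    · right; left
      rw [hR, mem_bot] at h1
      exact hi z h.zQ h1
    · right; right; left
      rw [hR, mem_bot] at h1
      exact hi z₁ h.z1Q h1
    · right; right; right
      rw [hR, mem_bot] at h1
      exact hi _ (mul_mem h.z1Q h.zQ) h1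
  have hz1ne : z₁ ≠ 1 := fun h1 => h.z1D (h1 ▸ one_mem _)
  have hzz1ne : z₁ * z ≠ 1 := by
    intro h1
    apply h.z1_ne
    calc z₁ = z₁ * z * z := by rw [mul_assoc, h.zz, mul_one]
      _ = z := by rw [h1, one_mul]
  have hcard : Nat.card Q = 4 := by
    classical
    have hset : (Q : Set G) = (({1, z, z₁, z₁ * z} : Finset G) : Set G) := by
      ext q
      simp only [SetLike.mem_coe, Finset.coe_insert, Finset.coe_singleton, Set.mem_insert_iff,
        Set.mem_singleton_iff]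
      constructor
      · exact hQ q
      · rintro (rfl | rfl | rfl | rfl)
        · exact one_mem _
        · exact h.zQ
        · exact h.z1Q
        · exact mul_mem h.z1Q h.zQ
    have h1 : Nat.card Q = Nat.card ((Q : Set G)) := rfl
    rw [h1, hset, Nat.card_eq_card_finite_toFinset (Finset.finite_toSet _),
      Finset.finite_toSet_toFinset]
    have hz1' := h.z1
    have n1 : z ≠ z₁ * z := by
      intro h1
      apply hz1ne
      exact (mul_right_cancel (show 1 * z = z₁ * z by rw [one_mul]; exact h1)).symm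
    have n2 : z₁ ≠ z₁ * z := by
      intro h1
      apply h.z1
      exact (mul_left_cancel (show z₁ * 1 = z₁ * z by rw [mul_one]; exact h1)).symm
    rw [Finset.card_insert_of_notMem, Finset.card_insert_of_notMem, Finset.card_insert_of_notMem,
      Finset.card_singleton]
    · simp only [Finset.mem_singleton]
      exact n2
    · simp only [Finset.mem_insert, Finset.mem_singleton, not_or]
      exact ⟨h.z1_ne.symm, n1⟩
    · simp only [Finset.mem_insert, Finset.mem_singleton, not_or]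
      exact ⟨hz1'.symm, hz1ne.symm, hzz1ne.symm⟩
  exact hcard

/-- The case `R = 1`. -/
theorem rank_of_bot (h : Blk T Q s a b z z₁ x R) (S : Sylow 2 G) (hTS : T ≤ S) (hR : R = ⊥) :
    SectionalPRankLE 2 4 G := by
  refine rank_of_four S (h.QT.trans hTS) (h.card_Q hR) (fun x hx y hy => h.comm hx hy) ?_
  intro y hyS hyc
  have hyN : y ∈ normalizer (Q : Set G) :=
    centralizer_le_normalizer _ (mem_centralizer_iff.2 fun q hq => (hyc q hq).symm)
  have h1 := h.syl.2.2 (T ⊔ zpowers y) (sup_le h.TN (zpowers_le.2 hyN))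
    (S.isPGroup'.to_le (sup_le hTS (zpowers_le.2 hyS))) le_sup_left
  have hyT : y ∈ T := by
    rw [← h1]
    exact (le_sup_right : zpowers y ≤ T ⊔ zpowers y) (mem_zpowers y)
  exact h.cent y hyT fun q hq => hyc q hq

end Blk

/-- **SQ1, one block, `q = 2`.** -/
theorem main_rank [Finite G] (hc : IsCharacteristicTwoType G) (S : Sylow 2 G) (h : Hyp T Q s) (hTS : T ≤ S)
    (hsS : s ∈ S) (hmove : ¬ normalizer (Q : Set G) ≤ normalizer ((Q ⊔ cj s Q : Subgroup G) : Set G)) :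
    SectionalPRankLE 2 4 G ∨ ∃ N : Subgroup G, N.Normal ∧ N.index = 2 := by
  obtain ⟨a, b, z, hf⟩ := h.exists_frame
  obtain ⟨g, hg, hgB⟩ := SetLike.not_le_iff_exists.1 hmove
  rw [mem_normalizer_iff_cj] at hgB
  obtain ⟨z₁, x, R, hB⟩ := hf.exists_blk hc hg hgB
  by_cases hR : R = ⊥
  · exact Or.inl (hB.rank_of_bot S hTS hR)
  · obtain ⟨⟨c, hcR⟩, hc1⟩ := (Subgroup.ne_bot_iff_exists_ne_one).1 hR
    exact Or.inr (hB.exists_index_two hc S hTS hsS hcR fun h1 => hc1 (Subtype.ext h1))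

/-- A simple group with a normal subgroup of index 2 has order 2. -/
theorem rank_of_index_two [Finite G] [IsSimpleGroup G] (h : ∃ N : Subgroup G, N.Normal ∧ N.index = 2) :
    SectionalPRankLE 2 4 G := by
  obtain ⟨N, hN, h2⟩ := h
  rcases hN.eq_bot_or_eq_top with h1 | h1
  · rw [h1, index_bot] at h2
    exact TwoFusion.SectionalRank.sectionalPRankLE_of_card_le (by rw [h2]; norm_num)
  · rw [h1, index_top] at h2
    omega

/-- **SQ1, L9** (one block, `q = 2`): a simple group of characteristic 2 type with a pushing up configuration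
(one block, `q = 2`) has sectional 2-rank at most 4. -/
theorem Push.rank {B Y : Subgroup G} [Finite G] [IsSimpleGroup G] (hc : IsCharacteristicTwoType G) (S : Sylow 2 G)
    (h : Push T B Q Y s) (hTS : T ≤ S) (hsS : s ∈ S)
    (hmove : ¬ normalizer (Q : Set G) ≤ normalizer (B : Set G)) : SectionalPRankLE 2 4 G := by
  rcases main_rank hc S h.hyp hTS hsS (by rwa [← h.B_eq]) with h1 | h1
  · exact h1
  · exact rank_of_index_two h1

end Cfsg.Agent.Omega.SQ1.Two

end

section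


/-!
# SQ1, one block, `q = 2`: from the matching to the end

* `push_of`: in the configuration `Config M T Y s` the matching data `MIn` with one block and
  `|V : Z| = 2` give `Two.Push`; hence (`rank_of`) sectional 2-rank at most 4 (helper666).
* `one_block_config_all`: in the configuration `Config M T Y s` there is at most one block, all `q`
  (helper437, helper799).
-/

set_option autoImplicit false

namespace Cfsg.Agent.Omega.SQ1.GlueTwo

open Subgroup Cfsg Cfsg.Agent.ZN Cfsg.Agent.ZN.ChoiceBase Cfsg.Agent.ZN.ChoiceSit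
open Cfsg.Agent.Omega.SQ1.Choice (Config)
open Cfsg.Agent.Omega.SQ1.Match
open Cfsg.Agent.Omega.SQ1

universe u v

variable {G : Type u} [Group G] {ι : Type v}
variable {M A T Y P : Subgroup G} {s : G} {L Q V D : ι → Subgroup G}

theorem P_ne_bot [Finite G] (h : MIn A T (bau T) (zj T) P s L Q V D) (i : ι) : P ≠ ⊥ := by
  intro h0
  obtain ⟨d, hd, hd1⟩ := (h.dat i).exists_ne
  apply hd1
  have h1 := h.VP ((h.dat i).DV hd)
  rw [h0] at h1
  simpa using h1

/-- `N_G(P)` does not normalise `B`. -/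
theorem not_norm [Finite G] (c : Config M T Y s) (h : MIn A T (bau T) (zj T) P s L Q V D) (i : ι)
    (hYP : Y ≤ normalizer (P : Set G)) :
    ¬ normalizer (P : Set G) ≤ normalizer (bau T : Set G) := by
  intro h1
  have hP0 := P_ne_bot h i
  have hB0 : bau T ≠ ⊥ := by
    intro h0
    apply hP0
    rw [eq_bot_iff]
    intro x hx
    have := ((h.Pmem x).1 hx).1
    rwa [h0] at this
  exact c.not_le_normalizer (c.two.to_le (bau_le T)) hB0 (normalizer_le_bau T) (hYP.trans h1)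

/-- **One block, `q = 2`**: the pushing up situation. -/
theorem push_of [Finite G] (c : Config M T Y s) (h : MIn A T (bau T) (zj T) P s L Q V D)
    (i : ι) (hi : ∀ j, j = i) (hYP : Y ≤ normalizer (P : Set G))
    (h2 : (zj T).relIndex (V i) = 2) : Two.Push T (bau T) P (V i) s := by
  have hP2 : IsPGroup 2 P := c.two.to_le h.P_le_T
  have hP0 := P_ne_bot h i
  have hPQ : P = Q i := by
    apply le_antisymm
    · exact fun x hx => ((h.Pmem x).1 hx).2 i
    · exact fun x hx => (h.Pmem x).2 ⟨(h.dat i).QB hx, fun j => by rw [hi j]; exact hx⟩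
  refine ⟨JC.syl_P c hP2 hP0 hYP, fun x hx => ((h.Pmem x).1 hx).1, bau_le T, fun v hv => h.VP hv,
    (h.dat i).Vsq, fun y hy q hq => (h.PV hq hy).symm, ?_, c.sN, normalizer_le_bau T c.sN, c.sq,
    jj_le_bau T, ?_, ?_, ?_⟩
  · intro t ht hc
    have htB : t ∈ bau T := mem_bau.2 ⟨ht, fun z hz => (hc z ((h.dat i).ZV hz)).symm⟩
    rw [hPQ]
    exact (h.dat i).QcV t htB hc
  · rw [hPQ, ← Block.idx_eq (h.dat i)]
    exact h2
  · obtain ⟨j, v, hv, u, hu, hne⟩ := h.par_exists i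
    rw [hi j] at hu
    exact ⟨v, hv, u, hu, hne⟩
  · intro R hR hn hs
    exact c.eq_bot (hP2.to_le hR) (hYP.trans hn) hs

/-- **One block, `q = 2`**: sectional 2-rank at most 4. -/
theorem rank_of [Finite G] [IsSimpleGroup G] (hG : IsCharacteristicTwoType G) (c : Config M T Y s)
    (h : MIn A T (bau T) (zj T) P s L Q V D) (i : ι) (hi : ∀ j, j = i)
    (hYP : Y ≤ normalizer (P : Set G)) (h2 : (zj T).relIndex (V i) = 2) :
    SectionalPRankLE 2 4 G := by
  obtain ⟨S, -, hTS, hsS⟩ := c.exists_sylow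
  exact (push_of c h i hi hYP h2).rank hG S hTS hsS (not_norm c h i hYP)

/-- Every 2-subgroup of `N` has a conjugate in the Sylow subgroup `T`. -/
theorem syl_conj_of [Finite G] {N : Subgroup G} (hT : Syl T N) {R : Subgroup G} (hR : IsPGroup 2 R)
    (hRN : R ≤ N) : ∃ g ∈ N, ∀ a ∈ R, g * a * g⁻¹ ∈ T := by
  obtain ⟨U, hU, hRU⟩ := exists_syl hR hRN
  obtain ⟨g, hgN, hg⟩ := syl_conj hU hT
  refine ⟨g, hgN, fun a ha => ?_⟩
  rw [← hg]
  exact ⟨a, hRU ha, rfl⟩

/-- Elementary abelian subgroups of `T` of order at least `|P|` lie in `bau T`. -/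
theorem AA_of [Finite G] [Finite ι] (h : MIn A T (bau T) (zj T) P s L Q V D) (i : ι)
    (hP : P ∈ AA T) {F : Subgroup G} (hF : F ≤ T) (hsq : ∀ x ∈ F, x * x = 1)
    (hc : Nat.card P ≤ Nat.card F) : F ≤ bau T := by
  apply h.AA_le i hP
  rw [mem_AA_iff]
  refine ⟨Two.Push.isEA hsq, hF, ?_⟩
  rw [mm_eq hP]
  exact hc

/-- **At most one block** in the configuration of the unique maximal 2-local case, all `q`. -/
theorem one_block_config_all [Finite G] [Finite ι] (hG : IsCharacteristicTwoType G)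
    (c : Config M T Y s) (h : MIn A T (bau T) (zj T) P s L Q V D)
    (hYP : Y ≤ normalizer (P : Set G)) {E : Subgroup G} (hE : E ∈ AA T) (hEP : E ≤ P) :
    Subsingleton ι := by
  constructor
  intro i i'
  by_contra hii
  have hP2 : IsPGroup 2 P := c.two.to_le h.P_le_T
  have hP0 := P_ne_bot h i
  have hPA : P ∈ AA T := h.P_AA i hE hEP
  have hS := JC.syl_P c hP2 hP0 hYP
  exact KillTwo.one_block_all (JC.charTwo hG) h hZ_bau (c.two.to_le (bau_le T))
    (JC.hself hG c h i hP0 hYP) (Block.jcond_of hS (h.J_eq i hPA))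
    (fun R hR hRN => syl_conj_of hS hR hRN)
    (fun F hF hsq hc => AA_of h i hPA hF hsq hc) hii

end Cfsg.Agent.Omega.SQ1.GlueTwo

end
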