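import Cfsg.Agent.Mrg.Omega.SQ1.NodeA
import Cfsg.Agent.Mrg.Omega.FFOne.Alg


/-!
# NODE (A): the facts `Ty` for type `Sp₄(q)`, from helper67's coordinates `FFOne.SpFour`
-/

set_option autoImplicit false
set_option Elab.async false

namespace Cfsg.Agent.Omega.SQ1.NodeA

open Subgroup Cfsg Cfsg.Agent.Omega.SQ1.End
open Cfsg.Agent.Omega.FFOne (cm SpFour semi_mul semi_sq)

universe u

/-! ### Field facts -/

section Field

variable {F : Type*} [Field F] [Finite F] [CharP F 2]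

/-- `δ² = Frobenius`: no involutory automorphism -/
theorem aut_trivial (δ ρ : F ≃+* F) (hδ : ∀ a, δ (δ a) = a * a) (hρ : ∀ a, ρ (ρ a) = a) (a : F) : ρ a = a := by
  have h2 : Fact (Nat.Prime 2) := ⟨Nat.prime_two⟩
  let _ : Algebra (ZMod 2) F := ZMod.algebra F 2
  let e : (F ≃+* F) → (F ≃ₐ[ZMod 2] F) := fun φ => AlgEquiv.ofRingEquiv (f := φ) (fun a => by
        have : (φ : F →+* F).comp (algebraMap (ZMod 2) F) = algebraMap (ZMod 2) F :=
          Subsingleton.elim _ _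
        exact RingHom.congr_fun this a)
  have he : ∀ φ b, e φ b = φ b := fun φ b => rfl
  let fr := FiniteField.frobeniusAlgEquivOfAlgebraic (ZMod 2) F
  have hfr : ∀ b, fr b = b * b := by
    intro b
    have h1 : (⇑fr) = (· ^ Fintype.card (ZMod 2)) := FiniteField.coe_frobeniusAlgEquivOfAlgebraic (ZMod 2) F
    rw [h1]
    simp only [ZMod.card, pow_two]
  have h3 : e δ * e δ = fr := by
    ext b
    rw [AlgEquiv.mul_apply, he, he, hδ, hfr]
  have h4 : e ρ * e ρ = 1 := by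
    ext b
    rw [AlgEquiv.mul_apply, he, he, hρ]; rfl
  obtain ⟨m, hm⟩ := (FiniteField.bijective_frobeniusAlgEquivOfAlgebraic_pow (ZMod 2) F).2 (e δ)
  obtain ⟨k, hk⟩ := (FiniteField.bijective_frobeniusAlgEquivOfAlgebraic_pow (ZMod 2) F).2 (e ρ)
  have hm' : fr ^ (m : ℕ) = e δ := hm
  have hk' : fr ^ (k : ℕ) = e ρ := hk
  -- the order of `δ` is odd
  have h5 : (e δ) ^ (2 * (m : ℕ)) = e δ := by
    rw [pow_mul, pow_two, h3, hm']
  have h6 : Odd (orderOf (e δ)) := by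
    rcases Nat.eq_zero_or_pos (m : ℕ) with h0 | h0
    · rw [h0, mul_zero, pow_zero] at h5
      rw [← h5, orderOf_one]
      exact odd_one
    · have h7 : (e δ) ^ (2 * (m : ℕ) - 1) = 1 := by
        have h8 : (e δ) ^ (2 * (m : ℕ) - 1) * e δ = 1 * e δ := by
          rw [← pow_succ, Nat.sub_add_cancel (by omega), h5, one_mul]
        exact mul_right_cancel h8
      refine Odd.of_dvd_nat ?_ (orderOf_dvd_of_pow_eq_one h7)
      exact ⟨(m : ℕ) - 1, by omega⟩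
  have h7 : (e ρ) ^ orderOf (e δ) = 1 := by
    rw [← hk', ← h3, ← pow_two, ← pow_mul, ← pow_mul]
    exact orderOf_dvd_iff_pow_eq_one.1 (Dvd.intro_left (2 * (k : ℕ)) (by ring))
  have h8 : (e ρ) ^ 2 = 1 := by rw [pow_two, h4]
  have h9 : e ρ = 1 := by
    obtain ⟨j, hj⟩ := h6
    rw [hj, pow_add, pow_mul, h8, one_pow, one_mul, pow_one] at h7
    exact h7
  rw [← he ρ a, h9]; rfl

/-- The Artin–Schreier set has index at most 2. -/
theorem as_index (w0 w : F) (h0 : ¬ ∃ t : F, t * t + t = w0) (h1 : ¬ ∃ t : F, t * t + t = w) :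
    ∃ t : F, t * t + t = w + w0 := by
  classical
  let φ : F →+ F :=
    { toFun := fun t => t * t + t
      map_zero' := by simp
      map_add' := fun a b => by
        have h2 : (2 : F) = 0 := CharTwo.two_eq_zero
        linear_combination (a * b) * h2 }
  have hker : Nat.card φ.ker = 2 := by
    have h2 : (φ.ker : Set F) = {0, 1} := by
      ext t
      simp only [SetLike.mem_coe, AddMonoidHom.mem_ker, Set.mem_insert_iff, Set.mem_singleton_iff]
      constructor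
      · intro h
        have h3 : t * (t + 1) = 0 := by
          have : t * t + t = 0 := h
          linear_combination this
        rcases mul_eq_zero.1 h3 with h4 | h4
        · exact Or.inl h4
        · exact Or.inr (CharTwo.add_eq_zero.1 h4)
      · rintro (rfl | rfl)
        · exact map_zero φ
        · show (1 : F) * 1 + 1 = 0
          rw [mul_one]; exact CharTwo.add_self_eq_zero 1
    have h3 : Nat.card φ.ker = Nat.card (({0, 1} : Set F)) := by rw [← h2]; rfl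
    rw [h3, Nat.card_coe_set_eq, Set.ncard_pair zero_ne_one]
  have h2 : φ.range.index = 2 := by
    have h3 := φ.ker.card_mul_index
    have h4 := φ.range.card_mul_index
    rw [AddSubgroup.index_ker, hker] at h3
    have h5 : 0 < Nat.card φ.range := Nat.card_pos
    rw [← h3, mul_comm 2] at h4
    exact Nat.eq_of_mul_eq_mul_left h5 h4
  have h3 := (AddSubgroup.add_mem_iff_of_index_two h2 (a := w) (b := w0)).2
    ⟨fun h => absurd h h1, fun h => absurd h h0⟩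
  exact h3

end Field

variable {G : Type u} [Group G] {F : Type*} [Field F]

/-- conjugation in coordinates -/
theorem exists_add {Q K Q' K' : Subgroup G} {f f' : G → F} (f_mul : ∀ u ∈ Q, ∀ v ∈ Q, f (u * v) = f u + f v)
    (f_surj : ∀ a, ∃ u ∈ Q, f u = a) (f_ker : ∀ u ∈ Q, f u = 0 ↔ u ∈ K)
    (f'_mul : ∀ u ∈ Q', ∀ v ∈ Q', f' (u * v) = f' u + f' v) (f'_ker : ∀ u ∈ Q', f' u = 0 ↔ u ∈ K') {g : G}
    (hg : ∀ u ∈ Q, g * u * g⁻¹ ∈ Q') (hK : ∀ u ∈ Q, g * u * g⁻¹ ∈ K' ↔ u ∈ K) :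
    ∃ α : F →+ F, Function.Injective α ∧ ∀ u ∈ Q, f' (g * u * g⁻¹) = α (f u) := by
  choose l hlQ hlf using f_surj
  have key : ∀ u ∈ Q, ∀ v ∈ Q, f u = f v → f' (g * u * g⁻¹) = f' (g * v * g⁻¹) := by
    intro u hu v hv huv
    have h1 : u * v⁻¹ ∈ K := (f_ker _ (mul_mem hu (inv_mem hv))).1 (by
      rw [f_mul _ hu _ (inv_mem hv), FFOne.add_inv' f_mul hv, huv, add_neg_cancel])
    have h2 := (f'_ker _ (hg _ (mul_mem hu (inv_mem hv)))).2 ((hK _ (mul_mem hu (inv_mem hv))).2 h1)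
    have h3 : g * (u * v⁻¹) * g⁻¹ = g * u * g⁻¹ * (g * v * g⁻¹)⁻¹ := by group
    rw [h3, f'_mul _ (hg u hu) _ (inv_mem (hg v hv)), FFOne.add_inv' f'_mul (hg v hv)] at h2
    linear_combination h2
  let α : F →+ F := AddMonoidHom.mk' (fun a => f' (g * l a * g⁻¹)) fun a b => by
    rw [← f'_mul _ (hg _ (hlQ a)) _ (hg _ (hlQ b))]
    have h3 : g * l a * g⁻¹ * (g * l b * g⁻¹) = g * (l a * l b) * g⁻¹ := by group
    rw [h3]
    exact key _ (hlQ _) _ (mul_mem (hlQ _) (hlQ _)) (by rw [f_mul _ (hlQ _) _ (hlQ _), hlf, hlf, hlf])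
  refine ⟨α, (injective_iff_map_eq_zero α).2 fun a ha => ?_, fun u hu => key u hu _ (hlQ _) (hlf _).symm⟩
  have h1 : f' (g * l a * g⁻¹) = 0 := ha
  rw [f'_ker _ (hg _ (hlQ a)), hK _ (hlQ a), ← f_ker _ (hlQ a), hlf] at h1
  exact h1

section

variable {S T B Q₁ Q₂ D C₁ C₂ : Subgroup G} {s t₁ t₂ : G} {q : ℕ} {x y z z' : G → F} {ω₁ ω₂ : F}

theorem ffbase (h : End.Base S T B Q₁ Q₂ D C₁ C₂ s q) : FFOne.Base Q₁ Q₂ D :=
  ⟨h.D1, h.D2, h.sq1, h.sq2, fun _ hu _ hv => h.comm12 hu hv⟩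

/-- the commutator of two elements of `B` -/
theorem com4 (h : End.Base S T B Q₁ Q₂ D C₁ C₂ s q) {a b a' b' : G} (ha : a ∈ Q₁) (hb : b ∈ Q₂) (ha' : a' ∈ Q₁)
    (hb' : b' ∈ Q₂) : a * b * (a' * b') * (a * b)⁻¹ * (a' * b')⁻¹ = cm a' b * cm a b' := by
  have h1 : cm a' b ∈ D := h.comm12 ha' hb
  have h2 : cm a b' ∈ D := h.comm12 ha hb'
  have hdi : (cm a' b)⁻¹ = cm a' b := h.inv1 (h.D1 h1)
  have hei : (cm a b')⁻¹ = cm a b' := h.inv1 (h.D1 h2)
  have e1' : b * a' = (cm a' b)⁻¹ * (a' * b) := by simp only [cm]; group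
  have e2' : b' * a = (cm a b')⁻¹ * (a * b') := by simp only [cm]; group
  rw [hdi] at e1'
  rw [hei] at e2'
  have k1 : a * b * (a' * b') = cm a' b * (a * a' * (b * b')) := by
    calc a * b * (a' * b') = a * (b * a') * b' := by group
      _ = (a * cm a' b) * a' * b * b' := by rw [e1']; group
      _ = cm a' b * (a * a' * (b * b')) := by rw [← h.centD h1 (h.Q1B ha)]; group
  have k2 : a' * b' * (a * b) = cm a b' * (a * a' * (b * b')) := by
    calc a' * b' * (a * b) = a' * (b' * a) * b := by group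
      _ = (a' * cm a b') * (a * (b' * b)) := by rw [e2']; group
      _ = cm a b' * (a' * a) * (b' * b) := by
          rw [← h.centD h2 (h.Q1B ha')]; group
      _ = cm a b' * (a * a' * (b * b')) := by rw [h.c1 a' ha' a ha, h.c2 b' hb' b hb]; group
  calc a * b * (a' * b') * (a * b)⁻¹ * (a' * b')⁻¹
      = (a * b * (a' * b')) * (a' * b' * (a * b))⁻¹ := by group
    _ = cm a' b * (cm a b')⁻¹ := by rw [k1, k2]; group
    _ = cm a' b * cm a b' := by rw [hei]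

variable [Finite G]
variable (h : End.Base S T B Q₁ Q₂ D C₁ C₂ s q) (co : SpFour Q₁ Q₂ D C₁ C₂ x y z z' t₁ t₂ ω₁ ω₂)

include h co

theorem com4z {a b a' b' : G} (ha : a ∈ Q₁) (hb : b ∈ Q₂) (ha' : a' ∈ Q₁) (hb' : b' ∈ Q₂) :
    z (a * b * (a' * b') * (a * b)⁻¹ * (a' * b')⁻¹) = x a' * y b + x a * y b' := by
  rw [com4 h ha hb ha' hb', co.z_mul (cm a' b) (h.comm12 ha' hb) (cm a b') (h.comm12 ha hb'), co.com _ ha' _ hb, co.com _ ha _ hb']

theorem com4z' {a b a' b' : G} (ha : a ∈ Q₁) (hb : b ∈ Q₂) (ha' : a' ∈ Q₁) (hb' : b' ∈ Q₂) :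
    z' (a * b * (a' * b') * (a * b)⁻¹ * (a' * b')⁻¹) = x a' * x a' * y b + x a * x a * y b' := by
  rw [com4 h ha hb ha' hb', co.z'_mul (cm a' b) (h.comm12 ha' hb) (cm a b') (h.comm12 ha hb'), co.com' _ ha' _ hb,
    co.com' _ ha _ hb']

omit h in
theorem eq_of_coord {d e : G} (hd : d ∈ D) (he : e ∈ D) (h1 : z d = z e) (h2 : z' d = z' e) : d = e := by
  have h3 : d * e⁻¹ = 1 := co.z_inj _ (mul_mem hd (inv_mem he))
    (by rw [co.z_mul _ hd _ (inv_mem he), FFOne.add_inv' co.z_mul he, h1, add_neg_cancel])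
    (by rw [co.z'_mul _ hd _ (inv_mem he), FFOne.add_inv' co.z'_mul he, h2, add_neg_cancel])
  exact mul_inv_eq_one.1 h3

/-- `[n, B]` has index at most 2 in `D` -/
theorem sp_big [Finite F] [CharP F 2] : ∀ a ∈ Q₁, a ∉ D → ∀ b ∈ Q₂, b ∉ D → ∀ K : Subgroup G, K ≤ D →
    (∀ c ∈ B, (a * b) * c * (a * b)⁻¹ * c⁻¹ ∈ K) → Nat.card D ≤ 2 * Nat.card K := by
  intro a ha haD b hb hbD K hKD hK
  have h2 : (2 : F) = 0 := CharTwo.two_eq_zero
  have hp : x a ≠ 0 := fun h1 => haD ((co.x_ker a ha).1 h1)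
  have hr : y b ≠ 0 := fun h1 => hbD ((co.y_ker b hb).1 h1)
  have key : ∀ e ∈ D, (∃ t : F, t * t + t = (z' e + x a * z e) / (x a * x a * y b)) → e ∈ K := by
    rintro e he ⟨t, ht⟩
    obtain ⟨a', ha', hxa'⟩ := co.x_surj (x a * t)
    obtain ⟨b', hb', hyb'⟩ := co.y_surj ((z e + x a * t * y b) / x a)
    have h3 := hK (a' * b') (mul_mem (h.Q1B ha') (h.Q2B hb'))
    have h4 : e = a * b * (a' * b') * (a * b)⁻¹ * (a' * b')⁻¹ := by
      refine eq_of_coord co he (hKD h3) ?_ ?_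
      · rw [com4z h co ha hb ha' hb', hxa', hyb']
        field_simp
        linear_combination (-(x a * t * y b)) * h2
      · rw [com4z' h co ha hb ha' hb', hxa', hyb']
        rw [eq_div_iff (by positivity)] at ht
        field_simp
        linear_combination (-1 : F) * ht + (- x a * z e) * h2
    rw [h4]; exact h3
  by_cases hall : ∀ w : F, ∃ t : F, t * t + t = w
  · have h3 : D ≤ K := fun e he => key e he (hall _)
    have h4 := Subgroup.card_le_of_le h3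
    omega
  · push Not at hall
    obtain ⟨w0, hw0⟩ := hall
    obtain ⟨f, hf, hf1, hf2⟩ := co.z_surj 0 (x a * x a * y b * w0)
    refine card_le_two_mul (f := f) hf fun e he => ?_
    by_cases he1 : ∃ t : F, t * t + t = (z' e + x a * z e) / (x a * x a * y b)
    · exact Or.inl (key e he he1)
    · right
      refine key _ (mul_mem (inv_mem hf) he) ?_
      obtain ⟨t, ht⟩ := as_index w0 _ (fun ⟨t, ht⟩ => hw0 t ht) he1
      refine ⟨t, ?_⟩
      rw [ht, co.z'_mul _ (inv_mem hf) _ he, co.z_mul _ (inv_mem hf) _ he, FFOne.add_inv' co.z'_mul hf,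
        FFOne.add_inv' co.z_mul hf, hf1, hf2]
      field_simp
      linear_combination (x a * x a * y b * w0) * h2

/-- `[n, B] [n', B] = D` -/
theorem sp_two [Finite F] [CharP F 2] : ∀ a ∈ Q₁, a ∉ D → ∀ b ∈ Q₂, b ∉ D → ∀ a' ∈ Q₁, a' ∉ D → ∀ b' ∈ Q₂, b' ∉ D →
    a⁻¹ * a' ∉ D → ∀ K : Subgroup G, K ≤ D → (∀ c ∈ B, (a * b) * c * (a * b)⁻¹ * c⁻¹ ∈ K) →
      (∀ c ∈ B, (a' * b') * c * (a' * b')⁻¹ * c⁻¹ ∈ K) → D ≤ K := by
  intro a ha haD b hb hbD a' ha' haD' b' hb' hbD' haa K hKD hK hK' e he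
  have h2 : (2 : F) = 0 := CharTwo.two_eq_zero
  have hp : x a ≠ 0 := fun h1 => haD ((co.x_ker a ha).1 h1)
  have hp' : x a' ≠ 0 := fun h1 => haD' ((co.x_ker a' ha').1 h1)
  have hpp : x a + x a' ≠ 0 := by
    intro h1
    apply haa
    rw [← co.x_ker _ (mul_mem (inv_mem ha) ha'), co.x_mul _ (inv_mem ha) _ ha', FFOne.add_inv' co.x_mul ha]
    linear_combination h1 - x a * h2
  obtain ⟨c, hc, hyc⟩ := co.y_surj ((x a' * z e + z' e) / (x a * (x a + x a')))
  obtain ⟨c', hc', hyc'⟩ := co.y_surj ((x a * z e + z' e) / (x a' * (x a + x a')))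
  have k1 := hK (1 * c) (mul_mem (one_mem _) (h.Q2B hc))
  have k2 := hK' (1 * c') (mul_mem (one_mem _) (h.Q2B hc'))
  have hx1 : x 1 = 0 := FFOne.add_one' co.x_mul
  have h4 : e = a * b * (1 * c) * (a * b)⁻¹ * (1 * c)⁻¹ * (a' * b' * (1 * c') * (a' * b')⁻¹ * (1 * c')⁻¹) := by
    refine eq_of_coord co he (mul_mem (hKD k1) (hKD k2)) ?_ ?_
    · rw [co.z_mul _ (hKD k1) _ (hKD k2), com4z h co ha hb (one_mem _) hc, com4z h co ha' hb' (one_mem _) hc', hx1,
        hyc, hyc']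
      field_simp
      linear_combination (-z' e) * h2
    · rw [co.z'_mul _ (hKD k1) _ (hKD k2), com4z' h co ha hb (one_mem _) hc, com4z' h co ha' hb' (one_mem _) hc', hx1,
        hyc, hyc']
      field_simp
      linear_combination (- x a * x a' * z e) * h2
  rw [h4]; exact mul_mem k1 k2

/-- `u ∈ S` trivial on `Q₁/D` and `Q₂/D` lies in `B` -/
theorem mem_B_of_xy {t : G} (ht : t ∈ T) (h1 : ∀ u ∈ Q₁, x (t * u * t⁻¹) = x u) (h2 : ∀ v ∈ Q₂, y (t * v * t⁻¹) = y v) :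
    t ∈ B := by
  have k1 : ∀ u ∈ Q₁, t * u * t⁻¹ * u⁻¹ ∈ D := fun u hu => by
    rw [← co.x_ker _ (mul_mem (h.T1 t ht u hu) (inv_mem hu)), co.x_mul _ (h.T1 t ht u hu) _ (inv_mem hu),
      FFOne.add_inv' co.x_mul hu, h1 u hu, add_neg_cancel]
  have k2 : ∀ u ∈ Q₂, t * u * t⁻¹ * u⁻¹ ∈ D := fun u hu => by
    rw [← co.y_ker _ (mul_mem (h.T2 t ht u hu) (inv_mem hu)), co.y_mul _ (h.T2 t ht u hu) _ (inv_mem hu),
      FFOne.add_inv' co.y_mul hu, h2 u hu, add_neg_cancel]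
  refine mem_B_of_comm h (h.TS ht) fun b hb => ?_
  obtain ⟨u, hu, v, hv, rfl⟩ := h.prod b hb
  have e : t * (u * v) * t⁻¹ * (u * v)⁻¹ = (t * u * t⁻¹ * u⁻¹) * (u * (t * v * t⁻¹ * v⁻¹) * u⁻¹) := by group
  rw [e]
  refine mul_mem (k1 u hu) ?_
  rw [← h.centD (k2 v hv) (h.Q1B hu), mul_inv_cancel_right]
  exact k2 v hv

/-- elements of `B` act trivially on `Q₁/D`, `Q₂/D` -/
theorem x_B {b u : G} (hb : b ∈ B) (hu : u ∈ Q₁) : x (b * u * b⁻¹) = x u := by
  have h1 := h.commB hb (h.Q1B hu)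
  have e : b * u * b⁻¹ = (b * u * b⁻¹ * u⁻¹) * u := by group
  rw [e, co.x_mul _ (h.D1 h1) _ hu, (co.x_ker _ (h.D1 h1)).2 h1, zero_add]

theorem y_B {b u : G} (hb : b ∈ B) (hu : u ∈ Q₂) : y (b * u * b⁻¹) = y u := by
  have h1 := h.commB hb (h.Q2B hu)
  have e : b * u * b⁻¹ = (b * u * b⁻¹ * u⁻¹) * u := by group
  rw [e, co.y_mul _ (h.D2 h1) _ hu, (co.y_ker _ (h.D2 h1)).2 h1, zero_add]

/-- `T` acts by field automorphisms -/
theorem exists_semi [Finite F] {t : G} (ht : t ∈ T) :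
    ∃ (ρ : F ≃+* F) (a b c c' : F), a ≠ 0 ∧ b ≠ 0 ∧ (∀ u ∈ Q₁, x (t * u * t⁻¹) = a * ρ (x u)) ∧
      (∀ v ∈ Q₂, y (t * v * t⁻¹) = b * ρ (y v)) ∧ (∀ d ∈ D, z (t * d * t⁻¹) = c * ρ (z d)) ∧
      ∀ d ∈ D, z' (t * d * t⁻¹) = c' * ρ (z' d) := by
  have cjm : ∀ K : Subgroup G, (∀ u ∈ K, t * u * t⁻¹ ∈ K) → ∀ u, t * u * t⁻¹ ∈ K ↔ u ∈ K := fun K hK u =>
    ((mem_normalizer_iff.1 (End.mem_normalizer_of hK)) u).symm
  have hD := cjm D (fun u hu => h.T_D ht hu)
  obtain ⟨τ, hτ, hx⟩ := exists_add co.x_mul co.x_surj co.x_ker co.x_mul co.x_ker (h.T1 t ht) fun u _ => hD u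
  obtain ⟨τ', hτ', hy⟩ := exists_add co.y_mul co.y_surj co.y_ker co.y_mul co.y_ker (h.T2 t ht) fun u _ => hD u
  obtain ⟨σ, hσ, hz⟩ := exists_add co.z_mul (fun a => (co.z_surj a 0).imp fun u hu => ⟨hu.1, hu.2.1⟩) co.z_ker
    co.z_mul co.z_ker (fun u hu => h.T_D ht hu) fun u _ => cjm C₁ (h.TC1 t ht) u
  obtain ⟨σ', hσ', hz'⟩ := exists_add co.z'_mul (fun a => (co.z_surj 0 a).imp fun u hu => ⟨hu.1, hu.2.2⟩) co.z'_ker
    co.z'_mul co.z'_ker (fun u hu => h.T_D ht hu) fun u _ => cjm C₂ (h.TC2 t ht) u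
  have key : ∀ u ∈ Q₁, ∀ v ∈ Q₂, t * cm u v * t⁻¹ = cm (t * u * t⁻¹) (t * v * t⁻¹) := fun u _ v _ => FFOne.cm_conj t u v
  obtain ⟨ρ, h1, h2, h3⟩ := semi_mul σ τ τ' hτ hτ' (by
    intro p r
    obtain ⟨u, hu, rfl⟩ := co.x_surj p
    obtain ⟨v, hv, rfl⟩ := co.y_surj r
    rw [← co.com u hu v hv, ← hz (cm u v) (h.comm12 hu hv)]
    have e := key u hu v hv
    rw [show t * cm u v * t⁻¹ = cm (t * u * t⁻¹) (t * v * t⁻¹) from e, co.com _ (h.T1 t ht u hu) _ (h.T2 t ht v hv),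
      hx u hu, hy v hv])
  have h4 : ∀ p r, σ' (p * p * r) = τ p * τ p * τ' r := by
    intro p r
    obtain ⟨u, hu, rfl⟩ := co.x_surj p
    obtain ⟨v, hv, rfl⟩ := co.y_surj r
    rw [← co.com' u hu v hv, ← hz' (cm u v) (h.comm12 hu hv)]
    have e := key u hu v hv
    rw [show t * cm u v * t⁻¹ = cm (t * u * t⁻¹) (t * v * t⁻¹) from e, co.com' _ (h.T1 t ht u hu) _ (h.T2 t ht v hv),
      hx u hu, hy v hv]
  refine ⟨ρ, τ 1, τ' 1, σ 1, τ 1 * τ 1 * τ' 1, fun h0 => ?_, fun h0 => ?_, fun u hu => by rw [hx u hu, h2],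
    fun v hv => by rw [hy v hv, h3], fun d hd => by rw [hz d hd, h1], fun d hd => ?_⟩
  · exact one_ne_zero (hτ (h0.trans (map_zero τ).symm))
  · exact one_ne_zero (hτ' (h0.trans (map_zero τ').symm))
  · rw [hz' d hd]
    have e := h4 1 (z' d)
    rw [one_mul, one_mul] at e
    rw [e, h3]; ring

/-- a field automorphism of order 2 -/
theorem semi_invol [Finite F] [CharP F 2] {t : G} (ht : t ∈ T) (htB : t ∉ B) (ht2 : t * t ∈ B) {ρ : F ≃+* F} {a b : F}
    (hx : ∀ u ∈ Q₁, x (t * u * t⁻¹) = a * ρ (x u))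
    (hy : ∀ v ∈ Q₂, y (t * v * t⁻¹) = b * ρ (y v)) : (∀ c, ρ (ρ c) = c) ∧ ∃ c, ρ c ≠ c := by
  have hxx : ∀ c : F, a * ρ (a * ρ c) = c := by
    intro c
    obtain ⟨u, hu, rfl⟩ := co.x_surj c
    rw [← hx u hu, ← hx _ (h.T1 t ht u hu)]
    have e : t * (t * u * t⁻¹) * t⁻¹ = t * t * u * (t * t)⁻¹ := by group
    rw [e, x_B h co ht2 hu]
  have hyy : ∀ c : F, b * ρ (b * ρ c) = c := by
    intro c
    obtain ⟨u, hu, rfl⟩ := co.y_surj c
    rw [← hy u hu, ← hy _ (h.T2 t ht u hu)]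
    have e : t * (t * u * t⁻¹) * t⁻¹ = t * t * u * (t * t)⁻¹ := by group
    rw [e, y_B h co ht2 hu]
  have ha1 : a * ρ a = 1 := by have := hxx 1; rwa [map_one, mul_one] at this
  have hb1 : b * ρ b = 1 := by have := hyy 1; rwa [map_one, mul_one] at this
  have hρ : ∀ c, ρ (ρ c) = c := by
    intro c
    have := hxx c
    rwa [map_mul, ← mul_assoc, ha1, one_mul] at this
  refine ⟨hρ, ?_⟩
  by_contra hcon
  push Not at hcon
  have ha : a = 1 := TyAlg.one_of_two_pow (n := 1) (by rw [pow_one, pow_two]; rw [hcon] at ha1; exact ha1)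
  have hb : b = 1 := TyAlg.one_of_two_pow (n := 1) (by rw [pow_one, pow_two]; rw [hcon] at hb1; exact hb1)
  refine htB (mem_B_of_xy h co ht (fun u hu => by rw [hx u hu, ha, one_mul, hcon]) fun v hv => by
    rw [hy v hv, hb, one_mul, hcon])

/-- If `T > B`, no swap has its square in `B`. -/
theorem no_swap [Finite F] [CharP F 2] {t v : G} (ht : t ∈ T) (htB : t ∉ B) (ht2 : t * t ∈ B) (hv : s⁻¹ * v ∈ T)
    (hv2 : v * v ∈ B) : False := by
  obtain ⟨ρ, a, b, c, c', -, -, hx, hy, -, -⟩ := exists_semi h co ht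
  obtain ⟨hρ, w, hw⟩ := semi_invol h co ht htB ht2 hx hy
  have hvS : v ∈ S := by
    have := S.mul_mem h.sS (h.TS hv)
    rwa [mul_inv_cancel_left] at this
  have hD : ∀ u, v * u * v⁻¹ ∈ D ↔ u ∈ D := fun u =>
    ((mem_normalizer_iff.1 (End.mem_normalizer_of fun d hd => h.P_D hvS hd)) u).symm
  have hsw1 : ∀ u ∈ Q₁, v * u * v⁻¹ ∈ Q₂ := fun u hu => h.swap1 hv hu
  have hsw2 : ∀ u ∈ Q₂, v * u * v⁻¹ ∈ Q₁ := fun u hu => h.swap2 hv hu
  have hC : ∀ u, v * u * v⁻¹ ∈ C₁ ↔ u ∈ C₂ := by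
    have k1 : ∀ u ∈ C₁, v * u * v⁻¹ ∈ C₂ := by
      intro u hu
      have h1 := h.sC1 _ (h.TC1 _ hv u hu)
      have e : s * (s⁻¹ * v * u * (s⁻¹ * v)⁻¹) * s⁻¹ = v * u * v⁻¹ := by group
      rwa [e] at h1
    have k2 : ∀ u ∈ C₂, v * u * v⁻¹ ∈ C₁ := by
      intro u hu
      have h1 := h.sC2 _ (h.TC2 _ hv u hu)
      have e : s * (s⁻¹ * v * u * (s⁻¹ * v)⁻¹) * s⁻¹ = v * u * v⁻¹ := by group
      rwa [e] at h1
    intro u
    refine ⟨fun h1 => ?_, k2 u⟩
    have h2 := k1 _ h1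
    have h3 : v * v ∈ T := h.BT hv2
    have h4 := h.TC2 _ (T.inv_mem h3) _ h2
    have e : (v * v)⁻¹ * (v * (v * u * v⁻¹) * v⁻¹) * (v * v)⁻¹⁻¹ = u := by group
    rwa [e] at h4
  obtain ⟨α, hα, hxy⟩ := exists_add co.x_mul co.x_surj co.x_ker co.y_mul co.y_ker hsw1 fun u _ => hD u
  obtain ⟨γ, hγ, hyx⟩ := exists_add co.y_mul co.y_surj co.y_ker co.x_mul co.x_ker hsw2 fun u _ => hD u
  obtain ⟨ε, hε, hz⟩ := exists_add co.z'_mul (fun a => (co.z_surj 0 a).imp fun u hu => ⟨hu.1, hu.2.2⟩) co.z'_ker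
    co.z_mul co.z_ker (fun u hu => (hD u).2 hu) fun u _ => hC u
  obtain ⟨δ, h1, h2, h3⟩ := semi_sq ε α γ hα hγ (by
    intro p r
    obtain ⟨u, hu, rfl⟩ := co.x_surj p
    obtain ⟨w, hw, rfl⟩ := co.y_surj r
    rw [← co.com' u hu w hw, ← hz (cm u w) (h.comm12 hu hw), FFOne.cm_conj,
      (ffbase h).cm_inv (hsw2 w hw) (hsw1 u hu), co.com _ (hsw2 w hw) _ (hsw1 u hu), hxy u hu, hyx w hw]
    ring)
  -- `v²` acts trivially on `Q₁/D`
  have h4 : ∀ p : F, γ (α p) = p := by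
    intro p
    obtain ⟨u, hu, rfl⟩ := co.x_surj p
    rw [← hxy u hu, ← hyx _ (hsw1 u hu)]
    have e : v * (v * u * v⁻¹) * v⁻¹ = v * v * u * (v * v)⁻¹ := by group
    rw [e, x_B h co hv2 hu]
  have h5 : ∀ p : F, γ 1 * (δ (α 1) * (δ (δ p) * δ (δ p))) = p := by
    intro p
    have := h4 p
    rwa [h2, h3, map_mul, map_mul] at this
  have h6 : γ 1 * δ (α 1) = 1 := by
    have := h5 1
    rwa [map_one δ, map_one δ, mul_one, mul_one] at this
  have h7 : ∀ p : F, δ (δ p) * δ (δ p) = p := by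
    intro p
    have := h5 p
    rwa [← mul_assoc, h6, one_mul] at this
  have h8 : ∀ p : F, δ.symm (δ.symm p) = p * p := by
    intro p
    have := h7 (δ.symm (δ.symm p))
    simpa using this.symm
  exact hw (aut_trivial δ.symm ρ h8 hρ w)

theorem card_D_eq [Finite F] : Nat.card D = Nat.card F ^ 2 := by
  rw [pow_two, ← Nat.card_prod]
  refine Nat.card_congr (Equiv.ofBijective (fun d : D => (z d, z' d)) ⟨?_, ?_⟩)
  · intro d e hde
    have h1 : (z d, z' d) = (z e, z' e) := hde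
    rw [Prod.mk.injEq] at h1
    exact Subtype.ext (eq_of_coord co d.2 e.2 h1.1 h1.2)
  · rintro ⟨a, a'⟩
    obtain ⟨u, hu, h1, h2⟩ := co.z_surj a a'
    exact ⟨⟨u, hu⟩, Prod.ext h1 h2⟩

theorem card_C_eq [Finite F] : Nat.card C₁ = Nat.card F := by
  refine Nat.card_congr (Equiv.ofBijective (fun d : C₁ => z' d) ⟨?_, ?_⟩)
  · intro d e hde
    exact Subtype.ext (eq_of_coord co (h.C1D d.2) (h.C1D e.2)
      (((co.z_ker _ (h.C1D d.2)).2 d.2).trans ((co.z_ker _ (h.C1D e.2)).2 e.2).symm) hde)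
  · intro a
    obtain ⟨u, hu, h1, h2⟩ := co.z_surj 0 a
    exact ⟨⟨u, (co.z_ker u hu).1 h1⟩, h2⟩

theorem q_eq [Finite F] : q = Nat.card F := by
  have h1 := h.cardC1
  rw [card_D_eq h co, card_C_eq h co, pow_two] at h1
  exact (Nat.eq_of_mul_eq_mul_right Nat.card_pos h1).symm

/-- elements of `S - B` have at most `q` fixed points on `D` -/
theorem card_fix_le [Finite F] [CharP F 2] {u : G} (hu : u ∈ S) (huB : u ∉ B) {E : Subgroup G} (hED : E ≤ D)
    (hE : ∀ e ∈ E, u * e = e * u) : Nat.card E ^ 2 ≤ Nat.card D := by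
  rcases h.mem_S hu with huT | huT
  · -- a power with square in `B`
    have hpow : ∀ n : ℕ, ∀ e ∈ E, u ^ n * e = e * u ^ n := fun n e he =>
      ((show Commute u e from hE e he).pow_left n)
    obtain ⟨m, hm⟩ := h.two ⟨u, hu⟩
    classical
    have hex : ∃ m : ℕ, u ^ 2 ^ m ∈ B := ⟨m, by
      have : u ^ 2 ^ m = 1 := by simpa using congrArg Subtype.val hm
      rw [this]; exact one_mem _⟩
    obtain ⟨j, hj⟩ : ∃ j, Nat.find hex = j + 1 := by
      apply Nat.exists_eq_succ_of_ne_zero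
      intro h0
      have h1 := Nat.find_spec hex
      rw [h0, pow_zero, pow_one] at h1
      exact huB h1
    have hj1 : u ^ 2 ^ j ∉ B := Nat.find_min hex (by omega)
    have hj2 : u ^ 2 ^ j * u ^ 2 ^ j ∈ B := by
      have h1 := Nat.find_spec hex
      rw [hj, pow_succ, pow_mul, pow_two] at h1
      exact h1
    have hcf := hpow (2 ^ j)
    have hT := T.pow_mem huT (2 ^ j)
    set t := u ^ 2 ^ j with ht
    obtain ⟨ρ, a, b, c, c', -, -, hx, hy, hz, hz'⟩ := exists_semi h co hT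
    obtain ⟨-, hρ⟩ := semi_invol h co hT hj1 hj2 hx hy
    have h1 := TyAlg.card_fix_sq_le' ρ hρ c
    have h2 := TyAlg.card_fix_sq_le' ρ hρ c'
    have h3 : Nat.card E ≤ Nat.card ({a : F // c * ρ a = a} × {a : F // c' * ρ a = a}) := by
      refine Nat.card_le_card_of_injective (fun e : E =>
        ((⟨z e, ?_⟩ : {a : F // c * ρ a = a}), (⟨z' e, ?_⟩ : {a : F // c' * ρ a = a}))) ?_
      · rw [← hz _ (hED e.2), hcf _ e.2, mul_inv_cancel_right]
      · rw [← hz' _ (hED e.2), hcf _ e.2, mul_inv_cancel_right]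
      · intro d e hde
        rw [Prod.mk.injEq, Subtype.mk.injEq, Subtype.mk.injEq] at hde
        exact Subtype.ext (eq_of_coord co (hED d.2) (hED e.2) hde.1 hde.2)
    rw [Nat.card_prod] at h3
    rw [card_D_eq h co]
    calc Nat.card E ^ 2 ≤ (Nat.card {a : F // c * ρ a = a} * Nat.card {a : F // c' * ρ a = a}) ^ 2 :=
          Nat.pow_le_pow_left h3 2
      _ = Nat.card {a : F // c * ρ a = a} ^ 2 * Nat.card {a : F // c' * ρ a = a} ^ 2 := by rw [mul_pow]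
      _ ≤ Nat.card F * Nat.card F := Nat.mul_le_mul h1 h2
      _ = Nat.card F ^ 2 := (pow_two _).symm
  · have h1 : E ⊓ C₁ = ⊥ := by
      rw [eq_bot_iff]
      rintro e ⟨he1, he2⟩
      have h1 := h.sC1 _ (h.TC1 _ huT e he2)
      have e1 : s * (s⁻¹ * u * e * (s⁻¹ * u)⁻¹) * s⁻¹ = u * e * u⁻¹ := by group
      rw [e1, hE e he1, mul_inv_cancel_right] at h1
      have h2 : e ∈ C₁ ⊓ C₂ := ⟨he2, h1⟩
      rwa [h.C12] at h2
    have h2 := h.card_le_q hED h1
    rw [card_D_eq h co, ← q_eq h co]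
    exact Nat.pow_le_pow_left h2 2

/-- **`Ty` for type `Sp₄(q)`** -/
theorem ty_sp [Finite F] [CharP F 2] : Ty S B Q₁ Q₂ D 2 where
  big := sp_big h co
  fix := by
    intro K hK hcard u hu hc
    by_contra huB
    have h1 := card_fix_le h co hu huB hK.le hc
    have h2 : 16 ≤ Nat.card D := by
      rw [card_D_eq h co, ← q_eq h co]
      have := h.hq
      nlinarith
    nlinarith
  cyc := by
    intro u hu hu2 v hv hv2 huD hvD
    have hcB : ∀ w ∈ B, w ∈ centralizer (D : Set G) := fun w hw => mem_cent.2 fun d hd => h.centD hd hw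
    have huB : u ∉ B := fun h1 => huD (hcB u h1)
    have hvB : v ∉ B := fun h1 => hvD (hcB v h1)
    have hu2B : u * u ∈ B := by rw [hu2]; exact one_mem _
    have hv2B : v * v ∈ B := by rw [hv2]; exact one_mem _
    apply hcB
    rcases h.mem_S hu with huT | huT <;> rcases h.mem_S hv with hvT | hvT
    · have h1 := h.uniq u huT huB hu2B v hvT hvB hv2B
      have h2 : u⁻¹ = u := inv_eq_of_mul_eq_one_right hu2
      rwa [h2] at h1
    · exact (no_swap h co huT huB hu2B hvT hv2B).elim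
    · exact (no_swap h co hvT hvB hv2B huT hu2B).elim
    · by_contra hnB
      -- `u v ∈ T - B`
      have h1 : u * v ∈ T := by
        have k1 := T.mul_mem (T.mul_mem (h.sT huT) h.ss_mem) hvT
        have e : s * (s⁻¹ * u) * s⁻¹ * (s * s) * (s⁻¹ * v) = u * v := by group
        rwa [e] at k1
      obtain ⟨m, hm⟩ := h.two ⟨u * v, h.TS h1⟩
      classical
      have hex : ∃ m : ℕ, (u * v) ^ 2 ^ m ∈ B := ⟨m, by
        have : (u * v) ^ 2 ^ m = 1 := by simpa using congrArg Subtype.val hm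
        rw [this]; exact one_mem _⟩
      obtain ⟨j, hj⟩ : ∃ j, Nat.find hex = j + 1 := by
        apply Nat.exists_eq_succ_of_ne_zero
        intro h0
        have h2 := Nat.find_spec hex
        rw [h0, pow_zero, pow_one] at h2
        exact hnB h2
      have hj1 : (u * v) ^ 2 ^ j ∉ B := Nat.find_min hex (by omega)
      have hj2 : (u * v) ^ 2 ^ j * (u * v) ^ 2 ^ j ∈ B := by
        have h2 := Nat.find_spec hex
        rw [hj, pow_succ, pow_mul, pow_two] at h2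
        exact h2
      exact no_swap h co (T.pow_mem h1 _) hj1 hj2 huT hu2B
  mv := by
    intro u hu hu2 huD
    have huB : u ∉ B := fun h1 => huD (mem_cent.2 fun d hd => h.centD hd h1)
    exact card_fix_le h co hu huB inf_le_left fun e he => mem_centralizer_singleton_iff.1 he.2 |>.symm

end

end Cfsg.Agent.Omega.SQ1.NodeA
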